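import Cfsg.Agent.H92.LeechOrbit
import Cfsg.Agent.Golay.SumPairs

/-!
Moving the orbit certificates to arbitrary configurations of lattice vectors, and references
for the configurations defining Co3, McL and HS.
-/

set_option autoImplicit false

namespace Cfsg.Agent.H92.LeechOrbit

open Cfsg Cfsg.Agent.Golay
open scoped Pointwise

/-- Minimal vectors with prescribed inner products with given vectors. -/
def atSet (us : List (leechLattice × ℤ)) : Set leechLattice :=
  {x | sqNorm x.1 = 32 ∧ ∀ p ∈ us, dotInt p.1.1 x.1 = p.2}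

/-- `k` carries a configuration to the references of a certificate. -/
def Frame (C : Cert) (us : List (leechLattice × ℤ)) (k : Co0) : Prop :=
  us.map (fun p => ((k • p.1 : leechLattice).1, p.2)) = C.refs.map (fun r => (dec r.1, r.2))

variable {C : Cert} {us : List (leechLattice × ℤ)} {k : Co0}

lemma Frame.of_ref (hF : Frame C us k) {r : ℕ × ℤ} (hr : r ∈ C.refs) :
    ∃ p ∈ us, (k • p.1 : leechLattice).1 = dec r.1 ∧ p.2 = r.2 := by
  have : (dec r.1, r.2) ∈ us.map (fun p => ((k • p.1 : leechLattice).1, p.2)) := by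
    rw [hF]; exact List.mem_map.2 ⟨r, hr, rfl⟩
  obtain ⟨p, hp, e⟩ := List.mem_map.1 this
  simp only [Prod.mk.injEq] at e
  exact ⟨p, hp, e.1, e.2⟩

lemma Frame.of_us (hF : Frame C us k) {p : leechLattice × ℤ} (hp : p ∈ us) :
    ∃ r ∈ C.refs, (k • p.1 : leechLattice).1 = dec r.1 ∧ p.2 = r.2 := by
  have : ((k • p.1 : leechLattice).1, p.2) ∈ C.refs.map (fun r => (dec r.1, r.2)) := by
    rw [← hF]; exact List.mem_map.2 ⟨p, hp, rfl⟩
  obtain ⟨r, hr, e⟩ := List.mem_map.1 this
  simp only [Prod.mk.injEq] at e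
  exact ⟨r, hr, e.1.symm, e.2.symm⟩

lemma Frame.mem_iff (hF : Frame C us k) (x : leechLattice) : x ∈ atSet us ↔ k • x ∈ target C := by
  constructor
  · rintro ⟨hn, hd⟩
    refine ⟨by rw [co0_sqNorm]; exact hn, fun r hr => ?_⟩
    obtain ⟨p, hp, e1, e2⟩ := hF.of_ref hr
    rw [← e1, co0_dot, hd p hp, e2]
  · rintro ⟨hn, hd⟩
    refine ⟨by rw [← co0_sqNorm k]; exact hn, fun p hp => ?_⟩
    obtain ⟨r, hr, e1, e2⟩ := hF.of_us hp
    rw [← co0_dot k, e1, hd r hr, e2]

lemma Frame.fix_iff (hF : Frame C us k) (g : Co0) :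
    g ∈ fixer C ↔ ∀ p ∈ us, (k⁻¹ * g * k) • p.1 = p.1 := by
  constructor
  · intro hg p hp
    obtain ⟨r, hr, e1, -⟩ := hF.of_us hp
    rw [mul_smul, mul_smul, hg (k • p.1) ⟨r, hr, e1⟩, inv_smul_smul]
  · rintro h v ⟨r, hr, hv⟩
    obtain ⟨p, hp, e1, -⟩ := hF.of_ref hr
    obtain rfl : k • p.1 = v := Subtype.ext (e1.trans hv.symm)
    have := h p hp
    rw [mul_smul, mul_smul, inv_smul_eq_iff] at this
    exact this

theorem Frame.ncard (hF : Frame C us k) (hok : certOK C = true) (hcov : Cover C) :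
    (atSet us).ncard = C.N := by
  rw [← ncard_target hok hcov, ← Set.ncard_image_of_injective (atSet us) (MulAction.injective k)]
  refine congrArg Set.ncard (Set.ext fun y => ?_)
  constructor
  · rintro ⟨x, hx, rfl⟩; exact (hF.mem_iff x).1 hx
  · intro hy
    exact ⟨k⁻¹ • y, (hF.mem_iff _).2 (by rwa [smul_inv_smul]), smul_inv_smul k y⟩

theorem Frame.transitive (hF : Frame C us k) (hok : certOK C = true) (hcov : Cover C)
    {x y : leechLattice} (hx : x ∈ atSet us) (hy : y ∈ atSet us) :
    ∃ g : Co0, (∀ p ∈ us, g • p.1 = p.1) ∧ g • x = y := by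
  obtain ⟨g, hg, he⟩ := target_transitive hok hcov ((hF.mem_iff x).1 hx) ((hF.mem_iff y).1 hy)
  exact ⟨k⁻¹ * g * k, (hF.fix_iff g).1 hg, by rw [mul_smul, mul_smul, he, inv_smul_smul]⟩

/-- An orbit of a joint stabiliser is the whole configuration set. -/
theorem Frame.orbit (hF : Frame C us k) (hok : certOK C = true) (hcov : Cover C) {H : Subgroup Co0}
    (hH : ∀ g : Co0, g ∈ H ↔ ∀ p ∈ us, g • p.1 = p.1) {y : leechLattice} (hy : y ∈ atSet us) :
    MulAction.orbit H y = atSet us := by
  ext z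
  constructor
  · rintro ⟨g, rfl⟩
    refine ⟨?_, fun p hp => ?_⟩
    · show sqNorm ((g : Co0) • y).1 = 32
      rw [co0_sqNorm]; exact hy.1
    · show dotInt p.1.1 ((g : Co0) • y).1 = p.2
      rw [← (hH g).1 g.2 p hp, co0_dot]
      exact hy.2 p hp
  · intro hz
    obtain ⟨g, hg, he⟩ := hF.transitive hok hcov hy hz
    exact ⟨⟨g, (hH g).2 hg⟩, he⟩

/-- One more vector can be moved to the root. -/
theorem Frame.extend (hF : Frame C us k) (hok : certOK C = true) (hcov : Cover C) {C' : Cert}
    {r0 : ℕ} {d : ℤ} (hr0 : Nat.beq (C.code C.root) r0 = true)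
    (hC' : C'.refs = C.refs ++ [(r0, d)]) {x : leechLattice} (hx : x ∈ atSet us) :
    ∃ k' : Co0, Frame C' (us ++ [(x, d)]) k' := by
  obtain rfl : C.code C.root = r0 := Nat.eq_of_beq_eq_true hr0
  have hroot : C.root < C.N := by
    simp only [certOK, Bool.and_eq_true, decide_eq_true_eq] at hok
    exact hok.1.1.1.1.1.1.1
  obtain ⟨v, hv, hvt, -⟩ := (cert_spec hok).1 _ hroot
  obtain ⟨g, hg, he⟩ := target_transitive hok hcov ((hF.mem_iff x).1 hx) hvt
  refine ⟨g * k, ?_⟩
  rw [Frame, hC', List.map_append, List.map_append, List.map_singleton, List.map_singleton]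
  congr 1
  · rw [← hF]
    refine List.map_congr_left fun p hp => ?_
    obtain ⟨r, hr, e1, -⟩ := hF.of_us hp
    rw [mul_smul, hg (k • p.1) ⟨r, hr, e1⟩]
  · rw [mul_smul, he, hv]

/-- A finite test on a configuration set. -/
theorem Frame.test (hF : Frame C us k) (hcov : Cover C) {p : ℕ → Bool}
    (h : (allBelow C.N fun i => p (C.code i)) = true) {x : leechLattice} (hx : x ∈ atSet us) :
    ∃ n, p n = true ∧ (k • x : leechLattice).1 = dec n := by
  obtain ⟨hn, hd⟩ := (hF.mem_iff x).1 hx
  obtain ⟨i, hi, he⟩ := hcov _ (k • x).2 hn hd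
  exact ⟨_, allBelow_spec h i hi, he.symm⟩

/-- The possible inner products with another vector of the configuration. -/
theorem Frame.cases (hF : Frame C us k) (hok : certOK C = true) (hcov : Cover C) {r0 : ℕ}
    (hr0 : Nat.beq (C.code C.root) r0 = true) {ds : List ℤ}
    (h : (allBelow C.N fun i => Nat.beq r0 (C.code i) ||
      ds.any fun d => dotTest r0 (C.code i) d) = true)
    {x y : leechLattice} (hx : x ∈ atSet us) (hy : y ∈ atSet us) (hne : y ≠ x) :
    dotInt x.1 y.1 ∈ ds := by
  obtain rfl : C.code C.root = r0 := Nat.eq_of_beq_eq_true hr0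
  have hroot : C.root < C.N := by
    simp only [certOK, Bool.and_eq_true, decide_eq_true_eq] at hok
    exact hok.1.1.1.1.1.1.1
  obtain ⟨v, hv, hvt, -⟩ := (cert_spec hok).1 _ hroot
  obtain ⟨g, hg, he⟩ := target_transitive hok hcov ((hF.mem_iff x).1 hx) hvt
  have hk : Frame C us (g * k) := by
    rw [Frame, ← hF]
    refine List.map_congr_left fun p hp => ?_
    obtain ⟨r, hr, e1, -⟩ := hF.of_us hp
    rw [mul_smul, hg (k • p.1) ⟨r, hr, e1⟩]
  obtain ⟨n, hn, hny⟩ := hk.test hcov (p := fun m => Nat.beq (C.code C.root) m ||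
    ds.any fun d => dotTest (C.code C.root) m d) h hy
  have hX : ((g * k) • x : leechLattice).1 = dec (C.code C.root) := by rw [mul_smul, he, hv]
  simp only [Bool.or_eq_true, List.any_eq_true, dotTest_eq, decide_eq_true_eq] at hn
  rcases hn with h' | ⟨d, hd, h'⟩
  · obtain rfl := Nat.eq_of_beq_eq_true h'
    exact absurd (MulAction.injective (g * k) (Subtype.ext (hny.trans hX.symm))) hne
  · rw [← hX, ← hny, co0_dot] at h'
    exact h' ▸ hd

lemma dotInt_self (x : GolayPt → ℤ) : dotInt x x = sqNorm x :=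
  Finset.sum_congr rfl fun i _ => (sq _).symm

lemma dotInt_comm' (a b : GolayPt → ℤ) : dotInt a b = dotInt b a :=
  Finset.sum_congr rfl fun i _ => mul_comm _ _

lemma sqNorm_diff (u x : GolayPt → ℤ) :
    sqNorm (u - x) = sqNorm u + sqNorm x - 2 * dotInt u x := (sqNorm_add_sub u x).2

/-! ### References -/

/-- Code of the reference vector of norm 48. -/
abbrev u48Code : ℕ := 67343938137124686954512357785

/-- Code of the reference minimal vector of an edge. -/
abbrev v32Code : ℕ := 62062060636173731114942761100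

/-- Code of the second vector of the reference pair for HS. -/
abbrev w48Code : ℕ := 36973142506656690876987176819

/-- Code of the second vector of the reference triangle. -/
abbrev t32Code : ℕ := 47536897508558602556126370197

/-- Code of the reference root for Co3. -/
abbrev x32Code : ℕ := 22447979379041562318170785932

lemma ref_facts :
    (inLeech (dec u48Code) = true ∧ inLeech (dec v32Code) = true ∧ inLeech (dec w48Code) = true ∧
      inLeech (dec t32Code) = true ∧ inLeech (dec x32Code) = true) ∧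
    (sqNorm (dec u48Code) = 48 ∧ sqNorm (dec v32Code) = 32 ∧ sqNorm (dec w48Code) = 48 ∧
      sqNorm (dec t32Code) = 32 ∧ sqNorm (dec x32Code) = 32) ∧
    (dotInt (dec u48Code) (dec x32Code) = -16 ∧ sqNorm (dec u48Code - dec v32Code) = 32 ∧
      dotInt (dec v32Code) (dec t32Code) = -8) ∧
    ∀ l, dec w48Code l = -dec x32Code l - dec u48Code l := by
  decide +kernel

/-- Reference vector of norm 48. -/
def refU : leechLattice := ⟨dec u48Code, mem_of_inLeech ref_facts.1.1⟩

/-- Reference minimal vector. -/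
def refV : leechLattice := ⟨dec v32Code, mem_of_inLeech ref_facts.1.2.1⟩

/-- Second reference vector for HS. -/
def refW : leechLattice := ⟨dec w48Code, mem_of_inLeech ref_facts.1.2.2.1⟩

/-- Second reference vector of the triangle. -/
def refT : leechLattice := ⟨dec t32Code, mem_of_inLeech ref_facts.1.2.2.2.1⟩

/-- Reference root. -/
def refX : leechLattice := ⟨dec x32Code, mem_of_inLeech ref_facts.1.2.2.2.2⟩

theorem exists_move_fortyeight (u : leechLattice) (hu : sqNorm u.1 = 48) :
    ∃ k : Co0, k • u = refU :=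
  co0_transitive_fortyeight u refU hu ref_facts.2.1.1

theorem exists_move_edge (u v : leechLattice) (hu : sqNorm u.1 = 48)
    (hv : sqNorm v.1 = 32 ∧ sqNorm (u.1 - v.1) = 32) :
    ∃ k : Co0, k • u = refU ∧ k • v = refV :=
  move_decomposition hu ref_facts.2.1.1 hv ⟨ref_facts.2.1.2.1, ref_facts.2.2.1.2.1⟩

theorem exists_move_triangle (v w : leechLattice) (hv : sqNorm v.1 = 32) (hw : sqNorm w.1 = 32)
    (hvw : dotInt v.1 w.1 = -8) : ∃ k : Co0, k • v = refV ∧ k • w = refT := by
  obtain ⟨a, ha⟩ := co0_transitive_min v refV hv ref_facts.2.1.2.1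
  obtain ⟨g, g1, g2⟩ := min_trans_eight (v := refV) (w := a • w) (w' := refT) ref_facts.2.1.2.1
    (by rw [co0_sqNorm]; exact hw) ref_facts.2.1.2.2.2.1 (by rw [← ha, co0_dot]; exact hvw)
    ref_facts.2.2.1.2.2
  exact ⟨g * a, by rw [mul_smul, ha, g1], by rw [mul_smul, g2]⟩

end Cfsg.Agent.H92.LeechOrbit
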