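import Cfsg.Agent.H92.L34Mat
import Cfsg.Agent.H74.SchurPerfect

/-!
A perfect central extension of the 3-dimensional projective special linear group over a field
with four elements whose kernel has exponent 2 has kernel of order at most 4.
-/

set_option autoImplicit false

namespace Cfsg.Agent.H92.L34

open Subgroup
open scoped commutatorElement Pointwise

/-- lifts of an elementary abelian subgroup with transitive fusion commute -/
theorem lifts_commute {E L : Type*} [Group E] [Group L] (σ : E →* L) (hσ : Function.Surjective σ)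
    (hz : σ.ker ≤ center E) (he : ∀ z ∈ σ.ker, z * z = 1) (S : Set L)
    (hmul : ∀ u ∈ S, ∀ v ∈ S, u * v ∈ S) (hS2 : ∀ u ∈ S, u * u = 1)
    (htr : ∀ u ∈ S, ∀ v ∈ S, u ≠ 1 → v ≠ 1 → IsConj u v)
    (u v w : L) (hu : u ∈ S) (hv : v ∈ S) (hw : w ∈ S) (hu1 : u ≠ 1) (hv1 : v ≠ 1) (hw1 : w ≠ 1)
    (huv : u ≠ v) (huw : u ≠ w) (hvw : v * w ≠ 1) (hvwu : v * w ≠ u) :
    (∀ x y, σ x ∈ S → σ y ∈ S → Commute x y) ∧ ∀ x, σ x ∈ S → x * x = 1 := by
  have cen : ∀ {z : E}, σ z = 1 → ∀ g : E, g * z = z * g := fun h g =>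
    mem_center_iff.1 (hz (MonoidHom.mem_ker.2 h)) g
  have sqker : ∀ x, σ x ∈ S → σ (x * x) = 1 := fun x hx => by rw [map_mul]; exact hS2 _ hx
  have sqeq : ∀ x y, σ x ∈ S → σ y ∈ S → σ x ≠ 1 → σ y ≠ 1 → x * x = y * y := by
    intro x y hx hy hx1 hy1
    obtain ⟨h, hh⟩ := isConj_iff.1 (htr _ hx _ hy hx1 hy1)
    obtain ⟨g, rfl⟩ := hσ h
    set z := y⁻¹ * (g * x * g⁻¹) with hzdef
    have hz1 : σ z = 1 := by simp [hzdef, hh]
    have e1 : g * x * g⁻¹ = y * z := by rw [hzdef]; group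
    have e2 : g * (x * x) * g⁻¹ = y * y * (z * z) := by
      calc g * (x * x) * g⁻¹ = (g * x * g⁻¹) * (g * x * g⁻¹) := by group
        _ = y * (z * y) * z := by rw [e1]; group
        _ = y * y * (z * z) := by rw [← cen hz1 y]; group
    rw [he z (MonoidHom.mem_ker.2 hz1), mul_one, cen (sqker x hx) g, mul_assoc, mul_inv_cancel,
      mul_one] at e2
    exact e2
  obtain ⟨x₀, hx₀⟩ := hσ u
  set k := x₀ * x₀ with hk
  have hkx : ∀ x, σ x ∈ S → σ x ≠ 1 → x * x = k := fun x hx hx1 =>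
    sqeq x x₀ hx (hx₀ ▸ hu) hx1 (hx₀ ▸ hu1)
  have hk1 : σ k = 1 := sqker x₀ (hx₀ ▸ hu)
  have hkk : k * k = 1 := he k (MonoidHom.mem_ker.2 hk1)
  have kc : ∀ g, g * k = k * g := cen hk1
  have rule : ∀ x y, σ x ∈ S → σ y ∈ S → σ x ≠ 1 → σ y ≠ 1 → σ x ≠ σ y → y * x = k * (x * y) := by
    intro x y hx hy hx1 hy1 hxy
    have hxy' : σ (x * y) ∈ S := by rw [map_mul]; exact hmul _ hx _ hy
    have hxy1 : σ (x * y) ≠ 1 := by
      intro h
      rw [map_mul] at h
      exact hxy (mul_right_cancel (b := σ y) (by rw [h, hS2 _ hy]))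
    have h1 := hkx (x * y) hxy' hxy1
    have h2 := hkx x hx hx1
    have h3 := hkx y hy hy1
    calc y * x = x⁻¹ * ((x * y) * (x * y)) * y⁻¹ := by group
      _ = x⁻¹ * k * y⁻¹ := by rw [h1]
      _ = x⁻¹ * (x * x) * y⁻¹ := by rw [h2]
      _ = x * y⁻¹ := by group
      _ = x * (y * (y * y)⁻¹) := by group
      _ = x * (y * k) := by rw [h3, inv_eq_of_mul_eq_one_right hkk]
      _ = k * (x * y) := by rw [← mul_assoc, kc]
  have hk' : k = 1 := by
    obtain ⟨y, hy⟩ := hσ v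
    obtain ⟨t, ht⟩ := hσ w
    have hx : σ x₀ ∈ S := hx₀ ▸ hu
    have e1 := rule x₀ y hx (hy ▸ hv) (hx₀ ▸ hu1) (hy ▸ hv1) (by rw [hx₀, hy]; exact huv)
    have e2 := rule x₀ t hx (ht ▸ hw) (hx₀ ▸ hu1) (ht ▸ hw1) (by rw [hx₀, ht]; exact huw)
    have e3 := rule x₀ (y * t) hx (by rw [map_mul, hy, ht]; exact hmul _ hv _ hw) (hx₀ ▸ hu1)
      (by rw [map_mul, hy, ht]; exact hvw) (by rw [hx₀, map_mul, hy, ht]; exact Ne.symm hvwu)
    have : y * t * x₀ = x₀ * (y * t) := by
      calc y * t * x₀ = y * (k * (x₀ * t)) := by rw [mul_assoc, e2]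
        _ = (y * k) * x₀ * t := by group
        _ = k * (y * x₀) * t := by rw [kc y]; group
        _ = k * k * (x₀ * (y * t)) := by rw [e1]; group
        _ = x₀ * (y * t) := by rw [hkk, one_mul]
    rw [this] at e3
    exact mul_eq_right.1 e3.symm
  refine ⟨fun x y hx hy => ?_, fun x hx => ?_⟩
  · by_cases hx1 : σ x = 1
    · exact (cen hx1 y).symm
    by_cases hy1 : σ y = 1
    · exact cen hy1 x
    by_cases hxy : σ x = σ y
    · have h : σ (x⁻¹ * y) = 1 := by simp [hxy]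
      have e := cen h x
      rw [mul_inv_cancel_left, mul_assoc] at e
      calc x * y = x * (x⁻¹ * (y * x)) := by rw [← e]
        _ = y * x := by group
    · have e := rule x y hx hy hx1 hy1 hxy
      rw [hk', one_mul] at e
      exact e.symm
  · by_cases hx1 : σ x = 1
    · exact he x (MonoidHom.mem_ker.2 hx1)
    · rw [hkx x hx hx1, hk']

/-- transfer: a central involution of the derived group lies in the derived group of any
subgroup of odd index containing it -/
theorem mem_commutator_of_odd {E : Type*} [Group E] [Finite E] (P : Subgroup E) (hP : Odd P.index)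
    (z : E) (hzP : z ∈ P) (hzc : z ∈ center E) (hzE : z ∈ commutator E) (hz2 : z * z = 1) :
    (⟨z, hzP⟩ : P) ∈ commutator P := by
  let ϕ : ↥P →* Abelianization ↥P := Abelianization.of
  have key : ∀ (k : ℕ) (g₀ : E), g₀⁻¹ * z ^ k * g₀ ∈ P → g₀⁻¹ * z ^ k * g₀ = z ^ k := by
    intro k g₀ _
    have : Commute g₀ (z ^ k) := Commute.pow_right (mem_center_iff.1 hzc g₀) k
    rw [mul_assoc, ← this.eq, inv_mul_cancel_left]
  have h1 : MonoidHom.transfer ϕ z = 1 := by
    have : commutator E ≤ (MonoidHom.transfer ϕ).ker := Abelianization.commutator_subset_ker _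
    exact MonoidHom.mem_ker.1 (this hzE)
  rw [MonoidHom.transfer_eq_pow ϕ z key] at h1
  have h2 : (⟨z, hzP⟩ : ↥P) ^ P.index ∈ commutator ↥P := by
    rw [← Abelianization.ker_of, MonoidHom.mem_ker]
    exact (congrArg ϕ (Subtype.ext rfl)).trans h1
  obtain ⟨j, hj⟩ := hP
  have h3 : (⟨z, hzP⟩ : ↥P) ^ 2 = 1 := Subtype.ext (by simp [pow_two, hz2])
  rwa [hj, pow_succ, pow_mul, h3, one_pow, one_mul] at h2

/-- the derived group is inside a central subgroup containing all commutators of generators -/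
theorem commutator_le_of_generators {P : Type*} [Group P] (T : Set P) (hT : closure T = ⊤)
    (D : Subgroup P) (hD : D ≤ center P) (h : ∀ s ∈ T, ∀ t ∈ T, ⁅s, t⁆ ∈ D) :
    commutator P ≤ D := by
  have hn : D.Normal := ⟨fun n hn g => by
    rw [mem_center_iff.1 (hD hn) g, mul_assoc, mul_inv_cancel, mul_one]; exact hn⟩
  set π := QuotientGroup.mk' D
  have htop : closure (π '' T) = ⊤ := by
    rw [← MonoidHom.map_closure, hT]
    exact Subgroup.map_top_of_surjective _ (QuotientGroup.mk'_surjective D)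
  have hc : ∀ t ∈ T, π t ∈ center (P ⧸ D) := by
    intro t ht
    have : closure (π '' T) ≤ centralizer {π t} := by
      rw [closure_le]
      rintro _ ⟨s, hs, rfl⟩
      rw [SetLike.mem_coe, mem_centralizer_singleton_iff, ← commutatorElement_eq_one_iff_mul_comm,
        ← map_commutatorElement]
      exact (QuotientGroup.eq_one_iff _).2 (h s hs t ht)
    rw [htop] at this
    exact mem_center_iff.2 fun g => mem_centralizer_singleton_iff.1 (this (mem_top g))
  have htc : (⊤ : Subgroup (P ⧸ D)) ≤ center _ := by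
    rw [← htop, closure_le]
    rintro _ ⟨t, ht, rfl⟩
    exact hc t ht
  rw [_root_.commutator_def, commutator_le]
  intro a _ b _
  have : ⁅π a, π b⁆ = 1 :=
    commutatorElement_eq_one_iff_mul_comm.2 (mem_center_iff.1 (htc (mem_top (π b))) (π a))
  rw [← map_commutatorElement] at this
  exact (QuotientGroup.eq_one_iff _).1 this

theorem card_sup_zpowers_le {P : Type*} [Group P] [Finite P] (H : Subgroup P) (c : P)
    (hc : c ∈ center P) (h2 : c * c = 1) :
    Nat.card ↥(H ⊔ zpowers c) ≤ Nat.card H * 2 := by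
  have : (zpowers c).Normal := ⟨fun n hn g => by
    have : n ∈ center P := (zpowers_le.2 hc) hn
    rw [mem_center_iff.1 this g, mul_assoc, mul_inv_cancel, mul_one]; exact hn⟩
  have h1 : Nat.card ↥(zpowers c) ≤ 2 := by
    rw [Nat.card_zpowers]
    exact orderOf_le_of_pow_eq_one two_pos (by rw [pow_two, h2])
  calc Nat.card ↥(H ⊔ zpowers c) = Nat.card ↥((H : Set P) * (zpowers c : Set P)) := by
        rw [← mul_normal]; rfl
    _ ≤ Nat.card H * Nat.card ↥(zpowers c) := Set.natCard_mul_le ..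
    _ ≤ Nat.card H * 2 := Nat.mul_le_mul_left _ h1

section bound

variable {F : Type*} [Field F] [Fintype F]

local notation "L" => Matrix.ProjectiveSpecialLinearGroup (Fin 3) F

/-- image of an upper unitriangular element in the projective group -/
def m (a b c : F) : L := QuotientGroup.mk' _ (M a b c)

theorem m_mul (a b c a' b' c' : F) :
    m a b c * m a' b' c' = m (a + a') (b + b') (c + c' + a * b') := by
  rw [m, m, ← map_mul, M_mul]; rfl

theorem m_zero : m (0 : F) 0 0 = 1 := by rw [m, M_zero, map_one]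

theorem m_eq_one {a b c : F} (h : m a b c = 1) : a = 0 ∧ b = 0 ∧ c = 0 :=
  M_mem_center ((QuotientGroup.eq_one_iff _).1 h)

theorem m_inj {a b c a' b' c' : F} (h : (m a b c : L) = m a' b' c') : a = a' ∧ b = b' ∧ c = c' := by
  have e : (m a b c : L) * m (-a') (-b') (-c' + a' * b') = 1 := by
    rw [h, m_mul, ← m_zero]; congr 1 <;> ring
  rw [m_mul] at e
  obtain ⟨h1, h2, h3⟩ := m_eq_one e
  have ha : a = a' := by linear_combination h1
  subst ha
  exact ⟨rfl, by linear_combination h2, by linear_combination h3⟩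

/-- the image of the unitriangular group -/
def U : Subgroup L where
  carrier := {x | ∃ a b c, m a b c = x}
  one_mem' := ⟨0, 0, 0, m_zero⟩
  mul_mem' := by
    rintro _ _ ⟨a, b, c, rfl⟩ ⟨a', b', c', rfl⟩
    exact ⟨_, _, _, (m_mul a b c a' b' c').symm⟩
  inv_mem' := by
    rintro _ ⟨a, b, c, rfl⟩
    refine ⟨-a, -b, -c + a * b, eq_inv_of_mul_eq_one_left ?_⟩
    rw [m_mul, ← m_zero]; congr 1 <;> ring

theorem odd_index_U (hF : Fintype.card F = 4) : Odd (U (F := F)).index := by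
  classical
  let U0 : Subgroup (Matrix.SpecialLinearGroup (Fin 3) F) :=
    { carrier := {x | ∃ a b c, M a b c = x}
      one_mem' := ⟨0, 0, 0, M_zero⟩
      mul_mem' := by
        rintro _ _ ⟨a, b, c, rfl⟩ ⟨a', b', c', rfl⟩
        exact ⟨_, _, _, (M_mul a b c a' b' c').symm⟩
      inv_mem' := by
        rintro _ ⟨a, b, c, rfl⟩
        refine ⟨-a, -b, -c + a * b, eq_inv_of_mul_eq_one_left ?_⟩
        rw [M_mul, ← M_zero]; congr 1 <;> ring }
  have hmap : U0.map (QuotientGroup.mk' _) = (U (F := F)) := by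
    ext x
    constructor
    · rintro ⟨_, ⟨a, b, c, rfl⟩, rfl⟩; exact ⟨a, b, c, rfl⟩
    · rintro ⟨a, b, c, rfl⟩; exact ⟨_, ⟨a, b, c, rfl⟩, rfl⟩
  have hcard : Nat.card U0 = 64 := by
    have e : (F × F × F) ≃ U0 := Equiv.ofBijective
      (fun p => ⟨M p.1 p.2.1 p.2.2, ⟨_, _, _, rfl⟩⟩)
      ⟨fun p q h => by
        obtain ⟨h1, h2, h3⟩ := M_eq_iff.1 (congrArg Subtype.val h)
        exact Prod.ext h1 (Prod.ext h2 h3),
       fun ⟨x, a, b, c, h⟩ => ⟨(a, b, c), Subtype.ext h⟩⟩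
    rw [← Nat.card_congr e, Nat.card_prod, Nat.card_prod, Nat.card_eq_fintype_card, hF]
  have hSL : Nat.card (Matrix.SpecialLinearGroup (Fin 3) F) = 64 * 945 := by
    rw [Cfsg.Agent.Linear.card_SL_three, hF]; norm_num
  have hidx : U0.index = 945 := by
    have := U0.card_mul_index
    rw [hcard, hSL] at this
    omega
  have hd := U0.index_map_dvd (QuotientGroup.mk'_surjective
    (center (Matrix.SpecialLinearGroup (Fin 3) F)))
  rw [hidx] at hd
  rw [← hmap]
  exact Odd.of_dvd_nat (by decide) hd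

theorem conj_root (hF : Fintype.card F = 4) :
    (∀ a c : F, ¬(a = 0 ∧ c = 0) → IsConj (m a 0 c : L) (m 0 0 1)) ∧
      ∀ b c : F, ¬(b = 0 ∧ c = 0) → IsConj (m 0 b c : L) (m 0 0 1) := by
  have := charP_two hF
  have h2 : ∀ x : F, x + x = 0 := CharTwo.add_self_eq_zero
  have mconj : ∀ {g : Matrix.SpecialLinearGroup (Fin 3) F} {x y : Matrix.SpecialLinearGroup (Fin 3) F},
      g * x = y * g → IsConj (QuotientGroup.mk' (center _) x : L) (QuotientGroup.mk' (center _) y) := by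
    intro g x y h
    refine isConj_iff.2 ⟨QuotientGroup.mk' _ g, ?_⟩
    rw [← map_inv, ← map_mul, ← map_mul, h, mul_inv_cancel_right]
  refine ⟨?_, ?_⟩
  ·
    have s1 : ∀ t a c : F, IsConj (m a 0 c : L) (m a 0 (c + a * t)) := fun t a c =>
      mconj (g := M 0 t 0) (by
        rw [M_mul, M_mul]
        exact M_eq_iff.2 ⟨by simp, by simp, by linear_combination -(h2 (a * t))⟩)
    have s2 : ∀ t a c : F, IsConj (m a 0 c : L) (m (a + c * t) 0 c) := fun t a c =>
      mconj (low1_M t a c)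
    have main : ∀ a c : F, a ≠ 0 → IsConj (m a 0 c : L) (m 0 0 1) := by
      intro a c ha
      have h1 := s1 ((1 + c) / a) a c
      rw [show c + a * ((1 + c) / a) = 1 by field_simp; linear_combination h2 c] at h1
      have h3 := s2 a a 1
      rw [one_mul, h2] at h3
      exact h1.trans h3
    intro a c hac
    rcases eq_or_ne a 0 with rfl | ha
    · have hc : c ≠ 0 := fun h => hac ⟨rfl, h⟩
      have h1 := s2 (1 / c) 0 c
      rw [show (0 : F) + c * (1 / c) = 1 by field_simp; ring] at h1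
      exact h1.trans (main 1 c one_ne_zero)
    · exact main a c ha
  ·
    have s1 : ∀ t b c : F, IsConj (m 0 b c : L) (m 0 b (c + t * b)) := fun t b c =>
      mconj (g := M t 0 0) (by
        rw [M_mul, M_mul]
        exact M_eq_iff.2 ⟨by simp, by simp, by ring⟩)
    have s2 : ∀ t b c : F, IsConj (m 0 b c : L) (m 0 (b + t * c) c) := fun t b c =>
      mconj (low2_M t b c)
    have main : ∀ b c : F, b ≠ 0 → IsConj (m 0 b c : L) (m 0 0 1) := by
      intro b c hb
      have h1 := s1 ((1 + c) / b) b c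
      rw [show c + (1 + c) / b * b = 1 by field_simp; linear_combination h2 c] at h1
      have h3 := s2 b b 1
      rw [mul_one, h2] at h3
      exact h1.trans h3
    intro b c hbc
    rcases eq_or_ne b 0 with rfl | hb
    · have hc : c ≠ 0 := fun h => hbc ⟨rfl, h⟩
      have h1 := s2 (1 / c) 0 c
      rw [show (0 : F) + 1 / c * c = 1 by field_simp; ring] at h1
      exact h1.trans (main 1 c one_ne_zero)
    · exact main b c hb

variable {E : Type*} [Group E] [Finite E]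

set_option maxHeartbeats 1000000 in
theorem kernel_bound (hF : Fintype.card F = 4) (σ : E →* L) (hσ : Function.Surjective σ)
    (hz : σ.ker ≤ center E) (hperf : commutator E = ⊤) (he : ∀ z ∈ σ.ker, z * z = 1) :
    Nat.card σ.ker ≤ 4 := by
  classical
  have := charP_two hF
  obtain ⟨ω, hω0, hω1, hall⟩ := exists_gen hF
  have h2 : ∀ x : F, x + x = 0 := CharTwo.add_self_eq_zero
  -- the two elementary abelian subgroups
  let A1 : Set L := {x | ∃ a c, m a 0 c = x}
  let A2 : Set L := {x | ∃ b c, m 0 b c = x}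
  obtain ⟨row, col⟩ := conj_root hF
  have l1 := lifts_commute σ hσ hz he A1
    (by rintro _ ⟨a, c, rfl⟩ _ ⟨a', c', rfl⟩; exact ⟨a + a', c + c', by rw [m_mul]; simp⟩)
    (by rintro _ ⟨a, c, rfl⟩; rw [m_mul]; simp [h2, m_zero])
    (by
      rintro _ ⟨a, c, rfl⟩ _ ⟨a', c', rfl⟩ n n'
      exact (row a c fun h => n (by rw [h.1, h.2, m_zero])).trans
        (row a' c' fun h => n' (by rw [h.1, h.2, m_zero])).symm)
    (m 1 0 0) (m 0 0 1) (m 0 0 ω) ⟨1, 0, rfl⟩ ⟨0, 1, rfl⟩ ⟨0, ω, rfl⟩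
    (fun h => one_ne_zero (m_eq_one h).1) (fun h => one_ne_zero (m_eq_one h).2.2)
    (fun h => hω0 (m_eq_one h).2.2)
    (fun h => one_ne_zero (m_inj h).1)
    (fun h => one_ne_zero (m_inj h).1)
    (fun h => by
      rw [m_mul] at h
      exact hω1 (by linear_combination (by simpa using (m_eq_one h).2.2 : (1 : F) + ω = 0) - h2 1))
    (fun h => by
      rw [m_mul] at h
      exact (one_ne_zero : (1 : F) ≠ 0) (by simpa using (m_inj h).1.symm))
  have l2 := lifts_commute σ hσ hz he A2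
    (by rintro _ ⟨b, c, rfl⟩ _ ⟨b', c', rfl⟩; exact ⟨b + b', c + c', by rw [m_mul]; simp⟩)
    (by rintro _ ⟨b, c, rfl⟩; rw [m_mul]; simp [h2, m_zero])
    (by
      rintro _ ⟨b, c, rfl⟩ _ ⟨b', c', rfl⟩ n n'
      exact (col b c fun h => n (by rw [h.1, h.2, m_zero])).trans
        (col b' c' fun h => n' (by rw [h.1, h.2, m_zero])).symm)
    (m 0 1 0) (m 0 0 1) (m 0 0 ω) ⟨1, 0, rfl⟩ ⟨0, 1, rfl⟩ ⟨0, ω, rfl⟩
    (fun h => one_ne_zero (m_eq_one h).2.1) (fun h => one_ne_zero (m_eq_one h).2.2)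
    (fun h => hω0 (m_eq_one h).2.2)
    (fun h => one_ne_zero (m_inj h).2.1)
    (fun h => one_ne_zero (m_inj h).2.1)
    (fun h => by
      rw [m_mul] at h
      exact hω1 (by linear_combination (by simpa using (m_eq_one h).2.2 : (1 : F) + ω = 0) - h2 1))
    (fun h => by
      rw [m_mul] at h
      exact (one_ne_zero : (1 : F) ≠ 0) (by simpa using (m_inj h).2.1.symm))
  -- the preimage of U and its generators
  set P : Subgroup E := (U (F := F)).comap σ with hPdef
  have hidx : Odd P.index := by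
    rw [hPdef, index_comap_of_surjective _ hσ]; exact odd_index_U hF
  let s : L → E := Function.surjInv hσ
  have hs : ∀ x, σ (s x) = x := Function.surjInv_eq hσ
  have memP : ∀ {x : E} (a b c : F), σ x = m a b c → x ∈ P := fun a b c h => ⟨a, b, c, h.symm⟩
  let X : F → P := fun a => ⟨s (m a 0 0), memP a 0 0 (hs _)⟩
  let Y : F → P := fun b => ⟨s (m 0 b 0), memP 0 b 0 (hs _)⟩
  let W : Set P := {p | ∃ c, σ (p : E) = m 0 0 c}
  let T : Set P := {X 1, X ω, Y 1, Y ω} ∪ W
  have hWc : ∀ p ∈ W, p ∈ center P := by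
    rintro ⟨p, hp⟩ ⟨c, hc : σ p = m 0 0 c⟩
    refine mem_center_iff.2 fun ⟨q, hq⟩ => Subtype.ext ?_
    obtain ⟨a, b, d, hd : m a b d = σ q⟩ := hq
    set y := (s (m a 0 0))⁻¹ * q with hy
    have hy' : σ y = m 0 b (d + a * b) := by
      rw [hy, map_mul, map_inv, hs, ← hd, inv_mul_eq_iff_eq_mul, m_mul]
      congr 1 <;> simp
      linear_combination -(h2 (a * b))
    have c1 := l1.1 (s (m a 0 0)) p ⟨a, 0, (hs _).symm⟩ ⟨0, c, hc.symm⟩
    have c2 := l2.1 y p ⟨b, _, hy'.symm⟩ ⟨0, c, hc.symm⟩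
    have := c1.mul_left c2
    rw [hy, mul_inv_cancel_left] at this
    exact this
  have hclosure : closure T = ⊤ := by
    have hin : ∀ p ∈ T, p ∈ closure T := fun p hp => subset_closure hp
    have hW : ∀ p ∈ W, p ∈ closure T := fun p hp => hin p (Or.inr hp)
    have gen : ∀ (Z : F → P), (Z 1 ∈ closure T) → (Z ω ∈ closure T) → (σ (Z 0 : E) = 1) →
        (σ (Z (1 + ω) : E) = σ (Z 1 : E) * σ (Z ω : E)) → ∀ a, Z a ∈ closure T := by
      intro Z h1 hw h0 hadd a
      rcases hall a with h | h | h | h <;> rw [h]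
      · exact hW _ ⟨0, by rw [h0, m_zero]⟩
      · exact h1
      · exact hw
      · have hk : (Z 1 * Z ω)⁻¹ * Z (1 + ω) ∈ W := ⟨0, by simp [hadd, m_zero]⟩
        have := mul_mem (mul_mem h1 hw) (hW _ hk)
        rwa [mul_inv_cancel_left] at this
    have hX := gen X (hin _ (by simp [T])) (hin _ (by simp [T])) (by simp [X, hs, m_zero])
      (by simp [X, hs, m_mul])
    have hY := gen Y (hin _ (by simp [T])) (hin _ (by simp [T])) (by simp [Y, hs, m_zero])
      (by simp [Y, hs, m_mul])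
    refine eq_top_iff.2 fun ⟨q, hq⟩ _ => ?_
    obtain ⟨a, b, d, hd : m a b d = σ q⟩ := hq
    have hk : (X a * Y b)⁻¹ * ⟨q, ⟨a, b, d, hd⟩⟩ ∈ W := ⟨d + a * b, by
      simp only [Subgroup.coe_mul, Subgroup.coe_inv, map_mul, map_inv, X, Y, hs, ← hd]
      rw [inv_mul_eq_iff_eq_mul, m_mul, m_mul]
      congr 1 <;> simp
      linear_combination -(h2 (a * b))⟩
    have := mul_mem (mul_mem (hX a) (hY b)) (hW _ hk)
    rwa [mul_inv_cancel_left] at this
  have hXY : ∀ a b, σ ((⁅X a, Y b⁆ : P) : E) = m 0 0 (a * b) := by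
    intro a b
    have e1 : (m a 0 0 : L)⁻¹ = m a 0 0 := inv_eq_of_mul_eq_one_right (by rw [m_mul]; simp [h2, m_zero])
    have e2 : (m 0 b 0 : L)⁻¹ = m 0 b 0 := inv_eq_of_mul_eq_one_right (by rw [m_mul]; simp [h2, m_zero])
    simp only [commutatorElement_def, Subgroup.coe_mul, Subgroup.coe_inv, map_mul, map_inv, X, Y, hs,
      e1, e2, m_mul]
    congr 1 <;> simp [h2]
  have hcW : ∀ a b, (⁅X a, Y b⁆ : P) ∈ W := fun a b => ⟨_, hXY a b⟩
  have hcsq : ∀ a b, (⁅X a, Y b⁆ : P) * ⁅X a, Y b⁆ = 1 := fun a b =>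
    Subtype.ext (l1.2 _ ⟨0, _, (hXY a b).symm⟩)
  set D : Subgroup P := zpowers ⁅X 1, Y 1⁆ ⊔ zpowers ⁅X 1, Y ω⁆ ⊔ zpowers ⁅X ω, Y 1⁆ ⊔
    zpowers ⁅X ω, Y ω⁆ with hD
  have d1 : ⁅X 1, Y 1⁆ ∈ D := mem_sup_left (mem_sup_left (mem_sup_left (mem_zpowers _)))
  have d2 : ⁅X 1, Y ω⁆ ∈ D := mem_sup_left (mem_sup_left (mem_sup_right (mem_zpowers _)))
  have d3 : ⁅X ω, Y 1⁆ ∈ D := mem_sup_left (mem_sup_right (mem_zpowers _))
  have d4 : ⁅X ω, Y ω⁆ ∈ D := mem_sup_right (mem_zpowers _)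
  have hDc : D ≤ center P := by
    simp only [hD, sup_le_iff, zpowers_le]
    exact ⟨⟨⟨hWc _ (hcW _ _), hWc _ (hcW _ _)⟩, hWc _ (hcW _ _)⟩, hWc _ (hcW _ _)⟩
  have hDle : commutator P ≤ D := by
    refine commutator_le_of_generators T hclosure D hDc ?_
    have xx : ∀ a a', ⁅X a, X a'⁆ = 1 := fun a a' => commutatorElement_eq_one_iff_mul_comm.2
      (Subtype.ext (l1.1 _ _ ⟨a, 0, (hs _).symm⟩ ⟨a', 0, (hs _).symm⟩))
    have yy : ∀ a a', ⁅Y a, Y a'⁆ = 1 := fun a a' => commutatorElement_eq_one_iff_mul_comm.2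
      (Subtype.ext (l2.1 _ _ ⟨a, 0, (hs _).symm⟩ ⟨a', 0, (hs _).symm⟩))
    have cW : ∀ w ∈ W, ∀ p : P, ⁅w, p⁆ ∈ D ∧ ⁅p, w⁆ ∈ D := fun w hw p => by
      have e := mem_center_iff.1 (hWc w hw) p
      rw [commutatorElement_eq_one_iff_mul_comm.2 e, commutatorElement_eq_one_iff_mul_comm.2 e.symm]
      exact ⟨one_mem _, one_mem _⟩
    have yx : ∀ a b, ⁅X a, Y b⁆ ∈ D → ⁅Y b, X a⁆ ∈ D := fun a b h => by
      rw [← commutatorElement_inv]; exact inv_mem h
    intro p hp q hq
    rcases hp with hp | hp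
    swap
    · exact (cW p hp q).1
    rcases hq with hq | hq
    swap
    · exact (cW q hq p).2
    simp only [Set.mem_insert_iff, Set.mem_singleton_iff] at hp hq
    clear_value X Y D
    rcases hp with rfl | rfl | rfl | rfl <;> rcases hq with rfl | rfl | rfl | rfl
    exacts [(xx _ _).symm ▸ one_mem D, (xx _ _).symm ▸ one_mem D, d1, d2,
      (xx _ _).symm ▸ one_mem D, (xx _ _).symm ▸ one_mem D, d3, d4,
      yx _ _ d1, yx _ _ d3, (yy _ _).symm ▸ one_mem D, (yy _ _).symm ▸ one_mem D,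
      yx _ _ d2, yx _ _ d4, (yy _ _).symm ▸ one_mem D, (yy _ _).symm ▸ one_mem D]
  have hD16 : Nat.card D ≤ 16 := by
    have h0 : Nat.card ↥(zpowers ⁅X 1, Y 1⁆) ≤ 2 := by
      rw [Nat.card_zpowers]
      exact orderOf_le_of_pow_eq_one two_pos (by rw [pow_two, hcsq])
    have h1 := card_sup_zpowers_le (zpowers ⁅X 1, Y 1⁆) _ (hWc _ (hcW 1 ω)) (hcsq 1 ω)
    have h3 := card_sup_zpowers_le (zpowers ⁅X 1, Y 1⁆ ⊔ zpowers ⁅X 1, Y ω⁆) _
      (hWc _ (hcW ω 1)) (hcsq ω 1)
    have h4 := card_sup_zpowers_le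
      (zpowers ⁅X 1, Y 1⁆ ⊔ zpowers ⁅X 1, Y ω⁆ ⊔ zpowers ⁅X ω, Y 1⁆) _
      (hWc _ (hcW ω ω)) (hcsq ω ω)
    rw [← hD] at h4
    omega
  -- count
  let f : D →* L := σ.comp (P.subtype.comp D.subtype)
  have hrange : ∀ c : F, m 0 0 c ∈ f.range := by
    have r1 : m 0 0 1 ∈ f.range := ⟨⟨_, d1⟩, by simpa [f] using hXY 1 1⟩
    have rω : m 0 0 ω ∈ f.range := ⟨⟨_, d2⟩, by simpa [f] using hXY 1 ω⟩
    intro c
    rcases hall c with rfl | rfl | rfl | rfl
    · rw [m_zero]; exact one_mem _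
    · exact r1
    · exact rω
    · have := mul_mem r1 rω
      rw [m_mul] at this; simpa using this
  have hr4 : 4 ≤ Nat.card f.range := by
    rw [← hF, ← Nat.card_eq_fintype_card]
    refine Nat.card_le_card_of_injective (fun c => (⟨m 0 0 c, hrange c⟩ : f.range)) fun c c' h => ?_
    exact (m_inj (show (m 0 0 c : L) = m 0 0 c' from congrArg Subtype.val h)).2.2
  have hkP : ∀ z ∈ σ.ker, z ∈ P := fun z hz => memP 0 0 0 (by rw [MonoidHom.mem_ker.1 hz, m_zero])
  have hker : Nat.card σ.ker ≤ Nat.card f.ker := by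
    refine Nat.card_le_card_of_injective
      (fun z => (⟨⟨⟨z.1, hkP z.1 z.2⟩, hDle (mem_commutator_of_odd P hidx z.1 (hkP z.1 z.2)
        (hz z.2) (hperf ▸ mem_top _) (he z.1 z.2))⟩, MonoidHom.mem_ker.2 (MonoidHom.mem_ker.1 z.2)⟩ : f.ker))
      fun z z' h => Subtype.ext ?_
    exact congrArg (fun x : f.ker => ((x.1.1 : P) : E)) h
  have hprod := f.ker.card_mul_index
  rw [index_ker] at hprod
  have h5 : Nat.card σ.ker * 4 ≤ Nat.card f.ker * Nat.card f.range := Nat.mul_le_mul hker hr4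
  omega

theorem bij_of_cover {P X : Type*} [Group P] [Finite P] [Group X] [Finite X] (π : P →* X)
    (hπ : Function.Surjective π) (hX : commutator X = ⊤) (hcX : Nat.card (center X) = 4)
    (e : X ⧸ center X ≃* L) (hcard : Nat.card (commutator P) ≤ 4 * Nat.card L) :
    Function.Bijective (π.comp (commutator P).subtype) := by
  have hs : Function.Surjective (π.comp (commutator P).subtype) := fun y => by
    obtain ⟨x, hx, hxy⟩ : y ∈ (commutator P).map π := by
      rw [Cfsg.Agent.H74.Schur.map_commutator_of_surjective π hπ, hX]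
      exact mem_top y
    exact ⟨⟨x, hx⟩, hxy⟩
  refine (Nat.bijective_iff_surjective_and_card _).2 ⟨hs, le_antisymm ?_ ?_⟩
  · rw [← (center X).card_mul_index, hcX, Subgroup.index, Nat.card_congr e.toEquiv]
    exact hcard
  · exact Nat.card_le_card_of_surjective _ hs

/-- two quasisimple covers with elementary abelian centre of order 4 are isomorphic -/
theorem cover_unique {L₁ L₂ : Type*} [Group L₁] [Finite L₁] [Group L₂] [Finite L₂]
    (hF : Fintype.card F = 4) (h₁ : commutator L₁ = ⊤) (h₂ : commutator L₂ = ⊤)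
    (hc₁ : Nat.card (center L₁) = 4) (hc₂ : Nat.card (center L₂) = 4)
    (he₁ : ∀ x ∈ center L₁, x * x = 1) (he₂ : ∀ x ∈ center L₂, x * x = 1)
    (e₁ : L₁ ⧸ center L₁ ≃* L) (e₂ : L₂ ⧸ center L₂ ≃* L) : Nonempty (L₁ ≃* L₂) := by
  let p₁ : L₁ →* L := e₁.toMonoidHom.comp (QuotientGroup.mk' _)
  let p₂ : L₂ →* L := e₂.toMonoidHom.comp (QuotientGroup.mk' _)
  have k1 : p₁.ker = center L₁ := by ext x; simp [p₁]
  have k2 : p₂.ker = center L₂ := by ext x; simp [p₂]
  have s1 : Function.Surjective p₁ := e₁.surjective.comp (QuotientGroup.mk'_surjective _)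
  have s2 : Function.Surjective p₂ := e₂.surjective.comp (QuotientGroup.mk'_surjective _)
  let P : Subgroup (L₁ × L₂) := (p₁.comp (MonoidHom.fst L₁ L₂)).eqLocus (p₂.comp (MonoidHom.snd L₁ L₂))
  have hP : ∀ x : L₁ × L₂, x ∈ P ↔ p₁ x.1 = p₂ x.2 := fun x => Iff.rfl
  let π₁ : P →* L₁ := (MonoidHom.fst L₁ L₂).comp P.subtype
  let π₂ : P →* L₂ := (MonoidHom.snd L₁ L₂).comp P.subtype
  have sπ₁ : Function.Surjective π₁ := fun a => by
    obtain ⟨b, hb⟩ := s2 (p₁ a)
    exact ⟨⟨(a, b), hb.symm⟩, rfl⟩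
  have sπ₂ : Function.Surjective π₂ := fun b => by
    obtain ⟨a, ha⟩ := s1 (p₂ b)
    exact ⟨⟨(a, b), ha⟩, rfl⟩
  let ρ : P →* L := p₁.comp π₁
  have hρs : Function.Surjective ρ := s1.comp sπ₁
  have hker : ∀ x : P, ρ x = 1 → x.1.1 ∈ center L₁ ∧ x.1.2 ∈ center L₂ := fun x hx => by
    rw [← k1, ← k2]
    exact ⟨hx, show p₂ x.1.2 = 1 by rw [← (hP x.1).1 x.2]; exact hx⟩
  have hρc : ρ.ker ≤ center P := fun x hx => mem_center_iff.2 fun g => Subtype.ext
    (Prod.ext (mem_center_iff.1 (hker x hx).1 _) (mem_center_iff.1 (hker x hx).2 _))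
  have : Group.IsPerfect L₁ := ⟨h₁⟩
  have hLp : Group.IsPerfect L := Group.IsPerfect.ofSurjective (f := p₁) s1
  obtain ⟨hmap, hEp⟩ := Cfsg.Agent.H74.Schur.commutator_perfect hρs hρc hLp
  let σ : commutator P →* L := ρ.comp (commutator P).subtype
  have hσs : Function.Surjective σ := fun y => by
    obtain ⟨x, hx, hxy⟩ := hmap ▸ mem_top y
    exact ⟨⟨x, hx⟩, hxy⟩
  have hσc : σ.ker ≤ center (commutator P) := fun x hx => mem_center_iff.2 fun g =>
    Subtype.ext (mem_center_iff.1 (hρc (show (x : P) ∈ ρ.ker from hx)) g)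
  have hσe : ∀ z ∈ σ.ker, z * z = 1 := fun z hz => by
    obtain ⟨a, b⟩ := hker z.1 hz
    exact Subtype.ext (Subtype.ext (Prod.ext (he₁ _ a) (he₂ _ b)))
  have hb := kernel_bound hF σ hσs hσc hEp.commutator_eq_top hσe
  have hcard : Nat.card (commutator P) ≤ 4 * Nat.card L := by
    rw [← σ.ker.card_mul_index, index_ker, MonoidHom.range_eq_top.2 hσs, card_top]
    exact Nat.mul_le_mul_right _ hb
  exact ⟨(MulEquiv.ofBijective _ (bij_of_cover π₁ sπ₁ h₁ hc₁ e₁ hcard)).symm.trans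
    (MulEquiv.ofBijective _ (bij_of_cover π₂ sπ₂ h₂ hc₂ e₂ hcard))⟩

end bound

end Cfsg.Agent.H92.L34
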