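import Cfsg.Agent.H92.TTWidth
import Cfsg.Agent.Coprime.Centralize
import Cfsg.Agent.PGroups.Basic
import Cfsg.Agent.Components.Basic

/-!
Classes of 3-transpositions with `F* = O_2` and a 3-group of 2-power index on top.
-/

set_option autoImplicit false

namespace Cfsg.Agent.H92.TTWidth

open Cfsg Cfsg.Agent.H92.TTThree
open scoped commutatorElement

theorem class_subsingleton_of_two_group {Y : Type*} [Group Y] [Finite Y] (hY : IsPGroup 2 Y) {E : Set Y}
    (hE : ∀ a ∈ E, ∀ b ∈ E, IsConj a b) (hgen : Subgroup.closure E = ⊤) :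
    ∀ a ∈ E, ∀ b ∈ E, a = b := by
  have : Fact (Nat.Prime 2) := ⟨Nat.prime_two⟩
  intro a ha b hb
  have hcom : ∀ u v : Y, u * v * u⁻¹ * v⁻¹ ∈ frattini Y := fun u v =>
    PGroups.commutator_le_frattini hY (Subgroup.commutator_mem_commutator (Subgroup.mem_top u) (Subgroup.mem_top v))
  have heq : ∀ e ∈ E, (QuotientGroup.mk e : Y ⧸ frattini Y) = QuotientGroup.mk a := by
    intro e he
    obtain ⟨g, rfl⟩ := isConj_iff.1 (hE a ha e he)
    refine (QuotientGroup.eq.2 ?_).symm
    have := hcom a⁻¹ g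
    rwa [inv_inv, show a⁻¹ * g * a * g⁻¹ = a⁻¹ * (g * a * g⁻¹) by group] at this
  have hcyc : IsCyclic (Y ⧸ frattini Y) := by
    refine ⟨⟨QuotientGroup.mk a, fun q => ?_⟩⟩
    have htop : Subgroup.closure E ≤ (Subgroup.zpowers (QuotientGroup.mk a : Y ⧸ frattini Y)).comap
        (QuotientGroup.mk' (frattini Y)) := (Subgroup.closure_le _).2 fun e he => by
      show QuotientGroup.mk e ∈ Subgroup.zpowers (QuotientGroup.mk a : Y ⧸ frattini Y)
      rw [heq e he]; exact Subgroup.mem_zpowers _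
    rw [hgen] at htop
    obtain ⟨y, rfl⟩ := QuotientGroup.mk_surjective q
    exact htop (Subgroup.mem_top y)
  have : IsCyclic Y := PGroups.isCyclic_of_frattini
  obtain ⟨g, rfl⟩ := isConj_iff.1 (hE a ha b hb)
  obtain ⟨t, ht⟩ := IsCyclic.exists_generator (α := Y)
  obtain ⟨i, rfl⟩ := ht g
  obtain ⟨j, rfl⟩ := ht a
  group

theorem perm_three_of {Y : Type*} [Group Y] [Finite Y] (hY : Nat.card Y = 6) {x a : Y}
    (hxx : x * x = 1) (hx1 : x ≠ 1) (ha : a ^ 3 = 1) (ha1 : a ≠ 1) (hxa : x * a * x = a⁻¹) :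
    Nonempty (Y ≃* Equiv.Perm (Fin 3)) := by
  classical
  have hx2 : Nat.card (Subgroup.zpowers x) = 2 := by
    rw [Nat.card_zpowers]; exact orderOf_eq_prime (by rw [pow_two, hxx]) hx1
  have hidx : Nat.card (Y ⧸ Subgroup.zpowers x) = 3 := by
    have h := (Subgroup.zpowers x).card_eq_card_quotient_mul_card_subgroup
    rw [hY, hx2] at h; omega
  have hinj : Function.Injective (MulAction.toPermHom Y (Y ⧸ Subgroup.zpowers x)) := by
    rw [← MonoidHom.ker_eq_bot_iff, ← Subgroup.normalCore_eq_ker]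
    obtain ⟨u, hu, huniq⟩ := (Nat.card_eq_two_iff' (1 : Subgroup.zpowers x)).1 hx2
    have hcases : ∀ t ∈ Subgroup.zpowers x, t = 1 ∨ t = x := fun t ht => by
      by_cases h : t = 1
      · exact Or.inl h
      · exact Or.inr (congrArg Subtype.val ((huniq ⟨t, ht⟩ fun h' => h (congrArg Subtype.val h')).trans
          (huniq ⟨x, Subgroup.mem_zpowers x⟩ fun h' => hx1 (congrArg Subtype.val h')).symm))
    rw [Subgroup.eq_bot_iff_forall]
    intro t ht
    rcases hcases t (Subgroup.normalCore_le _ ht) with h | rfl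
    · exact h
    rcases hcases _ (Subgroup.normalCore_le _ ((Subgroup.normalCore_normal _).conj_mem _ ht a)) with h | h
    · exact conj_eq_one_iff.1 h
    · exfalso
      have hcm : a * t = t * a := mul_inv_eq_iff_eq_mul.1 h
      apply ha1
      rw [← hcm, mul_assoc, hxx, mul_one] at hxa
      exact Cfsg.Agent.Components.eq_one_of_two_three
        (by rw [pow_two]; nth_rewrite 2 [hxa]; exact mul_inv_cancel a) ha
  refine ⟨(MulEquiv.ofBijective _ ((Nat.bijective_iff_injective_and_card _).2 ⟨hinj, ?_⟩)).trans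
    (Equiv.permCongrHom (Finite.equivFinOfCardEq hidx))⟩
  rw [Nat.card_perm, hidx, hY]
  rfl

section model

open Cfsg.Agent.H98.PSU32 Cfsg.Agent.Unitary Matrix

def mS : M3 := !![1, 0, 0; 0, 0, 1; 0, 1, 0]

theorem good_S : Good mS := by decide +kernel
theorem good_A : Good mA := by decide +kernel
theorem good_B : Good mB := by decide +kernel
theorem good_D : Good mD := by decide +kernel
theorem good_J : Good mJ := by decide +kernel

theorem model_facts : mS * mS = 1 ∧ mS * mA * mS * mA = 1 ∧ mS * mB * mS * mB = 1 ∧ mA * mA * mA = 1 ∧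
    mB * mB * mB = 1 ∧ (∃ k : Fin 3, mA * mB = w ^ (k : ℕ) • (mB * mA)) ∧ mA * mB ≠ mB * mA ∧
    ∃ i j m : Fin 3, mJ * mD =
      mA ^ (i : ℕ) * mB ^ (j : ℕ) * (mA * mB * (mA * mA) * (mB * mB)) ^ (m : ℕ) * mS * (mD * mJ) := by
  decide +kernel

variable {F : Type*} [Field F] [Fintype F]

theorem derived_triple (hF : Fintype.card F = 4) :
    ∃ x a b : ↥(commutator ↥(SU 3 F 2)), Triple x a b := by
  classical
  obtain ⟨φ, hφ⟩ := exists_hom hF
  obtain ⟨hSS, hSA, hSB, hAAA, hBBB, ⟨k, hk⟩, hne, i, j, m, hJD⟩ := model_facts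
  have ext' : ∀ {U W : SU 3 F 2}, mat U = mat W → U = W := fun h =>
    Subtype.ext (Subtype.ext h)
  obtain ⟨S, eS, -⟩ := im_eq φ hF good_S
  obtain ⟨A, eA, -⟩ := im_eq φ hF good_A
  obtain ⟨B, eB, -⟩ := im_eq φ hF good_B
  obtain ⟨D, eD, -⟩ := im_eq φ hF good_D
  obtain ⟨J, eJ, -⟩ := im_eq φ hF good_J
  have m1 : mat (1 : SU 3 F 2) = 1 := rfl
  have mm : ∀ U W : SU 3 F 2, mat (U * W) = mat U * mat W := fun U W => rfl
  have mp : ∀ (U : SU 3 F 2) (n : ℕ), mat (U ^ n) = mat U ^ n := fun U n => by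
    induction n with
    | zero => rw [pow_zero, pow_zero, m1]
    | succ n ih => rw [pow_succ, pow_succ, mm, ih]
  have hS2 : S * S = 1 := ext' (by rw [mm, eS, m1, ← map_mul, hSS, map_one])
  have hSA' : S * A * S * A = 1 := ext' (by rw [mm, mm, mm, eS, eA, m1, ← map_mul, ← map_mul, ← map_mul, hSA, map_one])
  have hSB' : S * B * S * B = 1 := ext' (by rw [mm, mm, mm, eS, eB, m1, ← map_mul, ← map_mul, ← map_mul, hSB, map_one])
  have hA3 : A * A * A = 1 := ext' (by rw [mm, mm, eA, m1, ← map_mul, ← map_mul, hAAA, map_one])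
  have hB3 : B * B * B = 1 := ext' (by rw [mm, mm, eB, m1, ← map_mul, ← map_mul, hBBB, map_one])
  have hAi : A⁻¹ = A * A := inv_eq_of_mul_eq_one_left hA3
  have hBi : B⁻¹ = B * B := inv_eq_of_mul_eq_one_left hB3
  have hSi : S⁻¹ = S := inv_eq_of_mul_eq_one_right hS2
  have hSAS : S * A * S = A⁻¹ := eq_inv_of_mul_eq_one_left hSA'
  have hSBS : S * B * S = B⁻¹ := eq_inv_of_mul_eq_one_left hSB'
  have hl : ∀ y, ap (A * B) y = φ (w ^ (k : ℕ)) • ap (B * A) y := fun y => by
    rw [ap_def, ap_def, ← smul_mulVec]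
    congr 1
    show mat A * mat B = _ • (mat B * mat A)
    rw [eA, eB, ← map_mul, ← map_mul, hk]
    ext r c
    simp [Matrix.mul_apply, map_sum, mul_comm]
  have hcz : A * B * A⁻¹ * B⁻¹ ∈ Subgroup.center (SU 3 F 2) := by
    rw [show A * B * A⁻¹ * B⁻¹ = A * B * (B * A)⁻¹ by group]
    exact smul_mem_center (l := φ (w ^ (k : ℕ))) fun x => by
      rw [ap_mul, hl, ← ap_mul, mul_inv_cancel, show ap (1 : SU 3 F 2) x = x from one_mulVec x]
  have hcm : ∀ {U : SU 3 F 2}, S * U * S = U⁻¹ → U * U * U = 1 → U ∈ commutator ↥(SU 3 F 2) := by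
    intro U h1 h3
    have h : S * U * S⁻¹ * U⁻¹ = U := by
      rw [hSi, h1]
      calc U⁻¹ * U⁻¹ = U * (U * U * U)⁻¹ := by group
        _ = U := by rw [h3, inv_one, mul_one]
    rw [← h]
    exact Subgroup.commutator_mem_commutator (Subgroup.mem_top S) (Subgroup.mem_top U)
  have hAX := hcm hSAS hA3
  have hBX := hcm hSBS hB3
  have hJD' : J * D = A ^ (i : ℕ) * B ^ (j : ℕ) * (A * B * (A * A) * (B * B)) ^ (m : ℕ) * S * (D * J) := ext' (by
    simp only [mm, mp, eA, eB, eS, eD, eJ]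
    simp only [← map_mul, ← map_pow]
    rw [← hJD])
  have hSX : S ∈ commutator ↥(SU 3 F 2) := by
    have hc : J * D * J⁻¹ * D⁻¹ ∈ commutator ↥(SU 3 F 2) :=
      Subgroup.commutator_mem_commutator (Subgroup.mem_top J) (Subgroup.mem_top D)
    set W := A ^ (i : ℕ) * B ^ (j : ℕ) * (A * B * (A * A) * (B * B)) ^ (m : ℕ) with hW
    have hWX : W ∈ commutator ↥(SU 3 F 2) := mul_mem (mul_mem (pow_mem hAX _) (pow_mem hBX _))
      (pow_mem (mul_mem (mul_mem (mul_mem hAX hBX) (mul_mem hAX hAX)) (mul_mem hBX hBX)) _)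
    have e : S = W⁻¹ * (J * D * J⁻¹ * D⁻¹) := by
      calc S = W⁻¹ * (W * S * (D * J)) * (D * J)⁻¹ := by group
        _ = _ := by rw [← hJD']; group
    rw [e]
    exact mul_mem (inv_mem hWX) hc
  have hne' : A * B * A⁻¹ * B⁻¹ ≠ 1 := fun h => hne (by
    have h1 : A * B = B * A := mul_inv_eq_iff_eq_mul.1 (mul_inv_eq_one.1 h)
    have h2 : mat A * mat B = mat B * mat A := congrArg (fun C : SU 3 F 2 => mat C) h1
    rw [eA, eB, ← map_mul, ← map_mul] at h2
    exact Matrix.ext fun i' j' => hφ (congrFun (congrFun h2 i') j'))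
  have hc := Subgroup.mem_center_iff.1 hcz
  exact ⟨⟨S, hSX⟩, ⟨A, hAX⟩, ⟨B, hBX⟩, Subtype.ext hS2, Subtype.ext hSAS, Subtype.ext hSBS,
    Subtype.ext (show A ^ 3 = 1 by rw [pow_succ, pow_two, hA3]),
    Subtype.ext (show B ^ 3 = 1 by rw [pow_succ, pow_two, hB3]),
    fun h => hne' (congrArg Subtype.val h), Subtype.ext (hc A).symm, Subtype.ext (hc B).symm, Subtype.ext (hc S).symm⟩

end model

/-- the top of a width one class -/
theorem width_one_top {H : Type*} [Group H] [Finite H] {E : Set H} (hE : IsThreeTranspositionClass E)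
    (hE2 : ∃ a ∈ E, ∃ b ∈ E, a ≠ b) (hF : generalizedFittingSubgroup H = Cfsg.pCore 2 H)
    (P : Subgroup (H ⧸ Cfsg.pCore 2 H)) (hP : IsPGroup 3 P) [P.Normal] (k : ℕ) (hidx : P.index = 2 ^ k) :
    Nonempty (H ⧸ Cfsg.pCore 2 H ≃* Equiv.Perm (Fin 3)) ∨
      ∃ x a b : H ⧸ Cfsg.pCore 2 H, Triple x a b ∧ Nat.card (H ⧸ Cfsg.pCore 2 H) ≤ 54 := by
  classical
  have : Fact (Nat.Prime 2) := ⟨Nat.prime_two⟩
  set V := Cfsg.pCore 2 H with hV
  have hVp : IsPGroup 2 V := Cores.pCore_isPGroup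
  set θ := QuotientGroup.mk' V with hθ
  have hconjE : ∀ a ∈ E, ∀ b ∈ E, IsConj a b := by
    obtain ⟨d, hd, hE'⟩ := hE.2.1
    intro a ha b hb
    rw [hE'] at ha hb
    exact (show IsConj d a from ha).symm.trans (show IsConj d b from hb)
  -- `H` is not a 2-group
  have hH2 : ¬ IsPGroup 2 H := fun h => by
    obtain ⟨a, ha, b, hb, hab⟩ := hE2
    exact hab (class_subsingleton_of_two_group h hconjE hE.2.2 a ha b hb)
  have hgenY : Subgroup.closure (θ '' E) = ⊤ := by
    rw [← MonoidHom.map_closure, hE.2.2, Subgroup.map_top_of_surjective _ (QuotientGroup.mk'_surjective V)]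
  obtain ⟨d, hd, -⟩ := hE.2.1
  have hdd : d * d = 1 := Cfsg.Agent.H44.tt_mul_self hE.1 hd
  set x := θ d with hx
  have hxx : x * x = 1 := by rw [hx, ← map_mul, hdd, map_one]
  -- modulo `P` all members are equal
  have hq2 : IsPGroup 2 ((H ⧸ V) ⧸ P) := IsPGroup.of_card (n := k) (by rw [← Subgroup.index_eq_card, hidx])
  set θ' := (QuotientGroup.mk' P).comp θ with hθ'
  have hgenQ : Subgroup.closure (θ' '' E) = ⊤ := by
    rw [← MonoidHom.map_closure, hE.2.2, Subgroup.map_top_of_surjective]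
    exact (QuotientGroup.mk'_surjective P).comp (QuotientGroup.mk'_surjective V)
  have hqeq : ∀ e ∈ E, θ' e = θ' d := fun e he =>
    class_subsingleton_of_two_group hq2 (by
      rintro _ ⟨u, hu, rfl⟩ _ ⟨v, hv, rfl⟩
      exact θ'.map_isConj (hconjE u hu v hv)) hgenQ _ ⟨e, he, rfl⟩ _ ⟨d, hd, rfl⟩
  have hxe : ∀ e ∈ E, x * θ e ∈ P := fun e he => by
    have h := QuotientGroup.eq.1 (show (QuotientGroup.mk (θ d) : (H ⧸ V) ⧸ P) = QuotientGroup.mk (θ e) from (hqeq e he).symm)
    rwa [show (θ d)⁻¹ = x from inv_eq_of_mul_eq_one_right hxx] at h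
  -- the inverted elements
  set I := {i : H ⧸ V | i ∈ P ∧ x * i * x = i⁻¹} with hI
  have hxeI : ∀ e ∈ E, x * θ e ∈ I := fun e he => ⟨hxe e he, by
    rw [mul_inv_rev, show (θ e)⁻¹ = θ e from inv_eq_of_mul_eq_one_right
      (by rw [← map_mul, Cfsg.Agent.H44.tt_mul_self hE.1 he, map_one]),
      show x⁻¹ = x from inv_eq_of_mul_eq_one_right hxx, ← mul_assoc, hxx, one_mul]⟩
  have hxI : x ∈ Subgroup.normalizer (Subgroup.closure I : Set (H ⧸ V)) := mem_normalizer_closure hxx (by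
    rintro i ⟨hiP, hi⟩
    rw [hi]; exact inv_mem (Subgroup.subset_closure ⟨hiP, hi⟩))
  have htop : Subgroup.zpowers x ⊔ Subgroup.closure I = ⊤ := by
    rw [eq_top_iff, ← hgenY, Subgroup.closure_le]
    rintro _ ⟨e, he, rfl⟩
    rw [SetLike.mem_coe, show θ e = x * (x * θ e) by rw [← mul_assoc, hxx, one_mul]]
    exact Subgroup.mul_mem_sup (Subgroup.mem_zpowers x) (Subgroup.subset_closure (hxeI e he))
  have hclP : Subgroup.closure I ≤ P := (Subgroup.closure_le _).2 fun i hi => hi.1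
  have hgenP : Subgroup.zpowers x ⊔ P = ⊤ := eq_top_iff.2 (htop ▸ sup_le_sup_left hclP _)
  have hx1 : x ≠ 1 := by
    intro h
    have hall : ∀ e ∈ E, e ∈ V := by
      intro e he
      obtain ⟨g, rfl⟩ := isConj_iff.1 (hconjE d hd e he)
      have : θ (g * d * g⁻¹) = 1 := by rw [map_mul, map_mul, ← hx, h, mul_one, map_inv, mul_inv_cancel]
      exact (QuotientGroup.eq_one_iff _).1 this
    apply hH2
    refine hVp.to_le (show ⊤ ≤ V from ?_) |>.of_equiv Subgroup.topEquiv
    rw [← hE.2.2]; exact (Subgroup.closure_le _).2 hall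
  have hxP : x ∉ P := fun h => hx1
    (Cfsg.Agent.Components.eq_one_of_coprime_pow (n := 2) (by norm_num) hP h (by rw [pow_two, hxx]))
  have hgenI : Subgroup.closure {i : H ⧸ V | i ∈ P ∧ x * i * x = i⁻¹} = P := by
    refine le_antisymm hclP fun p hp => ?_
    have hp' : p ∈ ((Subgroup.zpowers x ⊔ Subgroup.closure I : Subgroup (H ⧸ V)) : Set (H ⧸ V)) := by
      rw [htop]; exact Subgroup.mem_top p
    rw [Subgroup.coe_mul_of_left_le_normalizer_right _ _ ((Subgroup.zpowers_le).2 hxI)] at hp'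
    obtain ⟨_, ⟨n, rfl⟩, u, hu, hnu⟩ := hp'
    simp only at hnu
    have hxn : x ^ n ∈ P := by
      rw [show x ^ n = p * u⁻¹ by rw [← hnu, mul_inv_cancel_right]]
      exact mul_mem hp (inv_mem (hclP hu))
    have hxn1 : x ^ n = 1 := Cfsg.Agent.Components.eq_one_of_coprime_pow (n := 2) (by norm_num) hP hxn (by
      rw [← zpow_natCast, ← zpow_mul, mul_comm, zpow_mul, zpow_natCast, pow_two, hxx, one_zpow])
    rw [← hnu, hxn1, one_mul]
    exact hu
  have hne : P ≠ ⊥ := by
    intro h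
    have hVe : ∀ e ∈ E, d * e ∈ V := fun e he => by
      have := hxe e he
      rw [h, Subgroup.mem_bot] at this
      exact (QuotientGroup.eq_one_iff _).1 this
    have hcomm : ∀ u ∈ E, ∀ v ∈ E, Commute u v := fun u hu v hv => by
      refine Cfsg.Agent.Components.commute_of_pCore_two hE.1 hu hv ?_
      have := mul_mem (inv_mem (hVe u hu)) (hVe v hv)
      rwa [mul_inv_rev, Cfsg.Agent.H44.tt_inv hE.1 hd, Cfsg.Agent.H44.tt_inv hE.1 hu, mul_assoc,
        ← mul_assoc d d, hdd, one_mul] at this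
    obtain ⟨a, ha, b, hb, hab⟩ := hE2
    apply hab
    obtain ⟨g, rfl⟩ := isConj_iff.1 (hconjE a ha b hb)
    have hg : g ∈ Subgroup.centralizer ({a} : Set H) := by
      have : (⊤ : Subgroup H) ≤ Subgroup.centralizer ({a} : Set H) := by
        rw [← hE.2.2, Subgroup.closure_le]
        exact fun u hu => Subgroup.mem_centralizer_singleton_iff.2 (hcomm u hu a ha).eq
      exact this (Subgroup.mem_top g)
    rw [Subgroup.mem_centralizer_singleton_iff.1 hg, mul_inv_cancel_right]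
  -- lifts of inverted elements
  have hlift : ∀ i ∈ P, x * i * x = i⁻¹ → ∃ e ∈ E, θ e = x * i := by
    intro i hiP hi
    obtain ⟨m, hm⟩ := hP ⟨i, hiP⟩
    have hm' : i ^ 3 ^ m = 1 := by simpa using congrArg Subtype.val hm
    obtain ⟨n, hn⟩ : Odd (3 ^ m) := (by decide : Odd 3).pow
    set w := i ^ n with hw
    have hw2 : w * w = i⁻¹ := by
      refine eq_inv_of_mul_eq_one_left ?_
      rw [hw, ← pow_add, ← pow_succ, show n + n + 1 = 3 ^ m by omega, hm']
    have hxw : x * w * x = w⁻¹ := by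
      have hxi : x⁻¹ = x := inv_eq_of_mul_eq_one_right hxx
      have := conj_pow (i := n) (a := x) (b := i)
      rw [hxi, hi, inv_pow] at this
      exact this.symm
    obtain ⟨g, hg⟩ := QuotientGroup.mk'_surjective V w
    refine ⟨g * d * g⁻¹, Cfsg.Agent.H44.tt_invariant hE g hd, ?_⟩
    rw [map_mul, map_mul, map_inv, ← hx]
    show (QuotientGroup.mk' V) g * x * ((QuotientGroup.mk' V) g)⁻¹ = x * i
    rw [hg]
    calc w * x * w⁻¹ = x * (x * w * x) * w⁻¹ := by rw [← mul_assoc, ← mul_assoc, hxx, one_mul]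
      _ = x * (w * w)⁻¹ := by rw [hxw]; group
      _ = x * i := by rw [hw2, inv_inv]
  have hI3 : ∀ i ∈ P, x * i * x = i⁻¹ → i ^ 3 = 1 := by
    intro i hiP hi
    obtain ⟨e, he, hei⟩ := hlift i hiP hi
    have hde : θ (d * e) = i := by rw [map_mul, hei, ← hx, ← mul_assoc, hxx, one_mul]
    rcases hE.1.2 d hd e he with h | h
    · have : i ^ 2 = 1 := by rw [← hde, ← map_pow, h, map_one]
      rw [Cfsg.Agent.Components.eq_one_of_coprime_pow (n := 2) (by norm_num) hP hiP this, one_pow]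
    · rw [← hde, ← map_pow, h, map_one]
  -- the module
  set Φ := frattini ↥V with hΦ
  have : Φ.Characteristic := inferInstance
  let c : H →* MulAut ↥V := MulAut.conjNormal
  let lift₀ : H →* MulAut (↥V ⧸ Φ) :=
    { toFun := fun g => QuotientGroup.congr Φ Φ (c g) (Subgroup.characteristic_iff_map_eq.1 this (c g))
      map_one' := MulEquiv.ext fun q => by
        induction q using QuotientGroup.induction_on with
        | _ q => simp
      map_mul' := fun g g' => MulEquiv.ext fun q => by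
        induction q using QuotientGroup.induction_on with
        | _ q =>
          show (QuotientGroup.mk (c (g * g') q) : ↥V ⧸ Φ) = QuotientGroup.mk (c g (c g' q))
          rw [map_mul]; rfl }
  have lift₀_mk : ∀ (g : H) (u : V), lift₀ g (QuotientGroup.mk u) = QuotientGroup.mk (c g u) := fun g u => rfl
  have hker : V ≤ lift₀.ker := fun g hg => MonoidHom.mem_ker.2 (MulEquiv.ext fun q => by
    induction q using QuotientGroup.induction_on with
    | _ u =>
      rw [lift₀_mk, MulAut.one_apply, QuotientGroup.eq]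
      have h := PGroups.commutator_le_frattini hVp
        (Subgroup.commutator_mem_commutator (Subgroup.mem_top (⟨g, hg⟩ : V)) (Subgroup.mem_top u⁻¹))
      convert h using 1
      apply Subtype.ext
      show (g * (u : H) * g⁻¹)⁻¹ * (u : H) = g * (u : H)⁻¹ * g⁻¹ * ((u : H)⁻¹)⁻¹
      group)
  let σ : H ⧸ V →* MulAut (↥V ⧸ Φ) := QuotientGroup.lift V lift₀ hker
  have σ_mk : ∀ (g : H) (u : V), σ (θ g) (QuotientGroup.mk u) = QuotientGroup.mk (c g u) := fun g u => rfl
  have h2 : ∀ q : ↥V ⧸ Φ, q * q = 1 := fun q => by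
    obtain ⟨u, rfl⟩ := QuotientGroup.mk_surjective q
    rw [← QuotientGroup.mk_mul, QuotientGroup.eq_one_iff, ← pow_two]
    exact PGroups.pow_mem_frattini hVp u
  have hfaith : ∀ p ∈ P, σ p = 1 → p = 1 := by
    intro p hp hσ
    obtain ⟨g, rfl⟩ := QuotientGroup.mk'_surjective V p
    obtain ⟨m, o, ho, hgo⟩ := Nat.exists_eq_pow_mul_and_not_dvd (orderOf_pos g).ne' 2 (by norm_num)
    set a := g ^ 2 ^ m with ha
    have hao : orderOf a = o := by
      rw [ha, orderOf_pow_of_dvd (by positivity) (hgo ▸ dvd_mul_right _ _), hgo,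
        Nat.mul_div_cancel_left _ (by positivity)]
    have haker : a ∈ lift₀.ker := by
      rw [ha]
      exact pow_mem (MonoidHom.mem_ker.2 hσ) _
    set A := Subgroup.zpowers a with hA
    have hAC : A ≤ Subgroup.centralizer (V : Set H) := by
      refine Coprime.le_centralizer_of_frattini Subgroup.le_normalizer_of_normal ?_ ?_
      · obtain ⟨n, hn⟩ := (hVp.to_subgroup (frattini ↥V)).exists_card_eq
        rw [hA, Nat.card_zpowers, hao, hn]
        exact Nat.Coprime.pow_right _ (Nat.coprime_comm.1 (Nat.prime_two.coprime_iff_not_dvd.2 ho))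
      · intro b hb u hu
        have hbk : b ∈ lift₀.ker := (Subgroup.zpowers_le.2 haker) hb
        have := DFunLike.congr_fun (MonoidHom.mem_ker.1 hbk) (QuotientGroup.mk (⟨u, hu⟩ : V))
        rw [lift₀_mk, MulAut.one_apply, eq_comm, QuotientGroup.eq] at this
        have hn : Φ.Normal := inferInstance
        exact ⟨_, hn.mem_comm this, rfl⟩
    have haV : a ∈ V := by
      rw [← hF]
      exact Components.centralizer_genFitting_le
        (by rw [hF]; exact hAC (Subgroup.mem_zpowers a))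
    have hpa : θ g ^ 2 ^ m = 1 := by
      rw [← map_pow, ← ha]; exact (QuotientGroup.eq_one_iff a).2 haV
    exact Cfsg.Agent.Components.eq_one_of_coprime_pow (n := 2 ^ m) (Nat.Coprime.pow_right m (by norm_num)) hP hp hpa
  have hcond : ∀ i ∈ P, x * i * x = i⁻¹ → i ≠ 1 → ∀ q : ↥V ⧸ Φ,
      q * σ x q * σ i (q * σ x q) * σ i (σ i (q * σ x q)) = 1 := by
    intro i hiP hi hi1 q
    obtain ⟨v, rfl⟩ := QuotientGroup.mk_surjective q
    obtain ⟨e, he, hei⟩ := hlift i hiP hi
    have hde : θ (d * e) = i := by rw [map_mul, hei, ← hx, ← mul_assoc, hxx, one_mul]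
    set u : V := v⁻¹ * c d v with hu
    have hu' : (QuotientGroup.mk u : ↥V ⧸ Φ) = QuotientGroup.mk v * σ x (QuotientGroup.mk v) := by
      rw [hx, σ_mk, ← QuotientGroup.mk_mul]
      rw [hu, QuotientGroup.mk_mul, QuotientGroup.mk_mul, QuotientGroup.mk_inv,
        show (QuotientGroup.mk v : ↥V ⧸ Φ)⁻¹ = QuotientGroup.mk v from inv_eq_of_mul_eq_one_right (h2 _)]
    rw [← hu', ← hde, σ_mk, σ_mk, ← QuotientGroup.mk_mul, ← QuotientGroup.mk_mul]
    have hne' : ∀ y : H, θ y = i → y ^ 2 ≠ 1 := fun y hy h => hi1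
      (Cfsg.Agent.Components.eq_one_of_coprime_pow (n := 2) (by norm_num) hP hiP
        (by rw [← hy, ← map_pow, h, map_one]))
    have h3 : (d * e) ^ 3 = 1 := (hE.1.2 d hd e he).resolve_left (hne' _ hde)
    have hd' : (v : H)⁻¹ * d * (v : H) ∈ E := by
      have := Cfsg.Agent.H44.tt_invariant hE (v : H)⁻¹ hd
      rwa [inv_inv] at this
    have hd'e : ((v : H)⁻¹ * d * (v : H) * e) ^ 3 = 1 := by
      refine (hE.1.2 _ hd' e he).resolve_left (hne' _ ?_)
      rw [map_mul, map_mul, map_mul, map_inv, show θ (v : H) = 1 from (QuotientGroup.eq_one_iff _).2 v.2,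
        inv_one, one_mul, mul_one, ← map_mul, hde]
    have hzero : u * c (d * e) u * c (d * e) (c (d * e) u) = 1 := by
      apply Subtype.ext
      show (u : H) * (d * e * (u : H) * (d * e)⁻¹) * (d * e * (d * e * (u : H) * (d * e)⁻¹) * (d * e)⁻¹) = 1
      have euv : (u : H) * (d * e) = (v : H)⁻¹ * d * (v : H) * e := by
        show ((v : H)⁻¹ * (d * (v : H) * d⁻¹)) * (d * e) = _
        group
      calc _ = ((u : H) * (d * e)) ^ 3 * ((d * e) ^ 3)⁻¹ := by simp only [pow_succ, pow_zero, one_mul]; group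
        _ = 1 := by rw [euv, hd'e, h3, inv_one, mul_one]
    rw [hzero]; rfl
  rcases width_one_structure σ h2 P hP hfaith hxx hgenP hgenI hne hI3 hcond with ⟨h3, a, haP, ha1, hxa⟩ | ⟨a, b, hT, h54⟩
  · left
    refine perm_three_of ?_ hxx hx1 (hI3 a haP hxa) ha1 hxa
    have hle := card_sup_le (Subgroup.zpowers x) P Subgroup.le_normalizer_of_normal
    rw [hgenP, Subgroup.card_top, h3] at hle
    have hx2 : Nat.card (Subgroup.zpowers x) = 2 := by
      rw [Nat.card_zpowers]; exact orderOf_eq_prime (by rw [pow_two, hxx]) hx1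
    rw [hx2] at hle
    have hd1 : 3 ∣ Nat.card (H ⧸ V) := h3 ▸ P.card_subgroup_dvd_card
    have hd2 : 2 ∣ Nat.card (H ⧸ V) := hx2 ▸ (Subgroup.zpowers x).card_subgroup_dvd_card
    have := Nat.card_pos (α := H ⧸ V)
    show Nat.card (H ⧸ V) = 6
    omega
  · exact Or.inr ⟨x, a, b, hT, h54⟩

end Cfsg.Agent.H92.TTWidth
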