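import Mathlib
import Cfsg.Prelude.Def_Transfer

/-! Being extraspecial is invariant under isomorphism. -/

set_option autoImplicit false

namespace Cfsg.Agent.H92

open Subgroup

theorem map_center_mulEquiv {A B : Type*} [Group A] [Group B] (e : A ≃* B) :
    (center A).map e.toMonoidHom = center B := by
  ext b
  rw [mem_map_equiv, mem_center_iff, mem_center_iff]
  constructor
  · intro h c
    apply e.symm.injective
    simpa using h (e.symm c)
  · intro h a
    apply e.injective
    simpa using h (e a)

theorem map_frattini_equiv {A B : Type*} [Group A] [Group B] (e : A ≃* B) :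
    (frattini A).map e.toMonoidHom = frattini B := by
  refine le_antisymm (map_le_iff_le_comap.mpr
    (frattini_le_comap_frattini_of_surjective (φ := e.toMonoidHom) e.surjective)) ?_
  intro b hb
  refine ⟨e.symm b, ?_, by simp⟩
  exact frattini_le_comap_frattini_of_surjective (φ := e.symm.toMonoidHom) e.symm.surjective hb

theorem isExtraspecial_of_mulEquiv {p : ℕ} {A B : Type*} [Group A] [Group B] (e : A ≃* B)
    (h : Cfsg.IsExtraspecial p A) : Cfsg.IsExtraspecial p B := by
  obtain ⟨⟨hp, hf, hc⟩, hcard⟩ := h
  refine ⟨⟨hp.of_equiv e, ?_, ?_⟩, ?_⟩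
  · rw [← map_frattini_equiv e, ← map_center_mulEquiv e, hf]
  · rw [← map_center_mulEquiv e, ← hc, commutator_def, commutator_def, map_commutator,
      map_top_of_surjective e.toMonoidHom e.surjective]
  · rw [← map_center_mulEquiv e, ← hcard]
    exact (Nat.card_congr ((center A).equivMapOfInjective _ e.injective).toEquiv).symm

end Cfsg.Agent.H92
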