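import Cfsg.Agent.H92.Basic

set_option autoImplicit false

namespace Cfsg.Agent.H92

open Subgroup

variable {G : Type*} [Group G]

theorem card_center_map {Q : Subgroup G} (hQ : Cfsg.IsExtraspecial 2 Q) :
    Nat.card ((center Q).map Q.subtype : Subgroup G) = 2 := by
  rw [← Nat.card_congr ((center Q).equivMapOfInjective _ Q.subtype_injective).toEquiv]
  exact hQ.2

theorem eq_of_mem_of_card_two [Finite G] {Z : Subgroup G} (hZ : Nat.card Z = 2) {a b : G}
    (ha : a ∈ Z) (ha1 : a ≠ 1) (hb : b ∈ Z) (hb1 : b ≠ 1) : a = b := by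
  obtain ⟨c, -, hu⟩ := (Nat.card_eq_two_iff' (⟨1, Z.one_mem⟩ : Z)).mp hZ
  have e1 := hu ⟨a, ha⟩ (by simpa [Subtype.ext_iff] using ha1)
  have e2 := hu ⟨b, hb⟩ (by simpa [Subtype.ext_iff] using hb1)
  exact congrArg Subtype.val (e1.trans e2.symm)

/-- Whatever normalizes a subgroup of order two centralizes it. -/
theorem normalizer_le_centralizer_of_card_two [Finite G] {Z : Subgroup G} (hZ : Nat.card Z = 2) :
    normalizer (Z : Set G) ≤ centralizer (Z : Set G) := by
  intro g hg
  rw [mem_centralizer_iff]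
  intro z hz
  by_cases hz1 : z = 1
  · simp [hz1]
  have := eq_of_mem_of_card_two hZ ((mem_normalizer_iff.mp hg z).mp hz)
    (fun h => hz1 (by simpa using conj_eq_one_iff.mp h)) hz hz1
  rw [mul_inv_eq_iff_eq_mul] at this
  exact this.symm

theorem center_map_le_centralizer {Q : Subgroup G} :
    (center Q).map Q.subtype ≤ centralizer (Q : Set G) := by
  rintro x ⟨c, hc, rfl⟩
  rw [mem_centralizer_iff]
  intro q hq
  exact congrArg Subtype.val (mem_center_iff.mp hc ⟨q, hq⟩)

theorem center_map_eq_inf {Q : Subgroup G} :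
    (center Q).map Q.subtype = Q ⊓ centralizer (Q : Set G) := by
  refine le_antisymm (le_inf center_map_le center_map_le_centralizer) ?_
  intro x hx
  refine ⟨⟨x, hx.1⟩, mem_center_iff.mpr (fun q => Subtype.ext ?_), rfl⟩
  exact mem_centralizer_iff.mp hx.2 q q.2

/-- The normalizer of `Q` centralizes the centre. -/
theorem normalizer_le_centralizer_center [Finite G] {Q : Subgroup G}
    (hQ : Cfsg.IsExtraspecial 2 Q) :
    normalizer (Q : Set G) ≤ centralizer (((center Q).map Q.subtype : Subgroup G) : Set G) := by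
  refine le_trans ?_ (normalizer_le_centralizer_of_card_two (card_center_map hQ))
  intro g hg
  rw [mem_normalizer_iff]
  intro x
  have hQg := mem_normalizer_iff.mp hg
  rw [center_map_eq_inf, mem_inf, mem_inf, ← hQg x]
  refine and_congr_right (fun _ => ?_)
  simp only [mem_centralizer_iff, SetLike.mem_coe]
  constructor
  · intro h q hq
    have h1 := h (g⁻¹ * q * g) ((hQg _).mpr (by simpa [mul_assoc] using hq))
    calc q * (g * x * g⁻¹) = g * ((g⁻¹ * q * g) * x) * g⁻¹ := by group
      _ = g * (x * (g⁻¹ * q * g)) * g⁻¹ := by rw [h1]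
      _ = g * x * g⁻¹ * q := by group
  · intro h q hq
    have h1 := h (g * q * g⁻¹) ((hQg _).mp hq)
    calc q * x = g⁻¹ * ((g * q * g⁻¹) * (g * x * g⁻¹)) * g := by group
      _ = g⁻¹ * ((g * x * g⁻¹) * (g * q * g⁻¹)) * g := by rw [h1]
      _ = x * q := by group

/-- If `Q ≤ U ≤ N(Q)` then `Z(U) = Z(Q)`, hence `N(U) ≤ N(Q)`. -/
theorem normalizer_le_of_between [Finite G] {Q U : Subgroup G} (hQ : Cfsg.IsExtraspecial 2 Q)
    (hL2 : centralizer (Q : Set G) = (center Q).map Q.subtype)
    (hL3 : centralizer (((center Q).map Q.subtype : Subgroup G) : Set G) ≤ normalizer (Q : Set G))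
    (hQU : Q ≤ U) (hUN : U ≤ normalizer (Q : Set G)) :
    normalizer (U : Set G) ≤ normalizer (Q : Set G) := by
  have heq : (center U).map U.subtype = (center Q).map Q.subtype := by
    rw [center_map_eq_inf (Q := U)]
    refine le_antisymm ?_ (le_inf (center_map_le.trans hQU) ?_)
    · exact (inf_le_right.trans (centralizer_le hQU)).trans hL2.le
    · intro x hx
      rw [mem_centralizer_iff]
      intro u hu
      exact (mem_centralizer_iff.mp (normalizer_le_centralizer_center hQ (hUN hu)) x hx).symm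
  refine le_trans ?_ hL3
  refine le_trans ?_ (normalizer_le_centralizer_of_card_two (card_center_map hQ))
  intro g hg
  rw [mem_normalizer_iff]
  intro x
  rw [← heq, center_map_eq_inf, mem_inf, mem_inf, ← mem_normalizer_iff.mp hg x]
  refine and_congr_right (fun _ => ?_)
  have hUg := mem_normalizer_iff.mp hg
  simp only [mem_centralizer_iff, SetLike.mem_coe]
  constructor
  · intro h q hq
    have h1 := h (g⁻¹ * q * g) ((hUg _).mpr (by simpa [mul_assoc] using hq))
    calc q * (g * x * g⁻¹) = g * ((g⁻¹ * q * g) * x) * g⁻¹ := by group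
      _ = g * (x * (g⁻¹ * q * g)) * g⁻¹ := by rw [h1]
      _ = g * x * g⁻¹ * q := by group
  · intro h q hq
    have h1 := h (g * q * g⁻¹) ((hUg _).mp hq)
    calc q * x = g⁻¹ * ((g * q * g⁻¹) * (g * x * g⁻¹)) * g := by group
      _ = g⁻¹ * ((g * x * g⁻¹) * (g * q * g⁻¹)) * g := by rw [h1]
      _ = x * q := by group

/-- A Sylow 2-subgroup of `G` lies between `Q` and `N(Q)`. -/
theorem exists_sylow_between [Finite G] {Q : Subgroup G} (hQ : Cfsg.IsExtraspecial 2 Q)
    (hL2 : centralizer (Q : Set G) = (center Q).map Q.subtype)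
    (hL3 : centralizer (((center Q).map Q.subtype : Subgroup G) : Set G) ≤ normalizer (Q : Set G)) :
    ∃ S : Sylow 2 G, Q ≤ S ∧ (S : Subgroup G) ≤ normalizer (Q : Set G) := by
  have : Fact (Nat.Prime 2) := ⟨Nat.prime_two⟩
  set N := normalizer (Q : Set G)
  obtain ⟨T, hT⟩ := (hQ.1.1.comap_subtype (K := N)).exists_le_sylow
  set U := (T : Subgroup N).map N.subtype with hU
  have hUN : U ≤ N := map_subtype_le _
  have hQU : Q ≤ U := fun q hq => ⟨⟨q, le_normalizer hq⟩, hT hq, rfl⟩
  have hUp : IsPGroup 2 U := T.isPGroup'.map _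
  obtain ⟨S, hS⟩ := hUp.exists_le_sylow
  have hmax : ∀ V : Subgroup G, IsPGroup 2 V → U ≤ V → V ≤ N → V = U := by
    intro V hV hUV hVN
    have := T.is_maximal' (Q := V.subgroupOf N) hV.comap_subtype (fun x hx =>
      hUV ⟨x, hx, rfl⟩)
    refine le_antisymm (fun v hv => ?_) hUV
    exact ⟨⟨v, hVN hv⟩, this ▸ (show (⟨v, hVN hv⟩ : N) ∈ V.subgroupOf N from hv), rfl⟩
  suffices (S : Subgroup G) = U from ⟨S, this ▸ hQU, this ▸ hUN⟩
  refine (le_antisymm hS ?_).symm
  by_contra hle
  have hnil : Group.IsNilpotent S := S.isPGroup'.isNilpotent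
  have hlt : U.subgroupOf (S : Subgroup G) < ⊤ := by
    rw [lt_top_iff_ne_top, Ne, subgroupOf_eq_top]
    exact hle
  have h2 := Group.normalizerCondition_of_isNilpotent _ hlt
  obtain ⟨x, hxn, hxU⟩ := SetLike.exists_of_lt h2
  have hxnorm : (x : G) ∈ normalizer (U : Set G) := by
    rw [mem_normalizer_iff]
    intro y
    constructor
    · intro hy
      exact (mem_normalizer_iff.mp hxn ⟨y, hS hy⟩).mp hy
    · intro hy
      have hyS : y ∈ (S : Subgroup G) := by
        have := (S : Subgroup G).mul_mem ((S : Subgroup G).mul_mem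
          ((S : Subgroup G).inv_mem x.2) (hS hy)) x.2
        simpa [mul_assoc] using this
      exact (mem_normalizer_iff.mp hxn ⟨y, hyS⟩).mpr hy
  set V := (S : Subgroup G) ⊓ normalizer (U : Set G)
  have hVU : V = U := hmax V (S.isPGroup'.to_le inf_le_left) (le_inf hS le_normalizer)
    (inf_le_right.trans (normalizer_le_of_between hQ hL2 hL3 hQU hUN))
  exact hxU (hVU ▸ (show (x : G) ∈ V from ⟨x.2, hxnorm⟩))

end Cfsg.Agent.H92
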