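import Mathlib
import Cfsg.Agent.H92.LargeBasic
import Cfsg.Agent.PGroups.Extraspecial

set_option autoImplicit false

namespace Cfsg.Agent.H92

open Subgroup
open scoped commutatorElement

variable {G : Type*} [Group G]

/-- In an extraspecial subgroup commutators lie in the centre. -/
theorem commutator_mem_center_map {Q : Subgroup G} (hQ : Cfsg.IsExtraspecial 2 Q) {x y : G}
    (hx : x ∈ Q) (hy : y ∈ Q) : x * y * x⁻¹ * y⁻¹ ∈ (center Q).map Q.subtype := by
  refine ⟨⟨x, hx⟩ * ⟨y, hy⟩ * ⟨x, hx⟩⁻¹ * ⟨y, hy⟩⁻¹, ?_, rfl⟩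
  rw [← hQ.1.2.2]
  exact commutator_mem_commutator (mem_top _) (mem_top _)

theorem sq_mem_center_map [Finite G] {Q : Subgroup G} (hQ : Cfsg.IsExtraspecial 2 Q) {x : G}
    (hx : x ∈ Q) : x * x ∈ (center Q).map Q.subtype := by
  have : Fact (Nat.Prime 2) := ⟨Nat.prime_two⟩
  have h := Cfsg.Agent.PGroups.isSpecial_pow_mem_center hQ.1 (⟨x, hx⟩ : Q)
  rw [pow_two] at h
  exact ⟨_, h, rfl⟩

/-- A nonabelian subgroup of an extraspecial group whose centre lies in the centre of the whole
group is extraspecial. -/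
theorem isExtraspecial_of_le [Finite G] {Q H : Subgroup G} (hQ : Cfsg.IsExtraspecial 2 Q)
    (hHQ : H ≤ Q) (hZ : H ⊓ centralizer (H : Set G) ≤ (center Q).map Q.subtype)
    (hna : ∃ x ∈ H, ∃ y ∈ H, x * y ≠ y * x) : Cfsg.IsExtraspecial 2 H := by
  have : Fact (Nat.Prime 2) := ⟨Nat.prime_two⟩
  have hp : IsPGroup 2 H := hQ.1.1.to_le hHQ
  have hcomm : commutator H ≤ center H := by
    rw [commutator_def]
    refine commutator_le.mpr fun x _ y _ => ?_
    rw [mem_center_iff]
    intro w
    apply Subtype.ext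
    have h := commutator_mem_center_map hQ (hHQ x.2) (hHQ y.2)
    exact mem_centralizer_iff.mp (center_map_le_centralizer h) w (hHQ w.2)
  have hne : commutator H ≠ ⊥ := by
    intro h
    obtain ⟨x, hx, y, hy, hxy⟩ := hna
    apply hxy
    have h1 : ⁅(⟨x, hx⟩ : H), ⟨y, hy⟩⁆ ∈ commutator H :=
      commutator_mem_commutator (mem_top _) (mem_top _)
    rw [h, mem_bot, commutatorElement_eq_one_iff_commute] at h1
    exact congrArg Subtype.val h1.eq
  have hle : Nat.card (center H) ≤ 2 := by
    have h := Nat.card_mono (Set.toFinite (((center Q).map Q.subtype : Subgroup G) : Set G))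
      (show ((center H).map H.subtype : Subgroup G) ≤ (center Q).map Q.subtype from
        center_map_eq_inf.le.trans hZ)
    simp only [SetLike.coe_sort_coe] at h
    rw [card_center_map hQ, ← Nat.card_congr ((center H).equivMapOfInjective _
      H.subtype_injective).toEquiv] at h
    exact h
  have heq : commutator H = center H := by
    refine eq_of_le_of_card_ge hcomm (hle.trans ?_)
    exact ((commutator H).one_lt_card_iff_ne_bot.mpr hne)
  have hcard : Nat.card (center H) = 2 := by
    refine le_antisymm hle ?_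
    rw [← heq]
    exact (commutator H).one_lt_card_iff_ne_bot.mpr hne
  refine ⟨⟨hp, le_antisymm ?_ ?_, heq⟩, hcard⟩
  · refine Cfsg.Agent.PGroups.frattini_le_of_commutator_le (p := 2) _ hcomm (fun x => ?_)
    rw [mem_center_iff, pow_two]
    intro w
    apply Subtype.ext
    exact mem_centralizer_iff.mp (center_map_le_centralizer (sq_mem_center_map hQ (hHQ x.2)))
      w (hHQ w.2)
  · exact heq.symm.le.trans (Cfsg.Agent.PGroups.commutator_le_frattini hp)

end Cfsg.Agent.H92
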