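import Mathlib
import Cfsg.Prelude.Def_MonsterType

set_option autoImplicit false

namespace Cfsg.Agent.H92

open Subgroup

variable {G : Type*} [Group G]

theorem pCore_le_sylow [Finite G] {p : ℕ} [Fact p.Prime] (P : Sylow p G) :
    Cfsg.pCore p G ≤ (P : Subgroup G) := by
  refine sSup_le ?_
  rintro N ⟨hN, hNp⟩
  obtain ⟨Q, hQ⟩ := hNp.exists_le_sylow
  obtain ⟨g, rfl⟩ := MulAction.exists_smul_eq G Q P
  intro x hx
  rw [Sylow.coe_subgroup_smul, Subgroup.mem_pointwise_smul_iff_inv_smul_mem]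
  exact hQ (by simpa [MulAut.smul_def, mul_assoc] using hN.conj_mem x hx g⁻¹)

theorem isPGroup_pCore [Finite G] (p : ℕ) [Fact p.Prime] : IsPGroup p (Cfsg.pCore p G) := by
  obtain ⟨P⟩ := (inferInstance : Nonempty (Sylow p G))
  exact P.isPGroup'.to_le (pCore_le_sylow P)

/-- If `A` and `B` meet trivially and normalize each other then they commute. -/
theorem le_centralizer_of_inf_bot {A B : Subgroup G} (hAB : A ≤ normalizer (B : Set G))
    (hBA : B ≤ normalizer (A : Set G)) (h : A ⊓ B = ⊥) : A ≤ centralizer (B : Set G) := by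
  intro a ha
  rw [mem_centralizer_iff]
  intro b hb
  have h1 : a * b * a⁻¹ * b⁻¹ ∈ A := by
    have : b * a⁻¹ * b⁻¹ ∈ A := (mem_normalizer_iff.mp (hBA hb) a⁻¹).mp (A.inv_mem ha)
    simpa [mul_assoc] using A.mul_mem ha this
  have h2 : a * b * a⁻¹ * b⁻¹ ∈ B :=
    B.mul_mem ((mem_normalizer_iff.mp (hAB ha) b).mp hb) (B.inv_mem hb)
  have h3 : a * b * a⁻¹ * b⁻¹ = 1 := by
    have := mem_inf.mpr ⟨h1, h2⟩
    rwa [h, mem_bot] at this
  calc b * a = (a * b * a⁻¹ * b⁻¹) * (b * a) := by rw [h3, one_mul]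
    _ = a * b := by group

theorem inf_eq_bot_of_odd_of_two {A B : Subgroup G} [Finite G] (hA : Odd (Nat.card A))
    (hB : IsPGroup 2 B) : A ⊓ B = ⊥ := by
  obtain ⟨n, hn⟩ := IsPGroup.iff_card.mp hB
  exact inf_eq_bot_of_coprime (by rw [hn]; exact (Nat.coprime_two_right.mpr hA).pow_right n)

theorem center_map_le {Q : Subgroup G} : (center Q).map Q.subtype ≤ Q := map_subtype_le _

/-- The final step in every proof of largeness. -/
theorem eq_bot_of_centralizes_center [Finite G] {Q : Subgroup G} (hQ : IsPGroup 2 Q)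
    (hL2 : centralizer (Q : Set G) = (center Q).map Q.subtype)
    (hL3 : centralizer (((center Q).map Q.subtype : Subgroup G) : Set G) ≤ normalizer (Q : Set G))
    {K : Subgroup G} (hK : Odd (Nat.card K)) (hQK : Q ≤ normalizer (K : Set G))
    (hc : K ≤ centralizer (((center Q).map Q.subtype : Subgroup G) : Set G)) : K = ⊥ := by
  have hdisj := inf_eq_bot_of_odd_of_two hK hQ
  have h1 : K ≤ Q := ((le_centralizer_of_inf_bot (hc.trans hL3) hQK hdisj).trans hL2.le).trans
    center_map_le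
  rwa [inf_eq_left.mpr h1] at hdisj

/-- An element of a normal 2-subgroup which normalizes an odd order subgroup centralizes it. -/
theorem commute_of_mem_two_normal [Finite G] {N : Subgroup G} [N.Normal] (hN : IsPGroup 2 N)
    {K : Subgroup G} (hK : Odd (Nat.card K)) {x : G} (hx : x ∈ N)
    (hxK : x ∈ normalizer (K : Set G)) {k : G} (hk : k ∈ K) : x * k = k * x := by
  have h1 : k * x * k⁻¹ * x⁻¹ ∈ N :=
    N.mul_mem ((inferInstance : N.Normal).conj_mem x hx k) (N.inv_mem hx)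
  have h2 : k * x * k⁻¹ * x⁻¹ ∈ K := by
    have : x * k⁻¹ * x⁻¹ ∈ K := (mem_normalizer_iff.mp hxK k⁻¹).mp (K.inv_mem hk)
    simpa [mul_assoc] using K.mul_mem hk this
  have h3 : k * x * k⁻¹ * x⁻¹ = 1 := by
    have := mem_inf.mpr ⟨h2, h1⟩
    rwa [inf_eq_bot_of_odd_of_two hK hN, mem_bot] at this
  calc x * k = (k * x * k⁻¹ * x⁻¹) * (x * k) := by rw [h3, one_mul]
    _ = k * x := by group

end Cfsg.Agent.H92
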