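import Mathlib
import Cfsg.Agent.Components.Basic
import Cfsg.Agent.H92.Basic
import Cfsg.Agent.H92.LargeBasic
import Cfsg.Agent.PGroups.Basic

/-!
Normal subgroups of a group with a large extraspecial 2-subgroup.
-/

set_option autoImplicit false
set_option linter.style.haveILetI false

namespace Cfsg.Agent.H92

variable {G : Type*} [Group G]

theorem eq_one_or_center {Q : Subgroup G} [Finite G] (hQ : Cfsg.IsExtraspecial 2 Q) {z : G}
    (hz : z ∈ (Subgroup.center Q).map Q.subtype) (hz1 : z ≠ 1) {x : G}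
    (hx : x ∈ (Subgroup.center Q).map Q.subtype) : x = 1 ∨ x = z := by
  by_cases h : x = 1
  · exact Or.inl h
  · exact Or.inr (eq_of_mem_of_card_two (card_center_map hQ) hx h hz hz1)

/-- The centre of a large extraspecial subgroup lies in every nontrivial normal subgroup. -/
theorem center_mem_normal [Finite G] {P : Subgroup G} (hlarge : Cfsg.IsLargeExtraspecial P) {z : G}
    (hzZ : z ∈ (Subgroup.center P).map P.subtype) (hz1 : z ≠ 1) {N : Subgroup G} [hN : N.Normal]
    (hNbot : N ≠ ⊥) : z ∈ N := by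
  haveI : Fact (Nat.Prime 2) := ⟨Nat.prime_two⟩
  have hZ2 := fun {x : G} (hx : x ∈ (Subgroup.center P).map P.subtype) =>
    eq_one_or_center hlarge.1 hzZ hz1 hx
  obtain ⟨S, hS⟩ := hlarge.1.1.1.exists_le_sylow
  have hne : N.subgroupOf (S : Subgroup G) ≠ ⊥ := by
    intro h
    apply hNbot
    refine hlarge.2.2.2 N ?_ (fun x _ => by rw [Subgroup.normalizer_eq_top]; trivial)
    rw [Nat.odd_iff, ← Nat.two_dvd_ne_zero]
    intro hd
    obtain ⟨x, hx⟩ := exists_prime_orderOf_dvd_card' (G := N) 2 hd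
    have hxp : IsPGroup 2 (Subgroup.zpowers (x : G)) := by
      refine IsPGroup.of_card (n := 1) ?_
      rw [Nat.card_zpowers, Subgroup.orderOf_coe, hx, pow_one]
    obtain ⟨T, hT⟩ := hxp.exists_le_sylow
    obtain ⟨k, rfl⟩ := MulAction.exists_smul_eq G S T
    have hmem : k⁻¹ * x * k ∈ (S : Subgroup G) := by
      have := hT (Subgroup.mem_zpowers (x : G))
      rw [Sylow.coe_subgroup_smul, Subgroup.mem_pointwise_smul_iff_inv_smul_mem, ← map_inv,
        MulAut.smul_def, MulAut.conj_apply, inv_inv] at this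
      exact this
    have hmemN : k⁻¹ * (x : G) * k ∈ N := by
      simpa using hN.conj_mem (x : G) x.2 k⁻¹
    have h1 := congrArg Subtype.val ((Subgroup.eq_bot_iff_forall _).mp h ⟨_, hmem⟩ hmemN)
    simp only [OneMemClass.coe_one] at h1
    have hx1 : (x : G) = 1 := by
      calc (x : G) = k * (k⁻¹ * x * k) * k⁻¹ := by group
        _ = 1 := by rw [h1]; group
    rw [← Subgroup.orderOf_coe, hx1, orderOf_one] at hx
    omega
  have hne' := Cfsg.Agent.PGroups.inf_center_ne_bot S.isPGroup' (N.subgroupOf (S : Subgroup G)) hne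
  rw [Ne, Subgroup.eq_bot_iff_forall] at hne'
  push Not at hne'
  obtain ⟨u, ⟨huN, huc⟩, hu1⟩ := hne'
  have huZ : (u : G) ∈ (Subgroup.center P).map P.subtype := hlarge.2.1 ▸ (Subgroup.mem_centralizer_iff.mpr fun q hq =>
    congrArg Subtype.val (Subgroup.mem_center_iff.mp huc ⟨q, hS hq⟩))
  rcases hZ2 huZ with h | h
  · exact absurd (Subtype.ext h) hu1
  · exact h ▸ huN

/-- A normal subgroup containing the whole centralizer of the centre is everything. -/
theorem eq_top_of_centralizer_center_le [Finite G] {P : Subgroup G} (hP2 : IsPGroup 2 P) {z : G}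
    (hZ2 : ∀ x ∈ Subgroup.centralizer (P : Set G), x = 1 ∨ x = z) (hz1 : z ≠ 1) (hzP : z ∈ P)
    {N : Subgroup G} [N.Normal] (hHN : Subgroup.centralizer ({z} : Set G) ≤ N) (hPN : P ≤ N) :
    N = ⊤ := by
  haveI : Fact (Nat.Prime 2) := ⟨Nat.prime_two⟩
  -- Frattini
  have hPp : IsPGroup 2 (P.subgroupOf N) := hP2.comap_subtype
  obtain ⟨T, hT⟩ := hPp.exists_le_sylow
  have hfr := Sylow.normalizer_sup_eq_top T
  rw [eq_top_iff, ← hfr]
  refine sup_le (fun c hc => hHN (Subgroup.mem_centralizer_singleton_iff.mpr ?_)) le_rfl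
  -- `z` is the only involution of the centre of `T`
  haveI : Nontrivial T := by
    refine ⟨⟨⟨⟨z, hPN hzP⟩, hT hzP⟩, 1, fun h => hz1 ?_⟩⟩
    exact congrArg (fun u : T => ((u : N) : G)) h
  have huniq : ∀ u : T, u ∈ Subgroup.center T → ((u : N) : G) = 1 ∨ ((u : N) : G) = z := by
    intro u hu
    apply hZ2
    refine Subgroup.mem_centralizer_iff.mpr fun q hq => ?_
    have := Subgroup.mem_center_iff.mp hu ⟨⟨q, hPN hq⟩, hT hq⟩
    exact congrArg (fun u : T => ((u : N) : G)) this
  haveI := T.isPGroup'.center_nontrivial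
  obtain ⟨u, hu⟩ := exists_ne (1 : Subgroup.center T)
  have huz : (((u : T) : N) : G) = z := by
    rcases huniq u u.2 with h | h
    · exact absurd (Subtype.ext (Subtype.ext (Subtype.ext h))) hu
    · exact h
  set T' := (T : Subgroup N).map N.subtype with hT'
  have hzc : ∀ y ∈ T', y * z = z * y := by
    rintro _ ⟨y, hy, rfl⟩
    rw [← huz]
    exact congrArg (fun u : T => ((u : N) : G)) (Subgroup.mem_center_iff.mp u.2 ⟨y, hy⟩)
  have hc' := Subgroup.mem_normalizer_iff.mp hc
  have hzT' : z ∈ T' := ⟨_, hT (show (⟨z, hPN hzP⟩ : N) ∈ P.subgroupOf N from hzP), rfl⟩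
  obtain ⟨v, hv, hvc⟩ := (hc' z).mp hzT'
  have hvcen : (⟨v, hv⟩ : (T : Subgroup N)) ∈ Subgroup.center (T : Subgroup N) := by
    rw [Subgroup.mem_center_iff]
    intro y
    apply Subtype.ext; apply Subtype.ext
    show ((y : N) : G) * (v : G) = (v : G) * ((y : N) : G)
    simp only [Subgroup.coe_subtype] at hvc
    rw [hvc]
    have hy' : c⁻¹ * ((y : N) : G) * c ∈ T' :=
      (hc' _).mpr (by rw [show c * (c⁻¹ * ((y : N) : G) * c) * c⁻¹ = ((y : N) : G) by group]; exact ⟨(y : N), y.2, rfl⟩)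
    calc ((y : N) : G) * (c * z * c⁻¹) = c * (c⁻¹ * (y : N) * c * z) * c⁻¹ := by group
      _ = c * (z * (c⁻¹ * (y : N) * c)) * c⁻¹ := by rw [hzc _ hy']
      _ = _ := by group
  simp only [Subgroup.coe_subtype] at hvc
  rcases huniq _ hvcen with h | h <;> simp only [hvc] at h
  · exact absurd (conj_eq_one_iff.mp h) hz1
  · exact mul_inv_eq_iff_eq_mul.mp h

/-- The basic hypotheses of largeness from the generalized Fitting subgroup of an involution
centralizer. -/
theorem centralizer_setting [Finite G] {z : G} {Q : Subgroup G}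
    (hQC : Q ≤ Subgroup.centralizer ({z} : Set G))
    (hF : (Cfsg.generalizedFittingSubgroup ↥(Subgroup.centralizer ({z} : Set G))).map
      (Subgroup.centralizer ({z} : Set G)).subtype = Q) :
    z ∈ (Subgroup.center Q).map Q.subtype ∧
    Subgroup.centralizer (Q : Set G) = (Subgroup.center Q).map Q.subtype ∧
    (∀ q ∈ Q, ∀ c ∈ Subgroup.centralizer ({z} : Set G), c * q * c⁻¹ ∈ Q) ∧
    Subgroup.centralizer (((Subgroup.center Q).map Q.subtype : Subgroup G) : Set G) ≤
      Subgroup.normalizer (Q : Set G) := by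
  have hzH : z ∈ Subgroup.centralizer ({z} : Set G) :=
    Subgroup.mem_centralizer_singleton_iff.mpr rfl
  have hCH := Cfsg.Agent.Components.centralizer_genFitting_le
    (G := ↥(Subgroup.centralizer ({z} : Set G)))
  have hin : ∀ c : ↥(Subgroup.centralizer ({z} : Set G)),
      (∀ q ∈ Q, q * (c : G) = (c : G) * q) → (c : G) ∈ Q := by
    intro c hc
    rw [← hF]
    exact ⟨c, hCH (Subgroup.mem_centralizer_iff.mpr fun q hq =>
      Subtype.ext (hc _ (hF ▸ ⟨q, hq, rfl⟩))), rfl⟩
  have hzQ : z ∈ Q := hin ⟨z, hzH⟩ fun q hq => Subgroup.mem_centralizer_singleton_iff.mp (hQC hq)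
  have hzZ : z ∈ (Subgroup.center Q).map Q.subtype := by
    rw [center_map_eq_inf]
    exact ⟨hzQ, Subgroup.mem_centralizer_iff.mpr fun q hq =>
      Subgroup.mem_centralizer_singleton_iff.mp (hQC hq)⟩
  have hconj : ∀ q ∈ Q, ∀ c ∈ Subgroup.centralizer ({z} : Set G), c * q * c⁻¹ ∈ Q := by
    intro q hq c hc
    rw [← hF] at hq ⊢
    obtain ⟨u, hu, rfl⟩ := hq
    exact ⟨⟨c, hc⟩ * u * ⟨c, hc⟩⁻¹, Cfsg.Agent.Components.genFitting_normal.conj_mem u hu ⟨c, hc⟩, rfl⟩
  refine ⟨hzZ, le_antisymm (fun c hc => ?_) center_map_le_centralizer, hconj, fun c hc => ?_⟩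
  · have hcH : c ∈ Subgroup.centralizer ({z} : Set G) :=
      Subgroup.mem_centralizer_singleton_iff.mpr (Subgroup.mem_centralizer_iff.mp hc z hzQ).symm
    rw [center_map_eq_inf]
    exact ⟨hin ⟨c, hcH⟩ fun q hq => Subgroup.mem_centralizer_iff.mp hc q hq, hc⟩
  · have hcH : c ∈ Subgroup.centralizer ({z} : Set G) :=
      Subgroup.mem_centralizer_singleton_iff.mpr (Subgroup.mem_centralizer_iff.mp hc z hzZ).symm
    refine Subgroup.mem_normalizer_iff.mpr fun x => ⟨fun hx => hconj x hx c hcH, fun hx => ?_⟩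
    simpa [mul_assoc] using hconj _ hx c⁻¹ (inv_mem hcH)

end Cfsg.Agent.H92
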