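import Mathlib
import Cfsg.Agent.H92.Extra

set_option autoImplicit false

namespace Cfsg.Agent.H92

open Subgroup

variable {G : Type*} [Group G]

/-- The hypotheses: `Q` extraspecial of order at least 32 with centre `⟨z⟩`, self-centralizing modulo
the centre, normal in `C(z)`, and `s = g z g⁻¹ ≠ z` in `Q`. -/
structure PairSetting (Q : Subgroup G) (z g : G) : Prop where
  extra : Cfsg.IsExtraspecial 2 Q
  hcen : centralizer (Q : Set G) = (center Q).map Q.subtype
  hnorm : centralizer (((center Q).map Q.subtype : Subgroup G) : Set G) ≤ normalizer (Q : Set G)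
  hz : z ∈ (center Q).map Q.subtype
  hz1 : z ≠ 1
  hs : g * z * g⁻¹ ∈ Q
  hne : g * z * g⁻¹ ≠ z
  hcard : 32 ≤ Nat.card Q

namespace PairSetting

variable [Finite G] {Q : Subgroup G} {z g : G}

theorem eq_z (h : PairSetting Q z g) {a : G} (ha : a ∈ (center Q).map Q.subtype) : a = 1 ∨ a = z := by
  by_cases h1 : a = 1
  · exact Or.inl h1
  · exact Or.inr (eq_of_mem_of_card_two (card_center_map h.extra) ha h1 h.hz h.hz1)

theorem z_sq (h : PairSetting Q z g) : z * z = 1 := by
  rcases h.eq_z (mul_mem h.hz h.hz) with e | e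
  · exact e
  · exact absurd (mul_eq_left.mp e) h.hz1

theorem z_inv (h : PairSetting Q z g) : z⁻¹ = z := inv_eq_of_mul_eq_one_left h.z_sq

theorem z_mem (h : PairSetting Q z g) : z ∈ Q := center_map_le h.hz

theorem z_comm (h : PairSetting Q z g) {q : G} (hq : q ∈ Q) : q * z = z * q :=
  mem_centralizer_iff.mp (center_map_le_centralizer h.hz) q hq

theorem centralizer_z_le (h : PairSetting Q z g) {c : G} (hc : c * z = z * c) :
    c ∈ normalizer (Q : Set G) := by
  apply h.hnorm
  rw [mem_centralizer_iff]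
  intro a ha
  rcases h.eq_z ha with rfl | rfl
  · simp
  · exact hc.symm

theorem comm_eq (h : PairSetting Q z g) {x y : G} (hx : x ∈ Q) (hy : y ∈ Q)
    (hne : x * y ≠ y * x) : x * y * x⁻¹ = z * y := by
  rcases h.eq_z (commutator_mem_center_map h.extra hx hy) with e | e
  · exact absurd (by rw [mul_inv_eq_one, mul_inv_eq_iff_eq_mul] at e; exact e) hne
  · rwa [mul_inv_eq_iff_eq_mul] at e

/-- `s = g z g⁻¹` -/
theorem s_sq (h : PairSetting Q z g) : g * z * g⁻¹ * (g * z * g⁻¹) = 1 := by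
  calc g * z * g⁻¹ * (g * z * g⁻¹) = g * (z * z) * g⁻¹ := by group
    _ = 1 := by rw [h.z_sq]; group

theorem s_ne_one (h : PairSetting Q z g) : g * z * g⁻¹ ≠ 1 := fun e => h.hz1 (conj_eq_one_iff.mp e)

/-- An element of `Q` moving `s` to `z s`. -/
theorem exists_x (h : PairSetting Q z g) :
    ∃ x ∈ Q, x * (g * z * g⁻¹) * x⁻¹ = z * (g * z * g⁻¹) := by
  by_contra hcon
  push Not at hcon
  have hcent : g * z * g⁻¹ ∈ (center Q).map Q.subtype := by
    rw [center_map_eq_inf]
    refine ⟨h.hs, mem_centralizer_iff.mpr (fun q hq => ?_)⟩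
    by_contra hne
    exact hcon q hq (h.comm_eq hq h.hs hne)
  rcases h.eq_z hcent with e | e
  · exact h.s_ne_one e
  · exact h.hne e

/-- The conjugate `R = Q^g` satisfies the same: its centralizer is `⟨s⟩`. -/
theorem mem_R {x : G} : x ∈ Q.map (MulAut.conj g).toMonoidHom ↔ g⁻¹ * x * g ∈ Q := by
  rw [mem_map_equiv]; simp [mul_assoc]

theorem R_comm (h : PairSetting Q z g) {r : G} (hr : r ∈ Q.map (MulAut.conj g).toMonoidHom) :
    r * (g * z * g⁻¹) = g * z * g⁻¹ * r := by
  have := h.z_comm (mem_R.mp hr)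
  calc r * (g * z * g⁻¹) = g * ((g⁻¹ * r * g) * z) * g⁻¹ := by group
    _ = _ := by rw [this]; group

theorem R_norm (h : PairSetting Q z g) {c : G} (hc : c * (g * z * g⁻¹) = g * z * g⁻¹ * c) {r : G}
    (hr : r ∈ Q.map (MulAut.conj g).toMonoidHom) :
    c * r * c⁻¹ ∈ Q.map (MulAut.conj g).toMonoidHom := by
  rw [mem_R] at hr ⊢
  have h1 : (g⁻¹ * c * g) * z = z * (g⁻¹ * c * g) := by
    calc (g⁻¹ * c * g) * z = g⁻¹ * (c * (g * z * g⁻¹)) * g := by group
      _ = _ := by rw [hc]; group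
  have := (mem_normalizer_iff.mp (h.centralizer_z_le h1) _).mp hr
  simpa [mul_assoc] using this

theorem R_center (h : PairSetting Q z g) {a : G} (ha : a ∈ Q.map (MulAut.conj g).toMonoidHom)
    (hc : ∀ r ∈ Q.map (MulAut.conj g).toMonoidHom, r * a = a * r) :
    a = 1 ∨ a = g * z * g⁻¹ := by
  have h1 : g⁻¹ * a * g ∈ (center Q).map Q.subtype := by
    rw [center_map_eq_inf]
    refine ⟨mem_R.mp ha, mem_centralizer_iff.mpr (fun q hq => ?_)⟩
    have := hc (g * q * g⁻¹) (mem_R.mpr (by simpa [mul_assoc] using hq))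
    calc q * (g⁻¹ * a * g) = g⁻¹ * ((g * q * g⁻¹) * a) * g := by group
      _ = _ := by rw [this]; group
  rcases h.eq_z h1 with e | e
  · left; simpa using (conj_eq_one_iff (a := g⁻¹)).mp (by simpa using e)
  · right
    calc a = g * (g⁻¹ * a * g) * g⁻¹ := by group
      _ = _ := by rw [e]

theorem R_commutator (h : PairSetting Q z g) {a b : G}
    (ha : a ∈ Q.map (MulAut.conj g).toMonoidHom) (hb : b ∈ Q.map (MulAut.conj g).toMonoidHom) :
    a * b * a⁻¹ * b⁻¹ = 1 ∨ a * b * a⁻¹ * b⁻¹ = g * z * g⁻¹ := by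
  have e : a * b * a⁻¹ * b⁻¹ = g * ((g⁻¹ * a * g) * (g⁻¹ * b * g) * (g⁻¹ * a * g)⁻¹ *
      (g⁻¹ * b * g)⁻¹) * g⁻¹ := by group
  rcases h.eq_z (commutator_mem_center_map h.extra (mem_R.mp ha) (mem_R.mp hb)) with e' | e' <;>
    rw [e'] at e
  · left; rw [e]; group
  · exact Or.inr e

/-- `Q ∩ C(s)` is not abelian. -/
theorem exists_noncomm (h : PairSetting Q z g) :
    ∃ q ∈ Q, q * (g * z * g⁻¹) = g * z * g⁻¹ * q ∧
      ∃ p ∈ Q, p * (g * z * g⁻¹) = g * z * g⁻¹ * p ∧ q * p * q⁻¹ = z * p := by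
  by_contra hcon
  push Not at hcon
  obtain ⟨x, hx, hxs⟩ := h.exists_x
  set s := g * z * g⁻¹ with hs
  have hab : ∀ q ∈ Q, q * s = s * q → ∀ p ∈ Q, p * s = s * p → q * p = p * q := by
    intro q hq hqs p hp hps
    by_contra hne
    exact hcon q hq hqs p hp hps (h.comm_eq hq hp hne)
  -- every element of `Q` lies in `C(s)` or in `x C(s)`
  have hcos : ∀ y ∈ Q, y * s = s * y ∨ (x⁻¹ * y) * s = s * (x⁻¹ * y) := by
    intro y hy
    by_cases hys : y * s = s * y
    · exact Or.inl hys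
    · right
      have e := h.comm_eq hy h.hs hys
      calc x⁻¹ * y * s = x⁻¹ * (y * s * y⁻¹) * y := by group
        _ = x⁻¹ * (x * s * x⁻¹) * y := by rw [e, hxs]
        _ = s * (x⁻¹ * y) := by group
  have hcentral : ∀ q ∈ Q, q * s = s * q → q * x = x * q → q = 1 ∨ q = z := by
    intro q hq hqs hqx
    apply h.eq_z
    rw [center_map_eq_inf]
    refine ⟨hq, mem_centralizer_iff.mpr (fun y hy => ?_)⟩
    rcases hcos y hy with hy' | hy'
    · exact hab y hy hy' q hq hqs
    · have := hab _ (mul_mem (inv_mem hx) hy) hy' q hq hqs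
      calc y * q = x * (x⁻¹ * y * q) := by group
        _ = (x * q) * (x⁻¹ * y) := by rw [this, mul_assoc]
        _ = q * y := by rw [← hqx]; group
  have hfour : ∀ q ∈ Q, q * s = s * q → q = 1 ∨ q = z ∨ q = s ∨ q = z * s := by
    intro q hq hqs
    by_cases hqx : x * q = q * x
    · rcases hcentral q hq hqs hqx.symm with e | e
      · exact Or.inl e
      · exact Or.inr (Or.inl e)
    · have e := h.comm_eq hx hq hqx
      have hss : q * s * s = q := by rw [mul_assoc, hs, h.s_sq, mul_one]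
      have hc : x * (q * s) * x⁻¹ = q * s := by
        calc x * (q * s) * x⁻¹ = (x * q * x⁻¹) * (x * s * x⁻¹) := by group
          _ = (z * q) * (z * s) := by rw [e, hxs]
          _ = z * (q * z) * s := by group
          _ = z * z * (q * s) := by rw [h.z_comm hq]; group
          _ = q * s := by rw [h.z_sq, one_mul]
      have hc' : q * s * x = x * (q * s) := by
        conv_lhs => rw [← hc]
        group
      have hsc : q * s * s = s * (q * s) := by rw [hqs, mul_assoc, hqs]
      rcases hcentral _ (mul_mem hq h.hs) hsc hc' with e' | e'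
      · right; right; left
        rw [← hss, e', one_mul]
      · right; right; right
        rw [← hss, e']
  classical
  have hQle : ∀ y ∈ Q, y ∈ ({1, z, s, z * s} : Finset G) ∪
      ({1, z, s, z * s} : Finset G).image (x * ·) := by
    intro y hy
    rcases hcos y hy with hy' | hy'
    · refine Finset.mem_union_left _ ?_
      simpa using hfour y hy hy'
    · refine Finset.mem_union_right _ (Finset.mem_image.mpr ⟨x⁻¹ * y, ?_, by simp⟩)
      simpa using hfour _ (mul_mem (inv_mem hx) hy) hy'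
  have hle := Nat.card_le_card_of_injective
    (fun y : Q => (⟨y.1, hQle y.1 y.2⟩ : {a // a ∈ ({1, z, s, z * s} : Finset G) ∪
      ({1, z, s, z * s} : Finset G).image (x * ·)}))
    (fun a b hab => Subtype.ext (by simpa using hab))
  rw [Nat.card_eq_finsetCard] at hle
  have h2 := h.hcard
  have h4 : ({1, z, s, z * s} : Finset G).card ≤ 4 := Finset.card_le_four
  have := Finset.card_union_le ({1, z, s, z * s} : Finset G)
    (({1, z, s, z * s} : Finset G).image (x * ·))
  have := Finset.card_image_le (s := ({1, z, s, z * s} : Finset G)) (f := (x * ·))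
  omega

/-- An element of `Q^g` moving `z` to `z s`. -/
theorem exists_y (h : PairSetting Q z g) :
    ∃ y ∈ Q.map (MulAut.conj g).toMonoidHom, y * z * y⁻¹ = z * (g * z * g⁻¹) := by
  by_contra hcon
  push Not at hcon
  set s := g * z * g⁻¹ with hs
  set R := Q.map (MulAut.conj g).toMonoidHom with hR
  have hzs : z * s = s * z := (h.z_comm h.hs).symm
  -- elements of `R` moving `z` inside `z⟨s⟩` commute with `z`
  have hF : ∀ r ∈ R, z * r * z * r⁻¹ = 1 ∨ z * r * z * r⁻¹ = s → r * z = z * r := by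
    intro r hr e
    rcases e with e | e
    · calc r * z = (z * r * z * r⁻¹)⁻¹ * (z * r) * (z * z) := by group
        _ = z * r := by rw [e, h.z_sq]; group
    · exfalso
      apply hcon r hr
      calc r * z * r⁻¹ = (z * z) * (r * z * r⁻¹) := by rw [h.z_sq, one_mul]
        _ = z * (z * r * z * r⁻¹) := by group
        _ = z * s := by rw [e]
  have hzR : z ∉ R := by
    intro hz
    have hc : ∀ r ∈ R, r * z = z * r := by
      intro r hr
      rcases h.R_commutator hz hr with e | e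
      · exact hF r hr (Or.inl (by rwa [h.z_inv] at e))
      · exact hF r hr (Or.inr (by rwa [h.z_inv] at e))
    rcases h.R_center hz hc with e | e
    · exact h.hz1 e
    · exact h.hne e.symm
  obtain ⟨x, hx, hxs⟩ := h.exists_x
  -- `Q ∩ C(s) ∩ R = ⟨s⟩`
  have hD : ∀ d ∈ Q, d ∈ R → d = 1 ∨ d = s := by
    intro d hdQ hdR
    have hds : d * s = s * d := h.R_comm hdR
    have hcomm : ∀ q ∈ Q, q * s = s * q → q * d = d * q := by
      intro q hq hqs
      by_contra hne
      apply hzR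
      have e := h.comm_eq hq hdQ hne
      have : z = (q * d * q⁻¹) * d⁻¹ := by rw [e]; group
      rw [this]
      exact mul_mem (h.R_norm hqs hdR) (inv_mem hdR)
    have hcos : ∀ y ∈ Q, y * s = s * y ∨ (x⁻¹ * y) * s = s * (x⁻¹ * y) := by
      intro y hy
      by_cases hys : y * s = s * y
      · exact Or.inl hys
      · right
        have e := h.comm_eq hy h.hs hys
        calc x⁻¹ * y * s = x⁻¹ * (y * s * y⁻¹) * y := by group
          _ = x⁻¹ * (x * s * x⁻¹) * y := by rw [e, hxs]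
          _ = s * (x⁻¹ * y) := by group
    have key : ∀ a ∈ Q, a ∈ R → (∀ q ∈ Q, q * s = s * q → q * a = a * q) → x * a = a * x →
        a = 1 := by
      intro a ha haR hac hax
      have hZ : a ∈ (center Q).map Q.subtype := by
        rw [center_map_eq_inf]
        refine ⟨ha, mem_centralizer_iff.mpr (fun y hy => ?_)⟩
        rcases hcos y hy with hy' | hy'
        · exact hac y hy hy'
        · have := hac _ (mul_mem (inv_mem hx) hy) hy'
          calc y * a = x * (x⁻¹ * y * a) := by group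
            _ = (x * a) * (x⁻¹ * y) := by rw [this, mul_assoc]
            _ = a * y := by rw [hax]; group
      rcases h.eq_z hZ with e | e
      · exact e
      · exact absurd (e ▸ haR) hzR
    by_cases hdx : x * d = d * x
    · exact Or.inl (key d hdQ hdR hcomm hdx)
    · right
      have e := h.comm_eq hx hdQ hdx
      have hsR : s ∈ R := mem_R.mpr (by rw [hs]; simpa [mul_assoc] using h.z_mem)
      have hc : x * (d * s) * x⁻¹ = d * s := by
        calc x * (d * s) * x⁻¹ = (x * d * x⁻¹) * (x * s * x⁻¹) := by group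
          _ = (z * d) * (z * s) := by rw [e, hxs]
          _ = z * (d * z) * s := by group
          _ = z * z * (d * s) := by rw [h.z_comm hdQ]; group
          _ = d * s := by rw [h.z_sq, one_mul]
      have := key (d * s) (mul_mem hdQ h.hs) (mul_mem hdR hsR)
        (fun q hq hqs => by
          calc q * (d * s) = (q * d) * s := by group
            _ = d * (q * s) := by rw [hcomm q hq hqs]; group
            _ = d * s * q := by rw [hqs]; group)
        (by conv_rhs => rw [← hc]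
            group)
      calc d = d * s * s := by rw [mul_assoc, hs, h.s_sq, mul_one]
        _ = s := by rw [this, one_mul]
  -- `Q ∩ C(s)` fixes `C_R(z)` modulo `⟨s⟩`
  have hfix : ∀ q ∈ Q, q * s = s * q → ∀ f ∈ R, f * z = z * f →
      q * f * q⁻¹ * f⁻¹ = 1 ∨ q * f * q⁻¹ * f⁻¹ = s := by
    intro q hq hqs f hf hfz
    apply hD
    · have := mul_mem hq ((mem_normalizer_iff.mp (h.centralizer_z_le hfz) q⁻¹).mp (inv_mem hq))
      simpa [mul_assoc] using this
    · exact mul_mem (h.R_norm hqs hf) (inv_mem hf)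
  -- hence it maps everything into `C_R(z)`
  have himg : ∀ r ∈ R, (z * r * z * r⁻¹) ∈ R ∧ (z * r * z * r⁻¹) * z = z * (z * r * z * r⁻¹) := by
    intro r hr
    have hiR : z * r * z * r⁻¹ ∈ R := by
      have := mul_mem (h.R_norm hzs hr) (inv_mem hr)
      rwa [h.z_inv] at this
    refine ⟨hiR, hF _ hiR ?_⟩
    set i := z * r * z * r⁻¹ with hi
    have h1 : z * i * z = i⁻¹ := by
      calc z * i * z = (z * z) * (r * z * r⁻¹ * z) := by rw [hi]; group
        _ = r * z⁻¹ * r⁻¹ * z⁻¹ := by rw [h.z_sq, one_mul, h.z_inv]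
        _ = i⁻¹ := by rw [hi]; group
    have h2 : i * i = 1 ∨ i * i = s := by
      have hi' := mem_R.mp hiR
      have e : i * i = g * ((g⁻¹ * i * g) * (g⁻¹ * i * g)) * g⁻¹ := by group
      rcases h.eq_z (sq_mem_center_map h.extra hi') with e' | e' <;> rw [e'] at e
      · left; rw [e]; group
      · exact Or.inr e
    rw [h1]
    rcases h2 with e | e
    · left; calc i⁻¹ * i⁻¹ = (i * i)⁻¹ := by group
            _ = 1 := by rw [e, inv_one]
    · right; calc i⁻¹ * i⁻¹ = (i * i)⁻¹ := by group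
            _ = s := by rw [e, inv_eq_of_mul_eq_one_left (hs ▸ h.s_sq)]
  have hcomm' : ∀ q ∈ Q, q * s = s * q → ∀ r ∈ R,
      q * r * q⁻¹ * r⁻¹ ∈ R ∧ (q * r * q⁻¹ * r⁻¹) * z = z * (q * r * q⁻¹ * r⁻¹) := by
    intro q hq hqs r hr
    have heR : q * r * q⁻¹ * r⁻¹ ∈ R := mul_mem (h.R_norm hqs hr) (inv_mem hr)
    refine ⟨heR, hF _ heR ?_⟩
    obtain ⟨hiR, hiz⟩ := himg r hr
    set i := z * r * z * r⁻¹ with hi
    set e := q * r * q⁻¹ * r⁻¹ with he
    obtain ⟨d, hd, hqi⟩ : ∃ d : G, (d = 1 ∨ d = s) ∧ q * i * q⁻¹ = d * i :=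
      ⟨q * i * q⁻¹ * i⁻¹, hfix q hq hqs i hiR hiz, by group⟩
    have hzq : z * q = q * z := (h.z_comm hq).symm
    have hzq' : q⁻¹ * z = z * q⁻¹ := h.z_comm (inv_mem hq)
    have hzez : z * e * z = (d * i) * e * i⁻¹ := by
      calc z * e * z = (z * q) * r * q⁻¹ * r⁻¹ * z⁻¹ := by rw [he, h.z_inv]; group
        _ = q * (z * r * z) * (z⁻¹ * q⁻¹) * r⁻¹ * z⁻¹ := by rw [hzq]; group
        _ = q * (z * r * z) * (q⁻¹ * z⁻¹) * r⁻¹ * z⁻¹ := by rw [h.z_inv, hzq']
        _ = q * (i * r) * q⁻¹ * (i * r)⁻¹ := by rw [hi]; group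
        _ = (q * i * q⁻¹) * (q * r * q⁻¹ * r⁻¹) * i⁻¹ := by group
        _ = _ := by rw [hqi]
    rw [hzez]
    rcases h.R_commutator hiR heR with c | c <;> rcases hd with rfl | rfl
    · left; simpa using c
    · right
      calc s * i * e * i⁻¹ * e⁻¹ = s * (i * e * i⁻¹ * e⁻¹) := by group
        _ = s := by rw [c, mul_one]
    · right; simpa using c
    · left
      calc s * i * e * i⁻¹ * e⁻¹ = s * (i * e * i⁻¹ * e⁻¹) := by group
        _ = s * s := by rw [c]
        _ = 1 := h.s_sq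
  obtain ⟨q, hq, hqs, p, hp, hps, hqp⟩ := h.exists_noncomm
  have hss : s * s = 1 := h.s_sq
  have hsi : s⁻¹ = s := inv_eq_of_mul_eq_one_left hss
  -- `q p` and `p q` act equally on `R / ⟨s⟩`
  have hswap : ∀ r ∈ R, ∃ c, (c = 1 ∨ c = s) ∧
      (q * p) * r * (q * p)⁻¹ = c * ((p * q) * r * (p * q)⁻¹) := by
    intro r hr
    obtain ⟨hbR, hbz⟩ := hcomm' p hp hps r hr
    obtain ⟨haR, haz⟩ := hcomm' q hq hqs r hr
    set a := q * r * q⁻¹ * r⁻¹ with ha
    set b := p * r * p⁻¹ * r⁻¹ with hb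
    obtain ⟨d, hd, hqb⟩ : ∃ d : G, (d = 1 ∨ d = s) ∧ q * b * q⁻¹ = d * b :=
      ⟨q * b * q⁻¹ * b⁻¹, hfix q hq hqs b hbR hbz, by group⟩
    obtain ⟨d', hd', hpa⟩ : ∃ d : G, (d = 1 ∨ d = s) ∧ p * a * p⁻¹ = d * a :=
      ⟨p * a * p⁻¹ * a⁻¹, hfix p hp hps a haR haz, by group⟩
    obtain ⟨c, hc, hba⟩ : ∃ c : G, (c = 1 ∨ c = s) ∧ b * a = c * (a * b) :=
      ⟨b * a * b⁻¹ * a⁻¹, h.R_commutator hbR haR, by group⟩
    refine ⟨d * c * d'⁻¹, ?_, ?_⟩
    · rcases hd with rfl | rfl <;> rcases hd' with rfl | rfl <;> rcases hc with rfl | rfl <;>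
        simp [hsi, hss]
    · calc (q * p) * r * (q * p)⁻¹ = (q * b * q⁻¹) * (q * r * q⁻¹) := by rw [hb]; group
        _ = d * (b * a) * r := by rw [hqb, ha]; group
        _ = d * c * d'⁻¹ * ((d' * a) * b * r) := by rw [hba]; group
        _ = d * c * d'⁻¹ * ((p * a * p⁻¹) * (p * r * p⁻¹)) := by rw [hpa, hb]; group
        _ = _ := by rw [ha]; group
  -- so `z = [q, p]` fixes `R` modulo `⟨s⟩`, and hence centralizes it
  have hall : ∀ r ∈ R, r * z = z * r := by
    intro r hr
    apply hF r hr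
    have hpq : Commute (p * q) s := Commute.mul_left hps hqs
    have hpq' : (p * q)⁻¹ * s = s * (p * q)⁻¹ := hpq.inv_left.eq
    have hr' : (p * q)⁻¹ * r * (p * q) ∈ R := by
      have := h.R_norm hpq' hr
      rwa [inv_inv] at this
    obtain ⟨c, hc, e⟩ := hswap _ hr'
    have hzeq : q * p * (p * q)⁻¹ = z := by
      calc q * p * (p * q)⁻¹ = (q * p * q⁻¹) * p⁻¹ := by group
        _ = z := by rw [hqp]; group
    have : z * r * z = c * r := by
      calc z * r * z = (q * p * (p * q)⁻¹) * r * (q * p * (p * q)⁻¹)⁻¹ := by rw [hzeq, h.z_inv]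
        _ = (q * p) * ((p * q)⁻¹ * r * (p * q)) * (q * p)⁻¹ := by group
        _ = c * r := by rw [e]; group
    rw [this]
    rcases hc with rfl | rfl
    · left; group
    · right; group
  -- `z` centralizes `R`, so lies in `C(R) = ⟨s⟩ ≤ R`
  have hCR : g⁻¹ * z * g ∈ centralizer (Q : Set G) := by
    rw [mem_centralizer_iff]
    intro y hy
    have := hall (g * y * g⁻¹) (mem_R.mpr (by simpa [mul_assoc] using hy))
    calc y * (g⁻¹ * z * g) = g⁻¹ * ((g * y * g⁻¹) * z) * g := by group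
      _ = _ := by rw [this]; group
  rw [h.hcen] at hCR
  exact hzR (mem_R.mpr (center_map_le hCR))

/-- `z` lies in `Q^g`, and `V = ⟨z, s⟩` has a full `S₃` of automorphisms. -/
theorem exists_swap (h : PairSetting Q z g) :
    ∃ k : G, k * z * k⁻¹ = g * z * g⁻¹ ∧ k * (g * z * g⁻¹) * k⁻¹ = z := by
  obtain ⟨x, hx, hxs⟩ := h.exists_x
  obtain ⟨y, hy, hyz⟩ := h.exists_y
  set s := g * z * g⁻¹ with hs
  have hys : y * s * y⁻¹ = s := by rw [hs, h.R_comm hy]; group
  have hxz : x * z * x⁻¹ = z := by rw [h.z_comm hx]; group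
  have hzs : z * s = s * z := (h.z_comm h.hs).symm
  refine ⟨x * y * x, ?_, ?_⟩
  · calc x * y * x * z * (x * y * x)⁻¹ = x * (y * (x * z * x⁻¹) * y⁻¹) * x⁻¹ := by group
      _ = x * (y * z * y⁻¹) * x⁻¹ := by rw [hxz]
      _ = x * (z * s) * x⁻¹ := by rw [hyz]
      _ = (x * z * x⁻¹) * (x * s * x⁻¹) := by group
      _ = s := by rw [hxz, hxs, ← mul_assoc, h.z_sq, one_mul]
  · calc x * y * x * s * (x * y * x)⁻¹ = x * (y * (x * s * x⁻¹) * y⁻¹) * x⁻¹ := by group
      _ = x * ((y * z * y⁻¹) * (y * s * y⁻¹)) * x⁻¹ := by rw [hxs]; group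
      _ = x * (z * (s * s)) * x⁻¹ := by rw [hyz, hys]; group
      _ = z := by rw [hs, h.s_sq, mul_one, hxz]

/-- Symmetry: `z ∈ Q^g`. -/
theorem z_mem_R (h : PairSetting Q z g) : z ∈ Q.map (MulAut.conj g).toMonoidHom := by
  obtain ⟨k, hk1, hk2⟩ := h.exists_swap
  rw [mem_R]
  have hgk : (g⁻¹ * k) * z = z * (g⁻¹ * k) := by
    calc g⁻¹ * k * z = g⁻¹ * (k * z * k⁻¹) * k := by group
      _ = _ := by rw [hk1]; group
  have := (mem_normalizer_iff.mp (h.centralizer_z_le hgk) _).mp h.hs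
  have e : g⁻¹ * z * g = g⁻¹ * (k * (g * z * g⁻¹) * k⁻¹) * g := by rw [hk2]
  rw [e]
  simpa [mul_assoc] using this

end PairSetting

end Cfsg.Agent.H92

namespace Cfsg.Agent.H92.PairSetting

open Subgroup

variable {G : Type*} [Group G] [Finite G] {Q : Subgroup G} {z g : G}

theorem mem_closure_pair (h : PairSetting Q z g) {a : G}
    (ha : a ∈ closure ({z, g * z * g⁻¹} : Set G)) :
    a = 1 ∨ a = z ∨ a = g * z * g⁻¹ ∨ a = z * (g * z * g⁻¹) := by
  set s := g * z * g⁻¹ with hs
  have hsz : s * z = z * s := h.z_comm h.hs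
  have hzz := h.z_sq
  have hss : s * s = 1 := h.s_sq
  have h3 : ∀ a : G, z * (z * a) = a := fun a => by rw [← mul_assoc, hzz, one_mul]
  have h4 : ∀ a : G, s * (s * a) = a := fun a => by rw [← mul_assoc, hss, one_mul]
  have h5 : ∀ a : G, s * (z * a) = z * (s * a) := fun a => by rw [← mul_assoc, hsz, mul_assoc]
  induction ha using closure_induction with
  | mem a ha => rcases ha with rfl | rfl <;> simp
  | one => simp
  | mul a b _ _ ha hb =>
    rcases ha with rfl | rfl | rfl | rfl <;> rcases hb with rfl | rfl | rfl | rfl <;>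
      simp [mul_assoc, hzz, hss, hsz, h3, h4, h5]
  | inv a _ ha =>
    have hzi := h.z_inv
    have hsi : s⁻¹ = s := inv_eq_of_mul_eq_one_left hss
    rcases ha with rfl | rfl | rfl | rfl <;> simp [hzi, hsi, hsz]

theorem zs_ne (h : PairSetting Q z g) :
    z * (g * z * g⁻¹) ≠ 1 ∧ z * (g * z * g⁻¹) ≠ z ∧ z * (g * z * g⁻¹) ≠ g * z * g⁻¹ := by
  refine ⟨fun e => h.hne ?_, fun e => h.s_ne_one (mul_eq_left.mp e),
    fun e => h.hz1 (mul_eq_right.mp e)⟩
  calc g * z * g⁻¹ = z * (z * (g * z * g⁻¹)) := by rw [← mul_assoc, h.z_sq, one_mul]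
    _ = z := by rw [e, mul_one]

/-- `N(V)` induces the symmetric group on the three involutions of `V = ⟨z, s⟩`. -/
theorem relIndex_centralizer (h : PairSetting Q z g) :
    (centralizer ((closure ({z, g * z * g⁻¹} : Set G) : Subgroup G) : Set G)).relIndex
      (normalizer ((closure ({z, g * z * g⁻¹} : Set G) : Subgroup G) : Set G)) = 6 := by
  classical
  set s := g * z * g⁻¹ with hs
  set V := closure ({z, s} : Set G) with hV
  set N := normalizer (V : Set G) with hN
  obtain ⟨x, hx, hxs⟩ := h.exists_x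
  obtain ⟨y, hy, hyz⟩ := h.exists_y
  obtain ⟨k, hk1, hk2⟩ := h.exists_swap
  rw [← hs] at hxs hyz hk1 hk2
  have hys : y * s * y⁻¹ = s := by rw [hs, h.R_comm hy]; group
  have hxz : x * z * x⁻¹ = z := by rw [h.z_comm hx]; group
  have hzV : z ∈ V := subset_closure (by simp)
  have hsV : s ∈ V := subset_closure (by simp)
  -- anything mapping the generators into `V` normalizes `V`
  have hmem : ∀ n : G, n * z * n⁻¹ ∈ V → n * s * n⁻¹ ∈ V → n ∈ N := by
    intro n h1 h2
    have hle : V ≤ V.comap (MulAut.conj n).toMonoidHom := by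
      rw [hV, closure_le]
      rintro a (rfl | rfl)
      · exact h1
      · exact h2
    refine mem_normalizer_iff.mpr fun a => ⟨fun ha => hle ha, fun ha => ?_⟩
    have := eq_of_le_of_card_ge (H := V.map (MulAut.conj n).toMonoidHom) (K := V)
      (map_le_iff_le_comap.mpr hle)
      (Nat.card_congr (V.equivMapOfInjective _ (MulAut.conj n).injective).toEquiv).le
    rw [← this, mem_map_equiv] at ha
    simpa [mul_assoc] using ha
  let P : Finset (G × G) := {(z, s), (z, z * s), (z * s, s), (s, z), (s, z * s), (z * s, z)}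
  have hP : P.card = 6 := by
    have h1 := h.hne
    obtain ⟨-, h2, h3⟩ := h.zs_ne
    rw [← hs] at h1 h2 h3
    simp [P, h1, h2, h3, Ne.symm h1, Ne.symm h2, Ne.symm h3, mul_ne_left, mul_ne_right, h.hz1,
      h.s_ne_one]
  have hneq : ∀ n : G, n * z * n⁻¹ ≠ n * s * n⁻¹ := fun n e =>
    h.hne (mul_left_cancel (mul_right_cancel e)).symm
  have himg : ∀ n : N, ((n : G) * z * (n : G)⁻¹, (n : G) * s * (n : G)⁻¹) ∈ P := by
    intro n
    have hnV := mem_normalizer_iff.mp n.2
    have a0 : (n : G) * z * (n : G)⁻¹ ≠ 1 := fun e => h.hz1 (conj_eq_one_iff.mp e)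
    have b0 : (n : G) * s * (n : G)⁻¹ ≠ 1 := fun e => h.s_ne_one (conj_eq_one_iff.mp e)
    have hab := hneq n
    rcases h.mem_closure_pair ((hnV z).mp hzV) with ea | ea | ea | ea <;>
      rcases h.mem_closure_pair ((hnV s).mp hsV) with eb | eb | eb | eb <;>
      first
        | exact absurd ea a0
        | exact absurd eb b0
        | exact absurd (ea.trans eb.symm) hab
        | (rw [ea, eb]; simp [P, hs])
  have hcent : ∀ n : N, n ∈ (centralizer (V : Set G)).subgroupOf N ↔
      (n : G) * z * (n : G)⁻¹ = z ∧ (n : G) * s * (n : G)⁻¹ = s := by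
    intro n
    rw [mem_subgroupOf, hV, centralizer_closure, mem_centralizer_iff]
    simp only [Set.mem_insert_iff, Set.mem_singleton_iff, forall_eq_or_imp, forall_eq,
      mul_inv_eq_iff_eq_mul]
    exact and_congr eq_comm eq_comm
  let F : N ⧸ (centralizer (V : Set G)).subgroupOf N → P :=
    Quotient.lift (fun n => (⟨_, himg n⟩ : P)) (by
      intro a b hab
      have hab' := QuotientGroup.leftRel_apply.mp hab
      obtain ⟨e1, e2⟩ := (hcent _).mp hab'
      simp only [Subgroup.coe_mul, InvMemClass.coe_inv] at e1 e2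
      refine Subtype.ext (Prod.ext ?_ ?_)
      · show (a : G) * z * (a : G)⁻¹ = (b : G) * z * (b : G)⁻¹
        calc (a : G) * z * (a : G)⁻¹
            = (a : G) * (((a : G)⁻¹ * b) * z * ((a : G)⁻¹ * b)⁻¹) * (a : G)⁻¹ := by rw [e1]
          _ = _ := by group
      · show (a : G) * s * (a : G)⁻¹ = (b : G) * s * (b : G)⁻¹
        calc (a : G) * s * (a : G)⁻¹
            = (a : G) * (((a : G)⁻¹ * b) * s * ((a : G)⁻¹ * b)⁻¹) * (a : G)⁻¹ := by rw [e2]
          _ = _ := by group)
  have hFinj : Function.Injective F := by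
    rintro ⟨a⟩ ⟨b⟩ e
    apply Quotient.sound
    apply QuotientGroup.leftRel_apply.mpr
    have e' := congrArg Subtype.val e
    obtain ⟨e1, e2⟩ := Prod.mk.injEq _ _ _ _ ▸ e'
    apply (hcent _).mpr
    simp only [Subgroup.coe_mul, InvMemClass.coe_inv]
    constructor
    · calc (a : G)⁻¹ * b * z * ((a : G)⁻¹ * b)⁻¹ = (a : G)⁻¹ * ((b : G) * z * (b : G)⁻¹) * a := by group
        _ = z := by rw [← e1]; group
    · calc (a : G)⁻¹ * b * s * ((a : G)⁻¹ * b)⁻¹ = (a : G)⁻¹ * ((b : G) * s * (b : G)⁻¹) * a := by group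
        _ = s := by rw [← e2]; group
  have hFsurj : Function.Surjective F := by
    have mk : ∀ n a b : G, n * z * n⁻¹ = a → n * s * n⁻¹ = b → a ∈ V → b ∈ V →
        ∃ q, (F q : G × G) = (a, b) := by
      intro n a b ha hb haV hbV
      exact ⟨QuotientGroup.mk ⟨n, hmem n (ha ▸ haV) (hb ▸ hbV)⟩, Prod.ext ha hb⟩
    have hzsV : z * s ∈ V := mul_mem hzV hsV
    rintro ⟨p, hp⟩
    suffices ∃ q, (F q : G × G) = p from this.imp fun q hq => Subtype.ext hq
    simp only [P, Finset.mem_insert, Finset.mem_singleton] at hp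
    rcases hp with rfl | rfl | rfl | rfl | rfl | rfl
    · exact mk 1 _ _ (by group) (by group) hzV hsV
    · exact mk x _ _ hxz hxs hzV hzsV
    · exact mk y _ _ hyz hys hzsV hsV
    · exact mk k _ _ hk1 hk2 hsV hzV
    · refine mk (y * k) _ _ ?_ ?_ hsV hzsV
      · calc y * k * z * (y * k)⁻¹ = y * (k * z * k⁻¹) * y⁻¹ := by group
          _ = s := by rw [hk1, hys]
      · calc y * k * s * (y * k)⁻¹ = y * (k * s * k⁻¹) * y⁻¹ := by group
          _ = z * s := by rw [hk2, hyz]
    · refine mk (x * k) _ _ ?_ ?_ hzsV hzV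
      · calc x * k * z * (x * k)⁻¹ = x * (k * z * k⁻¹) * x⁻¹ := by group
          _ = z * s := by rw [hk1, hxs]
      · calc x * k * s * (x * k)⁻¹ = x * (k * s * k⁻¹) * x⁻¹ := by group
          _ = z := by rw [hk2, hxz]
  rw [Subgroup.relIndex, index_eq_card, Nat.card_eq_of_bijective F ⟨hFinj, hFsurj⟩,
    Nat.card_eq_finsetCard, hP]

end Cfsg.Agent.H92.PairSetting
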