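import Mathlib

set_option autoImplicit false

namespace Cfsg.Agent.H92

open Subgroup

variable {G : Type*} [Group G]

theorem exists_sqrt_mem [Finite G] {K : Subgroup G} (hK : Odd (Nat.card K)) {y : G} (hy : y ∈ K) :
    ∃ r : ℕ, (y ^ r) * (y ^ r) = y := by
  obtain ⟨m, hm⟩ := hK
  refine ⟨m + 1, ?_⟩
  rw [← pow_add, show m + 1 + (m + 1) = (2 * m + 1) + 1 by omega, ← hm, pow_succ]
  have : y ^ Nat.card K = 1 := by
    have := congrArg Subtype.val (pow_card_eq_one' (x := (⟨y, hy⟩ : K)))
    exact this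
  rw [this, one_mul]

theorem eq_one_of_sq_eq_one_odd [Finite G] {K : Subgroup G} (hK : Odd (Nat.card K)) {y : G}
    (hy : y ∈ K) (h : y * y = 1) : y = 1 := by
  obtain ⟨r, hr⟩ := exists_sqrt_mem hK hy
  rw [← hr, ← pow_add, ← two_mul, pow_mul, pow_two, h, one_pow]

/-- A four-group `{1, b, z, b z}` acting on an odd order group `K`: if `z` centralizes the fixed
points of `b` and of `b z` then `z` centralizes `K`. -/
theorem commute_of_fours [Finite G] {K : Subgroup G} (hK : Odd (Nat.card K)) {b z : G}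
    (hb : b * b = 1) (hz : z * z = 1) (hbz : b * z = z * b)
    (hbK : ∀ k ∈ K, b * k * b ∈ K) (hzK : ∀ k ∈ K, z * k * z ∈ K)
    (h1 : ∀ k ∈ K, b * k * b = k → z * k * z = k)
    (h2 : ∀ k ∈ K, (b * z) * k * (b * z) = k → z * k * z = k) :
    ∀ k ∈ K, z * k * z = k := by
  have hb' : b⁻¹ = b := inv_eq_of_mul_eq_one_left hb
  have hz' : z⁻¹ = z := inv_eq_of_mul_eq_one_left hz
  have cz : ∀ k l : G, z * (k * l) * z = (z * k * z) * (z * l * z) := by
    intro k l; simp [mul_assoc, ← mul_assoc z z, hz]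
  have cb : ∀ k l : G, b * (k * l) * b = (b * k * b) * (b * l * b) := by
    intro k l; simp [mul_assoc, ← mul_assoc b b, hb]
  -- the only element of `K` inverted by `z` is the identity
  have key : ∀ i ∈ K, z * i * z = i⁻¹ → i = 1 := by
    intro i hi hzi
    have hy : b * i⁻¹ * b * i ∈ K := K.mul_mem (hbK _ (K.inv_mem hi)) hi
    obtain ⟨r, hr⟩ := exists_sqrt_mem hK hy
    set j := (b * i⁻¹ * b * i) ^ r with hj
    have hjK : j ∈ K := K.pow_mem hy r
    have hbj : b * j * b = j⁻¹ := by
      have h := conj_pow (i := r) (a := b) (b := b * i⁻¹ * b * i)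
      rw [hb'] at h
      rw [hj, ← h, ← inv_pow]
      congr 1
      simp [mul_assoc, ← mul_assoc b b, hb, hb']
    set c := i * j⁻¹ with hc
    have hcK : c ∈ K := K.mul_mem hi (K.inv_mem hjK)
    have hbjinv : b * j⁻¹ * b = j := by
      calc b * j⁻¹ * b = (b * j * b)⁻¹ := by simp [mul_assoc, hb']
        _ = j := by rw [hbj, inv_inv]
    have hbc : b * c * b = c := by
      calc b * c * b = (b * i * b) * (b * j⁻¹ * b) := by rw [hc, cb]
        _ = (b * i * b) * ((j * j) * j⁻¹) := by rw [hbjinv]; group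
        _ = (b * i * b) * ((b * i⁻¹ * b * i) * j⁻¹) := by rw [hr]
        _ = c := by simp [hc, mul_assoc, ← mul_assoc b b, hb]
    have hzc := h1 c hcK hbc
    have hicj : i = c * j := by simp [hc, mul_assoc]
    have hzj : z * j * z = c⁻¹ * j⁻¹ * c⁻¹ := by
      have : c * (z * j * z) = j⁻¹ * c⁻¹ := by
        calc c * (z * j * z) = (z * c * z) * (z * j * z) := by rw [hzc]
          _ = z * i * z := by rw [← cz, ← hicj]
          _ = j⁻¹ * c⁻¹ := by rw [hzi, hicj]; group
      rw [mul_assoc c⁻¹, ← this]; group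
    have hbzj : b * (z * j * z) * b = (z * j * z)⁻¹ := by
      calc b * (z * j * z) * b = (b * z) * j * (z * b) := by group
        _ = (z * b) * j * (b * z) := by rw [hbz]
        _ = z * (b * j * b) * z := by group
        _ = (z * j * z)⁻¹ := by rw [hbj]; simp [mul_assoc, hz']
    have hbcinv : b * c⁻¹ * b = c⁻¹ := by
      calc b * c⁻¹ * b = (b * c * b)⁻¹ := by simp [mul_assoc, hb']
        _ = c⁻¹ := by rw [hbc]
    rw [hzj, cb, cb, hbcinv, hbjinv] at hbzj
    simp only [mul_inv_rev, inv_inv] at hbzj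
    have hinv : j * (c * c) * j⁻¹ = (c * c)⁻¹ := by
      have : j = c * c * j * (c * c) := by
        calc j = c * (c⁻¹ * j * c⁻¹) * c := by group
          _ = c * (c * (j * c)) * c := by rw [hbzj]
          _ = _ := by group
      calc j * (c * c) * j⁻¹ = (c * c)⁻¹ * (c * c * j * (c * c)) * j⁻¹ := by group
        _ = (c * c)⁻¹ := by rw [← this]; group
    have hcomm : Commute (j * j) (c * c) := by
      have h' : j * (c * c)⁻¹ * j⁻¹ = c * c := by
        calc j * (c * c)⁻¹ * j⁻¹ = (j * (c * c) * j⁻¹)⁻¹ := by group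
          _ = c * c := by rw [hinv, inv_inv]
      rw [commute_iff_eq]
      calc j * j * (c * c) = j * (j * (c * c) * j⁻¹) * j := by group
        _ = j * (c * c)⁻¹ * j := by rw [hinv]
        _ = (j * (c * c)⁻¹ * j⁻¹) * (j * j) := by group
        _ = c * c * (j * j) := by rw [h']
    obtain ⟨t, ht⟩ := exists_sqrt_mem hK hjK
    have hjc : Commute j (c * c) := by
      rw [← ht, ← (Commute.refl j).mul_pow]
      exact hcomm.pow_left t
    rw [hjc.eq, mul_inv_cancel_right] at hinv
    have hc2 : c * c = 1 := eq_one_of_sq_eq_one_odd hK (K.mul_mem hcK hcK)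
      (by rw [← inv_eq_iff_mul_eq_one, ← hinv])
    have hc1 : c = 1 := eq_one_of_sq_eq_one_odd hK hcK hc2
    rw [hc1, one_mul] at hicj
    have hfix : (b * z) * i * (b * z) = i := by
      calc (b * z) * i * (b * z) = (b * z) * i * (z * b) := by rw [← hbz]
        _ = b * (z * i * z) * b := by group
        _ = i := by rw [hzi, hicj, hbjinv]
    have := h2 i hi hfix
    rw [hzi] at this
    exact eq_one_of_sq_eq_one_odd hK hi (by rw [← inv_eq_iff_mul_eq_one, this])
  intro k hk
  have hm : k⁻¹ * (z * k * z) ∈ K := K.mul_mem (K.inv_mem hk) (hzK k hk)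
  have := key _ hm (by simp [mul_assoc, ← mul_assoc z z, hz, hz'])
  rw [inv_mul_eq_one] at this
  exact this.symm

end Cfsg.Agent.H92
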