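import Mathlib
import Cfsg.Agent.H92.Extra
import Cfsg.Agent.H92.Pair
import Cfsg.Agent.H92.LargeSimple
import Cfsg.Agent.H92.ExtraIso
import Cfsg.Agent.S5422

/-!
Tools for largeness in sections: recognising extraspecial groups by a centre of order two, fixed
points of odd order groups in extraspecial groups, and the conjugation criterion.
-/

set_option autoImplicit false
set_option linter.style.haveILetI false

namespace Cfsg.Agent.H92

open Subgroup
open scoped commutatorElement

theorem isExtraspecial_of_center_two {P : Type*} [Group P] [Finite P] (hp : IsPGroup 2 P) {ζ : P}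
    (hζ1 : ζ ≠ 1) (hζc : ∀ y, y * ζ = ζ * y)
    (hcen : ∀ x : P, (∀ y, y * x = x * y) → x = 1 ∨ x = ζ)
    (hcomm : ∀ x y : P, x * y * x⁻¹ * y⁻¹ = 1 ∨ x * y * x⁻¹ * y⁻¹ = ζ)
    (hsq : ∀ x : P, x * x = 1 ∨ x * x = ζ) (hcard : 2 < Nat.card P) : Cfsg.IsExtraspecial 2 P := by
  haveI : Fact (Nat.Prime 2) := ⟨Nat.prime_two⟩
  have hmem : ∀ x : P, x ∈ center P ↔ (x = 1 ∨ x = ζ) := fun x => by
    rw [mem_center_iff]
    refine ⟨hcen x, ?_⟩
    rintro (rfl | rfl)
    · simp
    · exact hζc
  have hc2 : Nat.card (center P) = 2 := by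
    rw [Nat.card_eq_two_iff' (⟨1, one_mem _⟩ : center P)]
    refine ⟨⟨ζ, (hmem ζ).mpr (Or.inr rfl)⟩, by simpa [Subtype.ext_iff] using hζ1, ?_⟩
    rintro ⟨y, hy⟩ hy1
    rcases (hmem y).mp hy with rfl | rfl
    · exact absurd rfl hy1
    · rfl
  have hle : commutator P ≤ center P := by
    rw [commutator_def, Subgroup.commutator_le]
    intro x _ y _
    exact (hmem _).mpr (hcomm x y)
  have hne : commutator P ≠ ⊥ := by
    intro h
    have htop : center P = ⊤ := by
      rw [eq_top_iff]
      intro x _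
      rw [mem_center_iff]
      intro y
      have h1 : ⁅y, x⁆ ∈ commutator P := commutator_mem_commutator (mem_top _) (mem_top _)
      rw [h, mem_bot] at h1
      exact commutatorElement_eq_one_iff_mul_comm.mp h1
    rw [htop, Nat.card_congr topEquiv.toEquiv] at hc2
    omega
  have heq : commutator P = center P :=
    eq_of_le_of_card_ge hle (hc2.le.trans ((commutator P).one_lt_card_iff_ne_bot.mpr hne))
  refine ⟨⟨hp, le_antisymm ?_ ?_, heq⟩, hc2⟩
  · refine Cfsg.Agent.PGroups.frattini_le_of_commutator_le (p := 2) _ hle (fun x => ?_)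
    rw [pow_two]
    exact (hmem _).mpr (hsq x)
  · rw [← heq]
    exact Cfsg.Agent.PGroups.commutator_le_frattini hp

variable {G : Type*} [Group G] [Finite G]

open scoped IsMulCommutative in
/-- An element of an extraspecial group fixed by an odd order group `A` and centralising all fixed
points of `A` is central. -/
theorem commute_all_of_fixed {Q A : Subgroup G} (hQ : Cfsg.IsExtraspecial 2 Q)
    (hA : Odd (Nat.card A)) (hn : ∀ a ∈ A, ∀ q ∈ Q, a * q * a⁻¹ ∈ Q) {x : G} (hx : x ∈ Q)
    (hxA : ∀ a ∈ A, a * x = x * a)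
    (hxR : ∀ r ∈ Q, (∀ a ∈ A, a * r = r * a) → r * x = x * r) : ∀ q ∈ Q, q * x = x * q := by
  classical
  haveI : Fact (Nat.Prime 2) := ⟨Nat.prime_two⟩
  haveI : Fintype A := Fintype.ofFinite _
  have hc := PGroups.isSpecial_commutator_le hQ.1
  let σ : A → (↥Q →* ↥Q) := fun a =>
    { toFun := fun q => ⟨(a : G) * q * (a : G)⁻¹, hn a a.2 q q.2⟩
      map_one' := Subtype.ext (by simp)
      map_mul' := fun p q => Subtype.ext (by simp [mul_assoc]) }
  have hσm : ∀ (a b : A) (v : Q), σ (a * b) v = σ a (σ b v) := fun a b v =>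
    Subtype.ext (by simp [σ, mul_assoc])
  have hσ1 : ∀ v : Q, σ 1 v = v := fun v => Subtype.ext (by simp [σ])
  have hσc : ∀ a, ∀ c ∈ center ↥Q, σ a c = c := by
    intro a c hc'
    by_cases hc1 : c = 1
    · rw [hc1, map_one]
    have h1 : σ a c ∈ center ↥Q := by
      rw [mem_center_iff]
      intro v
      have e : v = σ a (σ a⁻¹ v) := by rw [← hσm, mul_inv_cancel, hσ1]
      rw [e, ← map_mul, ← map_mul, mem_center_iff.mp hc' (σ a⁻¹ v)]
    refine eq_of_mem_of_card_two hQ.2 h1 (fun h => hc1 ?_) hc' hc1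
    rw [← hσ1 c, ← inv_mul_cancel a, hσm, h, map_one]
  letI : CommGroup (↥Q ⧸ center ↥Q) :=
    { (inferInstance : Group (↥Q ⧸ center ↥Q)) with
      mul_comm := fun p q => by
        induction p using QuotientGroup.induction_on with | H a =>
        induction q using QuotientGroup.induction_on with | H b =>
        refine QuotientGroup.eq.mpr ?_
        have := hc (commutator_mem_commutator (mem_top b⁻¹) (mem_top a⁻¹))
        simpa [commutatorElement_def, mul_assoc] using this }
  intro q hq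
  obtain ⟨u, hu⟩ := QuotientGroup.mk'_surjective (center ↥Q)
    (∏ a : A, QuotientGroup.mk' (center ↥Q) (σ a ⟨q, hq⟩))
  have hfix : ∀ b : A, σ b u = u := by
    intro b
    let ψ : ↥Q ⧸ center ↥Q →* ↥Q ⧸ center ↥Q := QuotientGroup.map _ _ (σ b)
      (fun c hc' => by rw [mem_comap, hσc b c hc']; exact hc')
    have h1 : QuotientGroup.mk' (center ↥Q) (σ b u) = QuotientGroup.mk' (center ↥Q) u := by
      have e : ψ (QuotientGroup.mk' (center ↥Q) u) = QuotientGroup.mk' (center ↥Q) (σ b u) := rfl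
      rw [← e, hu, map_prod]
      refine Fintype.prod_equiv (Equiv.mulLeft b) _ _ (fun a => ?_)
      show QuotientGroup.mk' (center ↥Q) (σ b (σ a ⟨q, hq⟩)) = _
      rw [Equiv.coe_mulLeft, hσm]
    have hε : u⁻¹ * σ b u ∈ center ↥Q := QuotientGroup.eq.mp h1.symm
    set ε := u⁻¹ * σ b u with hεdef
    have hpow : ∀ k : ℕ, σ (b ^ k) u = u * ε ^ k := by
      intro k
      induction k with
      | zero => rw [pow_zero, pow_zero, mul_one, hσ1]
      | succ k ih =>
        rw [pow_succ', hσm, ih, map_mul, map_pow, hσc b ε hε, show σ b u = u * ε by rw [hεdef]; group,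
          pow_succ', mul_assoc]
    have h2 := hpow (orderOf b)
    rw [pow_orderOf_eq_one, hσ1, left_eq_mul] at h2
    have hodd : Odd (orderOf b) := hA.of_dvd_nat (orderOf_dvd_natCard b)
    obtain ⟨m, hm⟩ := hodd
    rw [hm, pow_succ, pow_mul, PGroups.isSpecial_center_pow hQ.1 hε, one_pow, one_mul] at h2
    calc σ b u = u * ε := by rw [hεdef]; group
      _ = u := by rw [h2, mul_one]
  let χ := PGroups.commutatorHom hc (⟨x, hx⟩ : ↥Q)
  have hχc : center ↥Q ≤ χ.ker := fun c hc' => Subtype.ext (by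
    rw [PGroups.commutatorHom_apply, commutatorElement_eq_one_iff_mul_comm.mpr
      (mem_center_iff.mp hc' ⟨x, hx⟩).symm]
    rfl)
  have hχσ : ∀ a v, χ (σ a v) = χ v := by
    intro a v
    apply Subtype.ext
    rw [PGroups.commutatorHom_apply, PGroups.commutatorHom_apply]
    have e : σ a (⟨x, hx⟩ : ↥Q) = ⟨x, hx⟩ :=
      Subtype.ext (show (a : G) * x * (a : G)⁻¹ = x by rw [hxA a a.2, mul_inv_cancel_right])
    conv_lhs => rw [← e, ← map_commutatorElement]
    exact hσc a _ (PGroups.commutatorElement_mem_center hc _ _)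
  have hu1 : χ u = 1 := by
    apply Subtype.ext
    rw [PGroups.commutatorHom_apply, OneMemClass.coe_one, commutatorElement_eq_one_iff_mul_comm]
    refine Subtype.ext (hxR u u.2 fun a ha => ?_)
    exact mul_inv_eq_iff_eq_mul.mp (congrArg Subtype.val (hfix ⟨a, ha⟩))
  have h3 : χ u = χ ⟨q, hq⟩ ^ Nat.card A := by
    have := congrArg (QuotientGroup.lift _ χ hχc) hu
    rw [map_prod] at this
    simp only [QuotientGroup.mk'_apply, QuotientGroup.lift_mk, hχσ, Finset.prod_const,
      Finset.card_univ] at this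
    rw [this, Nat.card_eq_fintype_card]
  have h4 : χ ⟨q, hq⟩ ^ 2 = 1 :=
    Subtype.ext (PGroups.isSpecial_center_pow hQ.1 (χ ⟨q, hq⟩).2)
  obtain ⟨m, hm⟩ := hA
  rw [hu1, hm, pow_succ, pow_mul, h4, one_pow, one_mul] at h3
  have h5 := congrArg Subtype.val h3.symm
  rw [PGroups.commutatorHom_apply, OneMemClass.coe_one, commutatorElement_eq_one_iff_mul_comm] at h5
  exact congrArg Subtype.val h5

/-- Two moves give a conjugation. -/
theorem exists_swap_of_moves {z s x y : G} (hss : s * s = 1) (hx : x * s * x⁻¹ = z * s)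
    (hy : y * z * y⁻¹ = z * s) (hys : y * s = s * y) :
    (y * x) * s * (y * x)⁻¹ = z := by
  calc (y * x) * s * (y * x)⁻¹ = y * (x * s * x⁻¹) * y⁻¹ := by group
    _ = (y * z * y⁻¹) * (y * s * y⁻¹) := by rw [hx]; group
    _ = z := by rw [hy, hys, mul_inv_cancel_right, mul_assoc, hss, mul_one]

/-- The conjugation criterion for largeness. -/
theorem large_of_conj {P : Subgroup G} {z g : G} (hP : Cfsg.IsExtraspecial 2 P)
    (h32 : 32 ≤ Nat.card P) (hz : z ∈ (center P).map P.subtype) (hz1 : z ≠ 1)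
    (hL2 : ∀ c ∈ centralizer (P : Set G), c ∈ P)
    (hL3 : ∀ c, c * z = z * c → ∀ q ∈ P, c * q * c⁻¹ ∈ P)
    (hs : g * z * g⁻¹ ∈ P) (hne : g * z * g⁻¹ ≠ z) : Cfsg.IsLargeExtraspecial P := by
  haveI : Fact (Nat.Prime 2) := ⟨Nat.prime_two⟩
  obtain ⟨m, hm, hcard⟩ := PGroups.isExtraspecial_card hP
  have hm2 : 2 ≤ m := by
    by_contra h
    have : m = 1 := by omega
    subst this
    omega
  have h2 : centralizer (P : Set G) = (center P).map P.subtype :=
    le_antisymm (fun c hc => center_map_eq_inf.ge ⟨hL2 c hc, hc⟩) center_map_le_centralizer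
  have h3 : centralizer (((center P).map P.subtype : Subgroup G) : Set G) ≤
      normalizer (P : Set G) := by
    intro c hc
    have hcz : c * z = z * c := (mem_centralizer_iff.mp hc z hz).symm
    refine mem_normalizer_iff.mpr fun q => ⟨fun hq => hL3 c hcz q hq, fun hq => ?_⟩
    simpa [mul_assoc] using hL3 c⁻¹ (Commute.inv_left (hcz : Commute c z)).eq _ hq
  refine (Cfsg.Agent.S5422.result P hP h2 h3 m hm2 hcard g ?_ ?_).2.2
  · intro h
    rcases eq_one_or_center hP hz hz1 ((mem_normalizer_iff.mp h z).mp hz) with e | e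
    · exact hz1 (conj_eq_one_iff.mp e)
    · exact hne e
  · rintro _ ⟨a, ha, rfl⟩
    rcases eq_one_or_center hP hz hz1 ha with rfl | rfl
    · simp
    · simpa using hs

end Cfsg.Agent.H92
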