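import Mathlib

set_option autoImplicit false

namespace Cfsg.Agent.H92.F2Forms

/-- The non-trivial character of `ZMod 2`. -/
def chi (a : ZMod 2) : ℤ := if a = 0 then 1 else -1

theorem chi_add : ∀ a b : ZMod 2, chi (a + b) = chi a * chi b := by decide

theorem chi_sum {ι : Type*} (s : Finset ι) (f : ι → ZMod 2) :
    chi (∑ i ∈ s, f i) = ∏ i ∈ s, chi (f i) := by
  classical
  induction s using Finset.induction_on with
  | empty => simp [chi]
  | insert i t hi ih => rw [Finset.sum_insert hi, Finset.prod_insert hi, chi_add, ih]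

variable {V : Type*} [AddCommGroup V] [Fintype V]

/-- Orthogonality relation. -/
theorem sum_chi_hom (W : AddSubgroup V) [Fintype W] (f : V →+ ZMod 2) [Decidable (∀ w ∈ W, f w = 0)] :
    ∑ w : W, chi (f w) = if ∀ w ∈ W, f w = 0 then (Fintype.card W : ℤ) else 0 := by
  split_ifs with h
  · rw [Finset.sum_congr rfl (fun w _ => by rw [h w w.2])]
    simp [chi]
  · push Not at h
    obtain ⟨w₀, hw₀, hne⟩ := h
    have h1 : f w₀ = 1 := by revert hne; generalize f w₀ = a; revert a; decide
    have key : ∑ w : W, chi (f w) = -∑ w : W, chi (f w) := by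
      rw [← Finset.sum_neg_distrib]
      refine Fintype.sum_equiv (Equiv.addRight (⟨w₀, hw₀⟩ : W)) _ _ (fun w => ?_)
      simp only [Equiv.coe_addRight, AddSubgroup.coe_add, map_add, h1]
      generalize f (w : V) = a; revert a; decide
    omega

/-- The orthogonal subgroup. -/
def perp (B : V →+ V →+ ZMod 2) (W : AddSubgroup V) : AddSubgroup V where
  carrier := {v | ∀ w ∈ W, B v w = 0}
  zero_mem' := fun w _ => by simp
  add_mem' := fun {a b} ha hb w hw => by simp [ha w hw, hb w hw]
  neg_mem' := fun {a} ha w hw => by simp [ha w hw]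

theorem mem_perp {B : V →+ V →+ ZMod 2} {W : AddSubgroup V} {v : V} :
    v ∈ perp B W ↔ ∀ w ∈ W, B v w = 0 := Iff.rfl

theorem card_perp (B : V →+ V →+ ZMod 2) (hB : ∀ w, (∀ v, B v w = 0) → w = 0) (W : AddSubgroup V) :
    Nat.card (perp B W) * Nat.card W = Nat.card V := by
  classical
  have e1 : ∑ v : V, ∑ w : W, chi (B v w) = (Fintype.card V : ℤ) := by
    rw [Finset.sum_comm, Finset.sum_eq_single (0 : W)]
    · simp [chi]
    · intro w _ hw
      have hne : ¬ ∀ v ∈ (⊤ : AddSubgroup V), B.flip (w : V) v = 0 := fun h =>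
        hw (Subtype.ext (hB w fun v => h v (AddSubgroup.mem_top v)))
      have := sum_chi_hom (⊤ : AddSubgroup V) (B.flip (w : V))
      rw [if_neg hne] at this
      rw [← this]
      exact Fintype.sum_equiv AddSubgroup.topEquiv.symm.toEquiv _ _ (fun v => rfl)
    · simp
  have e2 : ∑ v : V, ∑ w : W, chi (B v w) = (Fintype.card (perp B W) : ℤ) * Fintype.card W := by
    simp only [sum_chi_hom W]
    rw [← Finset.sum_filter, Finset.sum_const, nsmul_eq_mul]
    congr 2
    rw [Fintype.card_subtype]
    simp [mem_perp]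
  simp only [Nat.card_eq_fintype_card]
  exact_mod_cast e2.symm.trans e1

/-- Data of a quadratic form. -/
structure IsQuad (q : V → ZMod 2) (B : V →+ V →+ ZMod 2) : Prop where
  add : ∀ v w, q (v + w) = q v + q w + B v w
  nondeg : ∀ w, (∀ v, B v w = 0) → w = 0

theorem IsQuad.le_perp {q : V → ZMod 2} {B : V →+ V →+ ZMod 2} (h : IsQuad q B) {W : AddSubgroup V}
    (hW : ∀ w ∈ W, q w = 0) : W ≤ perp B W := by
  intro v hv w hw
  have := h.add v w
  rw [hW v hv, hW w hw, hW _ (W.add_mem hv hw)] at this
  simpa using this.symm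

theorem IsQuad.card_sq_le {q : V → ZMod 2} {B : V →+ V →+ ZMod 2} (h : IsQuad q B) {W : AddSubgroup V}
    (hW : ∀ w ∈ W, q w = 0) : Nat.card W * Nat.card W ≤ Nat.card V := by
  rw [← card_perp B h.nondeg W]
  exact Nat.mul_le_mul_right _ (AddSubgroup.card_le_of_le (h.le_perp hW))

/-- A maximal totally singular subgroup computes the Gauss sum. -/
theorem IsQuad.gauss {q : V → ZMod 2} {B : V →+ V →+ ZMod 2} (h : IsQuad q B) {W : AddSubgroup V}
    (hW : ∀ w ∈ W, q w = 0) (hc : Nat.card W * Nat.card W = Nat.card V) :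
    ∑ v : V, chi (q v) = (Nat.card W : ℤ) := by
  classical
  have hperp : perp B W = W := by
    refine (AddSubgroup.eq_of_le_of_card_ge (h.le_perp hW) ?_).symm
    have := card_perp B h.nondeg W
    rw [← hc] at this
    exact (Nat.eq_of_mul_eq_mul_right Nat.card_pos this).le
  have hshift : ∀ w : W, ∑ v : V, chi (q v) = ∑ v : V, chi (q (v + w)) :=
    fun w => (Fintype.sum_equiv (Equiv.addRight (w : V)) (fun v => chi (q (v + w))) (fun v => chi (q v))
      (fun v => rfl)).symm
  have key : (Fintype.card W : ℤ) * ∑ v : V, chi (q v) = (Fintype.card W : ℤ) * Fintype.card W := by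
    calc (Fintype.card W : ℤ) * ∑ v : V, chi (q v) = ∑ w : W, ∑ v : V, chi (q (v + w)) := by
          rw [← Finset.sum_congr rfl (fun w _ => hshift w), Finset.sum_const, Finset.card_univ,
            nsmul_eq_mul]
      _ = ∑ v : V, chi (q v) * ∑ w : W, chi (B v w) := by
          rw [Finset.sum_comm]
          refine Finset.sum_congr rfl (fun v _ => ?_)
          rw [Finset.mul_sum]
          refine Finset.sum_congr rfl (fun w _ => ?_)
          rw [h.add, hW w w.2, add_zero, chi_add]
      _ = ∑ v : V, if v ∈ W then (Fintype.card W : ℤ) else 0 := by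
          refine Finset.sum_congr rfl (fun v _ => ?_)
          rw [sum_chi_hom W (B v)]
          by_cases hv : v ∈ W
          · rw [if_pos (mem_perp.mp (hperp.ge hv)), if_pos hv, hW v hv]; simp [chi]
          · rw [if_neg (fun hh => hv (hperp.le (mem_perp.mpr hh))), if_neg hv, mul_zero]
      _ = _ := by
          rw [← Finset.sum_filter, Finset.sum_const, nsmul_eq_mul]
          congr 2
          rw [Fintype.card_subtype]
  rw [Nat.card_eq_fintype_card]
  exact mul_left_cancel₀ (by exact_mod_cast Fintype.card_ne_zero) key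

end Cfsg.Agent.H92.F2Forms
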