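import Mathlib
import Cfsg.Prelude.Def_Transfer
import Cfsg.Prelude.Def_KGroupFacts
import Cfsg.Agent.Orthogonal.StdForms
import Cfsg.Agent.H56.FormsTwo
import Cfsg.Agent.H92.F2Forms
import Cfsg.Agent.PGroups.Extraspecial
import Cfsg.Agent.S5395

/-!
The quadratic space of an extraspecial 2-group and its outer automorphism group.
-/

set_option autoImplicit false
set_option linter.style.haveILetI false

namespace Cfsg.Agent.H92.ExtraForm

open Subgroup QuadraticMap Cfsg.Agent.Orthogonal
open scoped commutatorElement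

theorem two_cases : ∀ a : ZMod 2, a = 0 ∨ a = 1 := by decide

/-- `a ↦ z ^ a` -/
def zp {E : Type*} [Group E] (z : E) (a : ZMod 2) : E := if a = 0 then 1 else z

theorem zp_add {E : Type*} [Group E] {z : E} (hz : z * z = 1) (a b : ZMod 2) :
    zp z (a + b) = zp z a * zp z b := by
  rcases two_cases a with rfl | rfl <;> rcases two_cases b with rfl | rfl <;>
    simp [zp, hz, show (1 : ZMod 2) + 1 = 0 from rfl]

theorem zp_inj {E : Type*} [Group E] {z : E} (hz : z ≠ 1) {a b : ZMod 2} (h : zp z a = zp z b) :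
    a = b := by
  rcases two_cases a with rfl | rfl <;> rcases two_cases b with rfl | rfl <;>
    first | rfl | (simp [zp] at h; first | exact absurd h hz | exact absurd h.symm hz)

/-- An extraspecial 2-group as a central extension of a quadratic space. -/
structure FormMap (E : Type*) [Group E] (U : Type*) [AddCommGroup U] [Module (ZMod 2) U]
    (Q : QuadraticForm (ZMod 2) U) where
  π : E → U
  z : E
  π_mul : ∀ x y, π (x * y) = π x + π y
  surj : Function.Surjective π
  mem_center : ∀ x, x ∈ center E ↔ (x = 1 ∨ x = z)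
  π_eq_zero : ∀ x, π x = 0 ↔ (x = 1 ∨ x = z)
  hz : z ≠ 1
  hzz : z * z = 1
  sq : ∀ x, x * x = zp z (Q (π x))
  comm : ∀ x y, y * x = x * y * zp z (polar Q (π x) (π y))

/-- Every extraspecial 2-group has a form. -/
theorem exists_formMap {E : Type*} [Group E] [Finite E] (hE : Cfsg.IsExtraspecial 2 E) (n : ℕ)
    (hn : 1 ≤ n) (hcard : Nat.card E = 2 ^ (2 * n + 1)) :
    Nonempty (FormMap E (Fin n ⊕ Fin n → ZMod 2) (formPlus (ZMod 2) n)) ∨
      Nonempty (FormMap E ((Fin (n - 1) ⊕ Fin (n - 1)) ⊕ Fin 2 → ZMod 2)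
        (formMinus (ZMod 2) (n - 1) 1 1)) := by
  classical
  haveI : Fact (Nat.Prime 2) := ⟨Nat.prime_two⟩
  have hc2 := hE.2
  obtain ⟨⟨z, hzC⟩, hz1', huniq⟩ := (Nat.card_eq_two_iff' (⟨1, one_mem _⟩ : center E)).mp hc2
  have hz1 : z ≠ 1 := fun e => hz1' (Subtype.ext e)
  have hmem : ∀ x, x ∈ center E ↔ (x = 1 ∨ x = z) := by
    intro x
    refine ⟨fun hx => ?_, ?_⟩
    · by_cases h1 : x = 1
      · exact Or.inl h1
      · exact Or.inr (congrArg Subtype.val (huniq ⟨x, hx⟩ (fun e => h1 (congrArg Subtype.val e))))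
    · rintro (rfl | rfl)
      · exact one_mem _
      · exact hzC
  have hzz : z * z = 1 := by
    rcases (hmem _).mp (mul_mem hzC hzC) with e | e
    · exact e
    · exact absurd (mul_eq_left.mp e) hz1
  have hzinv : z⁻¹ = z := inv_eq_of_mul_eq_one_right hzz
  have hC := PGroups.isSpecial_commutator_le hE.1
  have hsqC : ∀ x : E, x * x ∈ center E := fun x => by
    simpa [pow_two] using PGroups.isSpecial_pow_mem_center hE.1 x
  let q₀ : E → ZMod 2 := fun x => if x * x = 1 then 0 else 1
  have hq₀ : ∀ x, x * x = zp z (q₀ x) := by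
    intro x
    by_cases h : x * x = 1
    · simp [q₀, zp, h]
    · simp only [q₀, zp, if_neg h, one_ne_zero, if_false]
      exact ((hmem _).mp (hsqC x)).resolve_left h
  let b₀ : E → E → ZMod 2 := fun x y => if y * x = x * y then 0 else 1
  have hb₀ : ∀ x y, y * x = x * y * zp z (b₀ x y) := by
    intro x y
    by_cases h : y * x = x * y
    · simp [b₀, zp, h]
    · simp only [b₀, zp, if_neg h, one_ne_zero, if_false]
      have h1 : (x * y)⁻¹ * (y * x) ∈ center E := by
        have := hC (commutator_mem_commutator (mem_top y⁻¹) (mem_top x⁻¹))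
        simpa [commutatorElement_def, mul_assoc] using this
      rcases (hmem _).mp h1 with e | e
      · exact absurd (inv_mul_eq_one.mp e).symm h
      · rw [← e, mul_inv_cancel_left]
  have hzp : ∀ a, zp z a ∈ center E := fun a => by
    rcases two_cases a with rfl | rfl <;> simp [zp, hzC]
  have hzc : ∀ a (x : E), x * zp z a = zp z a * x := fun a x => mem_center_iff.mp (hzp a) x
  have hb₀add : ∀ x x' y, b₀ (x * x') y = b₀ x y + b₀ x' y := by
    intro x x' y
    apply zp_inj hz1
    rw [zp_add hzz]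
    have h1 := hb₀ (x * x') y
    have h2 : y * (x * x') = x * x' * y * (zp z (b₀ x y) * zp z (b₀ x' y)) := by
      calc y * (x * x') = (y * x) * x' := by group
        _ = x * y * (zp z (b₀ x y) * x') := by rw [hb₀ x y]; group
        _ = x * (y * x') * zp z (b₀ x y) := by rw [← hzc]; group
        _ = _ := by rw [hb₀ x' y, ← hzc]; group
    exact mul_left_cancel (h1.symm.trans h2)
  have hq₀mul : ∀ x y, q₀ (x * y) = q₀ x + q₀ y + b₀ x y := by
    intro x y
    apply zp_inj hz1
    rw [zp_add hzz, zp_add hzz, ← hq₀, ← hq₀, ← hq₀]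
    calc x * y * (x * y) = x * (y * x) * y := by group
      _ = x * (x * y) * (zp z (b₀ x y) * y) := by rw [hb₀ x y]; group
      _ = _ := by rw [← hzc]; group
  have hq₀c : ∀ c ∈ center E, q₀ c = 0 := fun c hc => by
    rcases (hmem c).mp hc with rfl | rfl <;> simp [q₀, hzz]
  have hb₀c : ∀ c ∈ center E, ∀ x, b₀ x c = 0 := fun c hc x => by
    simp [b₀, (mem_center_iff.mp hc x).symm]
  letI : CommGroup (E ⧸ center E) :=
    { (inferInstance : Group (E ⧸ center E)) with
      mul_comm := fun p q => by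
        induction p using QuotientGroup.induction_on with | H a =>
        induction q using QuotientGroup.induction_on with | H b =>
        refine QuotientGroup.eq.mpr ?_
        show (a * b)⁻¹ * (b * a) ∈ center E
        rw [hb₀ a b, inv_mul_cancel_left]
        exact hzp _ }
  letI : Module (ZMod 2) (Additive (E ⧸ center E)) := AddCommGroup.zmodModule (fun v => by
    obtain ⟨p, rfl⟩ := Additive.ofMul.surjective v
    induction p using QuotientGroup.induction_on with | H a =>
    rw [two_nsmul, ← ofMul_mul, ← QuotientGroup.mk_mul, (QuotientGroup.eq_one_iff _).mpr (hsqC a),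
      ofMul_one])
  let mk : E → Additive (E ⧸ center E) := fun x => Additive.ofMul (QuotientGroup.mk x)
  have mk_mul : ∀ x y, mk (x * y) = mk x + mk y := fun x y => rfl
  have mk_surj : Function.Surjective mk := fun v => by
    obtain ⟨p, rfl⟩ := Additive.ofMul.surjective v
    induction p using QuotientGroup.induction_on with | H a => exact ⟨a, rfl⟩
  have mk_zero : ∀ x, mk x = 0 ↔ x ∈ center E := fun x => QuotientGroup.eq_one_iff x
  let qV : Additive (E ⧸ center E) → ZMod 2 := fun v => Quotient.liftOn' (Additive.toMul v) q₀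
    (fun a b hab => by
      have hc : a⁻¹ * b ∈ center E := QuotientGroup.leftRel_apply.mp hab
      have e := hq₀mul a (a⁻¹ * b)
      rw [mul_inv_cancel_left, hq₀c _ hc, hb₀c _ hc, add_zero, add_zero] at e
      exact e.symm)
  have qV_mk : ∀ x, qV (mk x) = q₀ x := fun x => rfl
  have hpol : ∀ x y, polar qV (mk x) (mk y) = b₀ x y := by
    intro x y
    rw [polar, ← mk_mul, qV_mk, qV_mk, qV_mk, hq₀mul]; ring
  let Q : QuadraticForm (ZMod 2) (Additive (E ⧸ center E)) := QuadraticMap.ofPolar qV
    (fun a v => by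
      rcases two_cases a with rfl | rfl
      · rw [zero_smul, zero_mul, zero_smul, show (0 : Additive (E ⧸ center E)) = mk 1 from rfl,
          qV_mk, hq₀c 1 (one_mem _)]
      · rw [one_smul, one_mul, one_smul])
    (fun u v w => by
      obtain ⟨a, rfl⟩ := mk_surj u; obtain ⟨b, rfl⟩ := mk_surj v; obtain ⟨c, rfl⟩ := mk_surj w
      rw [← mk_mul, hpol, hpol, hpol, hb₀add])
    (fun a u v => by
      obtain ⟨x, rfl⟩ := mk_surj u; obtain ⟨y, rfl⟩ := mk_surj v
      rcases two_cases a with rfl | rfl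
      · rw [zero_smul, zero_smul, polar, zero_add,
          show qV 0 = 0 from (qV_mk 1).trans (hq₀c 1 (one_mem _))]
        ring
      · rw [one_smul, one_smul])
  have hQpol : ∀ x y, polar (⇑Q) (mk x) (mk y) = b₀ x y := hpol
  have hnd : Nondeg Q := by
    intro u hu
    obtain ⟨x, rfl⟩ := mk_surj u
    rw [mk_zero, mem_center_iff]
    intro y
    have := hu (mk y)
    rw [hQpol] at this
    rw [hb₀ x y, this]; simp [zp]
  haveI : Finite (Additive (E ⧸ center E)) := inferInstanceAs (Finite (E ⧸ center E))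
  have hdim : Module.finrank (ZMod 2) (Additive (E ⧸ center E)) = 2 * n := by
    have h1 : Nat.card (Additive (E ⧸ center E)) * 2 = 2 ^ (2 * n + 1) := by
      rw [← hcard, ← card_mul_index (center E), hc2, index_eq_card, mul_comm]
      rfl
    rw [Module.natCard_eq_pow_finrank (K := ZMod 2), Nat.card_zmod, ← pow_succ] at h1
    have := Nat.pow_right_injective (le_refl 2) h1
    omega
  obtain ⟨m, rfl⟩ : ∃ m, n = m + 1 := ⟨n - 1, by omega⟩
  have build : ∀ {U : Type} [AddCommGroup U] [Module (ZMod 2) U] (Q' : QuadraticForm (ZMod 2) U)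
      (e : U ≃ₗ[ZMod 2] Additive (E ⧸ center E)), (∀ x, Q (e x) = Q' x) →
      Nonempty (FormMap E U Q') := by
    intro U _ _ Q' e he
    have hQ' : ∀ v, Q' (e.symm v) = Q v := fun v => by rw [← he, e.apply_symm_apply]
    refine ⟨{ π := fun x => e.symm (mk x), z := z, π_mul := fun x y => by rw [mk_mul, map_add]
              surj := fun u => ?_, mem_center := hmem, π_eq_zero := fun x => ?_, hz := hz1,
              hzz := hzz, sq := fun x => ?_, comm := fun x y => ?_ }⟩
    · obtain ⟨x, hx⟩ := mk_surj (e u)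
      exact ⟨x, show e.symm (mk x) = u by rw [hx, e.symm_apply_apply]⟩
    · rw [LinearEquiv.map_eq_zero_iff, mk_zero, hmem]
    · rw [hQ']; exact hq₀ x
    · have : polar (⇑Q') (e.symm (mk x)) (e.symm (mk y)) = b₀ x y := by
        rw [polar, ← map_add, hQ', hQ', hQ', ← hQpol]; rfl
      rw [this]; exact hb₀ x y
  rcases hnd.classify_even (m := m) hdim with ⟨e, he⟩ | ⟨ζ, e, hζ, he⟩
  · exact Or.inl (build _ e he)
  · have : ζ = 1 := by
      rcases two_cases ζ with rfl | rfl
      · exact absurd (by norm_num) (hζ 0)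
      · rfl
    subst this
    exact Or.inr (build _ e he)

variable {E : Type*} [Group E] {U : Type*} [AddCommGroup U] [Module (ZMod 2) U]
  {Q : QuadraticForm (ZMod 2) U} (F : FormMap E U Q)

namespace FormMap

theorem π_one : F.π 1 = 0 := (F.π_eq_zero 1).mpr (Or.inl rfl)

theorem π_inv (x : E) : F.π x⁻¹ = -F.π x := by
  refine eq_neg_of_add_eq_zero_left ?_
  rw [← F.π_mul, inv_mul_cancel, F.π_one]

theorem π_z : F.π F.z = 0 := (F.π_eq_zero _).mpr (Or.inr rfl)

theorem π_eq (x y : E) : F.π x = F.π y ↔ (x⁻¹ * y = 1 ∨ x⁻¹ * y = F.z) := by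
  rw [← F.π_eq_zero, F.π_mul, F.π_inv, neg_add_eq_zero]

theorem aut_z (φ : MulAut E) : φ F.z = F.z := by
  have h : φ F.z ∈ center E := by
    rw [mem_center_iff]
    intro y
    apply φ.symm.injective
    simp only [map_mul, MulEquiv.symm_apply_apply]
    exact mem_center_iff.mp ((F.mem_center F.z).mpr (Or.inr rfl)) _
  rcases (F.mem_center _).mp h with e | e
  · exact absurd (φ.injective (e.trans φ.map_one.symm)) F.hz
  · exact e

theorem aut_eq (φ : MulAut E) {x y : E} (h : F.π x = F.π y) : F.π (φ x) = F.π (φ y) := by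
  rw [F.π_eq] at h ⊢
  rw [← map_inv, ← map_mul]
  rcases h with e | e <;> rw [e]
  · exact Or.inl (map_one φ)
  · exact Or.inr (F.aut_z φ)

/-- The map induced on the quadratic space. -/
noncomputable def induced (φ : MulAut E) (u : U) : U := F.π (φ (Function.surjInv F.surj u))

theorem induced_π (φ : MulAut E) (x : E) : F.induced φ (F.π x) = F.π (φ x) :=
  F.aut_eq φ (Function.surjInv_eq F.surj _)

theorem induced_add (φ : MulAut E) (u v : U) :
    F.induced φ (u + v) = F.induced φ u + F.induced φ v := by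
  obtain ⟨x, rfl⟩ := F.surj u
  obtain ⟨y, rfl⟩ := F.surj v
  rw [← F.π_mul, induced_π, induced_π, induced_π, map_mul, F.π_mul]

theorem induced_mul (φ ψ : MulAut E) (u : U) :
    F.induced (φ * ψ) u = F.induced φ (F.induced ψ u) := by
  obtain ⟨x, rfl⟩ := F.surj u
  rw [induced_π, induced_π, induced_π]; rfl

theorem induced_one (u : U) : F.induced 1 u = u := by
  obtain ⟨x, rfl⟩ := F.surj u
  rw [induced_π]; rfl

theorem induced_smul (φ : MulAut E) (c : ZMod 2) (u : U) :
    F.induced φ (c • u) = c • F.induced φ u := by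
  rcases two_cases c with rfl | rfl
  · rw [zero_smul, zero_smul, ← F.π_one, induced_π, map_one]
  · rw [one_smul, one_smul]

/-- The induced linear equivalence. -/
noncomputable def inducedEquiv (φ : MulAut E) : U ≃ₗ[ZMod 2] U where
  toFun := F.induced φ
  invFun := F.induced φ⁻¹
  left_inv u := by rw [← F.induced_mul, inv_mul_cancel, F.induced_one]
  right_inv u := by rw [← F.induced_mul, mul_inv_cancel, F.induced_one]
  map_add' := F.induced_add φ
  map_smul' := F.induced_smul φ

theorem induced_mem (φ : MulAut E) : F.inducedEquiv φ ∈ O Q := by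
  intro u
  obtain ⟨x, rfl⟩ := F.surj u
  apply zp_inj F.hz
  show zp F.z (Q (F.induced φ (F.π x))) = _
  rw [induced_π, ← F.sq, ← F.sq, ← map_mul, F.sq]
  rcases two_cases (Q (F.π x)) with e | e <;> rw [e] <;> simp [zp, F.aut_z]

/-- `Aut E → O(Q)`. -/
noncomputable def toIso : MulAut E →* O Q where
  toFun φ := ⟨F.inducedEquiv φ, F.induced_mem φ⟩
  map_one' := Subtype.ext (LinearEquiv.ext F.induced_one)
  map_mul' φ ψ := Subtype.ext (LinearEquiv.ext (F.induced_mul φ ψ))

theorem toIso_ker [Finite E] (hE : Cfsg.IsExtraspecial 2 E) : F.toIso.ker = Cfsg.Inn E := by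
  ext φ
  rw [MonoidHom.mem_ker]
  constructor
  · intro h
    have hπ : ∀ x, F.π (φ x) = F.π x := fun x => by
      have := congrArg (fun g : O Q => (g : U ≃ₗ[ZMod 2] U) (F.π x)) h
      simpa [toIso, inducedEquiv, induced_π] using this
    obtain ⟨g, hg⟩ := Cfsg.Agent.S5395.result hE φ (fun x => by
      rw [F.mem_center, ← F.π_eq_zero, F.π_mul, hπ, F.π_inv, add_neg_cancel])
    exact ⟨g, MulEquiv.ext fun x => by rw [MulAut.conj_apply]; exact (hg x).symm⟩
  · rintro ⟨g, rfl⟩
    refine Subtype.ext (LinearEquiv.ext fun u => ?_)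
    obtain ⟨x, rfl⟩ := F.surj u
    show F.induced (MulAut.conj g) (F.π x) = F.π x
    rw [induced_π, MulAut.conj_apply, F.π_mul, F.π_mul, F.π_inv]; abel

theorem toIso_surjective [Finite E] : Function.Surjective F.toIso := by
  classical
  intro g
  let L : U ≃ₗ[ZMod 2] U := g
  have hL : ∀ u, Q (L u) = Q u := g.2
  have hLp : ∀ u v, polar (⇑Q) (L u) (L v) = polar (⇑Q) u v := fun u v => by
    rw [polar, polar, ← map_add, hL, hL, hL]
  let Γ : Subgroup (E × E) :=
    { carrier := {p | F.π p.2 = L (F.π p.1)}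
      one_mem' := show F.π 1 = L (F.π 1) by rw [F.π_one, map_zero]
      mul_mem' := fun {a b} ha hb => show F.π (a.2 * b.2) = L (F.π (a.1 * b.1)) by
        rw [F.π_mul, F.π_mul, map_add, ha, hb]
      inv_mem' := fun {a} ha => show F.π a.2⁻¹ = L (F.π a.1⁻¹) by
        rw [F.π_inv, F.π_inv, map_neg, ha] }
  have hzc : ∀ (a : ZMod 2) (x : E), x * zp F.z a = zp F.z a * x := fun a x => by
    rcases two_cases a with rfl | rfl
    · simp [zp]
    · simp only [zp, one_ne_zero, if_false]
      exact mem_center_iff.mp ((F.mem_center _).mpr (Or.inr rfl)) x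
  let S : Set (Subgroup (E × E)) :=
    {H | H ≤ Γ ∧ (F.z, F.z) ∈ H ∧ ((1 : E), F.z) ∉ H}
  have hS : S.Nonempty := by
    refine ⟨zpowers (F.z, F.z), ?_, mem_zpowers _, ?_⟩
    · rw [zpowers_le]
      show F.π F.z = L (F.π F.z)
      rw [F.π_z, map_zero]
    · intro h
      obtain ⟨k, hk⟩ := mem_zpowers_iff.mp h
      rw [Prod.ext_iff] at hk
      simp only [Prod.pow_fst, Prod.pow_snd] at hk
      exact F.hz (hk.2.symm.trans hk.1)
  obtain ⟨H, hH⟩ := S.toFinite.exists_maximal hS
  obtain ⟨hHΓ, hzzH, hzH⟩ := hH.prop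
  have hdiag : ∀ a, (zp F.z a, zp F.z a) ∈ H := fun a => by
    rcases two_cases a with rfl | rfl
    · simp only [zp, if_pos]; exact H.one_mem
    · simpa [zp] using hzzH
  -- `H` together with `(1, z)` exhausts `Γ`
  have hmax : ∀ x ∈ Γ, x ∈ H ∨ x * (1, F.z) ∈ H := by
    intro x hx
    by_contra hcon
    push Not at hcon
    have hxx' : ∀ y ∈ Γ, y * y ∈ H := by
      intro y hy
      have : y * y = (zp F.z (Q (F.π y.1)), zp F.z (Q (F.π y.1))) := by
        refine Prod.ext (F.sq y.1) ?_
        show y.2 * y.2 = _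
        rw [F.sq, (hy : F.π y.2 = L (F.π y.1)), hL]
      rw [this]; exact hdiag _
    have hxx := hxx' x hx
    have hcomm : ∀ y ∈ Γ, ∃ c ∈ H, y * x = x * y * c ∧ ∀ w, w * c = c * w := by
      intro y hy
      refine ⟨(zp F.z (polar Q (F.π x.1) (F.π y.1)), zp F.z (polar Q (F.π x.1) (F.π y.1))),
        hdiag _, Prod.ext (F.comm x.1 y.1) ?_, fun w => Prod.ext (hzc _ _) (hzc _ _)⟩
      show y.2 * x.2 = _
      rw [F.comm x.2 y.2, (hx : F.π x.2 = L (F.π x.1)), (hy : F.π y.2 = L (F.π y.1)), hLp]
      rfl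
    let K : Subgroup (E × E) :=
      { carrier := {y | y ∈ Γ ∧ (y ∈ H ∨ x * y ∈ H)}
        one_mem' := ⟨one_mem _, Or.inl (one_mem _)⟩
        mul_mem' := fun {a b} ha hb => ⟨mul_mem ha.1 hb.1, by
          obtain ⟨c, hc, hac, hcc⟩ := hcomm a ha.1
          have e1 : a * x = x * a * c := hac
          rcases ha.2 with ha' | ha' <;> rcases hb.2 with hb' | hb'
          · exact Or.inl (mul_mem ha' hb')
          · refine Or.inr ?_
            have : x * (a * b) = (a * (x * b)) * c⁻¹ := by
              calc x * (a * b) = (x * a * c) * c⁻¹ * b := by group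
                _ = (a * x) * (c⁻¹ * b) := by rw [← e1]; group
                _ = (a * x) * (b * c⁻¹) := by rw [((Commute.inv_right (hcc b)).eq)]
                _ = _ := by group
            rw [this]
            exact mul_mem (mul_mem ha' hb') (inv_mem hc)
          · exact Or.inr (by rw [← mul_assoc]; exact mul_mem ha' hb')
          · refine Or.inl ?_
            have : a * b = (x * x)⁻¹ * ((x * a) * (x * b)) * c⁻¹ := by
              calc a * b = (x * x)⁻¹ * (x * (x * a * c) * c⁻¹ * b) := by group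
                _ = (x * x)⁻¹ * (x * (a * x)) * (c⁻¹ * b) := by rw [← e1]; group
                _ = (x * x)⁻¹ * (x * (a * x)) * (b * c⁻¹) := by
                  rw [((Commute.inv_right (hcc b)).eq)]
                _ = _ := by group
            rw [this]
            exact mul_mem (mul_mem (inv_mem hxx) (mul_mem ha' hb')) (inv_mem hc)⟩
        inv_mem' := fun {a} ha => ⟨inv_mem ha.1, by
          rcases ha.2 with ha' | ha'
          · exact Or.inl (inv_mem ha')
          · refine Or.inr ?_
            have : x * a⁻¹ = (x * a) * (a * a)⁻¹ := by group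
            rw [this]
            exact mul_mem ha' (inv_mem (hxx' a ha.1))⟩ }
    have hHK : H ≤ K := fun y hy => ⟨hHΓ hy, Or.inl hy⟩
    have hxK : x ∈ K := ⟨hx, Or.inr hxx⟩
    have hzK : ((1 : E), F.z) ∈ K := by
      by_contra hzK
      have hKS : K ∈ S := ⟨fun y (hy : y ∈ Γ ∧ _) => hy.1, hHK hzzH, hzK⟩
      exact hcon.1 (hH.le_of_ge hKS hHK hxK)
    rcases hzK.2 with e | e
    · exact hzH e
    · exact hcon.2 e
  have hzmem : ∀ {w : E × E}, w ∈ H → w.1 = 1 → w.2 = 1 := by
    intro w hw hw1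
    have h2 : F.π w.2 = L (F.π w.1) := hHΓ hw
    rw [hw1, F.π_one, map_zero, F.π_eq_zero] at h2
    rcases h2 with e | e
    · exact e
    · exact absurd (by rwa [show w = ((1 : E), F.z) from Prod.ext hw1 e] at hw) hzH
  have hex : ∀ e : E, ∃ y, (e, y) ∈ H := by
    intro e
    obtain ⟨y, hy⟩ := F.surj (L (F.π e))
    rcases hmax (e, y) hy with h | h
    · exact ⟨y, h⟩
    · exact ⟨y * F.z, by simpa using h⟩
  choose φ hφ using hex
  have huniq : ∀ {e y : E}, (e, y) ∈ H → y = φ e := by
    intro e y h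
    have := hzmem (mul_mem (inv_mem h) (hφ e)) (by simp)
    exact inv_mul_eq_one.mp (by simpa using this)
  let f : E →* E := MonoidHom.mk' φ fun a b => (huniq (mul_mem (hφ a) (hφ b))).symm
  have hinj : Function.Injective f := by
    rw [injective_iff_map_eq_one]
    intro e he
    have h1 : (e, (1 : E)) ∈ H := by
      have := hφ e
      rwa [show φ e = 1 from he] at this
    have h2 : F.π 1 = L (F.π e) := hHΓ h1
    rw [F.π_one, eq_comm, LinearEquiv.map_eq_zero_iff, F.π_eq_zero] at h2
    rcases h2 with e1 | e1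
    · exact e1
    · subst e1
      exact absurd (by simpa [F.hzz] using mul_mem h1 hzzH) hzH
  let ψ : MulAut E := MulEquiv.ofBijective f (Finite.injective_iff_bijective.mp hinj)
  refine ⟨ψ, Subtype.ext (LinearEquiv.ext fun u => ?_)⟩
  obtain ⟨x, rfl⟩ := F.surj u
  show F.induced ψ (F.π x) = L (F.π x)
  rw [induced_π]
  exact hHΓ (hφ x)

include F in
/-- `Out E ≅ O(Q)`. -/
theorem nonempty_out_equiv [Finite E] (hE : Cfsg.IsExtraspecial 2 E) :
    Nonempty (Cfsg.Out E ≃* O Q) :=
  ⟨(QuotientGroup.quotientMulEquivOfEq (F.toIso_ker hE).symm).trans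
    (QuotientGroup.quotientKerEquivOfSurjective F.toIso F.toIso_surjective)⟩

end FormMap

/-- A plus type group has an elementary abelian subgroup of order `2 ^ (n + 1)`. -/
theorem exists_elementary {E : Type*} [Group E] [Finite E] {n : ℕ}
    (F : FormMap E (Fin n ⊕ Fin n → ZMod 2) (formPlus (ZMod 2) n)) :
    ∃ A : Subgroup E, Cfsg.IsElementaryAbelian 2 A ∧ Nat.card ↥A = 2 ^ (n + 1) := by
  classical
  let A : Subgroup E :=
    { carrier := {x | ∀ i, F.π x (.inr i) = 0}
      one_mem' := fun i => by rw [F.π_one]; rfl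
      mul_mem' := fun {a b} ha hb i => by rw [F.π_mul, Pi.add_apply, ha i, hb i, add_zero]
      inv_mem' := fun {a} ha i => by rw [F.π_inv, Pi.neg_apply, ha i, neg_zero] }
  have hsq : ∀ a ∈ A, a * a = 1 := fun a ha => by
    rw [F.sq, formPlus_coe]
    have : Cfsg.quadFormPlus n (ZMod 2) (F.π a) = 0 :=
      Finset.sum_eq_zero fun i _ => by rw [ha i, mul_zero]
    simp [this, zp]
  refine ⟨A, ⟨⟨⟨?_⟩⟩, fun a ha => by rw [pow_two]; exact hsq a ha⟩, ?_⟩
  · rintro ⟨a, ha⟩ ⟨b, hb⟩
    apply Subtype.ext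
    calc a * b = (a * b)⁻¹ := (inv_eq_of_mul_eq_one_left (hsq _ (A.mul_mem ha hb))).symm
      _ = b * a := by
        rw [mul_inv_rev, inv_eq_of_mul_eq_one_left (hsq a ha), inv_eq_of_mul_eq_one_left (hsq b hb)]
  · let f : A →* Multiplicative (Fin n → ZMod 2) :=
      MonoidHom.mk' (fun a => .ofAdd fun i => F.π a (.inl i)) fun a b => by
        rw [← ofAdd_add]; congr 1; funext i; rw [Subgroup.coe_mul, F.π_mul]; rfl
    have hsurj : Function.Surjective f := by
      intro v
      obtain ⟨x, hx⟩ := F.surj (Sum.elim (Multiplicative.toAdd v) 0)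
      refine ⟨⟨x, fun i => by rw [hx]; rfl⟩, ?_⟩
      show Multiplicative.ofAdd (fun i => F.π x (.inl i)) = v
      rw [hx]; rfl
    have hker : ∀ a : A, a ∈ f.ker ↔ ((a : E) = 1 ∨ (a : E) = F.z) := by
      intro a
      rw [MonoidHom.mem_ker, ← F.π_eq_zero]
      constructor
      · intro h
        funext i
        rcases i with i | i
        · exact congrFun (congrArg Multiplicative.toAdd h) i
        · exact a.2 i
      · intro h
        show Multiplicative.ofAdd (fun i => F.π a (.inl i)) = 1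
        rw [h]; rfl
    have hzA : F.z ∈ A := fun i => by rw [F.π_z]; rfl
    have hk2 : Nat.card f.ker = 2 := by
      rw [Nat.card_eq_two_iff' (⟨1, one_mem _⟩ : f.ker)]
      refine ⟨⟨⟨F.z, hzA⟩, (hker _).mpr (Or.inr rfl)⟩,
        fun e => F.hz (congrArg (fun u : f.ker => ((u : A) : E)) e), ?_⟩
      rintro ⟨b, hb⟩ hb1
      rcases (hker b).mp hb with e | e
      · exact absurd (Subtype.ext (Subtype.ext e)) hb1
      · exact Subtype.ext (Subtype.ext e)
    rw [← card_mul_index f.ker, hk2, index_ker, MonoidHom.range_eq_top.mpr hsurj,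
      Nat.card_congr topEquiv.toEquiv, Nat.card_congr Multiplicative.toAdd, Nat.card_fun,
      Nat.card_zmod, Nat.card_fin, pow_succ']

/-- A minus type group has none. -/
theorem not_exists_elementary {E : Type*} [Group E] [Finite E] {m : ℕ}
    (F : FormMap E ((Fin m ⊕ Fin m) ⊕ Fin 2 → ZMod 2) (formMinus (ZMod 2) m 1 1)) :
    ¬ ∃ A : Subgroup E, Cfsg.IsElementaryAbelian 2 A ∧ Nat.card ↥A = 2 ^ (m + 1 + 1) := by
  classical
  rintro ⟨A, hA, hAc⟩
  set Q := formMinus (ZMod 2) m (1 : ZMod 2) 1 with hQ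
  let W : AddSubgroup ((Fin m ⊕ Fin m) ⊕ Fin 2 → ZMod 2) :=
    { carrier := {u | ∃ a ∈ A, F.π a = u}
      zero_mem' := ⟨1, one_mem _, F.π_one⟩
      add_mem' := by
        rintro u v ⟨a, ha, rfl⟩ ⟨b, hb, rfl⟩
        exact ⟨a * b, mul_mem ha hb, F.π_mul a b⟩
      neg_mem' := by
        rintro u ⟨a, ha, rfl⟩
        exact ⟨a⁻¹, inv_mem ha, F.π_inv a⟩ }
  have hW : ∀ u ∈ W, Q u = 0 := by
    rintro u ⟨a, ha, rfl⟩
    apply zp_inj F.hz
    rw [← F.sq, ← pow_two, hA.2 a ha]; simp [zp]
  let B : ((Fin m ⊕ Fin m) ⊕ Fin 2 → ZMod 2) →+ ((Fin m ⊕ Fin m) ⊕ Fin 2 → ZMod 2) →+ ZMod 2 :=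
    AddMonoidHom.mk' (fun u => AddMonoidHom.mk' (fun v => polar (⇑Q) u v)
      (fun v w => Q.polar_add_right u v w))
      (fun u v => AddMonoidHom.ext fun w => Q.polar_add_left u v w)
  have hnd : Nondeg Q := formMinus_nondeg (F := ZMod 2) (m := m) (by decide)
  have hq : F2Forms.IsQuad (⇑Q) B := by
    refine ⟨fun u v => map_add_polar Q u v, fun w hw => hnd w fun v => ?_⟩
    rw [polar_comm (⇑Q)]; exact hw v
  have h1 := hq.card_sq_le hW
  have hle : Nat.card A ≤ Nat.card W * 2 := by
    let f : A → W × ZMod 2 := fun a =>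
      (⟨F.π a, a, a.2, rfl⟩, if (a : E) = Function.surjInv F.surj (F.π a) then 0 else 1)
    have hf : Function.Injective f := by
      rintro ⟨a, ha⟩ ⟨b, hb⟩ h
      have e1 : F.π a = F.π b := congrArg (fun p : W × ZMod 2 =>
        (p.1 : (Fin m ⊕ Fin m) ⊕ Fin 2 → ZMod 2)) h
      have e2 : (if a = Function.surjInv F.surj (F.π a) then (0 : ZMod 2) else 1)
          = if b = Function.surjInv F.surj (F.π b) then 0 else 1 := congrArg Prod.snd h
      rw [← e1] at e2
      apply Subtype.ext
      show a = b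
      set c := Function.surjInv F.surj (F.π a)
      have hc : F.π c = F.π a := Function.surjInv_eq F.surj _
      by_cases h1 : a = c
      · rw [if_pos h1] at e2
        by_cases h2 : b = c
        · exact h1.trans h2.symm
        · rw [if_neg h2] at e2; exact absurd e2 (by decide)
      · rw [if_neg h1] at e2
        by_cases h2 : b = c
        · rw [if_pos h2] at e2; exact absurd e2 (by decide)
        · rcases (F.π_eq c a).mp hc with e | e
          · exact absurd (inv_mul_eq_one.mp e).symm h1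
          · rcases (F.π_eq c b).mp (hc.trans e1) with e' | e'
            · exact absurd (inv_mul_eq_one.mp e').symm h2
            · exact mul_left_cancel (e.trans e'.symm)
    have := Nat.card_le_card_of_injective f hf
    rwa [Nat.card_prod, Nat.card_zmod] at this
  have hcard : Nat.card ((Fin m ⊕ Fin m) ⊕ Fin 2 → ZMod 2) = 2 ^ (m + 1) * 2 ^ (m + 1) := by
    rw [Nat.card_fun, Nat.card_zmod, Nat.card_sum, Nat.card_sum, Nat.card_fin, Nat.card_fin,
      ← pow_add]
    congr 1; omega
  rw [hAc, pow_succ] at hle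
  have hge : 2 ^ (m + 1) ≤ Nat.card W := Nat.le_of_mul_le_mul_right hle two_pos
  have heq : Nat.card W = 2 ^ (m + 1) := by
    refine le_antisymm ?_ hge
    by_contra hgt
    push Not at hgt
    rw [hcard] at h1
    exact absurd h1 (Nat.not_le.mpr (Nat.mul_lt_mul'' hgt hgt))
  have h2 := hq.gauss hW (by rw [heq, hcard])
  have h3 := Cfsg.Agent.H56.gsum_minus m
  have h4 : (∑ v, F2Forms.chi (Q v)) = Cfsg.Agent.H56.gsum (Cfsg.quadFormMinus m (ZMod 2) 1 1) := rfl
  rw [h4, h3, heq] at h2
  have : (0 : ℤ) < 2 ^ (m + 1) := by positivity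
  push_cast at h2
  omega

end Cfsg.Agent.H92.ExtraForm
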