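import Cfsg.Agent.H92.LeechStab
import Cfsg.Agent.Golay.Mathieu
import Cfsg.Agent.Golay.Transport

/-!
The stabiliser of a class of squared length 64: signs by the Mathieu group, its normal 2-subgroups.
-/

set_option autoImplicit false

namespace Cfsg.Agent.H92.LeechTwo

open Cfsg Cfsg.Agent.Golay
open scoped Pointwise symmDiff

/-- stabiliser of a class modulo twice the lattice -/
def classStab (v : leechLattice) : Subgroup Co0 where
  carrier := {g | Cg (g • v) v}
  one_mem' := by show Cg ((1 : Co0) • v) v; rw [one_smul]; exact Cg.refl v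
  mul_mem' := by
    intro g h hg hh
    show Cg ((g * h) • v) v
    rw [mul_smul]
    exact (Cg.smul g hh).trans hg
  inv_mem' := by
    intro g hg
    show Cg (g⁻¹ • v) v
    have := (Cg.smul g⁻¹ hg).symm
    rwa [inv_smul_smul] at this

theorem mem_classStab {v : leechLattice} {g : Co0} : g ∈ classStab v ↔ Cg (g • v) v := Iff.rfl

theorem nrm_axis (i : GolayPt) : nrm (axisVec i) = 64 := (sqNorm_single i 8).trans (by norm_num)

theorem crossSet_congr {x y : leechLattice} (hn : nrm x = nrm y) (h : Cg x y) :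
    crossSet x = crossSet y := by
  ext w
  rw [mem_crossSet, mem_crossSet, show sqNorm (x : GolayPt → ℤ) = sqNorm (y : GolayPt → ℤ) from hn]
  refine and_congr_right fun _ => ?_
  obtain ⟨u, hu⟩ := h
  constructor
  · rintro ⟨z, hz⟩
    refine ⟨z - u, ?_⟩
    rw [nsmul_sub, two_nsmul u, ← hz, hu]; abel
  · rintro ⟨z, hz⟩
    refine ⟨z + u, ?_⟩
    rw [nsmul_add, two_nsmul u, ← hz, hu]; abel

theorem classStab_axis : classStab (axisVec none) = crossStab := by
  ext g
  rw [crossStab, MulAction.mem_stabilizer_iff, ← crossSet_axis none, smul_crossSet, mem_classStab]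
  constructor
  · intro h
    exact crossSet_congr (co0_sqNorm g _) h
  · intro h
    have : axisVec none ∈ crossSet (g • axisVec none) := h ▸ mem_crossSet.2 ⟨rfl, 0, by simp⟩
    obtain ⟨-, z, hz⟩ := mem_crossSet.1 this
    exact ⟨z, by rw [← two_nsmul, ← hz]; abel⟩

theorem exists_mono {g : Co0} (hg : g ∈ crossStab) : ∃ σ : M24, ∃ c, g = monoAut σ c :=
  stdCross_stabiliser_eq_monomial g (mem_crossStab.1 hg)

theorem monoAut_mem (σ : M24) (c : {c : Finset GolayPt // c ∈ supports (golayCode : Set (GolayPt → ZMod 2))}) :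
    monoAut σ c ∈ crossStab := mem_crossStab.2 fun _ hv => signedPerm_stdCross hv

/-- the permutation carried by a monomial element -/
def Carries (g : Co0) (σ : M24) : Prop :=
  ∀ (v : leechLattice) (i : GolayPt), (g • v).1 (σ.1 i) = v.1 i ∨ (g • v).1 (σ.1 i) = -v.1 i

theorem exists_carries {g : Co0} (hg : g ∈ crossStab) : ∃ σ, Carries g σ := by
  obtain ⟨σ, c, rfl⟩ := exists_mono hg
  refine ⟨σ, fun v i => ?_⟩
  rw [monoAut_apply, signedPerm_apply, Equiv.symm_apply_apply]
  split
  · exact Or.inr rfl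
  · exact Or.inl rfl

theorem carries_unique {g : Co0} {σ τ : M24} (hσ : Carries g σ) (hτ : Carries g τ) : σ = τ := by
  refine Subtype.ext (Equiv.ext fun i => ?_)
  by_contra hne
  obtain ⟨k, hk⟩ : ∃ k, τ.1 k = σ.1 i := ⟨τ.1.symm (σ.1 i), τ.1.apply_symm_apply _⟩
  have hki : k ≠ i := fun e => hne (by rw [← hk, e])
  have h1 := hσ (axisVec i) i
  have h2 := hτ (axisVec i) k
  rw [hk] at h2
  have e1 : (axisVec i).1 i = 8 := by show (Pi.single i 8 : GolayPt → ℤ) i = 8; simp
  have e2 : (axisVec i).1 k = 0 := by show (Pi.single i 8 : GolayPt → ℤ) k = 0; simp [hki]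
  rw [e1] at h1
  rw [e2] at h2
  omega

theorem carries_mul {g h : Co0} {σ τ : M24} (hσ : Carries g σ) (hτ : Carries h τ) :
    Carries (g * h) (σ * τ) := by
  intro v i
  rw [mul_smul]
  show (g • (h • v)).1 (σ.1 (τ.1 i)) = _ ∨ (g • (h • v)).1 (σ.1 (τ.1 i)) = _
  have h1 := hσ (h • v) (τ.1 i)
  have h2 := hτ v i
  omega

/-- the permutation homomorphism of the cross stabiliser -/
noncomputable def permOf : crossStab →* M24 :=
  MonoidHom.mk' (fun g => (exists_carries g.2).choose) fun g h =>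
    carries_unique (exists_carries (g * h).2).choose_spec
      (carries_mul (exists_carries g.2).choose_spec (exists_carries h.2).choose_spec)

theorem permOf_spec (g : crossStab) : Carries g.1 (permOf g) := (exists_carries g.2).choose_spec

theorem permAut_carries (σ : M24) : Carries (permAut σ) σ := fun v i => Or.inl (permAut_apply σ v i)

theorem permAut_mem (σ : M24) : permAut σ ∈ crossStab := monoAut_mem _ _

theorem permOf_permAut (σ : M24) : permOf ⟨permAut σ, permAut_mem σ⟩ = σ :=
  carries_unique (permOf_spec _) (permAut_carries σ)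

/-- permutation matrices as a homomorphism -/
def permHom : M24 →* Co0 := MonoidHom.mk' permAut fun σ τ => co0_ext fun v =>
  Subtype.ext (funext fun l => by
    obtain ⟨i, rfl⟩ : ∃ i, σ.1 (τ.1 i) = l := ⟨τ.1.symm (σ.1.symm l), by simp⟩
    rw [mul_smul]
    calc (permAut (σ * τ) • v : leechLattice).1 (σ.1 (τ.1 i))
        = (permAut (σ * τ) • v : leechLattice).1 ((σ * τ).1 i) := rfl
      _ = v.1 i := permAut_apply (σ * τ) v i
      _ = (permAut τ • v : leechLattice).1 (τ.1 i) := (permAut_apply τ v i).symm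
      _ = _ := (permAut_apply σ (permAut τ • v) (τ.1 i)).symm)

theorem permHom_injective : Function.Injective permHom := fun σ τ h => by
  have h' : permAut σ = permAut τ := h
  rw [← permOf_permAut σ, ← permOf_permAut τ]
  exact congrArg permOf (Subtype.ext h')

/-- code words as sign sets -/
abbrev SignSet : Type := {c : Finset GolayPt // c ∈ supports (golayCode : Set (GolayPt → ZMod 2))}

/-- the sign changes -/
noncomputable def signs : Subgroup Co0 := permOf.ker.map crossStab.subtype

theorem mem_signs {g : Co0} : g ∈ signs ↔ ∃ c : SignSet, g = signAut c := by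
  constructor
  · rintro ⟨g, hg, rfl⟩
    obtain ⟨σ, c, hc⟩ := exists_mono g.2
    have hσ : Carries g.1 σ := fun v i => by
      rw [hc, monoAut_apply, signedPerm_apply, Equiv.symm_apply_apply]
      split
      · exact Or.inr rfl
      · exact Or.inl rfl
    have h1 : σ = 1 := (carries_unique hσ (permOf_spec g)).trans hg
    exact ⟨c, by show g.1 = _; rw [hc, h1]; rfl⟩
  · rintro ⟨c, rfl⟩
    refine ⟨⟨signAut c, monoAut_mem _ _⟩, ?_, rfl⟩
    refine carries_unique (permOf_spec _) fun v i => ?_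
    show (signAut c • v).1 i = _ ∨ (signAut c • v).1 i = _
    rw [signAut_apply]
    split
    · exact Or.inr rfl
    · exact Or.inl rfl

theorem signs_le : signs ≤ crossStab := Subgroup.map_subtype_le _

theorem signAut_mul (c d : SignSet) :
    signAut c * signAut d = signAut ⟨c.1 ∆ d.1, symmDiff_mem_supports c.2 d.2⟩ := by
  refine co0_ext fun v => Subtype.ext (funext fun i => ?_)
  rw [mul_smul, signAut_apply, signAut_apply, signAut_apply]
  simp only [Finset.mem_symmDiff]
  by_cases h1 : i ∈ c.1 <;> by_cases h2 : i ∈ d.1 <;> simp [h1, h2]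

theorem card_signs : Nat.card signs = 4096 := by
  have e : SignSet ≃ signs := Equiv.ofBijective (fun c => ⟨signAut c, mem_signs.2 ⟨c, rfl⟩⟩)
    ⟨fun c d h => congrArg Prod.snd (monoAut_injective (a₁ := ((1 : M24), c)) (a₂ := ((1 : M24), d))
        (congrArg Subtype.val h)),
     fun ⟨g, hg⟩ => by
       obtain ⟨c, rfl⟩ := mem_signs.1 hg
       exact ⟨c, rfl⟩⟩
  rw [← Nat.card_congr e]
  show Nat.card ↑(supports (golayCode : Set (GolayPt → ZMod 2))) = 4096
  rw [Nat.card_coe_set_eq, supports_eq_image, ncard_ptSet_image codeList_nodup (fun m => codeList_lt),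
    codeList_length]

theorem conj_smul_smul (a b : Co0) (w : leechLattice) : (a * b * a⁻¹) • (a • w) = a • (b • w) := by
  rw [← mul_smul, ← mul_smul, inv_mul_cancel_right]

theorem signAut_mem (c : SignSet) : signAut c ∈ crossStab := monoAut_mem _ _

seal permAut signAut in
theorem conj_signAut (σ : M24) (c : SignSet) :
    ∃ d : SignSet, d.1 = σ • c.1 ∧ permAut σ * signAut c * (permAut σ)⁻¹ = signAut d := by
  refine ⟨⟨σ • c.1, ?_⟩, rfl, ?_⟩
  · obtain ⟨d, hd⟩ : ∃ d, permAut σ * signAut c * (permAut σ)⁻¹ = signAut d := by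
      refine mem_signs.1 ⟨⟨permAut σ * signAut c * (permAut σ)⁻¹, mul_mem (mul_mem (permAut_mem σ) (signAut_mem c)) (inv_mem (permAut_mem σ))⟩, ?_, rfl⟩
      show permOf (⟨permAut σ, permAut_mem σ⟩ * ⟨signAut c, signAut_mem c⟩ * ⟨permAut σ, permAut_mem σ⟩⁻¹) = 1
      obtain ⟨g, hg, hgc⟩ := mem_signs.2 ⟨c, rfl⟩
      rw [map_mul, map_mul, map_inv,
        show (⟨signAut c, signAut_mem c⟩ : crossStab) = g from Subtype.ext hgc.symm, MonoidHom.mem_ker.1 hg]
      simp
    rw [show σ • c.1 = d.1 from ?_]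
    · exact d.2
    ext j
    obtain ⟨i, rfl⟩ : ∃ i, σ.1 i = j := ⟨σ.1.symm j, σ.1.apply_symm_apply j⟩
    rw [show σ.1 i = σ • i from rfl, Finset.smul_mem_smul_finset_iff]
    have h := congrArg (fun g : Co0 => (g • (permAut σ • repC)).1 (σ.1 i)) hd
    simp only [mul_smul, inv_smul_smul, permAut_apply, signAut_apply] at h
    have hne : repC.1 i ≠ 0 := fun e => by
      have := repC_odd i
      change oddMin i = 0 at e
      omega
    show i ∈ c.1 ↔ σ.1 i ∈ d.1
    split_ifs at h with h1 h2 h2 <;> first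
      | exact iff_of_true h1 h2
      | exact iff_of_false h1 h2
      | (exfalso; exact hne (by linarith))
  · refine co0_ext fun v => Subtype.ext (funext fun j => ?_)
    obtain ⟨w, rfl⟩ : ∃ w, permAut σ • w = v := ⟨(permAut σ)⁻¹ • v, smul_inv_smul _ _⟩
    obtain ⟨i, rfl⟩ : ∃ i, σ.1 i = j := ⟨σ.1.symm j, σ.1.apply_symm_apply j⟩
    refine (congrArg (fun u : leechLattice => u.1 (σ.1 i)) (conj_smul_smul (permAut σ) (signAut c) w)).trans ?_
    refine (permAut_apply σ (signAut c • w) i).trans ((signAut_apply c w i).trans (Eq.trans ?_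
      (signAut_apply _ (permAut σ • w) (σ.1 i)).symm))
    refine Eq.trans ?_ (if_congr Iff.rfl (congrArg Neg.neg (permAut_apply σ w i).symm) (permAut_apply σ w i).symm)
    exact if_congr (Finset.smul_mem_smul_finset_iff σ).symm rfl rfl

theorem center_le_crossStab : Subgroup.center Co0 ≤ signs := by
  intro g hg
  set N : Co0 := signAut ⟨Finset.univ, univ_mem_supports⟩
  have hNv : ∀ v : leechLattice, N • v = -v := fun v => Subtype.ext (funext fun l => by
    rw [signAut_apply, if_pos (Finset.mem_univ l)]; rfl)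
  have hN : N ∈ Subgroup.center Co0 := Subgroup.mem_center_iff.2 fun k => co0_ext fun v => by
    rw [mul_smul, mul_smul, hNv, hNv, co0_smul_neg]
  have hN1 : N ≠ 1 := fun h => by
    have := congrArg (fun g : Co0 => (g • axisVec none).1 none) h
    simp only [hNv, one_smul] at this
    change -((Pi.single none 8 : GolayPt → ℤ) none) = (Pi.single none 8 : GolayPt → ℤ) none at this
    simp at this
  obtain ⟨u, -, huniq⟩ := (Nat.card_eq_two_iff' (1 : Subgroup.center Co0)).1 card_center_co0
  by_cases h1 : g = 1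
  · rw [h1]; exact one_mem _
  · have e1 := huniq ⟨g, hg⟩ fun e => h1 (congrArg Subtype.val e)
    have e2 := huniq ⟨N, hN⟩ fun e => hN1 (congrArg Subtype.val e)
    rw [show g = N from congrArg Subtype.val (e1.trans e2.symm)]
    exact mem_signs.2 ⟨_, rfl⟩

theorem dodecad_pair : ∃ a ∈ codeList, ∃ b ∈ codeList, popCnt a = 12 ∧ popCnt b = 12 ∧ popCnt (a ^^^ b) = 8 := by
  have h : (let a := maskOf Spor.squareDodecad;
      codeList.contains a && popCnt a == 12 &&
        codeList.any fun b => popCnt b == 12 && popCnt (a ^^^ b) == 8) = true := by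
    decide +kernel
  simp only [Bool.and_eq_true, beq_iff_eq, List.any_eq_true] at h
  obtain ⟨⟨h1, h2⟩, b, hb, h3, h4⟩ := h
  exact ⟨_, List.contains_iff_mem.1 h1, b, hb, h2, h3, h4⟩

theorem signAut_mem_of_octads {E : Subgroup Co0}
    (h : ∀ d : SignSet, d.1.card = 8 → signAut d ∈ E) (c : SignSet) : signAut c ∈ E := by
  have key : ∀ m ∈ codeList, ∀ (hm : ptSet m ∈ supports (golayCode : Set (GolayPt → ZMod 2))),
      signAut ⟨ptSet m, hm⟩ ∈ E := by
    intro m hmc
    refine spanList_induction (P := fun m => m < 2 ^ 24 ∧ m ∈ codeList ∧ ∀ hm, signAut ⟨ptSet m, hm⟩ ∈ E)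
      _ ?_ ?_ ?_ m hmc |>.2.2
    · refine ⟨by norm_num, zero_mem_spanList _, fun hm => ?_⟩
      rw [show signAut ⟨ptSet 0, hm⟩ = 1 from co0_ext fun v => Subtype.ext (funext fun i => by
        rw [signAut_apply, one_smul, if_neg (by rw [show (⟨ptSet 0, hm⟩ : SignSet).1 = ptSet 0 from rfl, ptSet_zero]; simp)])]
      exact one_mem E
    · intro b hb
      have hb' := List.mem_reverse.1 hb
      have hlt := basisList_lt b hb'
      refine ⟨hlt, mem_spanList_of_mem _ hb, fun hm => h ⟨_, hm⟩ ?_⟩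
      show (ptSet b).card = 8
      rw [card_ptSet]
      have : ∀ b ∈ basisList, popCnt b = 8 := by decide +kernel
      exact this b hb'
    · rintro a b ⟨ha, ha', ha''⟩ ⟨hb, hb', hb''⟩
      refine ⟨xor_lt_full ha hb, xor_mem_spanList _ ha' hb', fun hm => ?_⟩
      have hsa : ptSet a ∈ supports (golayCode : Set (GolayPt → ZMod 2)) := (ptSet_mem_supports_iff ha).2 ha'
      have hsb : ptSet b ∈ supports (golayCode : Set (GolayPt → ZMod 2)) := (ptSet_mem_supports_iff hb).2 hb'
      have := mul_mem (ha'' hsa) (hb'' hsb)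
      rw [signAut_mul] at this
      rwa [show (⟨ptSet (a ^^^ b), hm⟩ : SignSet) = ⟨_, symmDiff_mem_supports hsa hsb⟩ from
        Subtype.ext (ptSet_xor a b)]
  have hm := mem_supports_iff.1 c.2
  have := key _ hm (by rw [ptSet_maskOf]; exact c.2)
  rwa [show (⟨ptSet (maskOf c.1), _⟩ : SignSet) = c from Subtype.ext (ptSet_maskOf c.1)] at this

/-- a normal 2-subgroup of the cross stabiliser containing the centre is the centre or all signs -/
theorem normal_two_cases (E : Subgroup Co0) (hle : E ≤ crossStab) (hc : Subgroup.center Co0 ≤ E)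
    (hp : IsPGroup 2 E) (hn : ∀ g ∈ crossStab, ∀ x ∈ E, g * x * g⁻¹ ∈ E) :
    E = Subgroup.center Co0 ∨ E = signs := by
  -- inside the signs
  have hsub : E ≤ signs := by
    have hsimple := isSimpleGroup_M24
    have hN : ((E.subgroupOf crossStab).map permOf).Normal :=
      Subgroup.Normal.map ⟨fun x hx g => hn g.1 g.2 x.1 hx⟩ _
        fun σ => ⟨⟨permAut σ, permAut_mem σ⟩, permOf_permAut σ⟩
    rcases hN.eq_bot_or_eq_top with h | h
    · intro x hx
      refine ⟨⟨x, hle hx⟩, MonoidHom.mem_ker.2 ?_, rfl⟩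
      have : permOf ⟨x, hle hx⟩ ∈ (E.subgroupOf crossStab).map permOf := ⟨⟨x, hle hx⟩, hx, rfl⟩
      rw [h] at this
      exact Subgroup.mem_bot.1 this
    · exfalso
      have hp' : IsPGroup 2 ↥((E.subgroupOf crossStab).map permOf) := hp.comap_subtype.map permOf
      rw [h] at hp'
      obtain ⟨n, hn'⟩ := IsPGroup.iff_card.1 hp'
      rw [Subgroup.card_top, card_M24] at hn'
      have : 3 ∣ 2 ^ n := ⟨81607680, by omega⟩
      exact absurd (Nat.prime_three.dvd_of_dvd_pow this) (by norm_num)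
  have hsupp : ∀ c : SignSet, c.1.card = 0 ∨ c.1.card = 8 ∨ c.1.card = 12 ∨ c.1.card = 16 ∨ c.1.card = 24 :=
    fun c => card_mem_supports c.2
  have hN : signAut ⟨Finset.univ, univ_mem_supports⟩ ∈ E := hc (Subgroup.mem_center_iff.2 fun k =>
    co0_ext fun v => by
      have e : ∀ v : leechLattice, signAut ⟨Finset.univ, univ_mem_supports⟩ • v = -v := fun v =>
        Subtype.ext (funext fun l => by rw [signAut_apply, if_pos (Finset.mem_univ l)]; rfl)
      rw [mul_smul, mul_smul, e, e, co0_smul_neg])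
  have hmove : ∀ (σ : M24) (c d : SignSet), d.1 = σ • c.1 → signAut c ∈ E → signAut d ∈ E := by
    intro σ c d hd hcE
    obtain ⟨d', hd', he⟩ := conj_signAut σ c
    rw [show d = d' from Subtype.ext (hd.trans hd'.symm), ← he]
    exact hn _ (permAut_mem σ) _ hcE
  by_cases hoct : ∃ d : SignSet, d.1.card = 8 ∧ signAut d ∈ E
  · obtain ⟨d, hd8, hdE⟩ := hoct
    refine Or.inr (le_antisymm hsub fun x hx => ?_)
    obtain ⟨c, rfl⟩ := mem_signs.1 hx
    refine signAut_mem_of_octads (fun o ho => ?_) c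
    obtain ⟨σ, hσ⟩ := exists_M24_map_octad (o := d.1) (o' := o.1) ⟨d.2, hd8⟩ ⟨o.2, ho⟩
    exact hmove σ d o hσ.symm hdE
  · refine Or.inl (le_antisymm (fun x hx => ?_) hc)
    obtain ⟨c, rfl⟩ := mem_signs.1 (hsub hx)
    push Not at hoct
    rcases hsupp c with h | h | h | h | h
    · rw [show c = ⟨∅, empty_mem_supports⟩ from Subtype.ext (Finset.card_eq_zero.1 h),
        show signAut ⟨∅, empty_mem_supports⟩ = 1 from co0_ext fun v => Subtype.ext (funext fun i => by
          rw [signAut_apply, if_neg (Finset.notMem_empty i), one_smul])]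
      exact one_mem _
    · exact absurd hx (hoct c h)
    · exfalso
      obtain ⟨a, ha, b, hb, ha12, hb12, hab⟩ := dodecad_pair
      have mk : ∀ {m : ℕ}, m ∈ codeList → popCnt m = 12 → ∃ d : SignSet, d.1 = ptSet m ∧ signAut d ∈ E := by
        intro m hm h12
        have hsup := (ptSet_mem_supports_iff (codeList_lt hm)).2 hm
        obtain ⟨σ, hσ⟩ := exists_M24_map_dodecad (d := c.1) (d' := ptSet m) ⟨c.2, h⟩ ⟨hsup, by rw [card_ptSet, h12]⟩
        exact ⟨⟨ptSet m, hsup⟩, rfl, hmove σ c ⟨ptSet m, hsup⟩ hσ.symm hx⟩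
      obtain ⟨da, hda, haE⟩ := mk ha ha12
      obtain ⟨db, hdb, hbE⟩ := mk hb hb12
      have := mul_mem haE hbE
      rw [signAut_mul] at this
      refine hoct _ ?_ this
      show (da.1 ∆ db.1).card = 8
      rw [hda, hdb, ← ptSet_xor, card_ptSet, hab]
    · exfalso
      have := mul_mem hx hN
      rw [signAut_mul] at this
      refine hoct _ ?_ this
      show (c.1 ∆ Finset.univ).card = 8
      rw [show c.1 ∆ Finset.univ = c.1ᶜ by ext; simp [Finset.mem_symmDiff], Finset.card_compl, h]
      rfl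
    · rw [show c = ⟨Finset.univ, univ_mem_supports⟩ from Subtype.ext (Finset.eq_univ_of_card _ (h.trans rfl))]
      exact Subgroup.mem_center_iff.2 fun k => co0_ext fun v => by
        have e : ∀ v : leechLattice, signAut ⟨Finset.univ, univ_mem_supports⟩ • v = -v := fun v =>
          Subtype.ext (funext fun l => by rw [signAut_apply, if_pos (Finset.mem_univ l)]; rfl)
        rw [mul_smul, mul_smul, e, e, co0_smul_neg]

theorem signs_comm {a b : Co0} (ha : a ∈ signs) (hb : b ∈ signs) : a * b = b * a := by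
  obtain ⟨c, rfl⟩ := mem_signs.1 ha
  obtain ⟨d, rfl⟩ := mem_signs.1 hb
  rw [signAut_mul, signAut_mul]
  congr 1
  exact Subtype.ext (symmDiff_comm c.1 d.1)

theorem signs_sq {a : Co0} (ha : a ∈ signs) : a * a = 1 := by
  obtain ⟨c, rfl⟩ := mem_signs.1 ha
  refine co0_ext fun v => Subtype.ext (funext fun i => ?_)
  rw [mul_smul, one_smul, signAut_apply, signAut_apply]
  split_ifs <;> simp

theorem split_crossStab {g : Co0} (hg : g ∈ crossStab) :
    ∃ a ∈ signs, ∃ σ : M24, g = a * permHom σ := by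
  refine ⟨g * (permHom (permOf ⟨g, hg⟩))⁻¹, ⟨⟨g, hg⟩ * ⟨permAut (permOf ⟨g, hg⟩), permAut_mem _⟩⁻¹, ?_, rfl⟩,
    permOf ⟨g, hg⟩, (inv_mul_cancel_right _ _).symm⟩
  rw [SetLike.mem_coe, MonoidHom.mem_ker, map_mul, map_inv, permOf_permAut, mul_inv_cancel]

theorem permHom_signs {σ : M24} (h : permHom σ ∈ signs) : σ = 1 := by
  obtain ⟨g, hg, he⟩ := h
  have : g = ⟨permAut σ, permAut_mem σ⟩ := Subtype.ext he
  rw [this, SetLike.mem_coe, MonoidHom.mem_ker, permOf_permAut] at hg
  exact hg

/-- everything needed about the stabiliser of a norm 64 class -/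
theorem classStab_structure {v : leechLattice} (hv : nrm v = 64) :
    ∃ (Sv : Subgroup Co0) (ι : M24 →* Co0),
      Nat.card (classStab v) = 4096 * 244823040 ∧ Nat.card Sv = 4096 ∧ Sv ≤ classStab v ∧
      Subgroup.center Co0 ≤ Sv ∧ (∀ a ∈ Sv, ∀ b ∈ Sv, a * b = b * a) ∧ (∀ a ∈ Sv, a * a = 1) ∧
      (∀ σ, ι σ ∈ classStab v) ∧ Function.Injective ι ∧ (∀ σ, ι σ ∈ Sv → σ = 1) ∧
      (∀ g ∈ classStab v, ∃ a ∈ Sv, ∃ σ, g = a * ι σ) ∧
      (∀ E : Subgroup Co0, E ≤ classStab v → Subgroup.center Co0 ≤ E → IsPGroup 2 E →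
        (∀ g ∈ classStab v, ∀ x ∈ E, g * x * g⁻¹ ∈ E) → E = Subgroup.center Co0 ∨ E = Sv) := by
  obtain ⟨γ, hγ⟩ := orbit_sixtyfour hv (nrm_axis none)
  set c : Co0 ≃* Co0 := MulAut.conj γ⁻¹ with hc
  have hcs : ∀ g, c g = γ⁻¹ * g * γ := fun g => by simp [hc, MulAut.conj_apply]
  have hmem : ∀ g, g ∈ classStab v ↔ c.symm g ∈ crossStab := by
    intro g
    rw [← classStab_axis, mem_classStab, mem_classStab, show c.symm g = γ * g * γ⁻¹ by
      rw [MulEquiv.symm_apply_eq, hcs]; group]
    have hγ' : Cg v (γ⁻¹ • axisVec none) := by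
      have := Cg.smul γ⁻¹ hγ
      rwa [inv_smul_smul] at this
    constructor
    · intro h
      rw [mul_smul, mul_smul]
      exact ((Cg.smul γ (Cg.smul g hγ'.symm)).trans (Cg.smul γ h)).trans hγ
    · intro h
      rw [mul_smul, mul_smul] at h
      have := Cg.smul γ⁻¹ h
      rw [inv_smul_smul] at this
      exact ((Cg.smul g hγ').trans this).trans hγ'.symm
  have hcenter : ∀ {a : Co0}, a ∈ Subgroup.center Co0 → c a = a := fun {a} ha => by
    rw [hcs, mul_assoc, ← Subgroup.mem_center_iff.1 ha γ, inv_mul_cancel_left]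
  refine ⟨signs.map c.toMonoidHom, c.toMonoidHom.comp permHom, ?_, ?_, ?_, ?_, ?_, ?_, ?_, ?_, ?_, ?_, ?_⟩
  · rw [← card_crossStab]
    exact Nat.card_congr (Equiv.subtypeEquiv c.symm.toEquiv fun g => hmem g)
  · rw [Subgroup.card_map_of_injective c.injective, card_signs]
  · rintro _ ⟨a, ha, rfl⟩
    rw [hmem]
    simpa using signs_le ha
  · exact fun a ha => ⟨a, center_le_crossStab ha, hcenter ha⟩
  · rintro _ ⟨a, ha, rfl⟩ _ ⟨b, hb, rfl⟩
    rw [← map_mul, ← map_mul, signs_comm ha hb]
  · rintro _ ⟨a, ha, rfl⟩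
    rw [← map_mul, signs_sq ha, map_one]
  · intro σ
    rw [hmem]
    show c.symm (c (permHom σ)) ∈ crossStab
    rw [MulEquiv.symm_apply_apply]
    exact permAut_mem σ
  · exact c.injective.comp permHom_injective
  · rintro σ ⟨a, ha, he⟩
    exact permHom_signs (c.injective he ▸ ha)
  · intro g hg
    obtain ⟨a, ha, σ, he⟩ := split_crossStab ((hmem g).1 hg)
    refine ⟨c a, ⟨a, ha, rfl⟩, σ, ?_⟩
    show g = c a * c (permHom σ)
    rw [← map_mul, ← he, MulEquiv.apply_symm_apply]
  · intro E hE hcE hp hn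
    rcases normal_two_cases (E.comap c.toMonoidHom)
      (fun a ha => by simpa using (hmem _).1 (hE ha))
      (fun a ha => hcE (by rw [show c.toMonoidHom a = a from hcenter ha]; exact ha))
      (hp.comap_of_injective c.toMonoidHom c.injective)
      (fun g hg x hx => by
        show c (g * x * g⁻¹) ∈ E
        rw [map_mul, map_mul, map_inv]
        exact hn _ ((hmem _).2 (by simpa using hg)) _ hx) with h | h
    · refine Or.inl ?_
      rw [← Subgroup.map_comap_eq_self_of_surjective (f := c.toMonoidHom) c.surjective E, h]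
      ext a
      constructor
      · rintro ⟨b, hb, rfl⟩; show c b ∈ _; rw [hcenter hb]; exact hb
      · exact fun ha => ⟨a, ha, hcenter ha⟩
    · refine Or.inr ?_
      rw [← Subgroup.map_comap_eq_self_of_surjective (f := c.toMonoidHom) c.surjective E, h]

end Cfsg.Agent.H92.LeechTwo
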