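import Mathlib
import Cfsg.Agent.H92.QuotLarge

/-!
The centraliser in an extraspecial group of a noncentral involution.
-/

set_option autoImplicit false
set_option linter.style.haveILetI false

namespace Cfsg.Agent.H92

open Subgroup

variable {G : Type*} [Group G] [Finite G]

theorem comm_of_extraspecial {Q : Subgroup G} (hQ : Cfsg.IsExtraspecial 2 Q) {z : G}
    (hz : z ∈ (center Q).map Q.subtype) (hz1 : z ≠ 1) {x y : G} (hx : x ∈ Q) (hy : y ∈ Q) :
    x * y * x⁻¹ * y⁻¹ = 1 ∨ x * y * x⁻¹ * y⁻¹ = z :=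
  eq_one_or_center hQ hz hz1 (commutator_mem_center_map hQ hx hy)

theorem move_of_not_commute {Q : Subgroup G} (hQ : Cfsg.IsExtraspecial 2 Q) {z : G}
    (hz : z ∈ (center Q).map Q.subtype) (hz1 : z ≠ 1) {x y : G} (hx : x ∈ Q) (hy : y ∈ Q)
    (hne : x * y ≠ y * x) : x * y * x⁻¹ = z * y := by
  rcases comm_of_extraspecial hQ hz hz1 hx hy with e | e
  · exact absurd (by rwa [mul_inv_eq_one, mul_inv_eq_iff_eq_mul] at e) hne
  · rwa [mul_inv_eq_iff_eq_mul] at e

/-- The centre of `C_Q(t)` is `{1, z, t, z t}`. -/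
theorem four_of_central_centralizer {Q : Subgroup G} (hQ : Cfsg.IsExtraspecial 2 Q) {z t : G}
    (hz : z ∈ (center Q).map Q.subtype) (hz1 : z ≠ 1) (htQ : t ∈ Q) (ht : t * t = 1)
    (ht1 : t ≠ 1) (htz : t ≠ z) {x : G} (hxQ : x ∈ Q) (hxt : x * t = t * x)
    (hc : ∀ q ∈ Q, q * t = t * q → q * x = x * q) : x = 1 ∨ x = z ∨ x = t ∨ x = z * t := by
  obtain ⟨a, ha, hat⟩ : ∃ a ∈ Q, a * t * a⁻¹ = z * t := by
    by_contra hcon
    push Not at hcon
    have : t ∈ (center Q).map Q.subtype := by
      rw [center_map_eq_inf]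
      refine ⟨htQ, mem_centralizer_iff.mpr fun q hq => ?_⟩
      by_contra hne
      exact hcon q hq (move_of_not_commute hQ hz hz1 hq htQ hne)
    rcases eq_one_or_center hQ hz hz1 this with e | e
    · exact ht1 e
    · exact htz e
  have key : ∀ u ∈ Q, (∀ q ∈ Q, q * t = t * q → q * u = u * q) → a * u = u * a →
      u = 1 ∨ u = z := by
    intro u hu huc hau
    apply eq_one_or_center hQ hz hz1
    rw [center_map_eq_inf]
    refine ⟨hu, mem_centralizer_iff.mpr fun q hq => ?_⟩
    by_cases hqt : q * t = t * q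
    · exact huc q hq hqt
    · have e := move_of_not_commute hQ hz hz1 hq htQ hqt
      have h1 : (a⁻¹ * q) * t = t * (a⁻¹ * q) := by
        calc a⁻¹ * q * t = a⁻¹ * (q * t * q⁻¹) * q := by group
          _ = a⁻¹ * (a * t * a⁻¹) * q := by rw [e, hat]
          _ = _ := by group
      calc q * u = a * (a⁻¹ * q * u) := by group
        _ = (a * u) * (a⁻¹ * q) := by rw [huc _ (mul_mem (inv_mem ha) hq) h1, mul_assoc]
        _ = u * q := by rw [hau]; group
  by_cases hax : a * x = x * a
  · rcases key x hxQ hc hax with e | e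
    · exact Or.inl e
    · exact Or.inr (Or.inl e)
  · have e := move_of_not_commute hQ hz hz1 ha hxQ hax
    have hzx : x * z = z * x :=
      mem_centralizer_iff.mp (center_map_le_centralizer hz) x hxQ
    have hzz : z * z = 1 := by
      rcases eq_one_or_center hQ hz hz1 (mul_mem hz hz) with e' | e'
      · exact e'
      · exact absurd (mul_eq_left.mp e') hz1
    have h1 : a * (x * t) * a⁻¹ = x * t := by
      calc a * (x * t) * a⁻¹ = (a * x * a⁻¹) * (a * t * a⁻¹) := by group
        _ = z * (x * z) * t := by rw [e, hat]; group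
        _ = x * t := by rw [hzx, ← mul_assoc z z, hzz, one_mul]
    have hxtt : x * t * t = x := by rw [mul_assoc, ht, mul_one]
    rcases key (x * t) (mul_mem hxQ htQ) (fun q hq hqt => by
        rw [← mul_assoc, hc q hq hqt, mul_assoc, hqt, mul_assoc])
      (mul_inv_eq_iff_eq_mul.mp h1) with e' | e'
    · right; right; left; rw [← hxtt, e', one_mul]
    · right; right; right; rw [← hxtt, e']

/-- `C_Q(t)` has index two. -/
theorem two_mul_card_centralizer {Q : Subgroup G} (hQ : Cfsg.IsExtraspecial 2 Q) {z t : G}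
    (hz : z ∈ (center Q).map Q.subtype) (hz1 : z ≠ 1) (htQ : t ∈ Q) (ht1 : t ≠ 1) (htz : t ≠ z) :
    2 * Nat.card ↥(Q ⊓ centralizer ({t} : Set G)) = Nat.card Q := by
  obtain ⟨a, ha, hat⟩ : ∃ a ∈ Q, a * t * a⁻¹ = z * t := by
    by_contra hcon
    push Not at hcon
    have : t ∈ (center Q).map Q.subtype := by
      rw [center_map_eq_inf]
      refine ⟨htQ, mem_centralizer_iff.mpr fun q hq => ?_⟩
      by_contra hne
      exact hcon q hq (move_of_not_commute hQ hz hz1 hq htQ hne)
    rcases eq_one_or_center hQ hz hz1 this with e | e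
    · exact ht1 e
    · exact htz e
  have hant : ¬ a * t = t * a := fun h => by
    rw [h, mul_inv_cancel_right] at hat
    exact hz1 (right_eq_mul.mp hat)
  have h2 : ((Q ⊓ centralizer ({t} : Set G)).subgroupOf Q).index = 2 := by
    rw [index_eq_two_iff]
    refine ⟨⟨a, ha⟩, fun b => ?_⟩
    simp only [mem_subgroupOf, mem_inf, mem_centralizer_singleton_iff, Subgroup.coe_mul]
    by_cases hb : (b : G) * t = t * b
    · refine Or.inr ⟨⟨b.2, hb⟩, fun h => hant ?_⟩
      have := (Commute.inv_left (hb : Commute (b : G) t)).mul_left (h.2 : Commute ((b : G) * a) t)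
      simpa using this.eq
    · refine Or.inl ⟨⟨mul_mem b.2 ha, ?_⟩, fun h => hb h.2⟩
      have e := move_of_not_commute hQ hz hz1 b.2 htQ hb
      have hbz := mem_centralizer_iff.mp (center_map_le_centralizer hz) (b : G) b.2
      have hzz : z * z = 1 := by
        rcases eq_one_or_center hQ hz hz1 (mul_mem hz hz) with e' | e'
        · exact e'
        · exact absurd (mul_eq_left.mp e') hz1
      rw [← mul_inv_eq_iff_eq_mul]
      calc (b : G) * a * t * ((b : G) * a)⁻¹ = (b : G) * (a * t * a⁻¹) * (b : G)⁻¹ := by group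
        _ = ((b : G) * z) * (b : G)⁻¹ * ((b : G) * t * (b : G)⁻¹) := by rw [hat]; group
        _ = t := by rw [e, hbz, mul_inv_cancel_right, ← mul_assoc, hzz, one_mul]
  rw [← card_mul_index ((Q ⊓ centralizer ({t} : Set G)).subgroupOf Q), h2,
    Nat.card_congr (subgroupOfEquivOfLe (inf_le_left : Q ⊓ centralizer ({t} : Set G) ≤ Q)).toEquiv,
    mul_comm]

end Cfsg.Agent.H92
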