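import Mathlib
import Cfsg.Agent.H92.QuotInvolution
import Cfsg.Agent.Cores.PCore

/-!
Fixed points in an extraspecial group of an odd order group, and groups of order twice an odd
number with a central involution.
-/

set_option autoImplicit false
set_option linter.style.haveILetI false

namespace Cfsg.Agent.H92

open Subgroup

variable {G : Type*} [Group G] [Finite G]

/-- In a group of order twice an odd number every element lies in `oddCore · ⟨z⟩` for a central
involution `z`. -/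
theorem mem_oddCore_or {z : G} (hz : orderOf z = 2) (hc : ∀ x, x * z = z * x)
    (h4 : ¬ 4 ∣ Nat.card G) (x : G) : x ∈ Cfsg.oddCore G ∨ x * z ∈ Cfsg.oddCore G := by
  haveI : Fact (Nat.Prime 2) := ⟨Nat.prime_two⟩
  have hzz : z * z = 1 := by rw [← pow_two, ← hz, pow_orderOf_eq_one]
  have hp : IsPGroup 2 (zpowers z) := IsPGroup.of_card (n := 1) (by rw [Nat.card_zpowers, hz, pow_one])
  obtain ⟨P, hP⟩ := hp.exists_le_sylow
  have hcard : Nat.card ↥(P : Subgroup G) ≤ 2 := by
    obtain ⟨k, hk⟩ := IsPGroup.iff_card.mp P.isPGroup'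
    by_contra hgt
    push Not at hgt
    apply h4
    have hk2 : 2 ≤ k := by
      by_contra h
      have : k ≤ 1 := by omega
      have := Nat.pow_le_pow_right (show 0 < 2 by norm_num) this
      omega
    exact dvd_trans (hk ▸ pow_dvd_pow 2 hk2) (card_subgroup_dvd_card _)
  have heq : zpowers z = (P : Subgroup G) :=
    eq_of_le_of_card_ge hP (by rw [Nat.card_zpowers, hz]; exact hcard)
  have hN : normalizer ((P : Subgroup G) : Set G) ≤ centralizer ((P : Subgroup G) : Set G) := by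
    intro g _
    rw [← heq, mem_centralizer_iff]
    intro u hu
    obtain ⟨i, rfl⟩ := mem_zpowers_iff.mp hu
    exact ((Commute.zpow_right (hc g : Commute g z) i).eq).symm
  have hK := MonoidHom.ker_transferSylow_isComplement' P hN
  set K := (MonoidHom.transferSylow P hN).ker with hKdef
  have hodd : Odd (Nat.card K) := by
    rw [← hK.index_eq_card, Nat.odd_iff, ← Nat.two_dvd_ne_zero]
    exact P.not_dvd_index
  have hle := Cfsg.Agent.Cores.le_oddCore (N := K) hodd
  obtain ⟨⟨⟨k, hk⟩, ⟨p, hp'⟩⟩, hkp⟩ := hK.2 x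
  have hkp' : k * p = x := hkp
  have hpz : p ∈ zpowers z := by rw [heq]; exact hp'
  obtain ⟨i, rfl⟩ := mem_zpowers_iff.mp hpz
  rcases Int.even_or_odd i with ⟨j, rfl⟩ | ⟨j, rfl⟩
  · left
    rw [← hkp', ← two_mul, zpow_mul, zpow_two, hzz, one_zpow, mul_one]
    exact hle hk
  · right
    rw [← hkp', zpow_add, zpow_mul, zpow_two, hzz, one_zpow, one_mul, zpow_one, mul_assoc, hzz,
      mul_one]
    exact hle hk

/-- An element of `C_Q(A)` outside the centre is moved by `C_Q(A)`. -/
theorem exists_moving_fixed {Q A : Subgroup G} (hQ : Cfsg.IsExtraspecial 2 Q) {z : G}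
    (hz : z ∈ (center Q).map Q.subtype) (hz1 : z ≠ 1) (hA : Odd (Nat.card A))
    (hn : ∀ a ∈ A, ∀ q ∈ Q, a * q * a⁻¹ ∈ Q) {x : G} (hx : x ∈ Q)
    (hxA : ∀ a ∈ A, a * x = x * a) (hx1 : x ≠ 1) (hxz : x ≠ z) :
    ∃ r ∈ Q, (∀ a ∈ A, a * r = r * a) ∧ r * x * r⁻¹ = z * x := by
  by_contra hcon
  push Not at hcon
  have := commute_all_of_fixed hQ hA hn hx hxA (fun r hr hrA => by
    by_contra hne
    exact hcon r hr hrA (move_of_not_commute hQ hz hz1 hr hx hne))
  rcases eq_one_or_center hQ hz hz1 (center_map_eq_inf.ge ⟨hx, mem_centralizer_iff.mpr this⟩)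
    with e | e
  · exact hx1 e
  · exact hxz e

/-- `C_Q(A)` is extraspecial if it is not too small. -/
theorem fixed_isExtraspecial {Q A : Subgroup G} (hQ : Cfsg.IsExtraspecial 2 Q) {z : G}
    (hz : z ∈ (center Q).map Q.subtype) (hz1 : z ≠ 1) (hA : Odd (Nat.card A))
    (hn : ∀ a ∈ A, ∀ q ∈ Q, a * q * a⁻¹ ∈ Q)
    (hcard : 2 < Nat.card ↥(Q ⊓ centralizer (A : Set G))) :
    Cfsg.IsExtraspecial 2 ↥(Q ⊓ centralizer (A : Set G)) := by
  refine isExtraspecial_of_le hQ inf_le_left ?_ ?_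
  · rintro x ⟨⟨hxQ, hxA⟩, hxc⟩
    rw [center_map_eq_inf]
    refine ⟨hxQ, mem_centralizer_iff.mpr (commute_all_of_fixed hQ hA hn hxQ
      (fun a ha => mem_centralizer_iff.mp hxA a ha) fun r hr hrA => ?_)⟩
    exact mem_centralizer_iff.mp hxc r ⟨hr, mem_centralizer_iff.mpr hrA⟩
  · by_contra hcon
    push Not at hcon
    have hle : Q ⊓ centralizer (A : Set G) ≤ (center Q).map Q.subtype := by
      rintro x ⟨hxQ, hxA⟩
      rw [center_map_eq_inf]
      refine ⟨hxQ, mem_centralizer_iff.mpr (commute_all_of_fixed hQ hA hn hxQ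
        (fun a ha => mem_centralizer_iff.mp hxA a ha) fun r hr hrA => ?_)⟩
      exact hcon r ⟨hr, mem_centralizer_iff.mpr hrA⟩ x ⟨hxQ, hxA⟩
    have h2 := Nat.card_le_card_of_injective _ (inclusion_injective hle)
    rw [card_center_map hQ] at h2
    omega

theorem eq_one_of_pow_four {A : Subgroup G} (hA : Odd (Nat.card A)) {e : G} (he : e ∈ A)
    (h : e ^ 4 = 1) : e = 1 := by
  have h1 : orderOf e ∣ Nat.card A := orderOf_dvd_natCard A he
  have h2 : orderOf e ∣ 4 := orderOf_dvd_of_pow_eq_one h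
  exact orderOf_eq_one_iff.mp (Nat.eq_one_of_dvd_coprimes
    ((Nat.coprime_two_right.mpr hA).pow_right 2) h1 h2)

end Cfsg.Agent.H92
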