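import Mathlib
import Cfsg.Prelude.Def_Transfer
import Cfsg.Agent.PGroups.Basic
import Cfsg.Agent.H92.F2Forms

set_option autoImplicit false

namespace Cfsg.Agent.H92.ExtGroup

open scoped commutatorElement
open Cfsg.Agent.H92.F2Forms

variable {V : Type} [AddCommGroup V]

/-- The central extension of `V` by `ZMod 2` with cocycle a bilinear map. -/
@[ext]
structure Ext (β : V →+ V →+ ZMod 2) where
  /-- vector part -/
  v : V
  /-- central part -/
  c : ZMod 2

variable {β : V →+ V →+ ZMod 2}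

instance instGroupExt : Group (Ext β) where
  mul x y := ⟨x.v + y.v, x.c + y.c + β x.v y.v⟩
  one := ⟨0, 0⟩
  inv x := ⟨-x.v, -x.c + β x.v x.v⟩
  mul_assoc x y z := by
    show (⟨x.v + y.v + z.v, x.c + y.c + β x.v y.v + z.c + β (x.v + y.v) z.v⟩ : Ext β) =
      ⟨x.v + (y.v + z.v), x.c + (y.c + z.c + β y.v z.v) + β x.v (y.v + z.v)⟩
    refine Ext.ext (add_assoc _ _ _) ?_
    simp only [map_add, AddMonoidHom.add_apply]
    ring
  one_mul x := by
    show (⟨0 + x.v, 0 + x.c + β 0 x.v⟩ : Ext β) = x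
    ext <;> simp
  mul_one x := by
    show (⟨x.v + 0, x.c + 0 + β x.v 0⟩ : Ext β) = x
    ext <;> simp
  inv_mul_cancel x := by
    show (⟨-x.v + x.v, -x.c + β x.v x.v + x.c + β (-x.v) x.v⟩ : Ext β) = ⟨0, 0⟩
    refine Ext.ext (by simp) ?_
    simp only [map_neg, AddMonoidHom.neg_apply]
    ring

theorem mul_v (x y : Ext β) : (x * y).v = x.v + y.v := rfl
theorem mul_c (x y : Ext β) : (x * y).c = x.c + y.c + β x.v y.v := rfl
theorem one_v : (1 : Ext β).v = 0 := rfl
theorem one_c : (1 : Ext β).c = 0 := rfl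

instance instFiniteExt [Finite V] : Finite (Ext β) :=
  Finite.of_injective (fun x => (x.v, x.c)) (fun x y h => by ext <;> simp_all)

/-- The underlying product. -/
def extEquiv : Ext β ≃ V × ZMod 2 where
  toFun x := (x.v, x.c)
  invFun p := ⟨p.1, p.2⟩
  left_inv _ := rfl
  right_inv _ := rfl

theorem card_ext : Nat.card (Ext β) = Nat.card V * 2 := by
  rw [Nat.card_congr extEquiv, Nat.card_prod, Nat.card_zmod]

theorem center_eq (hB : ∀ w, (∀ v, β v w + β w v = 0) → w = 0) (x : Ext β) :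
    x ∈ Subgroup.center (Ext β) ↔ x.v = 0 := by
  rw [Subgroup.mem_center_iff]
  constructor
  · intro h
    refine hB _ fun v => ?_
    have e := congrArg Ext.c (h ⟨v, 0⟩)
    simp only [mul_c] at e
    have : ∀ a b d : ZMod 2, 0 + d + a = d + 0 + b → a + b = 0 := by decide
    exact this _ _ _ e
  · intro h y
    ext
    · simp [mul_v, h]
    · simp [mul_c, h, add_comm]

theorem card_center [Finite V] (hB : ∀ w, (∀ v, β v w + β w v = 0) → w = 0) :
    Nat.card (Subgroup.center (Ext β)) = 2 := by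
  have e : Subgroup.center (Ext β) ≃ ZMod 2 :=
    { toFun := fun x => x.1.c
      invFun := fun c => ⟨⟨0, c⟩, (center_eq hB _).mpr rfl⟩
      left_inv := fun x => Subtype.ext (Ext.ext ((center_eq hB x.1).mp x.2).symm rfl)
      right_inv := fun c => rfl }
  rw [Nat.card_congr e, Nat.card_zmod]

theorem isExtraspecial [Fintype V] (h2 : ∀ v : V, v + v = 0) {k : ℕ} (hk : Nat.card V = 2 ^ k)
    (hB : ∀ w, (∀ v, β v w + β w v = 0) → w = 0) (hne : ∃ v w, β v w + β w v ≠ 0) :
    Cfsg.IsExtraspecial 2 (Ext β) := by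
  have : Fact (Nat.Prime 2) := ⟨Nat.prime_two⟩
  have hp : IsPGroup 2 (Ext β) := IsPGroup.of_card (n := k + 1) (by rw [card_ext, hk, pow_succ])
  have hcomm : commutator (Ext β) ≤ Subgroup.center (Ext β) := by
    rw [commutator_def]
    refine Subgroup.commutator_le.mpr fun x _ y _ => ?_
    rw [center_eq hB, commutatorElement_def]
    show x.v + y.v + (-x.v) + (-y.v) = 0
    abel
  have heq : commutator (Ext β) = Subgroup.center (Ext β) := by
    refine Subgroup.eq_of_le_of_card_ge hcomm ?_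
    rw [card_center hB]
    obtain ⟨v, w, hvw⟩ := hne
    refine (commutator (Ext β)).one_lt_card_iff_ne_bot.mpr fun h => hvw ?_
    have hm : ⁅(⟨v, 0⟩ : Ext β), ⟨w, 0⟩⁆ ∈ commutator (Ext β) :=
      Subgroup.commutator_mem_commutator (Subgroup.mem_top _) (Subgroup.mem_top _)
    rw [h, Subgroup.mem_bot, commutatorElement_eq_one_iff_commute] at hm
    have e := congrArg Ext.c hm.eq
    simp only [mul_c, add_zero, zero_add] at e
    rw [e]; exact CharTwo.add_self_eq_zero _
  refine ⟨⟨hp, le_antisymm ?_ (heq.symm.le.trans (Cfsg.Agent.PGroups.commutator_le_frattini hp)),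
    heq⟩, card_center hB⟩
  refine Cfsg.Agent.PGroups.frattini_le_of_commutator_le (p := 2) _ hcomm (fun x => ?_)
  rw [center_eq hB, pow_two]
  exact h2 x.v

/-- Elementary abelian subgroups are twice a totally singular subgroup at most. -/
theorem elementary_bound [Fintype V] {A : Subgroup (Ext β)} (hA : Cfsg.IsElementaryAbelian 2 A) :
    ∃ W : AddSubgroup V, (∀ w ∈ W, β w w = 0) ∧ Nat.card A ≤ 2 * Nat.card W := by
  let W : AddSubgroup V :=
    { carrier := {v | ∃ c, (⟨v, c⟩ : Ext β) ∈ A}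
      zero_mem' := ⟨0, A.one_mem⟩
      add_mem' := fun {a b} ha hb => ⟨_, A.mul_mem ha.choose_spec hb.choose_spec⟩
      neg_mem' := fun {a} ha => ⟨_, A.inv_mem ha.choose_spec⟩ }
  refine ⟨W, fun w hw => ?_, ?_⟩
  · obtain ⟨c, hc⟩ := hw
    have e := congrArg Ext.c (hA.2 _ hc)
    rw [pow_two, mul_c, one_c] at e
    simpa [CharTwo.add_self_eq_zero] using e
  · have := Nat.card_le_card_of_injective (fun x : A => ((⟨x.1.v, x.1.c, x.2⟩ : W), x.1.c))
      (fun x y h => Subtype.ext (Ext.ext (congrArg (fun p : W × ZMod 2 => (p.1 : V)) h)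
        (congrArg Prod.snd h)))
    rwa [Nat.card_prod, Nat.card_zmod, mul_comm] at this

/-- A totally singular subgroup gives an elementary abelian one of twice the order. -/
theorem elementary_exists [Fintype V] (h2 : ∀ v : V, v + v = 0) {W : AddSubgroup V}
    (hW : ∀ w ∈ W, β w w = 0) :
    ∃ A : Subgroup (Ext β), Cfsg.IsElementaryAbelian 2 A ∧ Nat.card A = 2 * Nat.card W := by
  let A : Subgroup (Ext β) :=
    { carrier := {x | x.v ∈ W}
      one_mem' := W.zero_mem
      mul_mem' := fun ha hb => W.add_mem ha hb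
      inv_mem' := fun ha => W.neg_mem ha }
  have hsq : ∀ x ∈ A, x * x = 1 := fun x hx => by
    ext
    · exact h2 x.v
    · show x.c + x.c + β x.v x.v = 0
      rw [hW _ hx, CharTwo.add_self_eq_zero, add_zero]
  refine ⟨A, ⟨⟨⟨?_⟩⟩, fun a ha => by rw [pow_two]; exact hsq a ha⟩, ?_⟩
  · rintro ⟨a, ha⟩ ⟨b, hb⟩
    apply Subtype.ext
    have ia : a⁻¹ = a := inv_eq_of_mul_eq_one_left (hsq a ha)
    have ib : b⁻¹ = b := inv_eq_of_mul_eq_one_left (hsq b hb)
    calc a * b = (a * b)⁻¹ := (inv_eq_of_mul_eq_one_left (hsq _ (A.mul_mem ha hb))).symm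
      _ = b * a := by rw [mul_inv_rev, ia, ib]
  · have e : A ≃ W × ZMod 2 :=
      { toFun := fun x => (⟨x.1.v, x.2⟩, x.1.c)
        invFun := fun p => ⟨⟨p.1, p.2⟩, p.1.2⟩
        left_inv := fun x => rfl
        right_inv := fun p => rfl }
    rw [Nat.card_congr e, Nat.card_prod, Nat.card_zmod, mul_comm]

end Cfsg.Agent.H92.ExtGroup
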