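import Cfsg.Agent.H92.MonsterQ
import Cfsg.Agent.H92.CrossGroup

/-!
The meeting of the large extraspecial group with a conjugate, in a group of Monster type.
-/

set_option autoImplicit false

namespace Cfsg.Agent.H92.MonsterCross

open Cfsg Cfsg.Agent.H92.LeechTwo Cfsg.Agent.H92.MonsterQ

section generic

theorem card_map_mul {A B : Type*} [Group A] [Group B] (f : A →* B) (H : Subgroup A) :
    Nat.card (H.map f) * Nat.card (H ⊓ f.ker : Subgroup A) = Nat.card H := by
  have h1 := (f.comp H.subtype).ker.card_mul_index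
  rw [Subgroup.index_ker, MonoidHom.range_comp, Subgroup.range_subtype, ← MonoidHom.comap_ker] at h1
  rw [Nat.mul_comm, ← h1]
  congr 1
  rw [show f.ker.comap H.subtype = (H ⊓ f.ker).subgroupOf H by rw [Subgroup.inf_subgroupOf_left]; rfl]
  exact (Nat.card_congr (Subgroup.subgroupOfEquivOfLe inf_le_left).toEquiv).symm

theorem card_subgroupOf {A : Type*} [Group A] {H K : Subgroup A} (h : H ≤ K) :
    Nat.card (H.subgroupOf K) = Nat.card H :=
  Nat.card_congr (Subgroup.subgroupOfEquivOfLe h).toEquiv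

/-- a commutative subgroup of index two forces a small group -/
theorem card_le_eight {P : Type*} [Group P] [Finite P] (h2 : Nat.card (Subgroup.center P) = 2)
    (hcm : ∀ a b : P, a * b * a⁻¹ * b⁻¹ ∈ Subgroup.center P)
    (H : Subgroup P) (hab : ∀ a ∈ H, ∀ b ∈ H, a * b = b * a) (hH : 2 * Nat.card H = Nat.card P) :
    Nat.card P ≤ 8 := by
  have hne : H ≠ ⊤ := fun h => by
    rw [h, Subgroup.card_top] at hH
    have := Nat.card_pos (α := P)
    omega
  obtain ⟨a, -, ha⟩ := SetLike.exists_of_lt (lt_top_iff_ne_top.2 hne)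
  let f : H →* Subgroup.center P := MonoidHom.mk' (fun b => ⟨a * b * a⁻¹ * (b : P)⁻¹, hcm _ _⟩) fun b b' => Subtype.ext (by
    show a * ((b : P) * b') * a⁻¹ * ((b : P) * b')⁻¹ = a * b * a⁻¹ * (b : P)⁻¹ * (a * b' * a⁻¹ * (b' : P)⁻¹)
    have hc := Subgroup.mem_center_iff.1 (hcm a b') (b : P)
    calc a * ((b : P) * b') * a⁻¹ * ((b : P) * b')⁻¹
        = a * b * a⁻¹ * (a * b' * a⁻¹ * (b' : P)⁻¹) * (b : P)⁻¹ := by group
      _ = a * b * a⁻¹ * ((b : P)⁻¹ * (b : P) * (a * b' * a⁻¹ * (b' : P)⁻¹) * (b : P)⁻¹) := by group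
      _ = a * b * a⁻¹ * ((b : P)⁻¹ * (a * b' * a⁻¹ * (b' : P)⁻¹)) := by
          rw [mul_assoc (b : P)⁻¹ (b : P), hc]; group
      _ = a * b * a⁻¹ * (b : P)⁻¹ * (a * b' * a⁻¹ * (b' : P)⁻¹) := by group)
  have h1 := f.ker.card_mul_index
  rw [Subgroup.index_ker] at h1
  have h3 : Nat.card f.range ≤ 2 := h2 ▸ Subgroup.card_le_card_group f.range
  have h4 : Nat.card f.ker ≤ 2 := by
    rw [← h2]
    refine Nat.card_le_card_of_injective
      (fun b => (⟨((b : H) : P), ?_⟩ : Subgroup.center P))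
      fun b b' h => Subtype.ext (Subtype.ext (congrArg (fun u : Subgroup.center P => (u : P)) h))
    have hb : a * ((b : H) : P) * a⁻¹ * ((b : H) : P)⁻¹ = 1 := congrArg Subtype.val (MonoidHom.mem_ker.1 b.2)
    have hb' : a * ((b : H) : P) = (b : H) * a := mul_inv_eq_iff_eq_mul.1 (mul_inv_eq_one.1 hb)
    set K := Subgroup.centralizer ({((b : H) : P)} : Set P) with hK
    have hle : H ≤ K := fun c hc => Subgroup.mem_centralizer_singleton_iff.2 (hab c hc _ (b : H).2)
    have haK : a ∈ K := Subgroup.mem_centralizer_singleton_iff.2 hb'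
    have hlt : Nat.card H < Nat.card K := by
      rcases lt_or_eq_of_le (Subgroup.card_le_of_le hle) with h | h
      · exact h
      · exact absurd ((Subgroup.eq_of_le_of_card_ge hle h.ge) ▸ haK) ha
    obtain ⟨k, hk⟩ := Subgroup.card_dvd_of_le hle
    have hk2 : 2 ≤ k := by
      rcases Nat.lt_or_ge k 2 with h | h
      · interval_cases k <;> simp at hk <;> omega
      · exact h
    have htop : K = ⊤ := Subgroup.eq_top_of_le_card _ (by rw [hk, ← hH, Nat.mul_comm]; exact Nat.mul_le_mul_left _ hk2)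
    exact Subgroup.mem_center_iff.2 fun c =>
      Subgroup.mem_centralizer_singleton_iff.1 (show c ∈ K by rw [htop]; exact Subgroup.mem_top c)
  have h5 : Nat.card H ≤ 4 := h1 ▸ Nat.mul_le_mul h4 h3
  omega

end generic

variable {G : Type*} [Group G] [Finite G] {z : G}
  {Q : Subgroup (Subgroup.centralizer ({z} : Set G))} [Q.Normal]
variable {e : (Subgroup.centralizer ({z} : Set G)) ⧸ Q ≃* Spor.Co1}
  {ψ : leechLattice → Q ⧸ Subgroup.center Q}

/-- the structure of the centraliser of a conjugate inside the large group -/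
theorem cross (S : Setting z Q e ψ) {x : Q} (g : G) (hg : g * z * g⁻¹ = vG x) (hxz : vG x ≠ z) :
    ∃ (v : leechLattice) (Sv : Subgroup Co0) (ι : M24 →* Co0),
      Nat.card Sv = 4096 ∧ Sv ≤ classStab v ∧ Subgroup.center Co0 ≤ Sv ∧
      (∀ a ∈ Sv, ∀ b ∈ Sv, a * b = b * a) ∧ (∀ a ∈ Sv, a * a = 1) ∧
      (∀ σ, ι σ ∈ classStab v) ∧ Function.Injective ι ∧ (∀ σ, ι σ ∈ Sv → σ = 1) ∧
      (∀ γ ∈ classStab v, ∃ a ∈ Sv, ∃ σ, γ = a * ι σ) ∧
      (∀ γ ∈ classStab v, ∀ a ∈ Sv, γ * a * γ⁻¹ ∈ Sv) ∧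
      ((Subgroup.centralizer ({z} : Set G) ⊓ Subgroup.centralizer ({vG x} : Set G)).subgroupOf
          (Subgroup.centralizer ({z} : Set G))).map (e.toMonoidHom.comp (QuotientGroup.mk' Q))
        = (classStab v).map (QuotientGroup.mk' (Subgroup.center Co0)) ∧
      (((Q.map (Subgroup.centralizer ({z} : Set G)).subtype).map (MulAut.conj g).toMonoidHom ⊓
          Subgroup.centralizer ({z} : Set G)).subgroupOf
          (Subgroup.centralizer ({z} : Set G))).map (e.toMonoidHom.comp (QuotientGroup.mk' Q))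
        = Sv.map (QuotientGroup.mk' (Subgroup.center Co0)) ∧
      Nat.card (Sv.map (QuotientGroup.mk' (Subgroup.center Co0))) = 2048 ∧
      Nat.card ↥((Q.map (Subgroup.centralizer ({z} : Set G)).subtype) ⊓
        (Q.map (Subgroup.centralizer ({z} : Set G)).subtype).map (MulAut.conj g).toMonoidHom) = 2 ^ 13 := by
  classical
  obtain ⟨zQ, hzv, hz1, hz2, hZ⟩ := exists_zQ S
  obtain ⟨hzQm, hconj⟩ := map_setting S
  clear hzQm
  obtain ⟨v, hv, hn⟩ := conj_z_type S (isConj_iff.2 ⟨g, hg⟩) hxz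
  have hxc : x ∉ Subgroup.center Q := not_center_of_rep S hv (Or.inr (Or.inr hn))
  obtain ⟨Sv, ι, hcard, hSc, hSle, hScen, hSab, hSsq, hι, hιinj, hιS, hsplit, hnorm⟩ := classStab_structure hn
  set Qm := Q.map (Subgroup.centralizer ({z} : Set G)).subtype with hQm
  set A : Subgroup G := Qm.map (MulAut.conj g).toMonoidHom ⊓ (Subgroup.centralizer ({z} : Set G)) with hA
  set D : Subgroup G := (Subgroup.centralizer ({z} : Set G)) ⊓ Subgroup.centralizer ({vG x} : Set G) with hD
  set φ : (Subgroup.centralizer ({z} : Set G)) →* Spor.Co1 := e.toMonoidHom.comp (QuotientGroup.mk' Q) with hφ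
  set π : Co0 →* Spor.Co1 := QuotientGroup.mk' (Subgroup.center Co0) with hπ
  have hφker : ∀ c : (Subgroup.centralizer ({z} : Set G)), φ c = 1 ↔ c ∈ Q := fun c => by
    rw [hφ]
    exact (map_eq_one_iff e e.injective).trans (QuotientGroup.eq_one_iff c)
  have memA : ∀ a, a ∈ A ↔ g⁻¹ * a * g ∈ Qm ∧ a ∈ (Subgroup.centralizer ({z} : Set G)) := fun a => by
    rw [hA, Subgroup.mem_inf, Subgroup.mem_map_equiv (f := MulAut.conj g)]
    simp [MulAut.conj_symm_apply, mul_assoc]
  have hzs : g⁻¹ * vG x * g = z := by rw [← hg]; group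
  have hQC : Qm ≤ (Subgroup.centralizer ({z} : Set G)) := Subgroup.map_subtype_le _
  have hAs : ∀ a ∈ A, a * vG x = vG x * a := fun a ha => by
    have h := Subgroup.mem_centralizer_singleton_iff.1 (hQC ((memA a).1 ha).1)
    rw [← hzs] at h
    calc a * vG x = g * (g⁻¹ * a * g * (g⁻¹ * vG x * g)) * g⁻¹ := by group
      _ = vG x * a := by rw [h]; group
  have hAD : A ≤ D := fun a ha => ⟨((memA a).1 ha).2, Subgroup.mem_centralizer_singleton_iff.2 (hAs a ha)⟩
  have hback : ∀ h : G, h * vG x = vG x * h → g⁻¹ * h * g ∈ (Subgroup.centralizer ({z} : Set G)) := fun h hh => by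
    rw [Subgroup.mem_centralizer_singleton_iff, ← hzs]
    calc g⁻¹ * h * g * (g⁻¹ * vG x * g) = g⁻¹ * (h * vG x) * g := by group
      _ = g⁻¹ * vG x * g * (g⁻¹ * h * g) := by rw [hh]; group
  have hAconj : ∀ a ∈ A, ∀ h ∈ D, h * a * h⁻¹ ∈ A := fun a ha h hh => by
    obtain ⟨ha1, ha2⟩ := (memA a).1 ha
    refine (memA _).2 ⟨?_, mul_mem (mul_mem hh.1 ha2) (inv_mem hh.1)⟩
    have := hconj _ ha1 _ (hback h (Subgroup.mem_centralizer_singleton_iff.1 hh.2))
    rwa [show g⁻¹ * h * g * (g⁻¹ * a * g) * (g⁻¹ * h * g)⁻¹ = g⁻¹ * (h * a * h⁻¹) * g by group] at this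
  -- the image of the centraliser
  have hX : (D.subgroupOf (Subgroup.centralizer ({z} : Set G))).map φ = (classStab v).map π := by
    ext w
    constructor
    · rintro ⟨h, hh, rfl⟩
      obtain ⟨γ, hγ⟩ := QuotientGroup.mk'_surjective (Subgroup.center Co0) (φ h)
      refine ⟨γ, ?_, hγ⟩
      have e1 := psi_smul S (g := γ) (h := h) hγ hv
      rw [show conjQ h x = x from vG_injective (by
        show (h : G) * vG x * (h : G)⁻¹ = vG x
        rw [show (h : G) * vG x = vG x * h from Subgroup.mem_centralizer_singleton_iff.1 hh.2, mul_inv_cancel_right]), ← hv, psi_cg S] at e1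
      exact e1
    · rintro ⟨γ, hγ, rfl⟩
      obtain ⟨h, hh⟩ := exists_lift S γ
      have e1 := psi_smul S hh hv
      rw [(psi_cg S).2 (show Cg (γ • v) v from hγ), hv] at e1
      obtain ⟨h', h1, h2⟩ := conj_fix S hxc h e1.symm
      have h2' : (h' : G) * vG x * (h' : G)⁻¹ = vG x := congrArg vG h2
      refine ⟨h', ⟨h'.2, Subgroup.mem_centralizer_singleton_iff.2 (mul_inv_eq_iff_eq_mul.1 h2')⟩, ?_⟩
      show e (QuotientGroup.mk h') = π γ
      rw [h1, ← hh]
      rfl
  have hπker : ∀ H : Subgroup Co0, Subgroup.center Co0 ≤ H →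
      Nat.card (H.map π) * 2 = Nat.card H := fun H hH => by
    rw [← card_map_mul π H, hπ, QuotientGroup.ker_mk', inf_eq_right.2 hH, Cfsg.Agent.Golay.card_center_co0]
  have hclassπ : Nat.card ((classStab v).map π) * 2 = 4096 * 244823040 := by
    rw [hπker _ (hScen.trans hSle), hcard]
  -- the kernel
  have hcq : Nat.card ↥(D.subgroupOf (Subgroup.centralizer ({z} : Set G)) ⊓ φ.ker) * 2 = 2 ^ 25 := by
    let cx : Q →* Subgroup.center Q := MonoidHom.mk' (fun q => ⟨q * x * q⁻¹ * x⁻¹, comm_center S q x⟩) fun a b => Subtype.ext (by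
      show a * b * x * (a * b)⁻¹ * x⁻¹ = a * x * a⁻¹ * x⁻¹ * (b * x * b⁻¹ * x⁻¹)
      have hc := Subgroup.mem_center_iff.1 (comm_center S b x) a
      have hc' := Subgroup.mem_center_iff.1 (comm_center S a x) (b * x * b⁻¹ * x⁻¹)
      calc a * b * x * (a * b)⁻¹ * x⁻¹ = a * (b * x * b⁻¹ * x⁻¹) * (x * a⁻¹ * x⁻¹) := by group
        _ = b * x * b⁻¹ * x⁻¹ * (a * x * a⁻¹ * x⁻¹) := by rw [hc]; group
        _ = _ := hc')
    have h1 := cx.ker.card_mul_index
    rw [Subgroup.index_ker, S.setting.2.2.2.1] at h1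
    have h3 : Nat.card cx.range = 2 := by
      have hsurj : Function.Surjective cx := by
        rintro ⟨c, hc⟩
        rcases (hZ c).1 hc with h | h
        · exact ⟨1, Subtype.ext (by rw [map_one]; exact h.symm)⟩
        · by_contra hne
          push Not at hne
          apply hxc
          refine Subgroup.mem_center_iff.2 fun q => ?_
          rcases (hZ _).1 (comm_center S q x) with h' | h'
          · exact mul_inv_eq_iff_eq_mul.1 (mul_inv_eq_one.1 h')
          · exact absurd (Subtype.ext (h'.trans h.symm)) (hne q)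
      rw [MonoidHom.range_eq_top.2 hsurj, Subgroup.card_top, cq S]
    rw [h3] at h1
    rw [← h1]
    congr 1
    refine Nat.card_congr
      { toFun := fun c => ⟨⟨c.1, (hφker _).1 c.2.2⟩, MonoidHom.mem_ker.2 (Subtype.ext (vG_injective ?_))⟩
        invFun := fun q => ⟨(q.1 : (Subgroup.centralizer ({z} : Set G))), ⟨(q.1 : (Subgroup.centralizer ({z} : Set G))).2, Subgroup.mem_centralizer_singleton_iff.2 ?_⟩, (hφker _).2 q.1.2⟩
        left_inv := fun c => rfl
        right_inv := fun q => rfl }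
    · show (c.1 : G) * vG x * (c.1 : G)⁻¹ * (vG x)⁻¹ = 1
      rw [show (c.1 : G) * vG x = vG x * c.1 from Subgroup.mem_centralizer_singleton_iff.1 c.2.1.2, mul_inv_cancel_right, mul_inv_cancel]
    · have h := congrArg (fun u : Subgroup.center Q => vG (u : Q)) (MonoidHom.mem_ker.1 q.2)
      change vG q.1 * vG x * (vG q.1)⁻¹ * (vG x)⁻¹ = 1 at h
      exact mul_inv_eq_iff_eq_mul.1 (mul_inv_eq_one.1 h)
  have hDcard := card_map_mul φ (D.subgroupOf (Subgroup.centralizer ({z} : Set G)))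
  rw [hX] at hDcard
  -- the conjugation into the centraliser
  let θ₀ : D.subgroupOf (Subgroup.centralizer ({z} : Set G)) →* (Subgroup.centralizer ({z} : Set G)) := MonoidHom.mk'
    (fun h => ⟨g⁻¹ * ((h : (Subgroup.centralizer ({z} : Set G))) : G) * g, hback _ (Subgroup.mem_centralizer_singleton_iff.1 h.2.2)⟩)
    fun a b => Subtype.ext (by
      show g⁻¹ * (((a : (Subgroup.centralizer ({z} : Set G))) : G) * ((b : (Subgroup.centralizer ({z} : Set G))) : G)) * g = g⁻¹ * ((a : (Subgroup.centralizer ({z} : Set G))) : G) * g * (g⁻¹ * ((b : (Subgroup.centralizer ({z} : Set G))) : G) * g)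
      group)
  have hθ := ((QuotientGroup.mk' Q).comp θ₀).ker.card_mul_index
  rw [Subgroup.index_ker] at hθ
  have hθker : Nat.card ((QuotientGroup.mk' Q).comp θ₀).ker = Nat.card A := by
    refine Nat.card_congr
      { toFun := fun h => ⟨((h.1 : (Subgroup.centralizer ({z} : Set G))) : G), (memA _).2 ⟨⟨θ₀ h.1, (QuotientGroup.eq_one_iff _).1 h.2, rfl⟩, (h.1 : (Subgroup.centralizer ({z} : Set G))).2⟩⟩
        invFun := fun a => ⟨⟨⟨a.1, ((memA _).1 a.2).2⟩, hAD a.2⟩, MonoidHom.mem_ker.2 ((QuotientGroup.eq_one_iff _).2 ?_)⟩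
        left_inv := fun h => rfl
        right_inv := fun a => rfl }
    obtain ⟨c, hc, hce⟩ := ((memA _).1 a.2).1
    refine (?_ : θ₀ _ ∈ Q)
    have e1 : θ₀ ⟨⟨a.1, ((memA _).1 a.2).2⟩, hAD a.2⟩ = c := Subtype.ext hce.symm
    rw [e1]
    exact hc
  rw [hθker] at hθ
  have hCQ : Nat.card ((Subgroup.centralizer ({z} : Set G)) ⧸ Q) * 2 = 8315553613086720000 := by
    rw [Nat.card_congr e.toEquiv, ← Cfsg.Agent.Golay.card_co0,
      (Subgroup.center Co0).card_eq_card_quotient_mul_card_subgroup, Cfsg.Agent.Golay.card_center_co0]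
  have hdvd : Nat.card ((QuotientGroup.mk' Q).comp θ₀).range ∣ Nat.card ((Subgroup.centralizer ({z} : Set G)) ⧸ Q) :=
    Subgroup.card_subgroup_dvd_card _
  have hQmcard : Nat.card Qm = 2 ^ 25 := by
    rw [hQm, Subgroup.card_map_of_injective Subtype.val_injective, S.setting.2.2.2.1]
  have hgQ : Nat.card (Qm.map (MulAut.conj g).toMonoidHom) = 2 ^ 25 := by
    rw [Subgroup.card_map_of_injective (MulAut.conj g).injective, hQmcard]
  obtain ⟨k, hk25, hk⟩ := (Nat.dvd_prime_pow Nat.prime_two).1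
    (hgQ ▸ Subgroup.card_dvd_of_le (inf_le_left : A ≤ Qm.map (MulAut.conj g).toMonoidHom))
  have hk24 : k = 24 := by
    rcases Nat.lt_or_ge k 24 with hlt | hge
    · exfalso
      have e1 : Nat.card (D.subgroupOf (Subgroup.centralizer ({z} : Set G))) * 4 = 2 ^ 25 * (4096 * 244823040) := by
        rw [← hDcard, ← hclassπ, ← hcq]; ring
      have e2 : Nat.card (D.subgroupOf (Subgroup.centralizer ({z} : Set G))) ∣ 2 ^ 23 * Nat.card ((Subgroup.centralizer ({z} : Set G)) ⧸ Q) := by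
        rw [← hθ, hk]
        exact Nat.mul_dvd_mul (Nat.pow_dvd_pow 2 (by omega)) hdvd
      have e3 := Nat.mul_dvd_mul_right e2 4
      rw [e1, show 2 ^ 23 * Nat.card ((Subgroup.centralizer ({z} : Set G)) ⧸ Q) * 4 = 2 ^ 24 * (Nat.card ((Subgroup.centralizer ({z} : Set G)) ⧸ Q) * 2) by ring, hCQ] at e3
      norm_num at e3
    · rcases Nat.eq_or_lt_of_le hge with h | h
      · exact h.symm
      exfalso
      have hk' : k = 25 := by omega
      have hsub : Qm.map (MulAut.conj g).toMonoidHom ≤ (Subgroup.centralizer ({z} : Set G)) := by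
        have := Subgroup.eq_of_le_of_card_ge (inf_le_left : A ≤ Qm.map (MulAut.conj g).toMonoidHom)
          (by rw [hgQ, hk, hk'])
        rw [← this]
        exact inf_le_right
      -- the pulled back central involution centralises everything
      have hzx : z * vG x = vG x * z :=
        (Subgroup.mem_centralizer_singleton_iff.1 (x : (Subgroup.centralizer ({z} : Set G))).2).symm
      set t : (Subgroup.centralizer ({z} : Set G)) := ⟨g⁻¹ * z * g, hback z hzx⟩ with ht
      have htc : ∀ q : Q, conjQ t q = q := fun q => vG_injective (by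
        show g⁻¹ * z * g * vG q * (g⁻¹ * z * g)⁻¹ = vG q
        have h := Subgroup.mem_centralizer_singleton_iff.1
          (hsub ⟨vG q, ⟨_, q.2, rfl⟩, rfl⟩)
        change g * vG q * g⁻¹ * z = z * (g * vG q * g⁻¹) at h
        calc g⁻¹ * z * g * vG q * (g⁻¹ * z * g)⁻¹ = g⁻¹ * (z * (g * vG q * g⁻¹)) * z⁻¹ * g := by group
          _ = vG q := by rw [← h]; group)
      obtain ⟨γ, hγ⟩ := QuotientGroup.mk'_surjective (Subgroup.center Co0) (φ t)
      have hγc : γ ∈ Subgroup.center Co0 := faithful γ fun u => by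
        obtain ⟨q, hq⟩ := QuotientGroup.mk_surjective (ψ u)
        have e1 := psi_smul S (g := γ) (h := t) hγ hq.symm
        rw [htc q, hq, psi_cg S] at e1
        exact e1
      have htQ : t ∈ Q := (hφker t).1 (by rw [← hγ]; exact (QuotientGroup.eq_one_iff γ).2 hγc)
      have htz : (⟨t, htQ⟩ : Q) ∈ Subgroup.center Q := Subgroup.mem_center_iff.2 fun q => by
        have h : t * (q : (Subgroup.centralizer ({z} : Set G))) * t⁻¹ = q := congrArg Subtype.val (htc q)
        exact Subtype.ext (mul_inv_eq_iff_eq_mul.1 h).symm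
      rcases (hZ _).1 htz with h | h
      · have h' : g⁻¹ * z * g = 1 := congrArg vG h
        have hz := S.setting.1
        rw [show z = g * (g⁻¹ * z * g) * g⁻¹ by group, h', mul_one, mul_inv_cancel, orderOf_one] at hz
        norm_num at hz
      · have h' : g⁻¹ * z * g = z := (congrArg vG h).trans hzv
        apply hxz
        rw [← hg]
        calc g * z * g⁻¹ = g * (g⁻¹ * z * g) * g⁻¹ := by rw [h']
          _ = z := by group
  subst hk24
  -- the image of the meeting
  set E₀ : Subgroup Co0 := ((A.subgroupOf (Subgroup.centralizer ({z} : Set G))).map φ).comap π with hE₀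
  have hQp : IsPGroup 2 Q := IsPGroup.of_card S.setting.2.2.2.1
  have hEp : IsPGroup 2 E₀ := by
    refine IsPGroup.comap_of_ker_isPGroup ?_ π ?_
    · exact (((hQp.map (Subgroup.centralizer ({z} : Set G)).subtype).map (MulAut.conj g).toMonoidHom).to_le inf_le_left).comap_subtype.map φ
    · rw [hπ, QuotientGroup.ker_mk']
      exact IsPGroup.of_card (n := 1) (by rw [Cfsg.Agent.Golay.card_center_co0, pow_one])
  have hπc : ∀ {γ : Co0}, γ ∈ Subgroup.center Co0 → π γ = 1 := fun h => (QuotientGroup.eq_one_iff _).2 h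
  have hmem_class : ∀ {γ : Co0}, π γ ∈ (classStab v).map π → γ ∈ classStab v := by
    rintro γ ⟨δ, hδ, he⟩
    have : δ⁻¹ * γ ∈ Subgroup.center Co0 := QuotientGroup.eq.1 he
    rw [show γ = δ * (δ⁻¹ * γ) by group]
    exact mul_mem hδ ((hScen.trans hSle) this)
  have hE₀le : E₀ ≤ classStab v := fun γ hγ => by
    apply hmem_class
    rw [← hX]
    exact Subgroup.map_mono (Subgroup.comap_mono hAD) hγ
  rcases hnorm E₀ hE₀le
    (fun γ hγ => by
      show π γ ∈ (A.subgroupOf (Subgroup.centralizer ({z} : Set G))).map φ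
      rw [hπc hγ]; exact one_mem _)
    hEp
    (fun γ hγ δ hδ => by
      obtain ⟨h, hh, hhγ⟩ : π γ ∈ (D.subgroupOf (Subgroup.centralizer ({z} : Set G))).map φ := by rw [hX]; exact ⟨γ, hγ, rfl⟩
      obtain ⟨a, ha, haδ⟩ := hδ
      refine ⟨h * a * h⁻¹, hAconj _ ha _ hh, ?_⟩
      rw [map_mul, map_mul, map_inv, map_mul, map_mul, map_inv, hhγ, haδ]) with hE | hE
  · exfalso
    have hAQ : A ≤ Qm := fun a ha => by
      have haC := ((memA a).1 ha).2
      obtain ⟨γ, hγ⟩ := QuotientGroup.mk'_surjective (Subgroup.center Co0) (φ ⟨a, haC⟩)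
      have hγE : γ ∈ E₀ := ⟨⟨a, haC⟩, ha, hγ.symm⟩
      rw [hE] at hγE
      exact ⟨⟨a, haC⟩, (hφker _).1 (by rw [← hγ]; exact hπc hγE), rfl⟩
    have hcomm_cases : ∀ a ∈ Qm, ∀ b ∈ Qm, a * b * a⁻¹ * b⁻¹ = 1 ∨ a * b * a⁻¹ * b⁻¹ = z := by
      rintro _ ⟨a, ha, rfl⟩ _ ⟨b, hb, rfl⟩
      rcases (hZ _).1 (comm_center S ⟨a, ha⟩ ⟨b, hb⟩) with h | h
      · exact Or.inl (congrArg vG h)
      · exact Or.inr ((congrArg vG h).trans hzv)
    have hab : ∀ a ∈ A, ∀ b ∈ A, a * b = b * a := by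
      intro a ha b hb
      suffices h : a * b * a⁻¹ * b⁻¹ = 1 by
        calc a * b = a * b * a⁻¹ * b⁻¹ * (b * a) := by group
          _ = b * a := by rw [h, one_mul]
      rcases hcomm_cases _ (hAQ ha) _ (hAQ hb) with h | h
      · exact h
      rcases hcomm_cases _ ((memA a).1 ha).1 _ ((memA b).1 hb).1 with h' | h'
      · calc a * b * a⁻¹ * b⁻¹ = g * (g⁻¹ * a * g * (g⁻¹ * b * g) * (g⁻¹ * a * g)⁻¹ * (g⁻¹ * b * g)⁻¹) * g⁻¹ := by group
          _ = 1 := by rw [h']; group
      · exfalso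
        apply hxz
        rw [← hg]
        calc g * z * g⁻¹ = g * (g⁻¹ * a * g * (g⁻¹ * b * g) * (g⁻¹ * a * g)⁻¹ * (g⁻¹ * b * g)⁻¹) * g⁻¹ := by rw [h']
          _ = a * b * a⁻¹ * b⁻¹ := by group
          _ = z := h
    let j : Q →* G := (Subgroup.centralizer ({z} : Set G)).subtype.comp Q.subtype
    have hcardH : Nat.card (A.comap j) = 2 ^ 24 := by
      rw [← hk]
      refine Nat.card_congr (Equiv.ofBijective (fun q => (⟨j q.1, q.2⟩ : A))
        ⟨fun q q' h => Subtype.ext (vG_injective (congrArg (fun u : A => (u : G)) h)), fun a => ?_⟩)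
      obtain ⟨c, hc, hce⟩ := hAQ a.2
      exact ⟨⟨⟨c, hc⟩, by show (Subgroup.centralizer ({z} : Set G)).subtype c ∈ A; rw [hce]; exact a.2⟩, Subtype.ext hce⟩
    have := card_le_eight (cq S) (comm_center S) (A.comap j)
      (fun a ha b hb => vG_injective (hab _ ha _ hb))
      (by rw [hcardH, S.setting.2.2.2.1]; norm_num)
    rw [S.setting.2.2.2.1] at this
    norm_num at this
  -- the main case
  have hEA : (A.subgroupOf (Subgroup.centralizer ({z} : Set G))).map φ = Sv.map π := by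
    rw [← hE, hE₀, Subgroup.map_comap_eq_self_of_surjective (QuotientGroup.mk'_surjective _)]
  have hEcard : Nat.card (Sv.map π) = 2048 := by
    have := hπker Sv hScen
    omega
  refine ⟨v, Sv, ι, hSc, hSle, hScen, hSab, hSsq, hι, hιinj, hιS, hsplit, ?_, hX, hEA, hEcard, ?_⟩
  · intro γ hγ a ha
    rw [← hE] at ha ⊢
    obtain ⟨h, hh, hhγ⟩ : π γ ∈ (D.subgroupOf (Subgroup.centralizer ({z} : Set G))).map φ := by rw [hX]; exact ⟨γ, hγ, rfl⟩
    obtain ⟨b, hb, hbδ⟩ := ha
    refine ⟨h * b * h⁻¹, hAconj _ hb _ hh, ?_⟩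
    rw [map_mul, map_mul, map_inv, map_mul, map_mul, map_inv, hhγ, hbδ]
  · have h1 := card_map_mul φ (A.subgroupOf (Subgroup.centralizer ({z} : Set G)))
    rw [hEA, hEcard, card_subgroupOf (inf_le_right : A ≤ (Subgroup.centralizer ({z} : Set G))), hk] at h1
    have h2 : Nat.card ↥(A.subgroupOf (Subgroup.centralizer ({z} : Set G)) ⊓ φ.ker) =
        Nat.card ↥(Qm ⊓ Qm.map (MulAut.conj g).toMonoidHom) := by
      refine Nat.card_congr
        { toFun := fun c => ⟨(c.1 : G), ⟨c.1, (hφker _).1 c.2.2, rfl⟩, (show (c.1 : G) ∈ A from c.2.1).1⟩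
          invFun := fun a => ⟨⟨a.1, hQC a.2.1⟩, (show a.1 ∈ A from ⟨a.2.2, hQC a.2.1⟩), (hφker _).2 ?_⟩
          left_inv := fun c => rfl
          right_inv := fun a => rfl }
      obtain ⟨c, hc, hce⟩ := a.2.1
      rwa [show (⟨a.1, hQC a.2.1⟩ : (Subgroup.centralizer ({z} : Set G))) = c from Subtype.ext hce.symm]
    rw [h2] at h1
    omega

end Cfsg.Agent.H92.MonsterCross
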