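import Cfsg.Agent.Golay.MinOrbit

/-!
Kernel-checked orbit certificates for pointwise stabilisers in Co0 of a few lattice vectors,
acting on minimal vectors with prescribed inner products.
-/

set_option autoImplicit false

namespace Cfsg.Agent.H92.LeechOrbit

open Cfsg Cfsg.Agent.Golay
open scoped Pointwise

/-! ### Packed vectors -/

/-- Field `i` (four bits) of a packed vector. -/
def fld (n i : ℕ) : ℕ := (n >>> (4 * i)) &&& 15

/-- The vector of a packed code. -/
def dec (n : ℕ) : GolayPt → ℤ := fun p => (fld n (idx p) : ℤ) - 8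

lemma fld_lt (n i : ℕ) : fld n i < 16 := by
  rw [fld, show (15 : ℕ) = 2 ^ 4 - 1 by norm_num, Nat.and_two_pow_sub_one_eq_mod]
  exact Nat.mod_lt _ (by norm_num)

/-- Pack fields. -/
def mk16 : ℕ → (ℕ → ℕ) → ℕ
  | 0, _ => 0
  | n + 1, f => f 0 + 16 * mk16 n (fun i => f (i + 1))

lemma fld_eq (n i : ℕ) : fld n i = n / 16 ^ i % 16 := by
  rw [fld, Nat.shiftRight_eq_div_pow, show (15 : ℕ) = 2 ^ 4 - 1 by norm_num,
    Nat.and_two_pow_sub_one_eq_mod, pow_mul]
  norm_num

lemma fld_mk16 : ∀ {n : ℕ} {f : ℕ → ℕ} {i : ℕ}, i < n → (∀ j < n, f j < 16) →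
    fld (mk16 n f) i = f i
  | 0, _, _, h, _ => absurd h (Nat.not_lt_zero _)
  | n + 1, f, i, hi, hf => by
    rw [fld_eq]
    cases i with
    | zero =>
      have := hf 0 hi
      simp only [mk16, pow_zero, Nat.div_one]
      omega
    | succ i =>
      have ih := fld_mk16 (f := fun i => f (i + 1)) (Nat.lt_of_succ_lt_succ hi)
        (fun j hj => hf (j + 1) (Nat.succ_lt_succ hj))
      rw [fld_eq] at ih
      rw [← ih, pow_succ', ← Nat.div_div_eq_div_mul]
      have h0 := hf 0 (Nat.succ_pos n)
      have hq : (f 0 + 16 * mk16 n fun i => f (i + 1)) / 16 = mk16 n fun i => f (i + 1) := by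
        omega
      simp only [mk16, hq]

lemma mk16_cast : ∀ (n : ℕ) (f : ℕ → ℕ),
    (mk16 n f : ℤ) = ∑ i ∈ Finset.range n, (f i : ℤ) * 16 ^ i
  | 0, f => by simp [mk16]
  | n + 1, f => by
    rw [Finset.sum_range_succ', mk16, Nat.cast_add, Nat.cast_mul, mk16_cast n, Finset.mul_sum,
      pow_zero, mul_one, add_comm]
    congr 1
    refine Finset.sum_congr rfl fun i _ => ?_
    push_cast; ring

/-- All fields equal to eight. -/
def eights : ℤ := 42255020007607646716556773512

lemma eights_eq : eights = ∑ i ∈ Finset.range 24, (8 : ℤ) * 16 ^ i := by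
  decide +kernel

/-- The code of a small vector given as a function of the bit position. -/
def code24 (x : ℕ → ℤ) : ℕ := (eights + ∑ i ∈ Finset.range 24, x i * 16 ^ i).toNat

lemma dec_code24 {x : ℕ → ℤ} (hx : ∀ i < 24, -8 ≤ x i ∧ x i ≤ 7) (p : GolayPt) :
    dec (code24 x) p = x (idx p) := by
  have h : code24 x = mk16 24 (fun i => (x i + 8).toNat) := by
    rw [code24, ← Int.toNat_natCast (mk16 24 _), mk16_cast, eights_eq,
      ← Finset.sum_add_distrib]
    congr 1
    refine Finset.sum_congr rfl fun i hi => ?_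
    have := hx i (Finset.mem_range.1 hi)
    rw [Int.toNat_of_nonneg (by omega)]
    ring
  have hp := idx_lt p
  rw [dec, h, fld_mk16 hp]
  · have := hx _ hp; omega
  · intro j hj; have := hx j hj; omega

lemma sum_points (f : GolayPt → ℤ) : ∑ p, f p = ∑ i ∈ Finset.range 24, f (pt i) :=
  Finset.sum_bij (fun p _ => idx p) (fun p _ => Finset.mem_range.2 (idx_lt p))
    (fun p _ q _ h => idx_injective h)
    (fun i hi => ⟨pt i, Finset.mem_univ _, idx_pt i (Finset.mem_range.1 hi)⟩)
    (fun p _ => by rw [pt_idx])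

/-! ### Atoms and words -/

/-- A monomial map given by a sign mask, the same mask spread over nibbles and a table, or the
sextet automorphism. -/
inductive Atom where
  | mono (s S T : ℕ)
  | zeta

/-- One in every nibble. -/
def ones16 : ℕ := 5281877500950955839569596689

/-- No field is zero. -/
def nzOK (n : ℕ) : Bool :=
  Nat.beq (Nat.land (Nat.lor (Nat.lor n (Nat.shiftRight n 1))
    (Nat.lor (Nat.shiftRight n 2) (Nat.shiftRight n 3))) ones16) ones16

/-- The positions. -/
def posList : List ℕ :=
  [0, 1, 2, 3, 4, 5, 6, 7, 8, 9, 10, 11, 12, 13, 14, 15, 16, 17, 18, 19, 20, 21, 22, 23]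

/-- The fields moved by a table. -/
noncomputable def permApp (T n : ℕ) : ℕ :=
  List.rec (motive := fun _ => ℕ) 0 (fun i _ acc => Nat.add acc
    (Nat.shiftLeft (Nat.land (Nat.shiftRight n (Nat.mul 4 i)) 15)
      (Nat.mul 4 (Nat.land (Nat.shiftRight T (Nat.mul 5 i)) 31)))) posList

/-- The image of a code with nonzero fields under a monomial step. -/
noncomputable def monoApp (S T n : ℕ) : ℕ :=
  Nat.add (Nat.xor (permApp T n) (Nat.mul 15 S)) S

/-- The relation checked for a monomial step. -/
noncomputable def monoRel (S T n m : ℕ) : Bool := nzOK n && Nat.beq (monoApp S T n) m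

/-- The tetrad of a position. -/
def tetOf (i : ℕ) : ℕ := ((409903395717677896192 >>> (3 * i)) &&& 7) % 6

/-- The positions in a tetrad. -/
def tetPts (t : ℕ) : List ℕ := (List.range 24).filter fun i => tetOf i == t

/-- The positions of all tetrads, as a literal. -/
def tetTable : List (List ℕ) := (List.range 6).map tetPts

/-- Tetrad sum of the fields. -/
def tsum (n t : ℕ) : ℕ := ((tetPts t).map fun i => fld n i).sum

/-- The relation checked for a sextet step. -/
def zetaRel (n m : ℕ) : Bool :=
  (List.range 24).all fun i =>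
    bif tetOf i == 0 then fld m i + tsum n (tetOf i) / 2 == 16 + fld n i
    else fld m i + fld n i == tsum n (tetOf i) / 2

/-- The image under a sextet step (only used to produce intermediate codes). -/
def zetaApp (n : ℕ) : ℕ :=
  (List.range 24).foldl (fun acc i =>
    acc + ((bif tetOf i == 0 then 16 + fld n i - tsum n (tetOf i) / 2
      else tsum n (tetOf i) / 2 - fld n i) <<< (4 * i))) 0

/-- A step. -/
noncomputable def rel : Atom → ℕ → ℕ → Bool
  | .mono _ S T, n, m => monoRel S T n m
  | .zeta, n, m => zetaRel n m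

/-- The image under a step. -/
noncomputable def appAtom : Atom → ℕ → ℕ
  | .mono _ S T, n => monoApp S T n
  | .zeta, n => zetaApp n

/-- A word carries one code to another. -/
noncomputable def chk : List Atom → ℕ → ℕ → Bool
  | [], n, m => n == m
  | [a], n, m => rel a n m
  | a :: b :: r, n, m => rel a n (appAtom a n) && chk (b :: r) (appAtom a n) m

/-- An atom is valid. -/
def atomOK : Atom → Bool
  | .mono s S T => inCode s && decide (s < 2 ^ 24) && inM24 T &&
      Nat.beq S (mk16 24 fun i => bif s.testBit i then 1 else 0)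
  | .zeta => true

/-- The element of an atom. -/
noncomputable def atomEl : Atom → Co0
  | .mono s _ T =>
    if h : inCode s = true ∧ s < 2 ^ 24 ∧ inM24 T = true then
      signAut ⟨ptSet s, (ptSet_mem_supports_iff h.2.1).2 (inCode_iff.1 h.1)⟩
        * permAut ⟨mkPerm T, mem_M24_of_inM24 h.2.2⟩
    else 1
  | .zeta => Cfsg.Agent.Golay.zeta

/-- The element of a word. -/
noncomputable def wordEl : List Atom → Co0
  | [] => 1
  | a :: r => wordEl r * atomEl a

lemma monoEl_apply {s S T : ℕ} (hok : atomOK (.mono s S T) = true) (v : leechLattice)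
    (q : GolayPt) :
    (atomEl (.mono s S T) • v : leechLattice).1 (pt (app T (idx q)))
      = if s.testBit (app T (idx q)) then -v.1 q else v.1 q := by
  simp only [atomOK, Bool.and_eq_true, decide_eq_true_eq] at hok
  have hT := validT_of_inM24 hok.1.2
  simp only [atomEl]
  rw [dif_pos ⟨hok.1.1.1, hok.1.1.2, hok.1.2⟩, mul_smul, signAut_apply, ← mkPerm_apply hT,
    permAut_apply _ v q]
  simp only [mem_ptSet, idx_mkPerm hT]

lemma mk16_lt : ∀ (n : ℕ) (f : ℕ → ℕ), (∀ i < n, f i < 16) → mk16 n f < 16 ^ n
  | 0, f, _ => by simp [mk16]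
  | n + 1, f, h => by
    have h0 := h 0 (Nat.succ_pos n)
    have := mk16_lt n (fun i => f (i + 1)) fun i hi => h (i + 1) (Nat.succ_lt_succ hi)
    rw [mk16, pow_succ]
    omega

lemma fld_xor (a b i : ℕ) : fld (a ^^^ b) i = fld a i ^^^ fld b i := by
  simp only [fld, Nat.shiftRight_xor_distrib, Nat.and_xor_distrib_right]

lemma eq_of_fld {n m : ℕ} (hn : n < 2 ^ 96) (hm : m < 2 ^ 96)
    (hf : ∀ i < 24, fld n i = fld m i) : n = m := by
  refine Nat.eq_of_testBit_eq fun k => ?_
  by_cases hk : k < 96
  · have h4 := congrArg (fun z => Nat.testBit z (k % 4)) (hf (k / 4) (by omega))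
    simp only [fld, Nat.testBit_and, Nat.testBit_shiftRight, Nat.div_add_mod] at h4
    have h15 : (15 : ℕ).testBit (k % 4) = true := by
      rw [show (15 : ℕ) = 2 ^ 4 - 1 by norm_num, Nat.testBit_two_pow_sub_one]
      exact decide_eq_true (Nat.mod_lt _ (by norm_num))
    simpa [h15] using h4
  · have hle : 2 ^ 96 ≤ 2 ^ k := Nat.pow_le_pow_right (by norm_num) (by omega)
    rw [Nat.testBit_lt_two_pow (by omega), Nat.testBit_lt_two_pow (by omega)]

lemma fld_ne_zero {n : ℕ} (h : nzOK n = true) {i : ℕ} (hi : i < 24) : fld n i ≠ 0 := by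
  intro h0
  have hones : ones16 = mk16 24 fun _ => 1 := by decide +kernel
  have h1 : fld ones16 i = 1 := by rw [hones, fld_mk16 hi fun _ _ => by norm_num]
  have hb : ∀ k < 4, n.testBit (4 * i + k) = false := by
    intro k hk
    have h2 := congrArg (fun z => Nat.testBit z k) h0
    have h15 : (15 : ℕ).testBit k = true := by
      rw [show (15 : ℕ) = 2 ^ 4 - 1 by norm_num, Nat.testBit_two_pow_sub_one]
      exact decide_eq_true hk
    simpa [fld, Nat.testBit_and, Nat.testBit_shiftRight, h15, add_comm] using h2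
  have e : ((n ||| n >>> 1) ||| (n >>> 2 ||| n >>> 3)) &&& ones16 = ones16 := Nat.eq_of_beq_eq_true h
  have h3 := congrArg (fun z => fld z i) e
  simp only [h1] at h3
  have h4 := congrArg (fun z => Nat.testBit z 0) h3
  simp only [fld, Nat.testBit_and, Nat.testBit_or, Nat.testBit_shiftRight, add_zero] at h4
  have h5 : n.testBit (4 * i) = false := by simpa using hb 0 (by norm_num)
  rw [show 1 + 4 * i = 4 * i + 1 by omega, show 2 + 4 * i = 4 * i + 2 by omega,
    show 3 + 4 * i = 4 * i + 3 by omega, hb 1 (by norm_num), hb 2 (by norm_num), hb 3 (by norm_num),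
    h5] at h4
  simp at h4

lemma monoApp_fields {s S T n : ℕ} (hok : atomOK (.mono s S T) = true) (hz : nzOK n = true)
    (q : GolayPt) :
    fld (monoApp S T n) (app T (idx q))
      = bif s.testBit (app T (idx q)) then 16 - fld n (idx q) else fld n (idx q) := by
  simp only [atomOK, Bool.and_eq_true] at hok
  obtain ⟨⟨-, hT0⟩, hS⟩ := hok
  have hT := validT_of_inM24 hT0
  have hS' : S = mk16 24 fun i => bif s.testBit i then 1 else 0 := Nat.eq_of_beq_eq_true hS
  set σ := mkPerm T with hσ
  set f : ℕ → ℕ := fun j => fld n (idx (σ.symm (pt j))) with hf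
  set e : ℕ → ℕ := fun i => bif s.testBit i then 1 else 0 with he
  have hperm : permApp T n = mk16 24 f := by
    have e1 : ∀ L : List ℕ, (List.rec (motive := fun _ => ℕ) 0 (fun i _ acc => Nat.add acc
        (Nat.shiftLeft (Nat.land (Nat.shiftRight n (Nat.mul 4 i)) 15)
          (Nat.mul 4 (Nat.land (Nat.shiftRight T (Nat.mul 5 i)) 31)))) L : ℕ)
        = (L.map fun i => fld n i * 16 ^ app T i).sum := by
      intro L
      induction L with
      | nil => rfl
      | cons a L ih =>
        rw [List.map_cons, List.sum_cons, ← ih]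
        show (List.rec (motive := fun _ => ℕ) 0 (fun i _ acc => Nat.add acc
          (Nat.shiftLeft (Nat.land (Nat.shiftRight n (Nat.mul 4 i)) 15)
            (Nat.mul 4 (Nat.land (Nat.shiftRight T (Nat.mul 5 i)) 31)))) L : ℕ)
              + (fld n a <<< (4 * app T a)) = _
        rw [Nat.shiftLeft_eq, show (16 : ℕ) ^ app T a = 2 ^ (4 * app T a) by
          rw [show (16 : ℕ) = 2 ^ 4 by norm_num, ← pow_mul]]
        exact add_comm _ _
    apply Nat.cast_injective (R := ℤ)
    rw [mk16_cast, permApp, e1, ← List.sum_toFinset _ (show posList.Nodup by decide),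
      show posList.toFinset = Finset.range 24 by decide]
    push_cast
    have hl : ∑ l : GolayPt, (f (idx l) : ℤ) * 16 ^ idx l
        = ∑ i ∈ Finset.range 24, (f i : ℤ) * 16 ^ i :=
      (sum_points _).trans (Finset.sum_congr rfl fun i hi => by rw [idx_pt i (Finset.mem_range.1 hi)])
    have hr : ∑ p : GolayPt, (fld n (idx p) : ℤ) * 16 ^ app T (idx p)
        = ∑ i ∈ Finset.range 24, (fld n i : ℤ) * 16 ^ app T i :=
      (sum_points _).trans (Finset.sum_congr rfl fun i hi => by rw [idx_pt i (Finset.mem_range.1 hi)])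
    rw [← hl, ← hr, ← Equiv.sum_comp σ (fun l : GolayPt => (f (idx l) : ℤ) * 16 ^ idx l)]
    refine Finset.sum_congr rfl fun p _ => ?_
    rw [hσ, idx_mkPerm hT, hf]
    simp only
    rw [← idx_mkPerm hT, pt_idx, ← hσ, Equiv.symm_apply_apply]
  have h15 : 15 * S = mk16 24 fun i => 15 * e i := by
    apply Nat.cast_injective (R := ℤ)
    push_cast
    rw [hS', mk16_cast, mk16_cast, Finset.mul_sum]
    refine Finset.sum_congr rfl fun i _ => ?_
    push_cast; ring
  have hflt : ∀ j < 24, f j < 16 := fun j _ => fld_lt _ _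
  have hfnz : ∀ j < 24, f j ≠ 0 := fun j _ => fld_ne_zero hz (idx_lt _)
  have hxor : permApp T n ^^^ 15 * S
      = mk16 24 fun j => bif s.testBit j then 15 - f j else f j := by
    have h96 : (2 : ℕ) ^ 96 = 16 ^ 24 := by norm_num
    have he15 : ∀ j < 24, 15 * e j < 16 := fun j _ => by
      simp only [he]; cases s.testBit j <;> simp
    have hlt : ∀ j < 24, (bif s.testBit j then 15 - f j else f j) < 16 := fun j hj => by
      have := hflt j hj; cases s.testBit j <;> simp <;> omega
    rw [hperm, h15]
    refine eq_of_fld ?_ (by rw [h96]; exact mk16_lt _ _ hlt) fun i hi => ?_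
    · exact Nat.xor_lt_two_pow (by rw [h96]; exact mk16_lt _ _ hflt)
        (by rw [h96]; exact mk16_lt _ _ he15)
    · rw [fld_xor, fld_mk16 hi hflt, fld_mk16 hi he15, fld_mk16 hi hlt]
      have hx : ∀ y : Fin 16, 15 - y.1 = y.1 ^^^ 15 := by decide
      simp only [he]
      cases s.testBit i
      · simp
      · simpa using (hx ⟨f i, hflt i hi⟩).symm
  have hres : monoApp S T n = mk16 24 fun j => bif s.testBit j then 16 - f j else f j := by
    show (permApp T n ^^^ 15 * S) + S = _
    rw [hxor, hS']
    apply Nat.cast_injective (R := ℤ)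
    push_cast
    rw [mk16_cast, mk16_cast, mk16_cast, ← Finset.sum_add_distrib]
    refine Finset.sum_congr rfl fun i hi => ?_
    have := hflt i (Finset.mem_range.1 hi)
    have := hfnz i (Finset.mem_range.1 hi)
    cases hb : s.testBit i
    · simp [he, hb]
    · simp only [cond_true, he, hb]
      rw [Nat.cast_sub (by omega), Nat.cast_sub (by omega)]
      push_cast; ring
  have hlt : ∀ j < 24, (bif s.testBit j then 16 - f j else f j) < 16 := fun j hj => by
    have := hflt j hj; have := hfnz j hj; cases s.testBit j <;> simp <;> omega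
  rw [hres, fld_mk16 ((validT_bijective hT).2 _ (idx_lt q)) hlt]
  simp only [hf]
  rw [← mkPerm_apply hT, ← hσ, Equiv.symm_apply_apply]

lemma monoRel_sound {s S T n m : ℕ} (hok : atomOK (.mono s S T) = true)
    (h : monoRel S T n m = true) {v : leechLattice} (hv : v.1 = dec n) :
    (atomEl (.mono s S T) • v : leechLattice).1 = dec m := by
  rw [monoRel, Bool.and_eq_true] at h
  obtain rfl : monoApp S T n = m := Nat.eq_of_beq_eq_true h.2
  have hT : validT T = true := by
    simp only [atomOK, Bool.and_eq_true] at hok; exact validT_of_inM24 hok.1.2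
  funext l
  obtain ⟨q, rfl⟩ : ∃ q, tblFun T q = l := (validT_bijective hT).1.surjective l
  rw [tblFun, monoEl_apply hok, hv, dec, dec, idx_pt _ ((validT_bijective hT).2 _ (idx_lt q)),
    monoApp_fields hok h.1]
  have := fld_lt n (idx q)
  cases s.testBit (app T (idx q)) <;> simp <;> omega

lemma tet_filter : ∀ t : Fin 6,
    (Finset.univ.filter fun p => tetIdx p = t) = ((tetPts t.1).map pt).toFinset ∧
      ((tetPts t.1).map pt).Nodup := by
  decide +kernel

lemma tetOf_idx : ∀ p : GolayPt, (tetIdx p).1 = tetOf (idx p) := by decide +kernel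

lemma tetSum_dec (n : ℕ) (t : Fin 6) : tetSum (dec n) t = (tsum n t.1 : ℤ) - 32 := by
  rw [tetSum, (tet_filter t).1, List.sum_toFinset _ (tet_filter t).2, List.map_map, tsum]
  have hlen : (tetPts t.1).length = 4 := by
    have := tetIdx_card t
    rwa [(tet_filter t).1, List.toFinset_card_of_nodup (tet_filter t).2, List.length_map] at this
  have key : ∀ L : List ℕ, (∀ i ∈ L, i < 24) →
      (L.map (dec n ∘ pt)).sum = ((L.map fun i => fld n i).sum : ℕ) - 8 * (L.length : ℤ) := by
    intro L
    induction L with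
    | nil => simp
    | cons a L ih =>
      intro h
      simp only [List.map_cons, List.sum_cons, List.length_cons, Function.comp_apply]
      rw [ih (fun i hi => h i (List.mem_cons_of_mem _ hi)), dec, idx_pt a (h a (by simp))]
      push_cast; ring
  show (List.map (dec n ∘ pt) (tetPts t.1)).sum = _
  rw [key (tetPts t.1) (fun i hi => List.mem_range.1 (List.mem_filter.1 hi).1), hlen]
  norm_num

lemma zetaRel_sound {n m : ℕ} (h : zetaRel n m = true) {v : leechLattice} (hv : v.1 = dec n) :
    (Cfsg.Agent.Golay.zeta • v : leechLattice).1 = dec m := by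
  funext p
  rw [zeta_apply, hv]
  have hi := List.all_eq_true.1 h (idx p) (List.mem_range.2 (idx_lt p))
  simp only [zetaFun, tetSum_dec, dec, tetSign, ← tetOf_idx] at hi ⊢
  by_cases ht : tetIdx p = 0
  · simp only [ht, Fin.val_zero, beq_self_eq_true, cond_true, beq_iff_eq] at hi
    simp only [ht, Fin.val_zero, if_true]
    omega
  · have hne : ((tetIdx p).1 == 0) = false := by
      rw [beq_eq_false_iff_ne]; exact fun e => ht (Fin.ext e)
    simp only [hne, cond_false, beq_iff_eq] at hi
    rw [if_neg ht]
    omega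

lemma rel_sound {a : Atom} {n m : ℕ} (hok : atomOK a = true) (h : rel a n m = true)
    {v : leechLattice} (hv : v.1 = dec n) : (atomEl a • v : leechLattice).1 = dec m := by
  cases a with
  | mono s S T => exact monoRel_sound hok h hv
  | zeta => exact zetaRel_sound h hv

lemma chk_sound : ∀ {w : List Atom} {n m : ℕ}, w.all atomOK = true → chk w n m = true →
    ∀ {v : leechLattice}, v.1 = dec n → (wordEl w • v : leechLattice).1 = dec m
  | [], n, m, _, h, v, hv => by
    rw [chk, beq_iff_eq] at h
    rw [wordEl, one_smul, hv, h]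
  | [a], n, m, hok, h, v, hv => by
    simp only [List.all_cons, List.all_nil, Bool.and_true] at hok
    rw [wordEl, wordEl, one_mul]
    exact rel_sound hok h hv
  | a :: b :: r, n, m, hok, h, v, hv => by
    rw [List.all_cons, Bool.and_eq_true] at hok
    rw [chk, Bool.and_eq_true] at h
    rw [wordEl, mul_smul]
    exact chk_sound hok.2 h.2 (rel_sound hok.1 h.1 hv)

/-! ### Certificates -/

/-- A tree of chunks, addressed from the lowest bit. -/
inductive BT where
  | leaf (c : ℕ)
  | node (l r : BT)

/-- The chunk at an address. -/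
noncomputable def BT.get (t : BT) : ℕ → ℕ :=
  BT.rec (motive := fun _ => ℕ → ℕ) (fun c _ => c)
    (fun _ _ l r i => bif Nat.beq (Nat.land i 1) 0 then l (Nat.shiftRight i 1)
      else r (Nat.shiftRight i 1)) t

/-- An orbit certificate. -/
structure Cert where
  refs : List (ℕ × ℤ)
  gens : List (List Atom)
  N : ℕ
  root : ℕ
  data : BT

namespace Cert

variable (C : Cert)

/-- The record of node `i`: code, parent, generator, depth. -/
noncomputable def entry (i : ℕ) : ℕ :=
  Nat.land (Nat.shiftRight (C.data.get (Nat.shiftRight i 5)) (Nat.mul 128 (Nat.land i 31)))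
    340282366920938463463374607431768211455

/-- The code of node `i`. -/
noncomputable def code (i : ℕ) : ℕ := Nat.land (C.entry i) 79228162514264337593543950335

/-- The parent of node `i`. -/
noncomputable def par (i : ℕ) : ℕ := Nat.land (Nat.shiftRight (C.entry i) 96) 16383

/-- The generator leading to node `i`. -/
noncomputable def gen (i : ℕ) : ℕ := Nat.land (Nat.shiftRight (C.entry i) 110) 15

/-- The depth of node `i`. -/
noncomputable def dep (i : ℕ) : ℕ := Nat.shiftRight (C.entry i) 114

end Cert

/-- All numbers below a bound satisfy a test. -/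
def allBelow (N : ℕ) (p : ℕ → Bool) : Bool :=
  (List.range (N / 64 + 1)).all fun q => (List.range 64).all fun r =>
    !decide (64 * q + r < N) || p (64 * q + r)

lemma allBelow_spec {N : ℕ} {p : ℕ → Bool} (h : allBelow N p = true) : ∀ i < N, p i = true := by
  intro i hi
  have h1 := List.all_eq_true.1 (List.all_eq_true.1 h (i / 64) (List.mem_range.2 (by omega)))
    (i % 64) (List.mem_range.2 (Nat.mod_lt _ (by norm_num)))
  rw [show 64 * (i / 64) + i % 64 = i by omega, decide_eq_true hi] at h1
  simpa using h1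

/-- A lattice vector given by a code. -/
def inLeechCode (n : ℕ) : Bool := inLeech (dec n)

/-- The check of a certificate. -/
noncomputable def certOK (C : Cert) : Bool :=
  decide (C.root < C.N)
    && (C.refs.all fun r => inLeechCode r.1)
    && inLeechCode (C.code C.root)
    && decide (sqNorm (dec (C.code C.root)) = 32)
    && (C.refs.all fun r => decide (dotInt (dec r.1) (dec (C.code C.root)) = r.2))
    && (C.gens.all fun w => w.all atomOK && C.refs.all fun r => chk w r.1 r.1)
    && (allBelow (C.N - 1) fun i => decide (C.code i < C.code (i + 1)))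
    && allBelow C.N fun i =>
        bif C.dep i == 0 then i == C.root
        else decide (C.par i < C.N) && decide (C.dep (C.par i) < C.dep i)
          && decide (C.gen i < C.gens.length)
          && chk (C.gens.getD (C.gen i) []) (C.code (C.par i)) (C.code i)

/-- Every minimal vector with the prescribed inner products is listed. -/
def Cover (C : Cert) : Prop :=
  ∀ x : GolayPt → ℤ, x ∈ leechLattice → sqNorm x = 32 →
    (∀ r ∈ C.refs, dotInt (dec r.1) x = r.2) → ∃ i < C.N, dec (C.code i) = x

/-- The minimal vectors with the prescribed inner products. -/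
def target (C : Cert) : Set leechLattice :=
  {x | sqNorm x.1 = 32 ∧ ∀ r ∈ C.refs, dotInt (dec r.1) x.1 = r.2}

/-- The pointwise stabiliser of the reference vectors. -/
def fixer (C : Cert) : Subgroup Co0 where
  carrier := {g | ∀ v : leechLattice, (∃ r ∈ C.refs, v.1 = dec r.1) → g • v = v}
  one_mem' := fun v _ => one_smul _ v
  mul_mem' := fun {a b} ha hb v hv => by rw [mul_smul, hb v hv, ha v hv]
  inv_mem' := fun {a} ha v hv => by
    conv_lhs => rw [← ha v hv]
    rw [inv_smul_smul]

lemma mem_fixer {C : Cert} {g : Co0} :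
    g ∈ fixer C ↔ ∀ v : leechLattice, (∃ r ∈ C.refs, v.1 = dec r.1) → g • v = v := Iff.rfl

variable {C : Cert}

/-- The content of a checked certificate. -/
theorem cert_spec (hok : certOK C = true) :
    (∀ i < C.N, ∃ v : leechLattice, v.1 = dec (C.code i) ∧ v ∈ target C ∧
      ∃ root : leechLattice, root.1 = dec (C.code C.root) ∧ v ∈ MulAction.orbit (fixer C) root) ∧
    Set.InjOn C.code (Set.Iio C.N) := by
  simp only [certOK, Bool.and_eq_true, decide_eq_true_eq, List.all_eq_true, inLeechCode] at hok
  obtain ⟨⟨⟨⟨⟨⟨⟨hroot, hrefs⟩, hrootL⟩, hrootN⟩, hrootD⟩, hgens⟩, hsort⟩, hsteps⟩ := hok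
  set r0 : leechLattice := ⟨dec (C.code C.root), mem_of_inLeech hrootL⟩
  have hmem : ∀ w ∈ C.gens, wordEl w ∈ fixer C := by
    intro w hw v hv
    obtain ⟨r, hr, hvr⟩ := hv
    exact Subtype.ext ((chk_sound (List.all_eq_true.2 (hgens w hw).1) ((hgens w hw).2 r hr)
      hvr).trans hvr.symm)
  have hstep := allBelow_spec hsteps
  have horb : ∀ d i, i < C.N → C.dep i ≤ d → ∃ v : leechLattice, v.1 = dec (C.code i) ∧
      v ∈ MulAction.orbit (fixer C) r0 := by
    intro d
    induction d with
    | zero =>
      intro i hi hd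
      have h := hstep i hi
      rw [show C.dep i = 0 by omega, beq_self_eq_true, cond_true, beq_iff_eq] at h
      exact ⟨r0, by rw [h], MulAction.mem_orbit_self r0⟩
    | succ d ih =>
      intro i hi hd
      have h := hstep i hi
      by_cases h0 : C.dep i = 0
      · exact ih i hi (by omega)
      rw [show (C.dep i == 0) = false by rw [beq_eq_false_iff_ne]; exact h0, cond_false] at h
      simp only [Bool.and_eq_true, decide_eq_true_eq] at h
      obtain ⟨⟨⟨hp, hdp⟩, hg⟩, hc⟩ := h
      obtain ⟨v, hv, hvo⟩ := ih (C.par i) hp (by omega)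
      have hw : C.gens.getD (C.gen i) [] ∈ C.gens := by
        rw [List.getD_eq_getElem _ _ hg]; exact List.getElem_mem hg
      refine ⟨wordEl (C.gens.getD (C.gen i) []) • v,
        chk_sound (List.all_eq_true.2 (hgens _ hw).1) hc hv, ?_⟩
      obtain ⟨g, rfl⟩ := hvo
      exact ⟨⟨_, hmem _ hw⟩ * g, mul_smul _ g r0⟩
  refine ⟨fun i hi => ?_, ?_⟩
  · obtain ⟨v, hv, hvo⟩ := horb _ i hi le_rfl
    refine ⟨v, hv, ?_, r0, rfl, hvo⟩
    obtain ⟨g, rfl⟩ := hvo
    refine ⟨?_, fun r hr => ?_⟩
    · show sqNorm ((g : Co0) • r0).1 = 32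
      rw [co0_sqNorm]; exact hrootN
    · set u : leechLattice := ⟨dec r.1, mem_of_inLeech (hrefs r hr)⟩
      show dotInt u.1 ((g : Co0) • r0).1 = r.2
      rw [← g.2 u ⟨r, hr, rfl⟩, co0_dot]
      exact hrootD r hr
  · have hlt : ∀ i j, i < j → j < C.N → C.code i < C.code j := by
      intro i j hij
      induction j with
      | zero => omega
      | succ j ih =>
        intro hj
        have h : C.code j < C.code (j + 1) := of_decide_eq_true (allBelow_spec hsort j (by omega))
        rcases Nat.lt_succ_iff_lt_or_eq.1 hij with hlt | rfl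
        · exact (ih hlt (by omega)).trans h
        · exact h
    intro i hi j hj h
    simp only [Set.mem_Iio] at hi hj
    rcases lt_trichotomy i j with l | l | l
    · have := hlt i j l hj; omega
    · exact l
    · have := hlt j i l hi; omega

/-- The code of an index, read in the lattice (zero when invalid). -/
noncomputable def vecAt (C : Cert) (i : ℕ) : leechLattice :=
  open Classical in if h : dec (C.code i) ∈ leechLattice then ⟨dec (C.code i), h⟩ else 0

lemma dec_injOn_of {n m : ℕ} (hn : n < 2 ^ 96) (hm : m < 2 ^ 96) (h : dec n = dec m) : n = m :=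
  eq_of_fld hn hm fun i hi => by
    have := congrFun h (pt i)
    simp only [dec, idx_pt i hi] at this
    omega

lemma code_lt (C : Cert) (i : ℕ) : C.code i < 2 ^ 96 := by
  show C.entry i &&& (2 ^ 96 - 1) < _
  rw [Nat.and_two_pow_sub_one_eq_mod]
  exact Nat.mod_lt _ (by norm_num)

lemma target_eq_image (hok : certOK C = true) (hcov : Cover C) :
    target C = vecAt C '' Set.Iio C.N := by
  ext x
  constructor
  · rintro ⟨hx, hd⟩
    obtain ⟨i, hi, he⟩ := hcov x.1 x.2 hx hd
    refine ⟨i, hi, ?_⟩
    have hm : dec (C.code i) ∈ leechLattice := he ▸ x.2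
    rw [vecAt, dif_pos hm]
    exact Subtype.ext he
  · rintro ⟨i, hi, rfl⟩
    obtain ⟨v, hv, hvt, -⟩ := (cert_spec hok).1 i hi
    rw [vecAt, dif_pos (hv ▸ v.2)]
    rwa [show (⟨dec (C.code i), hv ▸ v.2⟩ : leechLattice) = v from Subtype.ext hv.symm]

theorem ncard_target (hok : certOK C = true) (hcov : Cover C) : (target C).ncard = C.N := by
  rw [target_eq_image hok hcov, Set.ncard_image_of_injOn, ← Finset.coe_Iio, Set.ncard_coe_finset,
    Nat.card_Iio]
  intro i hi j hj h
  obtain ⟨v, hv, -⟩ := (cert_spec hok).1 i hi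
  obtain ⟨w, hw, -⟩ := (cert_spec hok).1 j hj
  rw [vecAt, vecAt, dif_pos (hv ▸ v.2), dif_pos (hw ▸ w.2)] at h
  exact (cert_spec hok).2 hi hj
    (dec_injOn_of (code_lt C i) (code_lt C j) (congrArg Subtype.val h))

theorem target_transitive (hok : certOK C = true) (hcov : Cover C) {x y : leechLattice}
    (hx : x ∈ target C) (hy : y ∈ target C) : ∃ g ∈ fixer C, g • x = y := by
  rw [target_eq_image hok hcov] at hx hy
  obtain ⟨i, hi, rfl⟩ := hx
  obtain ⟨j, hj, rfl⟩ := hy
  obtain ⟨v, hv, -, r, hr, hvo⟩ := (cert_spec hok).1 i hi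
  obtain ⟨w, hw, -, r', hr', hwo⟩ := (cert_spec hok).1 j hj
  have hvec : ∀ {k : ℕ} {u : leechLattice}, u.1 = dec (C.code k) → vecAt C k = u := by
    intro k u hu
    rw [vecAt, dif_pos (hu ▸ u.2)]
    exact Subtype.ext hu.symm
  rw [hvec hv, hvec hw]
  obtain rfl : r = r' := Subtype.ext (hr.trans hr'.symm)
  obtain ⟨a, rfl⟩ := hvo
  obtain ⟨b, rfl⟩ := hwo
  refine ⟨(b * a⁻¹ : fixer C).1, (b * a⁻¹).2, ?_⟩
  show (b * a⁻¹) • a • r = b • r
  rw [mul_smul, inv_smul_smul]

/-- A finite test on the listed vectors. -/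
theorem forall_target (hok : certOK C = true) (hcov : Cover C) {p : ℕ → Bool}
    (h : (allBelow C.N fun i => p (C.code i)) = true) {x : leechLattice} (hx : x ∈ target C) :
    ∃ n, p n = true ∧ x.1 = dec n := by
  obtain ⟨i, hi, he⟩ := hcov x.1 x.2 hx.1 hx.2
  exact ⟨_, allBelow_spec h i hi, he.symm⟩

/-! ### Searching the list -/

/-- Bisection. -/
noncomputable def bisect (C : Cert) (n k : ℕ) : ℕ → ℕ → ℕ :=
  Nat.rec (motive := fun _ => ℕ → ℕ → ℕ) (fun lo _ => lo)
    (fun _ ih lo hi =>
      bif Nat.ble (C.code (Nat.shiftRight (Nat.add lo hi) 1)) n then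
        ih (Nat.shiftRight (Nat.add lo hi) 1) hi
      else ih lo (Nat.shiftRight (Nat.add lo hi) 1)) k

/-- A code is listed. -/
noncomputable def found (C : Cert) (n : ℕ) : Bool :=
  Nat.ble (bisect C n 14 0 C.N + 1) C.N && Nat.beq (C.code (bisect C n 14 0 C.N)) n

/-- Inner product of two packed vectors, tested against a value. -/
noncomputable def dotTest (a b : ℕ) (d : ℤ) : Bool :=
  decide (((List.rec (motive := fun _ => ℕ) 0 (fun i _ acc => Nat.add acc
      (Nat.add (Nat.mul (fld a i) (fld b i)) 64)) posList : ℕ) : ℤ)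
    = d + ((List.rec (motive := fun _ => ℕ) 0 (fun i _ acc => Nat.add acc
      (Nat.mul 8 (Nat.add (fld a i) (fld b i)))) posList : ℕ) : ℤ))

lemma dotTest_eq (a b : ℕ) (d : ℤ) : dotTest a b d = decide (dotInt (dec a) (dec b) = d) := by
  have e : ∀ (g : ℕ → ℕ) (L : List ℕ),
      (List.rec (motive := fun _ => ℕ) 0 (fun i _ acc => Nat.add acc (g i)) L : ℕ) = (L.map g).sum := by
    intro g L
    induction L with
    | nil => rfl
    | cons x L ih =>
      rw [List.map_cons, List.sum_cons, ← ih]
      exact add_comm _ _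
  have h : ∀ g : ℕ → ℕ, ((posList.map g).sum : ℕ) = ∑ i ∈ Finset.range 24, g i := fun g => by
    rw [← List.sum_toFinset _ (show posList.Nodup by decide),
      show posList.toFinset = Finset.range 24 by decide]
  rw [dotTest, e, e, h, h, dotInt, sum_points]
  refine decide_eq_decide.2 ?_
  have : ∑ i ∈ Finset.range 24, dec a (pt i) * dec b (pt i)
      = ((∑ i ∈ Finset.range 24, (fld a i * fld b i + 64) : ℕ) : ℤ)
        - ((∑ i ∈ Finset.range 24, 8 * (fld a i + fld b i) : ℕ) : ℤ) := by
    push_cast
    rw [← Finset.sum_sub_distrib]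
    refine Finset.sum_congr rfl fun i hi => ?_
    rw [dec, dec, idx_pt i (Finset.mem_range.1 hi)]
    ring
  rw [this]
  simp only [Nat.add_eq, Nat.mul_eq]
  constructor <;> intro h <;> linarith

lemma found_spec {n : ℕ} (h : found C n = true) : ∃ i < C.N, C.code i = n := by
  rw [found, Bool.and_eq_true] at h
  exact ⟨_, Nat.le_of_ble_eq_true h.1, Nat.eq_of_beq_eq_true h.2⟩

/-- A listed set inside a larger one, cut out by one more inner product. -/
noncomputable def subCoverOK (P C : Cert) (r : ℕ × ℤ) : Bool :=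
  allBelow P.N fun i =>
    !dotTest r.1 (P.code i) r.2 || found C (P.code i)

theorem cover_sub {P : Cert} {r : ℕ × ℤ} (hP : Cover P) (hrefs : C.refs = P.refs ++ [r])
    (h : subCoverOK P C r = true) : Cover C := by
  intro x hx hn hd
  obtain ⟨i, hi, he⟩ := hP x hx hn fun s hs => hd s (by rw [hrefs]; exact List.mem_append.2 (Or.inl hs))
  have h1 := allBelow_spec h i hi
  rw [dotTest_eq, he, decide_eq_true (hd r (by rw [hrefs]; simp))] at h1
  obtain ⟨j, hj, e⟩ := found_spec (C := C) (by simpa using h1)
  exact ⟨j, hj, by rw [e, he]⟩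

end Cfsg.Agent.H92.LeechOrbit
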