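import Cfsg.Agent.H98.PSU32
import Cfsg.Agent.Components.TTCore
import Cfsg.Agent.H29.ThreeTransp
import Cfsg.Agent.S0282

/-!
Three-generated transposition groups of width one, and the derived group of `SU_3(2)`.
-/

set_option autoImplicit false

namespace Cfsg.Agent.H92.TTThree

open Cfsg
open scoped commutatorElement

section bound

variable {G : Type*} [Group G] [Finite G]

theorem card_sup_le (H N : Subgroup G) (h : H ≤ Subgroup.normalizer (N : Set G)) :
    Nat.card ↥(H ⊔ N) ≤ Nat.card H * Nat.card N := by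
  have := Set.natCard_mul_le (s := (H : Set G)) (t := (N : Set G))
  rwa [← Subgroup.coe_mul_of_left_le_normalizer_right H N h] at this

/-- an element of finite order sending the generators into the generated subgroup normalises it -/
theorem mem_normalizer_closure {d : G} (hdd : d * d = 1) {S : Set G}
    (h : ∀ x ∈ S, d * x * d ∈ Subgroup.closure S) :
    d ∈ Subgroup.normalizer (Subgroup.closure S : Set G) := by
  have hdi : d⁻¹ = d := inv_eq_of_mul_eq_one_right hdd
  have hle : ∀ x ∈ Subgroup.closure S, d * x * d ∈ Subgroup.closure S := by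
    intro x hx
    have hsub : Subgroup.closure S ≤ (Subgroup.closure S).comap (MulAut.conj d).toMonoidHom :=
      (Subgroup.closure_le _).2 fun y hy => by
        show d * y * d⁻¹ ∈ Subgroup.closure S
        rw [hdi]; exact h y hy
    have := hsub hx
    change d * x * d⁻¹ ∈ Subgroup.closure S at this
    rwa [hdi] at this
  refine Subgroup.mem_normalizer_iff.2 fun x => ⟨fun hx => by rw [hdi]; exact hle x hx, fun hx => ?_⟩
  rw [hdi] at hx
  have := hle _ hx
  rwa [show d * (d * x * d) * d = d * d * x * (d * d) by group, hdd, one_mul, mul_one] at this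

theorem card_zpowers_le {x : G} {n : ℕ} (hn : 0 < n) (h : x ^ n = 1) :
    Nat.card (Subgroup.zpowers x) ≤ n := by
  rw [Nat.card_zpowers]
  exact Nat.le_of_dvd hn (orderOf_dvd_of_pow_eq_one h)

/-- three involutions with the relations of the affine reflection group and one more of order three -/
theorem three_bound {a b c : G} (ha : a * a = 1) (hb : b * b = 1) (hc : c * c = 1)
    (hab : a * b * a = b * a * b) (hac : a * c * a = c * a * c) (hbc : b * c * b = c * b * c)
    (h3 : (a * (b * c * b)) ^ 3 = 1) : Nat.card (Subgroup.closure ({a, b, c} : Set G)) ≤ 54 := by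
  have ai : a⁻¹ = a := inv_eq_of_mul_eq_one_right ha
  have bi : b⁻¹ = b := inv_eq_of_mul_eq_one_right hb
  have ci : c⁻¹ = c := inv_eq_of_mul_eq_one_right hc
  have ha' : ∀ x, a * (a * x) = x := fun x => by rw [← mul_assoc, ha, one_mul]
  have hb' : ∀ x, b * (b * x) = x := fun x => by rw [← mul_assoc, hb, one_mul]
  have hc' : ∀ x, c * (c * x) = x := fun x => by rw [← mul_assoc, hc, one_mul]
  set t := a * b * a * c with ht
  set u := b * a * c * a with hu
  have hatu : a * t * a = u := by
    rw [ht, hu]; simp only [mul_assoc, ha']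
  have haut : a * u * a = t := by
    rw [← hatu]; simp only [mul_assoc, ha', ha, mul_one]
  have hcomm : t * u = u * t := by
    calc t * u = a * b * a * ((c * b * a * c) * a) := by rw [ht, hu]; group
      _ = a * b * a * (c * b * (a * c * a)) := by group
      _ = a * b * a * (c * b * (c * a * c)) := by rw [hac]
      _ = a * b * a * ((c * b * c) * a * c) := by group
      _ = a * b * a * ((b * c * b) * a * c) := by rw [hbc]
      _ = (a * b * a) * b * (c * b * a * c) := by group
      _ = (b * a * b) * b * (c * b * a * c) := by rw [hab]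
      _ = b * a * (c * b * a * c) := by simp only [mul_assoc, hb']
      _ = u * t := by rw [ht, hu]; simp only [mul_assoc, ha']
  have hbt : b * t * b = t * u⁻¹ := by
    rw [hu, ht, mul_inv_rev, mul_inv_rev, mul_inv_rev, ai, bi, ci]
    calc b * (a * b * a * c) * b = b * (b * a * b) * (c * b) := by rw [← hab]; group
      _ = a * (b * c * b) := by simp only [mul_assoc, hb']
      _ = a * b * (a * a) * c * b := by rw [ha]; group
      _ = a * b * a * (a * c * a) * a * b := by simp only [mul_assoc, ha']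
      _ = a * b * a * (c * a * c) * a * b := by rw [hac]
      _ = a * b * a * c * (a * (c * (a * b))) := by group
  have hbu : b * u * b = u⁻¹ := by
    rw [hu, mul_inv_rev, mul_inv_rev, mul_inv_rev, ai, bi, ci]
    simp only [mul_assoc, hb']
  have ht3 : t ^ 3 = 1 := by
    have e : t = b * (a * (b * c * b)) * b⁻¹ := by
      rw [ht, bi, show a * b * a = b * a * b from hab]; simp only [mul_assoc, hb, mul_one]
    rw [e, conj_pow, h3, mul_one, mul_inv_cancel]
  have hu3 : u ^ 3 = 1 := by
    rw [← hatu, show a * t * a = a * t * a⁻¹ by rw [ai], conj_pow, ht3, mul_one, mul_inv_cancel]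
  set K := Subgroup.closure ({t, u} : Set G) with hK
  have htK : t ∈ K := Subgroup.subset_closure (by simp)
  have huK : u ∈ K := Subgroup.subset_closure (by simp)
  have hKcard : Nat.card K ≤ 9 := by
    have hle : K ≤ Subgroup.zpowers t ⊔ Subgroup.zpowers u := (Subgroup.closure_le _).2 (by
      rintro x (rfl | rfl)
      · exact Subgroup.mem_sup_left (Subgroup.mem_zpowers _)
      · exact Subgroup.mem_sup_right (Subgroup.mem_zpowers _))
    refine (Subgroup.card_le_of_le hle).trans ((card_sup_le _ _ ?_).trans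
      (Nat.mul_le_mul (card_zpowers_le (by norm_num) ht3) (card_zpowers_le (by norm_num) hu3)))
    refine le_trans ?_ (Subgroup.centralizer_le_normalizer _)
    rw [Subgroup.zpowers_le, Subgroup.mem_centralizer_iff]
    rintro _ ⟨k, rfl⟩
    exact (Commute.zpow_right (show Commute t u from hcomm) k).symm
  have haN : a ∈ Subgroup.normalizer (K : Set G) := mem_normalizer_closure ha (by
    rintro x (rfl | rfl)
    · rw [hatu]; exact huK
    · rw [haut]; exact htK)
  have hbN : b ∈ Subgroup.normalizer (K : Set G) := mem_normalizer_closure hb (by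
    rintro x (rfl | rfl)
    · rw [hbt]; exact mul_mem htK (inv_mem huK)
    · rw [hbu]; exact inv_mem huK)
  set R := Subgroup.zpowers (a * b) with hR
  set S := Subgroup.zpowers a ⊔ R with hS
  have hab3 : (a * b) ^ 3 = 1 := by
    calc (a * b) ^ 3 = a * b * a * (b * a * b) := by rw [pow_succ, pow_two]; group
      _ = 1 := by rw [← hab]; simp only [mul_assoc, ha', hb', ha]
  have hSle : Nat.card S ≤ 6 := by
    refine (card_sup_le _ _ ?_).trans (Nat.mul_le_mul (card_zpowers_le (n := 2) (by norm_num)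
      (by rw [pow_two, ha])) (card_zpowers_le (n := 3) (by norm_num) hab3))
    rw [Subgroup.zpowers_le, hR, Subgroup.zpowers_eq_closure]
    refine mem_normalizer_closure ha ?_
    rintro x rfl
    have : a * (a * b) * a = (a * b)⁻¹ := by rw [mul_inv_rev, ai, bi]; simp only [← mul_assoc, ha, one_mul]
    rw [this]
    exact inv_mem (Subgroup.subset_closure rfl)
  have haS : a ∈ S := Subgroup.mem_sup_left (Subgroup.mem_zpowers _)
  have hbS : b ∈ S := by
    rw [show b = a * (a * b) from (ha' b).symm]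
    exact mul_mem haS (Subgroup.mem_sup_right (Subgroup.mem_zpowers _))
  have hSN : S ≤ Subgroup.normalizer (K : Set G) :=
    sup_le ((Subgroup.zpowers_le).2 haN) ((Subgroup.zpowers_le).2 (mul_mem haN hbN))
  have hle : Subgroup.closure ({a, b, c} : Set G) ≤ S ⊔ K := (Subgroup.closure_le _).2 (by
    intro x hx
    simp only [Set.mem_insert_iff, Set.mem_singleton_iff] at hx
    rcases hx with h | h | h <;> rw [SetLike.mem_coe, h]
    · exact Subgroup.mem_sup_left haS
    · exact Subgroup.mem_sup_left hbS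
    · rw [show c = a * b * a * t by rw [ht]; simp only [mul_assoc, ha', hb']]
      exact Subgroup.mul_mem_sup (mul_mem (mul_mem haS hbS) haS) htK)
  exact (Subgroup.card_le_of_le hle).trans ((card_sup_le S K hSN).trans (Nat.mul_le_mul hSle hKcard))

end bound

section derived

open Cfsg.Agent.H98.PSU32 Cfsg.Agent.Unitary Matrix

variable {F : Type*} [Field F] [Fintype F]

theorem mA_mB : ∃ k : Fin 3, (mN (1, 0)) * (mN (0, 1)) = w ^ (k : ℕ) • ((mN (0, 1)) * (mN (1, 0))) ∧
    ((mN (1, 0)) * (mN (0, 1)) ≠ (mN (0, 1)) * (mN (1, 0))) := by decide +kernel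

theorem q8_comm : ∀ x y : QuaternionGroup 2,
    x * y * x⁻¹ * y⁻¹ = 1 ∨ x * y * x⁻¹ * y⁻¹ = QuaternionGroup.a 2 := by decide +kernel

/-- the derived group of `SU_3(2)` -/
theorem derived_facts (hF : Fintype.card F = 4) :
    Nat.card ↥(commutator ↥(SU 3 F 2)) ≤ 54 ∧
    (∃ P : Subgroup ↥(commutator ↥(SU 3 F 2)), IsPGroup 3 P ∧ P.index ≤ 2) ∧
    ∃ z ∈ Subgroup.center ↥(commutator ↥(SU 3 F 2)), z ≠ 1 ∧ z ^ 3 = 1 := by
  classical
  have hF2 : Fintype.card F = 2 ^ 2 := by rw [hF]; norm_num
  obtain ⟨N, hNn, hN9, -, ⟨eQ⟩⟩ := structure_psu hF (Cfsg.Agent.S0282.result hF).1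
  obtain ⟨φ, hφ⟩ := exists_hom hF
  have hcz : Nat.card (Subgroup.center (SU 3 F 2)) = 3 := by
    rw [card_center_SU hF2 (by norm_num)]; rfl
  haveI : Finite (SU 3 F 2) := inferInstance
  let f : SU 3 F 2 →* QuaternionGroup 2 :=
    (eQ.toMonoidHom.comp (QuotientGroup.mk' N)).comp (QuotientGroup.mk' (Subgroup.center (SU 3 F 2)))
  have hker : f.ker = N.comap (QuotientGroup.mk' (Subgroup.center (SU 3 F 2))) := by
    ext x
    rw [MonoidHom.mem_ker, Subgroup.mem_comap, ← QuotientGroup.eq_one_iff (N := N)]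
    exact map_eq_one_iff eQ eQ.injective
  have hkp : IsPGroup 3 f.ker := by
    rw [hker]
    refine IsPGroup.comap_of_ker_isPGroup (IsPGroup.of_card (n := 2) (by rw [hN9]; norm_num)) _ ?_
    rw [QuotientGroup.ker_mk']
    exact IsPGroup.of_card (n := 1) (by rw [hcz, pow_one])
  have hkc : Nat.card f.ker = 27 := by
    have h1 := f.ker.card_mul_index
    have hsurj : Function.Surjective f :=
      (eQ.surjective.comp (QuotientGroup.mk'_surjective N)).comp (QuotientGroup.mk'_surjective _)
    rw [Subgroup.index_ker, MonoidHom.range_eq_top.2 hsurj, Subgroup.card_top] at h1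
    have h2 := (Subgroup.center (SU 3 F 2)).card_eq_card_quotient_mul_card_subgroup
    rw [hcz, (Cfsg.Agent.S0282.result hF).1, ← h1, Nat.card_eq_fintype_card (α := QuaternionGroup 2),
      QuaternionGroup.card] at h2
    omega
  let V : Subgroup (QuaternionGroup 2) :=
    { carrier := {x | x = 1 ∨ x = QuaternionGroup.a 2}
      one_mem' := Or.inl rfl
      mul_mem' := by rintro x y (rfl | rfl) (rfl | rfl) <;> decide
      inv_mem' := by rintro x (rfl | rfl) <;> decide }
  have hX : (commutator ↥(SU 3 F 2)).map f ≤ V := by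
    rw [commutator_def, Subgroup.map_commutator, Subgroup.commutator_le]
    intro x _ y _
    rw [commutatorElement_def]
    exact q8_comm x y
  let g : ↥(commutator ↥(SU 3 F 2)) →* QuaternionGroup 2 := f.comp (commutator ↥(SU 3 F 2)).subtype
  have hgr : g.range ≤ V := by
    rw [MonoidHom.range_comp, Subgroup.range_subtype]; exact hX
  have hV : Nat.card V ≤ 2 := by
    refine (Nat.card_le_card_of_injective (fun x : V => (⟨x.1, by
      rcases x.2 with h | h <;> simp [h]⟩ : ({1, QuaternionGroup.a 2} : Finset (QuaternionGroup 2))))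
      fun x y h => Subtype.ext (congrArg Subtype.val h :)).trans ?_
    rw [Nat.card_eq_fintype_card, Fintype.card_coe]
    exact Finset.card_le_two
  have hidx : g.ker.index ≤ 2 := by
    rw [Subgroup.index_ker]; exact (Subgroup.card_le_of_le hgr).trans hV
  have hgk : Nat.card g.ker ≤ 27 := by
    rw [← hkc]
    exact Nat.card_le_card_of_injective (fun x => (⟨((x : ↥(commutator ↥(SU 3 F 2))) : SU 3 F 2), x.2⟩ : f.ker))
      fun x y h => Subtype.ext (Subtype.ext (congrArg (fun u : f.ker => (u : SU 3 F 2)) h))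
  refine ⟨?_, ⟨g.ker, ?_, hidx⟩, ?_⟩
  · rw [← g.ker.card_mul_index]
    exact Nat.mul_le_mul hgk hidx
  · rw [show g.ker = f.ker.comap (commutator ↥(SU 3 F 2)).subtype from rfl]
    exact hkp.comap_of_injective _ Subtype.val_injective
  · obtain ⟨k, hk, hne⟩ := mA_mB
    obtain ⟨A, eA, -⟩ := im_eq φ hF (good_N (1, 0))
    obtain ⟨B, eB, -⟩ := im_eq φ hF (good_N (0, 1))
    have hl : ∀ y, ap (A * B) y = φ (w ^ (k : ℕ)) • ap (B * A) y := fun y => by
      rw [ap_def, ap_def, ← smul_mulVec]
      congr 1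
      show mat A * mat B = _ • (mat B * mat A)
      rw [eA, eB, ← map_mul, ← map_mul, hk]
      ext i j
      simp [Matrix.mul_apply, map_sum, mul_comm]
    have hcz' : A * B * (B * A)⁻¹ ∈ Subgroup.center (SU 3 F 2) :=
      smul_mem_center (l := φ (w ^ (k : ℕ))) fun x => by
        rw [ap_mul, hl, ← ap_mul, mul_inv_cancel, show ap (1 : SU 3 F 2) x = x from one_mulVec x]
    have hmem : A * B * (B * A)⁻¹ ∈ commutator ↥(SU 3 F 2) := by
      rw [show A * B * (B * A)⁻¹ = ⁅A, B⁆ by rw [commutatorElement_def]; group]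
      exact Subgroup.commutator_mem_commutator (Subgroup.mem_top _) (Subgroup.mem_top _)
    refine ⟨⟨_, hmem⟩, Subgroup.mem_center_iff.2 fun x => Subtype.ext (Subgroup.mem_center_iff.1 hcz' x),
      fun h => hne ?_, Subtype.ext ?_⟩
    · have h1 : A * B = B * A := mul_inv_eq_one.1 (congrArg Subtype.val h)
      have h2 : mat A * mat B = mat B * mat A := congrArg (fun C : SU 3 F 2 => mat C) h1
      rw [eA, eB, ← map_mul, ← map_mul] at h2
      exact Matrix.ext fun i' j' => hφ (congrFun (congrFun h2 i') j')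
    · have := pow_card_eq_one' (x := (⟨_, hcz'⟩ : Subgroup.center (SU 3 F 2)))
      rw [hcz] at this
      have h' := congrArg Subtype.val this
      rw [Subgroup.coe_pow] at h' ⊢
      exact h'

end derived

section complement

/-- a complement from three lifted transpositions -/
theorem exists_complement {G X : Type*} [Group G] [Finite G] [Group X] [Finite X] {D : Set G}
    (hD : IsThreeTranspositionClass D) (θ : G →* X) (hθs : Function.Surjective θ) (hX54 : Nat.card X ≤ 54)
    (P : Subgroup X) (hP : IsPGroup 3 P) (hPi : P.index ≤ 2) (z : X) (hzc : z ∈ Subgroup.center X)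
    (hz1 : z ≠ 1) (hz3 : z ^ 3 = 1) : ∃ K : Subgroup G, θ.ker.IsComplement' K := by
  obtain ⟨d, hdD, hDeq⟩ := hD.2.1
  have hconj : ∀ x ∈ D, ∀ y ∈ D, ∃ g : G, g * x * g⁻¹ = y := fun x hx y hy => by
    rw [hDeq] at hx hy
    exact isConj_iff.1 ((show IsConj d x from hx).symm.trans (show IsConj d y from hy))
  have hgen : Subgroup.closure (θ '' D) = ⊤ := by
    rw [← MonoidHom.map_closure, hD.2.2, Subgroup.map_top_of_surjective _ hθs]
  have hne1 : ∀ x ∈ D, θ x ≠ 1 := by
    intro x hx h
    have htop : Subgroup.closure (θ '' D) ≤ ⊥ := (Subgroup.closure_le _).2 (by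
      rintro _ ⟨y, hy, rfl⟩
      obtain ⟨g, rfl⟩ := hconj x hx y hy
      rw [map_mul, map_mul, h, mul_one, map_inv, mul_inv_cancel]
      exact one_mem _)
    rw [hgen] at htop
    exact hz1 (Subgroup.mem_bot.1 (htop (Subgroup.mem_top z)))
  have hinv : ∀ x ∈ D, θ x * θ x = 1 := fun x hx => by rw [← map_mul, Cfsg.Agent.H44.tt_mul_self hD.1 hx, map_one]
  have hnP : ∀ x ∈ D, θ x ∉ P := fun x hx h => hne1 x hx
    (Cfsg.Agent.Components.eq_one_of_coprime_pow (n := 2) (by norm_num) hP h (by rw [pow_two, hinv x hx]))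
  have hPi2 : P.index = 2 := by
    have h0 : P.index ≠ 0 := Subgroup.index_ne_zero_of_finite
    have h1 : P.index ≠ 1 := fun h => hnP d hdD ((Subgroup.index_eq_one.1 h) ▸ Subgroup.mem_top _)
    omega
  have hPP : ∀ x ∈ D, ∀ y ∈ D, θ x * θ y ∈ P := fun x hx y hy =>
    (Subgroup.mul_mem_iff_of_index_two hPi2).2 (iff_of_false (hnP x hx) (hnP y hy))
  have hnc : ∀ x ∈ D, ∀ y ∈ D, θ x ≠ θ y → ¬ Commute (θ x) (θ y) := fun x hx y hy hne hc => by
    apply hne
    have h1 : θ x * θ y = 1 :=
      Cfsg.Agent.Components.eq_one_of_coprime_pow (n := 2) (by norm_num) hP (hPP x hx y hy)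
        (by rw [pow_two, mul_assoc, ← mul_assoc (θ y), ← hc.eq, mul_assoc (θ x), hinv y hy, mul_one, hinv x hx])
    calc θ x = θ x * (θ y * θ y) := by rw [hinv y hy, mul_one]
      _ = θ y := by rw [← mul_assoc, h1, one_mul]
  have hzP : z ∈ P := by
    have h2 : z ^ 2 ∈ P := Subgroup.sq_mem_of_index_two hPi2 z
    rw [show z = z ^ 2 * z ^ 2 by rw [← pow_add, pow_succ, hz3, one_mul]]
    exact mul_mem h2 h2
  obtain ⟨a, haD⟩ : ∃ a, a ∈ D := ⟨d, hdD⟩
  obtain ⟨b, hbD, hab⟩ : ∃ b ∈ D, θ a ≠ θ b := by
    by_contra h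
    push Not at h
    have htop : Subgroup.closure (θ '' D) ≤ Subgroup.zpowers (θ a) := (Subgroup.closure_le _).2 (by
      rintro _ ⟨y, hy, rfl⟩
      rw [← h y hy]
      exact Subgroup.mem_zpowers _)
    rw [hgen] at htop
    obtain ⟨k, hk⟩ := htop (Subgroup.mem_top z)
    apply hz1
    have hz2 : z ^ 2 = 1 := by
      rw [← hk, ← zpow_natCast, ← zpow_mul, mul_comm, zpow_mul, zpow_natCast, pow_two, hinv a haD, one_zpow]
    exact Cfsg.Agent.Components.eq_one_of_two_three hz2 hz3
  have hbr : θ a * θ b * θ a = θ b * θ a * θ b := by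
    have h : ¬ Commute a b := fun h => hnc a haD b hbD hab (h.map θ)
    rw [← map_mul, ← map_mul, Cfsg.Agent.H29.tt_braid hD.1 haD hbD h, map_mul, map_mul]
  set r := θ a * θ b with hr
  have hra : θ a * r * θ a = r⁻¹ := by
    rw [hr, mul_inv_rev, inv_eq_of_mul_eq_one_right (hinv a haD), inv_eq_of_mul_eq_one_right (hinv b hbD),
      ← mul_assoc, hinv a haD, one_mul]
  have hr1 : r ≠ 1 := fun h => hab (by
    calc θ a = θ a * (θ b * θ b) := by rw [hinv b hbD, mul_one]
      _ = θ b := by rw [← mul_assoc, ← hr, h, one_mul])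
  set K := Subgroup.zpowers (θ a) ⊔ Subgroup.zpowers r with hK
  have haN : Subgroup.zpowers (θ a) ≤ Subgroup.normalizer (Subgroup.zpowers r : Set _) := by
    rw [Subgroup.zpowers_le, Subgroup.zpowers_eq_closure]
    refine mem_normalizer_closure (hinv a haD) ?_
    rintro x rfl
    rw [hra]
    exact inv_mem (Subgroup.subset_closure rfl)
  have haK : θ a ∈ K := Subgroup.mem_sup_left (Subgroup.mem_zpowers _)
  have hbK : θ b ∈ K := by
    rw [show θ b = θ a * r by rw [hr, ← mul_assoc, hinv a haD, one_mul]]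
    exact mul_mem haK (Subgroup.mem_sup_right (Subgroup.mem_zpowers _))
  have hrP : r ∈ P := hPP a haD b hbD
  have hzK : z ∉ K := by
    intro h
    have h' : z ∈ (K : Set _) := h
    rw [hK, Subgroup.coe_mul_of_left_le_normalizer_right _ _ haN] at h'
    obtain ⟨u, ⟨i, rfl⟩, v, ⟨j, rfl⟩, huv⟩ := h'
    simp only at huv
    have hi : (θ a) ^ i ∈ P := by
      rw [show (θ a) ^ i = z * (r ^ j)⁻¹ by rw [← huv, mul_inv_cancel_right]]
      exact mul_mem hzP (inv_mem (zpow_mem hrP j))
    have hi1 : (θ a) ^ i = 1 := Cfsg.Agent.Components.eq_one_of_coprime_pow (n := 2) (by norm_num) hP hi (by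
      rw [← zpow_natCast, ← zpow_mul, mul_comm, zpow_mul, zpow_natCast, pow_two, hinv a haD, one_zpow])
    rw [hi1, one_mul] at huv
    apply hz1
    have e1 : θ a * z * (θ a)⁻¹ = z := by rw [Subgroup.mem_center_iff.1 hzc (θ a), mul_inv_cancel_right]
    have e2 : θ a * z * (θ a)⁻¹ = z⁻¹ := by
      rw [← huv, ← conj_zpow, inv_eq_of_mul_eq_one_right (hinv a haD), hra, inv_zpow]
    rw [e1] at e2
    exact Cfsg.Agent.Components.eq_one_of_two_three (by rw [pow_two]; nth_rewrite 2 [e2]; exact mul_inv_cancel z) hz3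
  set L := K ⊔ Subgroup.zpowers z with hL
  have hzN : ∀ H : Subgroup X, H ≤ Subgroup.normalizer (Subgroup.zpowers z : Set _) := fun H x _ => by
    refine Subgroup.centralizer_le_normalizer _ (Subgroup.mem_centralizer_iff.2 ?_)
    rintro _ ⟨k, rfl⟩
    exact (Commute.zpow_left (show Commute z x from (Subgroup.mem_center_iff.1 hzc x).symm) k).eq
  obtain ⟨c, hcD, hcL⟩ : ∃ c ∈ D, θ c ∉ L := by
    by_contra h
    push Not at h
    have hsub : ∀ x ∈ D, θ x ∈ K := by
      intro x hx
      have h' : θ x ∈ (L : Set _) := h x hx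
      rw [hL, Subgroup.coe_mul_of_left_le_normalizer_right _ _ (hzN K)] at h'
      obtain ⟨k, hk, _, ⟨i, rfl⟩, hki⟩ := h'
      simp only at hki
      have hc : Commute k (z ^ i) := Subgroup.mem_center_iff.1 (zpow_mem hzc i) k
      have h2 : (z ^ i) ^ 2 ∈ K := by
        have := congrArg (fun t => t * t) hki
        simp only [hinv x hx] at this
        rw [hc.symm.mul_mul_mul_comm] at this
        rw [pow_two, eq_inv_of_mul_eq_one_right this]
        exact inv_mem (mul_mem hk hk)
      have hzi : z ^ i = 1 := by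
        by_contra hne
        have hmem : z ^ i ∈ K := by
          rw [show z ^ i = (z ^ i) ^ 2 * (z ^ i) ^ 2 by
            rw [← pow_add, pow_succ, show (z ^ i) ^ 3 = 1 by
              rw [← zpow_natCast, ← zpow_mul, mul_comm, zpow_mul, zpow_natCast, hz3, one_zpow], one_mul]]
          exact mul_mem h2 h2
        have h03 : i % 3 = 0 ∨ i % 3 = 1 ∨ i % 3 = 2 := by omega
        have hzm : z ^ i = z ^ (i % 3) := by
          conv_lhs => rw [← Int.mul_ediv_add_emod i 3]
          rw [zpow_add, zpow_mul, show z ^ (3 : ℤ) = 1 by rw [show (3 : ℤ) = ((3 : ℕ) : ℤ) from rfl, zpow_natCast, hz3], one_zpow, one_mul]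
        rcases h03 with e | e | e <;> rw [hzm, e] at hmem hne
        · exact hne (zpow_zero z)
        · exact hzK (by simpa using hmem)
        · apply hzK
          have h4 := mul_mem hmem hmem
          rwa [← zpow_add, show (2 + 2 : ℤ) = 3 + 1 by norm_num, zpow_add, show z ^ (3 : ℤ) = 1 by rw [show (3 : ℤ) = ((3 : ℕ) : ℤ) from rfl, zpow_natCast, hz3],
            one_mul, zpow_one] at h4
      rw [← hki, hzi, mul_one]
      exact hk
    have htop : Subgroup.closure (θ '' D) ≤ K := (Subgroup.closure_le _).2 (by rintro _ ⟨y, hy, rfl⟩; exact hsub y hy)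
    rw [hgen] at htop
    exact hzK (htop (Subgroup.mem_top z))
  have hKL : K ≤ L := le_sup_left
  have hca : θ a ≠ θ c := fun h => hcL (h ▸ hKL haK)
  have hcb : θ b ≠ θ c := fun h => hcL (h ▸ hKL hbK)
  have hbcb : b * c * b ∈ D := by
    have := Cfsg.Agent.H44.tt_invariant hD b hcD
    rwa [Cfsg.Agent.H44.tt_inv hD.1 hbD] at this
  have hcube : (a * (b * c * b)) ^ 3 = 1 := by
    refine Cfsg.Agent.H44.tt_cube hD.1 haD hbcb fun h => hnc a haD _ hbcb (fun he => hcL ?_) (h.map θ)
    have e1 : θ c = θ b * θ (b * c * b) * θ b := by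
      rw [map_mul, map_mul]
      simp only [mul_assoc, hinv b hbD, mul_one]
      rw [← mul_assoc, hinv b hbD, one_mul]
    rw [e1, ← he]
    exact hKL (mul_mem (mul_mem hbK haK) hbK)
  set H := Subgroup.closure ({a, b, c} : Set G) with hH
  have hHc : Nat.card H ≤ 54 := three_bound (Cfsg.Agent.H44.tt_mul_self hD.1 haD) (Cfsg.Agent.H44.tt_mul_self hD.1 hbD)
    (Cfsg.Agent.H44.tt_mul_self hD.1 hcD) (Cfsg.Agent.H29.tt_braid hD.1 haD hbD fun h => hnc a haD b hbD hab (h.map θ))
    (Cfsg.Agent.H29.tt_braid hD.1 haD hcD fun h => hnc a haD c hcD hca (h.map θ))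
    (Cfsg.Agent.H29.tt_braid hD.1 hbD hcD fun h => hnc b hbD c hcD hcb (h.map θ)) hcube
  set M := H.map θ ⊔ Subgroup.zpowers z with hM
  have haH : θ a ∈ H.map θ := ⟨a, Subgroup.subset_closure (by simp), rfl⟩
  have hbH : θ b ∈ H.map θ := ⟨b, Subgroup.subset_closure (by simp), rfl⟩
  have hcH : θ c ∈ H.map θ := ⟨c, Subgroup.subset_closure (by simp), rfl⟩
  have hLM : L < M := by
    refine lt_of_le_of_ne (sup_le_sup_right (sup_le ((Subgroup.zpowers_le).2 haH)
      ((Subgroup.zpowers_le).2 (mul_mem haH hbH))) _) fun h => hcL ?_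
    rw [h]
    exact Subgroup.mem_sup_left hcH
  -- lower bound on `L`
  have h18 : 18 ≤ Nat.card L := by
    set T := Subgroup.zpowers r ⊔ Subgroup.zpowers z with hT
    have hTP : T ≤ P := sup_le ((Subgroup.zpowers_le).2 hrP) ((Subgroup.zpowers_le).2 hzP)
    have hTL : T < L := by
      refine lt_of_le_of_ne (sup_le_sup_right le_sup_right _) fun h => hnP a haD (hTP ?_)
      rw [h]; exact hKL haK
    have hTp : IsPGroup 3 T := hP.to_le hTP
    obtain ⟨k, hk⟩ := hTp.exists_card_eq
    have hrlt : Subgroup.zpowers r < T := lt_of_le_of_ne le_sup_left fun h => hzK (Subgroup.mem_sup_right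
      (by rw [h]; exact Subgroup.mem_sup_right (Subgroup.mem_zpowers z)))
    have hr2 : 2 ≤ Nat.card (Subgroup.zpowers r) := by
      rcases Nat.lt_or_ge (Nat.card (Subgroup.zpowers r)) 2 with h | h
      · exfalso
        have := Subgroup.card_le_one_iff_eq_bot (Subgroup.zpowers r) |>.1 (by omega)
        exact hr1 (Subgroup.zpowers_eq_bot.1 this)
      · exact h
    have hT9 : 9 ≤ Nat.card T := by
      have h3 : Nat.card (Subgroup.zpowers r) < Nat.card T := by
        rcases lt_or_eq_of_le (Subgroup.card_le_of_le hrlt.le) with h | h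
        · exact h
        · exact absurd (Subgroup.eq_of_le_of_card_ge hrlt.le h.ge) hrlt.ne
      obtain ⟨m, hm⟩ := Subgroup.card_dvd_of_le hrlt.le
      rcases k with _ | _ | k
      · omega
      · exfalso
        rw [hk] at h3 hm
        rcases (Nat.dvd_prime Nat.prime_three).1 (show Nat.card (Subgroup.zpowers r) ∣ 3 from ⟨m, by simpa using hm⟩) with h | h
        · omega
        · rw [h] at h3; norm_num at h3
      · rw [hk, pow_succ, pow_succ]; have := Nat.one_le_pow k 3 (by norm_num); omega
    obtain ⟨m, hm⟩ := Subgroup.card_dvd_of_le hTL.le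
    rcases m with _ | _ | m
    · exfalso
      have := Nat.card_pos (α := L)
      omega
    · exfalso
      exact hTL.ne (Subgroup.eq_of_le_of_card_ge hTL.le (by omega))
    · rw [hm]; exact le_trans (show 18 ≤ 9 * 2 by norm_num) (Nat.mul_le_mul hT9 (by omega))
  have hXc : Nat.card X = 54 ∧ M = ⊤ := by
    obtain ⟨m, hm⟩ := Subgroup.card_dvd_of_le hLM.le
    obtain ⟨k, hk⟩ := hP.exists_card_eq
    have hXk : Nat.card X = 3 ^ k * 2 := by
      rw [← P.card_mul_index, hk, hPi2]
    have hlt : Nat.card L < Nat.card M := by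
      rcases lt_or_eq_of_le (Subgroup.card_le_of_le hLM.le) with h | h
      · exact h
      · exact absurd (Subgroup.eq_of_le_of_card_ge hLM.le h.ge) hLM.ne
    have hMX := Subgroup.card_le_card_group M
    have hk3 : k = 3 := by
      rcases Nat.lt_or_ge k 3 with h | h
      · exfalso
        have := Nat.pow_le_pow_right (show 1 ≤ 3 by norm_num) (show k ≤ 2 by omega)
        omega
      · rcases Nat.lt_or_ge k 4 with h' | h'
        · omega
        · exfalso
          have := Nat.pow_le_pow_right (show 1 ≤ 3 by norm_num) h'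
          omega
    subst hk3
    refine ⟨by rw [hXk]; norm_num, Subgroup.eq_top_of_le_card _ ?_⟩
    have hd := M.card_subgroup_dvd_card
    rw [hXk] at hd ⊢
    have hm2 : 2 ≤ m := by
      rcases Nat.lt_or_ge m 2 with h | h
      · exfalso; interval_cases m <;> omega
      · exact h
    have h36 : 36 ≤ Nat.card M := by
      rw [hm]; exact le_trans (show 36 ≤ 18 * 2 by norm_num) (Nat.mul_le_mul h18 hm2)
    obtain ⟨q, hq⟩ := hd
    rcases q with _ | _ | q
    · norm_num at hq
    · omega
    · exfalso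
      norm_num at hq
      have := Nat.mul_le_mul h36 (show 2 ≤ q + 1 + 1 by omega)
      omega
  have hHtop : H.map θ = ⊤ := by
    have hnorm : (H.map θ).Normal := by
      rw [← Subgroup.normalizer_eq_top_iff, eq_top_iff, ← hXc.2]
      refine sup_le Subgroup.le_normalizer ((Subgroup.zpowers_le).2 ?_)
      exact Subgroup.centralizer_le_normalizer _ (Subgroup.mem_centralizer_iff.2 fun y _ => Subgroup.mem_center_iff.1 hzc y)
    rw [eq_top_iff, ← hgen, Subgroup.closure_le]
    rintro _ ⟨y, hy, rfl⟩
    obtain ⟨g, rfl⟩ := hconj a haD y hy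
    rw [map_mul, map_mul, map_inv]
    exact hnorm.conj_mem _ haH _
  refine ⟨H, ?_⟩
  have hinj : ∀ x ∈ H, θ x = 1 → x = 1 := by
    have hsurj : Function.Surjective (θ.comp H.subtype) := by
      rw [← MonoidHom.range_eq_top, MonoidHom.range_comp, Subgroup.range_subtype]
      exact hHtop
    have hbij : Function.Bijective (θ.comp H.subtype) :=
      Nat.bijective_iff_surjective_and_card _ |>.2 ⟨hsurj, le_antisymm (hHc.trans hXc.1.ge)
        (Nat.card_le_card_of_surjective _ hsurj)⟩
    intro x hx h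
    exact congrArg Subtype.val (hbij.1 (a₁ := ⟨x, hx⟩) (a₂ := 1) (by
      rw [map_one]; exact h))
  refine Subgroup.isComplement'_of_disjoint_and_mul_eq_univ (Subgroup.disjoint_def.2 fun {x} hx hxH => hinj x hxH ?_) ?_
  · exact MonoidHom.mem_ker.1 hx
  · refine Set.eq_univ_of_forall fun g => ?_
    obtain ⟨x, hx, hxg⟩ : θ g ∈ H.map θ := hHtop ▸ Subgroup.mem_top _
    refine ⟨g * x⁻¹, MonoidHom.mem_ker.2 ?_, x, hx, inv_mul_cancel_right g x⟩
    rw [map_mul, map_inv, hxg, mul_inv_cancel]

end complement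

end Cfsg.Agent.H92.TTThree
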