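import Cfsg.Agent.H92.LeechForm
import Cfsg.Agent.Golay.Crosses

/-!
Classes of the lattice modulo twice itself and the invariant quadratic form on them.
-/

set_option autoImplicit false

namespace Cfsg.Agent.H92.LeechTwo

open Cfsg Cfsg.Agent.Golay

/-- squared length -/
abbrev nrm (x : leechLattice) : ℤ := sqNorm (x : GolayPt → ℤ)

/-- inner product -/
abbrev dt (x y : leechLattice) : ℤ := dotInt (x : GolayPt → ℤ) (y : GolayPt → ℤ)

/-- congruence modulo twice the lattice -/
def Cg (x y : leechLattice) : Prop := ∃ z : leechLattice, x = y + (z + z)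

theorem Cg.refl (x : leechLattice) : Cg x x := ⟨0, by simp⟩

theorem Cg.symm {x y : leechLattice} (h : Cg x y) : Cg y x := by
  obtain ⟨z, rfl⟩ := h
  exact ⟨-z, by abel⟩

theorem Cg.trans {x y w : leechLattice} (h : Cg x y) (h' : Cg y w) : Cg x w := by
  obtain ⟨z, rfl⟩ := h
  obtain ⟨z', rfl⟩ := h'
  exact ⟨z + z', by abel⟩

theorem Cg.neg_self (x : leechLattice) : Cg (-x) x := ⟨-x, by abel⟩

theorem Cg.smul {x y : leechLattice} (g : Co0) (h : Cg x y) : Cg (g • x) (g • y) := by
  obtain ⟨z, rfl⟩ := h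
  exact ⟨g • z, by rw [co0_smul_add, co0_smul_add]⟩

theorem nrm_neg (x : leechLattice) : nrm (-x) = nrm x := by
  simp [nrm, sqNorm]

theorem dt_comm (x y : leechLattice) : dt x y = dt y x := by
  simp [dt, dotInt, mul_comm]

theorem dt_add_left (x y w : leechLattice) : dt (x + y) w = dt x w + dt y w := by
  simp [dt, dotInt, add_mul, Finset.sum_add_distrib]

theorem dt_neg_left (x w : leechLattice) : dt (-x) w = -dt x w := by
  simp [dt, dotInt]

theorem dt_neg_right (x w : leechLattice) : dt x (-w) = -dt x w := by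
  rw [dt_comm, dt_neg_left, dt_comm]

theorem nrm_add (x y : leechLattice) : nrm (x + y) = nrm x + nrm y + 2 * dt x y :=
  (sqNorm_add_sub x.1 y.1).1

theorem nrm_sub (x y : leechLattice) : nrm (x - y) = nrm x + nrm y - 2 * dt x y :=
  (sqNorm_add_sub x.1 y.1).2

theorem nrm_zero : nrm 0 = 0 := by simp [nrm, sqNorm]

theorem nrm_dvd (x : leechLattice) : (16 : ℤ) ∣ nrm x := sixteen_dvd_sqNorm x.2

theorem eight_dvd_dt (x y : leechLattice) : (8 : ℤ) ∣ dt x y := by
  have := nrm_add x y
  have := nrm_dvd x; have := nrm_dvd y; have := nrm_dvd (x + y)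
  omega

theorem thirtytwo_le (x : leechLattice) (h : x ≠ 0) : 32 ≤ nrm x :=
  thirtytwo_le_sqNorm x.2 fun e => h (Subtype.ext e)

theorem short_unique {x y : leechLattice} (h : Cg x y) (hs : nrm x + nrm y ≤ 128) :
    y = x ∨ y = -x ∨ (nrm x + nrm y = 128 ∧ dt x y = 0) := by
  obtain ⟨z, he⟩ := h
  have he' : (x : GolayPt → ℤ) - (y : GolayPt → ℤ) = 2 • (z : GolayPt → ℤ) := by
    rw [he]
    simp only [AddSubgroup.coe_add]
    rw [two_nsmul]; abel
  rcases congr_two_short y.2 z.2 he' hs with h | h | h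
  · exact Or.inl (Subtype.ext h)
  · exact Or.inr (Or.inl (Subtype.ext h))
  · exact Or.inr (Or.inr h)

theorem exists_rep (x : leechLattice) :
    ∃ y, Cg x y ∧ (y = 0 ∨ nrm y = 32 ∨ nrm y = 48 ∨ nrm y = 64) := by
  obtain ⟨y, hy, hn, z, hz, he⟩ := short_representative x.2
  refine ⟨⟨y, hy⟩, ⟨⟨z, hz⟩, Subtype.ext ?_⟩, ?_⟩
  · simp only [AddSubgroup.coe_add]
    rw [← two_nsmul, ← he]; abel
  · by_cases h0 : (⟨y, hy⟩ : leechLattice) = 0
    · exact Or.inl h0
    · have h1 := thirtytwo_le _ h0
      have h2 := nrm_dvd ⟨y, hy⟩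
      change 32 ≤ sqNorm y at h1
      change (16 : ℤ) ∣ sqNorm y at h2
      refine Or.inr ?_
      show sqNorm y = 32 ∨ sqNorm y = 48 ∨ sqNorm y = 64
      omega

theorem axis_congr (i j : GolayPt) : Cg (axisVec i) (axisVec j) := by
  have h : axisVec j ∈ crossSet (axisVec i) := by
    rw [crossSet_axis]; exact axisVec_mem_stdCross j
  obtain ⟨-, z, hz⟩ := mem_crossSet.1 h
  exact ⟨z, by rw [← two_nsmul, ← hz]; abel⟩

/-- the isometry group is transitive on classes of vectors of squared length 64 -/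
theorem orbit_sixtyfour {v w : leechLattice} (hv : nrm v = 64) (hw : nrm w = 64) :
    ∃ g : Co0, Cg (g • v) w := by
  obtain ⟨a, i, hi⟩ := exists_axis hv
  obtain ⟨b, j, hj⟩ := exists_axis hw
  refine ⟨b⁻¹ * a, ?_⟩
  have h := (axis_congr i j).smul b⁻¹
  rw [← hi, ← hj, inv_smul_smul, ← mul_smul] at h
  exact h

/-- the quadratic form: squared length over 16 modulo 2 -/
def q2 (x : leechLattice) : ZMod 2 := ((nrm x / 16 : ℤ) : ZMod 2)

/-- its bilinear form -/
def d8 (x y : leechLattice) : ZMod 2 := ((dt x y / 8 : ℤ) : ZMod 2)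

theorem q2_add (x y : leechLattice) : q2 (x + y) = q2 x + q2 y + d8 x y := by
  simp only [q2, d8, ← Int.cast_add]
  congr 1
  have := nrm_add x y
  have := nrm_dvd x; have := nrm_dvd y; have := eight_dvd_dt x y
  omega

theorem d8_comm (x y : leechLattice) : d8 x y = d8 y x := by simp [d8, dt_comm]

theorem d8_add (x y w : leechLattice) : d8 (x + y) w = d8 x w + d8 y w := by
  simp only [d8, ← Int.cast_add]
  congr 1
  rw [dt_add_left]
  have := eight_dvd_dt x w; have := eight_dvd_dt y w
  omega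

theorem q2_zero : q2 0 = 0 := by simp [q2, nrm_zero]

theorem d8_zero (w : leechLattice) : d8 0 w = 0 := by simp [d8, dt, dotInt]

theorem leech_induction {P : leechLattice → Prop} (hmin : ∀ m, nrm m = 32 → P m) (h0 : P 0)
    (hadd : ∀ x y, P x → P y → P (x + y)) (hneg : ∀ x, P x → P (-x)) (x : leechLattice) : P x := by
  obtain ⟨x, hx⟩ := x
  have hx' : x ∈ AddSubgroup.closure minVecs := closure_minVecs ▸ hx
  refine AddSubgroup.closure_induction (p := fun y _ => ∀ hy : y ∈ leechLattice, P ⟨y, hy⟩)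
    ?_ ?_ ?_ ?_ hx' hx
  · intro y hy hy'
    exact hmin ⟨y, hy'⟩ hy.2
  · intro hy; exact h0
  · intro a b ha hb iha ihb hab
    exact hadd ⟨a, closure_minVecs ▸ ha⟩ ⟨b, closure_minVecs ▸ hb⟩ (iha _) (ihb _)
  · intro a ha iha hna
    exact hneg ⟨a, closure_minVecs ▸ ha⟩ (iha _)

theorem zmod2_neg (a : ZMod 2) : -a = a := CharTwo.neg_eq a

open Cfsg.Agent.H92.Leech in
/-- a nonzero invariant quadratic form is the squared length over 16 -/
theorem inv_form_eq {f : leechLattice → ZMod 2} {c : leechLattice → leechLattice → ZMod 2}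
    (h : InvForm f c) (hne : ∃ v, f v ≠ 0) :
    (∀ v, f v = q2 v) ∧ ∀ v w, c v w = d8 v w := by
  have hvan : ∀ i j, f (vec i j) = 0 := fun i j =>
    h.vanish_closure (AddSubgroup.subset_closure ⟨i, j, rfl⟩)
  have hf0 : f 0 = 0 := by simpa using h.double 0
  have hcneg : ∀ a b, c a (-b) = c a b := fun a b => by
    have := h.bilin' a b (-b)
    rw [add_neg_cancel, h.symm a 0, h.zero_left] at this
    exact ((add_eq_zero_iff_eq_neg.1 this.symm).trans (zmod2_neg _)).symm
  have hfneg : ∀ a, f (-a) = f a := fun a => by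
    have := h.f_congr a (-a)
    rwa [← add_assoc, add_neg_cancel, zero_add] at this
  have hA : repA = vec none (some 0) := Subtype.ext (funext fun p => by
    show repFour p = _
    rw [vec_apply, repFour]
    rcases eq_or_ne p none with rfl | h1
    · simp
    · rcases eq_or_ne p (some 0) with rfl | h2 <;> simp [*])
  have hmin : ∀ a, nrm a = 32 → f a = 0 := fun a ha => by
    obtain ⟨g, hg⟩ := min_orbit (v := a) ha
    rw [← hg, h.inv, hA, hvan]
  have hsix : ∀ a, nrm a = 64 → f a = 0 := fun a ha => by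
    obtain ⟨g, i, hg⟩ := exists_axis ha
    rw [← h.inv g, hg, show axisVec i = vec i i from Subtype.ext (funext fun p => by
      show (Pi.single i 8 : GolayPt → ℤ) p = _
      rw [vec_apply]
      rcases eq_or_ne p i with rfl | h1 <;> simp [*]), hvan]
  have hcrit : ∀ a b, nrm a = 32 → nrm b = 32 → c a b = f (a + b) := fun a b ha hb => by
    rw [h.c_eq, hmin a ha, hmin b hb, add_zero, add_zero]
  -- the constant
  have hpairs : ∃ k : ZMod 2, ∀ a b, nrm a = 32 → nrm b = 32 → c a b = k * d8 a b := by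
    have hcases : ∀ a b, nrm a = 32 → nrm b = 32 → dt a b ≠ 8 → dt a b ≠ -8 →
        c a b = 0 ∧ d8 a b = 0 := by
      intro a b ha hb h8 h8'
      by_cases hab : a = b
      · subst hab
        exact ⟨by rw [hcrit a a ha ha, h.double], by
          rw [d8, show dt a a = nrm a by simp [dt, nrm, dotInt, sqNorm, pow_two], ha]; decide⟩
      by_cases hab' : a = -b
      · subst hab'
        refine ⟨by rw [hcrit _ b ha hb, neg_add_cancel, hf0], ?_⟩
        rw [d8, dt_neg_left, show dt b b = nrm b by simp [dt, nrm, dotInt, sqNorm, pow_two], hb]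
        decide
      have h1 := thirtytwo_le (a + b) fun e => hab' (eq_neg_of_add_eq_zero_left e)
      have h2 := thirtytwo_le (a - b) (sub_ne_zero.2 hab)
      rw [nrm_add, ha, hb] at h1
      rw [nrm_sub, ha, hb] at h2
      have := eight_dvd_dt a b
      obtain hd | hd | hd : dt a b = 0 ∨ dt a b = 16 ∨ dt a b = -16 := by omega
      · refine ⟨?_, by rw [d8, hd]; decide⟩
        rw [hcrit a b ha hb, hsix _ (by rw [nrm_add, ha, hb, hd]; norm_num)]
      · refine ⟨?_, by rw [d8, hd]; decide⟩
        rw [← hcneg, hcrit a (-b) ha (by rw [nrm_neg, hb]), ← sub_eq_add_neg,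
          hmin _ (by rw [nrm_sub, ha, hb, hd]; norm_num)]
      · refine ⟨?_, by rw [d8, hd]; decide⟩
        rw [hcrit a b ha hb, hmin _ (by rw [nrm_add, ha, hb, hd]; norm_num)]
    by_cases hex : ∃ a b, nrm a = 32 ∧ nrm b = 32 ∧ dt a b = -8
    · obtain ⟨a₀, b₀, ha₀, hb₀, hd₀⟩ := hex
      refine ⟨c a₀ b₀, fun a b ha hb => ?_⟩
      have main : ∀ b, nrm b = 32 → dt a b = -8 → c a b = c a₀ b₀ := by
        intro b hb hd
        obtain ⟨g, rfl⟩ := co0_transitive_min a₀ a ha₀ ha
        have hbe : dt a₀ (g⁻¹ • b) = -8 := by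
          rw [← hd]
          show _ = dotInt _ _
          have e := co0_dot g a₀ (g⁻¹ • b); rw [smul_inv_smul] at e; exact e.symm
        obtain ⟨k, hk1, hk2⟩ := min_trans_eight (v := a₀) (w := b₀) (w' := g⁻¹ • b) ha₀ hb₀
          (by show sqNorm _ = 32; rw [co0_sqNorm]; exact hb) hd₀ hbe
        have := h.c_inv (g * k) a₀ b₀
        rwa [mul_smul, mul_smul, hk1, hk2, smul_inv_smul] at this
      by_cases h1 : dt a b = -8
      · rw [main b hb h1, d8, h1]
        norm_num
      by_cases h2 : dt a b = 8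
      · rw [← hcneg, main (-b) (by rw [nrm_neg, hb]) (by rw [dt_neg_right, h2]), d8, h2]
        norm_num
      · rw [(hcases a b ha hb h2 h1).1, (hcases a b ha hb h2 h1).2, mul_zero]
    · refine ⟨0, fun a b ha hb => ?_⟩
      push Not at hex
      rw [zero_mul]
      refine (hcases a b ha hb (fun h8 => ?_) (hex a b ha hb)).1
      exact hex a (-b) ha (by rw [nrm_neg, hb]) (by rw [dt_neg_right, h8])
  obtain ⟨k, hk⟩ := hpairs
  have hc1 : ∀ v m, nrm m = 32 → c v m = k * d8 v m := by
    intro v m hm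
    induction v using leech_induction with
    | hmin a ha => exact hk a m ha hm
    | h0 => rw [h.zero_left, d8_zero, mul_zero]
    | hadd x y hx hy => rw [h.bilin, hx, hy, d8_add, mul_add]
    | hneg x hx =>
      have e1 := h.bilin x (-x) m
      have e2 := d8_add x (-x) m
      rw [add_neg_cancel, h.zero_left, hx] at e1
      rw [add_neg_cancel, d8_zero] at e2
      rw [← eq_neg_of_add_eq_zero_right e1.symm |>.symm, eq_neg_of_add_eq_zero_right e2.symm,
        mul_neg]
  have hc : ∀ v w, c v w = k * d8 v w := by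
    intro v w
    induction w using leech_induction with
    | hmin a ha => exact hc1 v a ha
    | h0 => rw [h.symm, h.zero_left, d8_comm, d8_zero, mul_zero]
    | hadd x y hx hy => rw [h.bilin', hx, hy, d8_comm v (x + y), d8_add, mul_add, d8_comm v, d8_comm v]
    | hneg x hx =>
      have e2 := d8_add x (-x) v
      rw [add_neg_cancel, d8_zero] at e2
      rw [hcneg, hx, d8_comm v (-x), eq_neg_of_add_eq_zero_right e2.symm, zmod2_neg, d8_comm]
  have hf : ∀ v, f v = k * q2 v := by
    intro v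
    induction v using leech_induction with
    | hmin a ha => rw [hmin a ha, q2, ha, show ((32 / 16 : ℤ) : ZMod 2) = 0 by decide, mul_zero]
    | h0 => rw [hf0, q2_zero, mul_zero]
    | hadd x y hx hy => rw [h.add, hx, hy, hc, q2_add, mul_add, mul_add]
    | hneg x hx => rw [hfneg, hx, q2, q2, nrm_neg]
  obtain ⟨v, hv⟩ := hne
  have : ∀ k : ZMod 2, k = 0 ∨ k = 1 := by decide
  rcases this k with rfl | rfl
  · exact absurd (by rw [hf, zero_mul]) hv
  · exact ⟨fun v => by rw [hf, one_mul], fun v w => by rw [hc, one_mul]⟩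

end Cfsg.Agent.H92.LeechTwo
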