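import Mathlib
import Cfsg.Agent.H92.Basic
import Cfsg.Agent.H92.ExtGroup
import Cfsg.Agent.H92.ExtraIso
import Cfsg.Agent.Cores.PCore

/-!
The centraliser of the transvection `1 + E₀₁` in `SL (n + 2, 2)`.
-/

set_option autoImplicit false
set_option linter.style.haveILetI false

namespace Cfsg.Agent.H92.SLParabolic

open Matrix

abbrev F2 := ZMod 2

variable {n : ℕ}

/-- `[[1, t, r], [0, 1, 0], [0, c, A]]` -/
def blk (A : Matrix (Fin n) (Fin n) F2) (r c : Fin n → F2) (t : F2) :
    Matrix (Fin (n + 2)) (Fin (n + 2)) F2 :=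
  Matrix.of (Fin.cases (Fin.cases 1 (Fin.cases t r))
    (Fin.cases (Fin.cases 0 (Fin.cases 1 0)) (fun i => Fin.cases 0 (Fin.cases (c i) (A i)))))

section entries

variable (A : Matrix (Fin n) (Fin n) F2) (r c : Fin n → F2) (t : F2) (i j : Fin n)

@[simp] theorem blk_00 : blk A r c t 0 0 = 1 := rfl
@[simp] theorem blk_01 : blk A r c t 0 1 = t := rfl
@[simp] theorem blk_0j : blk A r c t 0 j.succ.succ = r j := rfl
@[simp] theorem blk_10 : blk A r c t 1 0 = 0 := rfl
@[simp] theorem blk_11 : blk A r c t 1 1 = 1 := rfl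
@[simp] theorem blk_1j : blk A r c t 1 j.succ.succ = 0 := rfl
@[simp] theorem blk_i0 : blk A r c t i.succ.succ 0 = 0 := rfl
@[simp] theorem blk_i1 : blk A r c t i.succ.succ 1 = c i := rfl
@[simp] theorem blk_ij : blk A r c t i.succ.succ j.succ.succ = A i j := rfl

end entries

theorem two_cases : ∀ x : F2, x = 0 ∨ x = 1 := by decide

theorem sum_split (f : Fin (n + 2) → F2) : ∑ i, f i = f 0 + (f 1 + ∑ i : Fin n, f i.succ.succ) := by
  rw [Fin.sum_univ_succ, Fin.sum_univ_succ]; rfl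

theorem forall_split {P : Fin (n + 2) → Prop} (h0 : P 0) (h1 : P 1)
    (h2 : ∀ i : Fin n, P i.succ.succ) : ∀ i, P i := by
  intro i
  induction i using Fin.cases with
  | zero => exact h0
  | succ i =>
    induction i using Fin.cases with
    | zero => exact h1
    | succ i => exact h2 i

theorem blk_mul (A A' : Matrix (Fin n) (Fin n) F2) (r r' c c' : Fin n → F2) (t t' : F2) :
    blk A r c t * blk A' r' c' t'
      = blk (A * A') (r' + r ᵥ* A') (c + A *ᵥ c') (t + t' + r ⬝ᵥ c') := by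
  ext i j
  rw [mul_apply, sum_split]
  induction i using forall_split <;> induction j using forall_split <;>
    simp [mul_apply, vecMul, mulVec, dotProduct, add_comm, add_left_comm, add_assoc]

theorem blk_one : blk (1 : Matrix (Fin n) (Fin n) F2) 0 0 0 = 1 := by
  ext i j
  induction i using forall_split <;> induction j using forall_split <;>
    simp [one_apply, Fin.ext_iff]

theorem det_eq_one {m : ℕ} {M M' : Matrix (Fin m) (Fin m) F2} (h : M * M' = 1) : M.det = 1 :=
  (by decide : ∀ x y : F2, x * y = 1 → x = 1) _ M'.det (by rw [← det_mul, h, det_one])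

theorem blk_unip_inv (r c : Fin n → F2) (t : F2) :
    blk 1 r c t * blk 1 r c (t + r ⬝ᵥ c) = 1 := by
  rw [blk_mul, ← blk_one, mul_one]
  congr 1
  · rw [vecMul_one]; exact funext fun i => CharTwo.add_self_eq_zero _
  · rw [one_mulVec]; exact funext fun i => CharTwo.add_self_eq_zero _
  · have : ∀ a b : F2, a + (a + b) + b = 0 := by decide
    exact this _ _

/-- The matrix of an element. -/
abbrev mx {m : ℕ} (g : SpecialLinearGroup (Fin m) F2) : Matrix (Fin m) (Fin m) F2 := g

theorem mx_mul {m : ℕ} (g h : SpecialLinearGroup (Fin m) F2) : mx (g * h) = mx g * mx h := rfl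

theorem mx_one {m : ℕ} : mx (1 : SpecialLinearGroup (Fin m) F2) = 1 := rfl

theorem blk_levi_inv (A : SpecialLinearGroup (Fin n) F2) :
    blk (mx A) 0 0 0 * blk (mx A⁻¹) 0 0 0 = 1 := by
  rw [blk_mul, ← mx_mul, mul_inv_cancel, mx_one]
  simp [blk_one]

/-- A unipotent element. -/
def unip (r c : Fin n → F2) (t : F2) : SpecialLinearGroup (Fin (n + 2)) F2 :=
  ⟨blk 1 r c t, det_eq_one (blk_unip_inv r c t)⟩

/-- A Levi element. -/
def levi (A : SpecialLinearGroup (Fin n) F2) : SpecialLinearGroup (Fin (n + 2)) F2 :=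
  ⟨blk (mx A) 0 0 0, det_eq_one (blk_levi_inv A)⟩

/-- The transvection. -/
def zT : SpecialLinearGroup (Fin (n + 2)) F2 := unip 0 0 1

theorem zT_coe : ((zT : SpecialLinearGroup (Fin (n + 2)) F2) : Matrix (Fin (n + 2)) (Fin (n + 2)) F2)
    = transvection 0 1 1 := by
  ext i j
  show blk 1 0 0 1 i j = _
  induction i using forall_split <;> induction j using forall_split <;>
    simp [transvection, one_apply, Matrix.single, Fin.ext_iff]

/-- The parabolic. -/
abbrev C (n : ℕ) : Subgroup (SpecialLinearGroup (Fin (n + 2)) F2) :=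
  Subgroup.centralizer ({zT} : Set (SpecialLinearGroup (Fin (n + 2)) F2))

/-- The Levi coordinate. -/
def mid (M : Matrix (Fin (n + 2)) (Fin (n + 2)) F2) : Matrix (Fin n) (Fin n) F2 :=
  Matrix.of fun i j => M i.succ.succ j.succ.succ

/-- The row coordinate. -/
def row (M : Matrix (Fin (n + 2)) (Fin (n + 2)) F2) : Fin n → F2 := fun j => M 0 j.succ.succ

/-- The column coordinate. -/
def col (M : Matrix (Fin (n + 2)) (Fin (n + 2)) F2) : Fin n → F2 := fun i => M i.succ.succ 1

theorem eq_blk {g : SpecialLinearGroup (Fin (n + 2)) F2} (hg : g ∈ C n) :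
    (g : Matrix (Fin (n + 2)) (Fin (n + 2)) F2) = blk (mid g) (row g) (col g) (g 0 1) := by
  have h : mx g * mx zT = mx zT * mx g :=
    congrArg mx (Subgroup.mem_centralizer_singleton_iff.mp hg)
  have h' : ∀ i j : Fin (n + 2), (mx g * transvection 0 1 (1 : F2) : Matrix _ _ F2) i j
      = (transvection 0 1 (1 : F2) * mx g : Matrix _ _ F2) i j := by
    intro i j
    rw [← zT_coe]
    exact congrFun (congrFun h i) j
  have hcol : ∀ i, i ≠ 0 → g i 0 = 0 := by
    intro i hi
    have := h' i 1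
    rw [mul_transvection_apply_same, transvection_mul_apply_of_ne _ _ _ _ hi] at this
    simpa using this
  have hrow : ∀ j, j ≠ 1 → g 1 j = 0 := by
    intro j hj
    have := h' 0 j
    rw [mul_transvection_apply_of_ne _ _ _ _ hj, transvection_mul_apply_same] at this
    simpa using this
  have hdiag : g 0 0 = g 1 1 := by
    have := h' 0 1
    rw [mul_transvection_apply_same, transvection_mul_apply_same, add_comm (g 0 1), one_mul, one_mul,
      add_comm (g 0 1)] at this
    exact add_right_cancel this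
  have h00 : g 0 0 = 1 := by
    rcases (by decide : ∀ x : F2, x = 0 ∨ x = 1) (g 0 0) with e | e
    · exfalso
      have hdet : (g : Matrix (Fin (n + 2)) (Fin (n + 2)) F2).det = 0 := by
        refine det_eq_zero_of_column_eq_zero 0 fun i => ?_
        by_cases hi : i = 0
        · subst hi; exact e
        · exact hcol i hi
      rw [g.det_coe] at hdet
      exact one_ne_zero hdet
    · exact e
  ext i j
  induction i using forall_split with
  | h0 =>
    induction j using forall_split with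
    | h0 => simpa using h00
    | h1 => simp
    | h2 j => simp [row]
  | h1 =>
    induction j using forall_split with
    | h0 => simpa using hrow 0 (by simp)
    | h1 => simpa [hdiag] using h00
    | h2 j => simpa using hrow _ (by simp [Fin.ext_iff])
  | h2 i =>
    induction j using forall_split with
    | h0 => simpa using hcol _ (Fin.succ_ne_zero _)
    | h1 => simp [col]
    | h2 j => simp [mid]

theorem mid_blk (A : Matrix (Fin n) (Fin n) F2) (r c : Fin n → F2) (t : F2) :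
    mid (blk A r c t) = A := rfl

theorem mid_mul {g h : SpecialLinearGroup (Fin (n + 2)) F2} (hg : g ∈ C n) (hh : h ∈ C n) :
    mid ((g * h : SpecialLinearGroup (Fin (n + 2)) F2) : Matrix (Fin (n + 2)) (Fin (n + 2)) F2)
      = mid g * mid h := by
  show mid (mx g * mx h) = mid (mx g) * mid (mx h)
  rw [show mx g = _ from eq_blk hg, show mx h = _ from eq_blk hh, blk_mul, mid_blk, mid_blk, mid_blk]

theorem mid_one : mid (1 : Matrix (Fin (n + 2)) (Fin (n + 2)) F2) = 1 := by
  ext i j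
  simp [mid, one_apply]

/-- Projection on the Levi factor. -/
def proj : C n →* SpecialLinearGroup (Fin n) F2 where
  toFun g := ⟨mid g.1, det_eq_one (M' := mid (g⁻¹).1) (by
    rw [← mid_mul g.2 (g⁻¹).2, ← Subgroup.coe_mul, mul_inv_cancel, Subgroup.coe_one]
    exact mid_one)⟩
  map_one' := Subtype.ext (by
    show mid (1 : Matrix (Fin (n + 2)) (Fin (n + 2)) F2) = (1 : Matrix (Fin n) (Fin n) F2)
    exact mid_one)
  map_mul' g h := Subtype.ext (mid_mul g.2 h.2)

theorem unip_mem (r c : Fin n → F2) (t : F2) : unip r c t ∈ C n := by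
  refine Subgroup.mem_centralizer_singleton_iff.mpr (Subtype.ext ?_)
  show blk 1 r c t * blk 1 0 0 1 = blk 1 0 0 1 * blk 1 r c t
  rw [blk_mul, blk_mul]
  simp [add_comm]

theorem levi_mem (A : SpecialLinearGroup (Fin n) F2) : levi A ∈ C n := by
  refine Subgroup.mem_centralizer_singleton_iff.mpr (Subtype.ext ?_)
  show blk _ 0 0 0 * blk 1 0 0 1 = blk 1 0 0 1 * blk _ 0 0 0
  rw [blk_mul, blk_mul]
  simp [add_comm]

/-- The section of `proj`. -/
def sec : SpecialLinearGroup (Fin n) F2 →* C n where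
  toFun A := ⟨levi A, levi_mem A⟩
  map_one' := Subtype.ext (Subtype.ext (by
    show blk (mx (1 : SpecialLinearGroup (Fin n) F2)) 0 0 0 = 1
    rw [mx_one, blk_one]))
  map_mul' A B := Subtype.ext (Subtype.ext (by
    show blk (mx (A * B)) 0 0 0 = blk (mx A) 0 0 0 * blk (mx B) 0 0 0
    rw [blk_mul, mx_mul]; simp))

theorem proj_sec (A : SpecialLinearGroup (Fin n) F2) : proj (sec A) = A := Subtype.ext (mid_blk _ _ _ _)

/-- The cocycle `((r, c), (r', c')) ↦ r ⬝ c'`. -/
def beta (n : ℕ) : (Fin n → F2) × (Fin n → F2) →+ (Fin n → F2) × (Fin n → F2) →+ F2 :=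
  AddMonoidHom.mk' (fun p => AddMonoidHom.mk' (fun q => p.1 ⬝ᵥ q.2)
    (fun q q' => by rw [Prod.snd_add, dotProduct_add]))
    (fun p p' => AddMonoidHom.ext fun q => by
      show (p + p').1 ⬝ᵥ q.2 = p.1 ⬝ᵥ q.2 + p'.1 ⬝ᵥ q.2
      rw [Prod.fst_add, add_dotProduct])

theorem mem_ker {g : C n} (hg : g ∈ (proj (n := n)).ker) :
    mx g.1 = blk 1 (row g.1) (col g.1) (g.1 0 1) := by
  have h : mid g.1 = (1 : Matrix (Fin n) (Fin n) F2) := congrArg Subtype.val hg
  exact (eq_blk g.2).trans (by rw [h])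

/-- The unipotent radical as a central extension. -/
def kerEquiv : (proj (n := n)).ker ≃* ExtGroup.Ext (beta n) where
  toFun g := ⟨(row g.1.1, col g.1.1), g.1.1 0 1⟩
  invFun x := ⟨⟨unip x.v.1 x.v.2 x.c, unip_mem _ _ _⟩, Subtype.ext (mid_blk _ _ _ _)⟩
  left_inv g := Subtype.ext (Subtype.ext (Subtype.ext (mem_ker g.2).symm))
  right_inv x := rfl
  map_mul' g h := by
    have e : mx (g * h).1.1
        = blk 1 (row (mx h.1.1) + row (mx g.1.1)) (col (mx g.1.1) + col (mx h.1.1))
          (mx g.1.1 0 1 + mx h.1.1 0 1 + row (mx g.1.1) ⬝ᵥ col (mx h.1.1)) := by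
      show mx g.1.1 * mx h.1.1 = _
      conv_lhs => rw [mem_ker g.2, mem_ker h.2, blk_mul, mul_one, vecMul_one, one_mulVec]
    refine ExtGroup.Ext.ext (Prod.ext ?_ ?_) ?_
    · show row (mx (g * h).1.1) = row (mx g.1.1) + row (mx h.1.1)
      rw [e, add_comm (row (mx g.1.1))]; rfl
    · show col (mx (g * h).1.1) = col (mx g.1.1) + col (mx h.1.1)
      rw [e]; rfl
    · show mx (g * h).1.1 0 1 = _
      rw [e]; rfl

theorem card_V (n : ℕ) : Nat.card ((Fin n → F2) × (Fin n → F2)) = 2 ^ (2 * n) := by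
  rw [Nat.card_prod, Nat.card_fun, Nat.card_zmod, Nat.card_fin, ← pow_add, two_mul]

theorem ext_isExtraspecial (hn : 1 ≤ n) : Cfsg.IsExtraspecial 2 (ExtGroup.Ext (beta n)) := by
  refine ExtGroup.isExtraspecial (k := 2 * n)
    (fun v => Prod.ext (funext fun i => CharTwo.add_self_eq_zero _)
      (funext fun i => CharTwo.add_self_eq_zero _)) (card_V n) ?_ ?_
  · intro w hw
    refine Prod.ext (funext fun i => ?_) (funext fun i => ?_)
    · simpa [beta] using hw (0, Pi.single i 1)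
    · simpa [beta] using hw (Pi.single i 1, 0)
  · refine ⟨(Pi.single ⟨0, hn⟩ 1, 0), (0, Pi.single ⟨0, hn⟩ 1), ?_⟩
    simp [beta]

theorem ker_isPGroup : IsPGroup 2 (proj (n := n)).ker :=
  IsPGroup.of_card (n := 2 * n + 1)
    (by rw [Nat.card_congr kerEquiv.toEquiv, ExtGroup.card_ext, card_V, pow_succ])

/-- `O₂(SL(n, 2)) = 1`. -/
theorem pCore_SL (n : ℕ) : Cfsg.pCore 2 (SpecialLinearGroup (Fin n) F2) = ⊥ := by
  classical
  haveI : Fact (Nat.Prime 2) := ⟨Nat.prime_two⟩
  by_cases hn : 2 ≤ n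
  swap
  · haveI : Subsingleton (Fin n) := Fin.subsingleton_iff_le_one.mpr (by omega)
    rw [eq_bot_iff]
    intro g _
    exact Subgroup.mem_bot.mpr (Subsingleton.elim _ _)
  set N := Cfsg.pCore 2 (SpecialLinearGroup (Fin n) F2)
  have hN : IsPGroup 2 N := H92.isPGroup_pCore 2
  letI : MulAction N (Fin n → F2) :=
    { smul := fun g v => (g.1 : Matrix (Fin n) (Fin n) F2) *ᵥ v
      one_smul := fun v => one_mulVec v
      mul_smul := fun g h v => (mulVec_mulVec v _ _).symm }
  have hdvd : 2 ∣ Nat.card (Fin n → F2) := by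
    rw [Nat.card_fun, Nat.card_zmod, Nat.card_fin]; exact dvd_pow_self 2 (by omega)
  have h0 : (0 : Fin n → F2) ∈ MulAction.fixedPoints N (Fin n → F2) := fun g => mulVec_zero _
  obtain ⟨v, hv, hv0⟩ := hN.exists_fixed_point_of_prime_dvd_card_of_fixed_point _ hdvd h0
  let W : AddSubgroup (Fin n → F2) :=
    { carrier := {w | ∀ g ∈ N, (g : Matrix (Fin n) (Fin n) F2) *ᵥ w = w}
      zero_mem' := fun g _ => mulVec_zero _
      add_mem' := fun {a b} ha hb g hg => by rw [mulVec_add, ha g hg, hb g hg]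
      neg_mem' := fun {a} ha g hg => by rw [mulVec_neg, ha g hg] }
  have hinv : ∀ w ∈ W, ∀ h : SpecialLinearGroup (Fin n) F2,
      (h : Matrix (Fin n) (Fin n) F2) *ᵥ w ∈ W := by
    intro w hw h g hg
    have h1 : h⁻¹ * g * h ∈ N := by
      simpa using (inferInstance : N.Normal).conj_mem g hg h⁻¹
    have := congrArg ((h : Matrix (Fin n) (Fin n) F2) *ᵥ ·) (hw _ h1)
    simp only [mulVec_mulVec] at this
    change mx (h * (h⁻¹ * g * h)) *ᵥ w = mx h *ᵥ w at this
    rw [← mul_assoc, ← mul_assoc, mul_inv_cancel, one_mul] at this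
    rw [mulVec_mulVec]
    exact this
  have hstep : ∀ w ∈ W, ∀ i j : Fin n, i ≠ j → Pi.single i (w j) ∈ W := by
    intro w hw i j hij
    let T : SpecialLinearGroup (Fin n) F2 := ⟨transvection i j 1, det_transvection_of_ne i j hij 1⟩
    have h1 := W.sub_mem (hinv w hw T) hw
    have e : transvection i j (1 : F2) *ᵥ w - w = Pi.single i (w j) := by
      rw [transvection, add_mulVec, one_mulVec, add_sub_cancel_left]
      ext k
      by_cases hk : i = k <;> simp [mulVec, dotProduct, Matrix.single, Pi.single_apply, hk, Ne.symm]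
      <;> simp [hk, eq_comm]
    exact e ▸ h1
  have hvW : v ∈ W := fun g hg => hv ⟨g, hg⟩
  obtain ⟨j, hj⟩ : ∃ j, v j ≠ 0 := by
    by_contra h
    push Not at h
    exact hv0 (funext fun k => (h k).symm)
  have hj1 : v j = 1 := ((two_cases) (v j)).resolve_left hj
  have hne : ∀ i, i ≠ j → Pi.single i (1 : F2) ∈ W := fun i hi => hj1 ▸ hstep v hvW i j hi
  have hall : ∀ i, Pi.single i (1 : F2) ∈ W := by
    intro i
    by_cases hi : i = j
    · subst hi
      haveI : Nontrivial (Fin n) := Fin.nontrivial_iff_two_le.mpr hn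
      obtain ⟨k, hk⟩ := exists_ne i
      have := hstep _ (hne k hk) i k (Ne.symm hk)
      simpa using this
    · exact hne i hi
  rw [eq_bot_iff]
  intro g hg
  rw [Subgroup.mem_bot]
  apply Subtype.ext
  ext a b
  have := congrFun (hall b g hg) a
  simpa [mulVec_single, one_apply, Pi.single_apply, eq_comm] using this

theorem pCore_C : Cfsg.pCore 2 (C n) = (proj (n := n)).ker := by
  haveI : Fact (Nat.Prime 2) := ⟨Nat.prime_two⟩
  refine le_antisymm ?_ (Cores.le_pCore ker_isPGroup)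
  intro g hg
  have h := Cores.pCore_map_le (p := 2) (f := proj (n := n))
    (fun A => ⟨sec A, proj_sec A⟩) (Subgroup.mem_map_of_mem _ hg)
  rwa [pCore_SL, Subgroup.mem_bot] at h

theorem centralizer_ker {g : C n} (hg : ∀ q ∈ (proj (n := n)).ker, q * g = g * q) :
    g ∈ (proj (n := n)).ker := by
  apply Subtype.ext
  show mid g.1 = (1 : Matrix (Fin n) (Fin n) F2)
  ext a b
  have h := congrArg (fun x : C n => (x.1 : Matrix (Fin (n + 2)) (Fin (n + 2)) F2))
    (hg ⟨unip 0 (Pi.single b 1) 0, unip_mem _ _ _⟩ (Subtype.ext (mid_blk _ _ _ _)))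
  have h' : blk 1 0 (Pi.single b 1) 0 * (g.1 : Matrix (Fin (n + 2)) (Fin (n + 2)) F2)
      = g.1 * blk 1 0 (Pi.single b 1) 0 := h
  rw [eq_blk g.2, blk_mul, blk_mul] at h'
  have h2 := congrFun (congrFun h' a.succ.succ) 1
  simp [mulVec_single, Pi.single_apply, one_apply] at h2 ⊢
  rw [add_comm (col _ a)] at h2
  exact (add_right_cancel h2).symm

theorem unip_mem_pCore (r c : Fin n → F2) (t : F2) :
    (⟨unip r c t, unip_mem r c t⟩ : C n) ∈ Cfsg.pCore 2 (C n) := by
  rw [pCore_C]; exact Subtype.ext (mid_blk _ _ _ _)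

/-- The structure of the parabolic. -/
theorem structure_C (hn : 1 ≤ n) :
    Cfsg.IsExtraspecial 2 (Cfsg.pCore 2 (C n)) ∧
    Nat.card (Cfsg.pCore 2 (C n)) = 2 ^ (2 * n + 1) ∧
    (∃ E : Subgroup (C n), E ≤ Cfsg.pCore 2 (C n) ∧ Cfsg.IsElementaryAbelian 2 E ∧
      Nat.card E = 2 ^ (n + 1)) ∧
    (∀ g : C n, (∀ q ∈ Cfsg.pCore 2 (C n), q * g = g * q) → g ∈ Cfsg.pCore 2 (C n)) ∧
    ∃ K : Subgroup (C n), Cfsg.pCore 2 (C n) ⊓ K = ⊥ ∧ Cfsg.pCore 2 (C n) ⊔ K = ⊤ ∧
      Nonempty (K ≃* SpecialLinearGroup (Fin n) F2) := by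
  classical
  rw [pCore_C]
  refine ⟨H92.isExtraspecial_of_mulEquiv kerEquiv.symm (ext_isExtraspecial hn), ?_, ?_,
    fun g => centralizer_ker, sec.range, ?_, ?_, ?_⟩
  · rw [Nat.card_congr kerEquiv.toEquiv, ExtGroup.card_ext, card_V, pow_succ]
  · let W : AddSubgroup ((Fin n → F2) × (Fin n → F2)) :=
      { carrier := {p | p.2 = 0}
        zero_mem' := rfl
        add_mem' := fun {a b} ha hb => by
          show (a + b).2 = 0
          rw [Prod.snd_add, (ha : a.2 = 0), (hb : b.2 = 0), add_zero]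
        neg_mem' := fun {a} ha => by
          show (-a).2 = 0
          rw [Prod.snd_neg, (ha : a.2 = 0), neg_zero] }
    obtain ⟨A, hA, hAc⟩ := ExtGroup.elementary_exists (β := beta n)
      (fun v => Prod.ext (funext fun i => CharTwo.add_self_eq_zero _)
        (funext fun i => CharTwo.add_self_eq_zero _)) (W := W)
      (fun w hw => by show w.1 ⬝ᵥ w.2 = 0; rw [(hw : w.2 = 0), dotProduct_zero])
    let f : ExtGroup.Ext (beta n) →* C n :=
      (proj (n := n)).ker.subtype.comp kerEquiv.symm.toMonoidHom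
    have hf : Function.Injective f := Subtype.val_injective.comp kerEquiv.symm.injective
    refine ⟨A.map f, ?_, ⟨?_, ?_⟩, ?_⟩
    · rintro _ ⟨a, -, rfl⟩; exact (kerEquiv.symm a).2
    · haveI := hA.1
      exact Subgroup.map_isMulCommutative A f
    · rintro _ ⟨a, ha, rfl⟩; rw [← map_pow, hA.2 a ha, map_one]
    · rw [← Nat.card_congr (A.equivMapOfInjective f hf).toEquiv, hAc]
      have : Nat.card W = 2 ^ n := by
        rw [Nat.card_congr
          ({ toFun := fun p => p.1.1
             invFun := fun r => ⟨(r, 0), rfl⟩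
             left_inv := fun p => Subtype.ext (Prod.ext rfl p.2.symm)
             right_inv := fun r => rfl } : W ≃ (Fin n → F2)),
          Nat.card_fun, Nat.card_zmod, Nat.card_fin]
      rw [this, pow_succ']
  · rw [Subgroup.eq_bot_iff_forall]
    rintro _ ⟨hk, A, rfl⟩
    have hk' : proj (sec A) = 1 := hk
    rw [proj_sec] at hk'
    rw [hk', map_one]
  · rw [eq_top_iff]
    intro g _
    have : g = (g * (sec (proj g))⁻¹) * sec (proj g) := by group
    rw [this]
    exact mul_mem (Subgroup.mem_sup_left (by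
      rw [MonoidHom.mem_ker, map_mul, map_inv, proj_sec, mul_inv_cancel]))
      (Subgroup.mem_sup_right ⟨_, rfl⟩)
  · refine ⟨(MonoidHom.ofInjective (f := sec) fun A B h => ?_).symm⟩
    rw [← proj_sec A, h, proj_sec]

/-- Transfer of the structure to a centraliser isomorphic to the parabolic. -/
theorem transfer {G : Type*} [Group G] (C₀ : Subgroup G) (e : C₀ ≃* C n) (hn : 1 ≤ n)
    (Q : Subgroup G) (hQ : Q = (Cfsg.pCore 2 C₀).map C₀.subtype) :
    Cfsg.IsExtraspecial 2 Q ∧ Nat.card Q = 2 ^ (2 * n + 1) ∧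
    (∃ E : Subgroup G, E ≤ Q ∧ Cfsg.IsElementaryAbelian 2 E ∧ Nat.card E = 2 ^ (n + 1)) ∧
    (∀ g ∈ C₀, (∀ q ∈ Q, q * g = g * q) → g ∈ Q) ∧
    (∀ g ∈ C₀, ∀ q ∈ Q, g * q * g⁻¹ ∈ Q) ∧
    ∃ K : Subgroup G, K ≤ C₀ ∧ Q ⊓ K = ⊥ ∧ Q ⊔ K = C₀ ∧
      Nonempty (K ≃* SpecialLinearGroup (Fin n) F2) := by
  haveI : Fact (Nat.Prime 2) := ⟨Nat.prime_two⟩
  obtain ⟨hE, hcard, ⟨E, hEQ, hEe, hEc⟩, hcen, K, hK1, hK2, ⟨hK3⟩⟩ := structure_C (n := n) hn
  have hmap : (Cfsg.pCore 2 (C n)).map e.symm.toMonoidHom = Cfsg.pCore 2 C₀ :=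
    Cores.pCore_map_mulEquiv e.symm
  let f : C n →* G := C₀.subtype.comp e.symm.toMonoidHom
  have hf : Function.Injective f := Subtype.val_injective.comp e.symm.injective
  have hQf : Q = (Cfsg.pCore 2 (C n)).map f := by rw [hQ, ← hmap, Subgroup.map_map]
  have hrange : (⊤ : Subgroup (C n)).map f = C₀ := by
    rw [← MonoidHom.range_eq_map]
    exact le_antisymm (fun x ⟨y, hy⟩ => hy ▸ (e.symm y).2)
      (fun x hx => ⟨e ⟨x, hx⟩, congrArg Subtype.val (e.symm_apply_apply ⟨x, hx⟩)⟩)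
  refine ⟨?_, ?_, ⟨E.map f, ?_, ⟨?_, ?_⟩, ?_⟩, ?_, ?_, K.map f, ?_, ?_, ?_, ?_⟩
  · exact hQf ▸ H92.isExtraspecial_of_mulEquiv (Subgroup.equivMapOfInjective _ f hf) hE
  · rw [hQf, ← Nat.card_congr (Subgroup.equivMapOfInjective _ f hf).toEquiv, hcard]
  · rw [hQf]; exact Subgroup.map_mono hEQ
  · haveI := hEe.1
    exact Subgroup.map_isMulCommutative E f
  · rintro _ ⟨a, ha, rfl⟩; rw [← map_pow, hEe.2 a ha, map_one]
  · rw [← Nat.card_congr (E.equivMapOfInjective f hf).toEquiv, hEc]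
  · intro g hg hgc
    rw [← hrange] at hg
    obtain ⟨x, -, rfl⟩ := hg
    rw [hQf]
    refine ⟨x, hcen x fun q hq => hf ?_, rfl⟩
    rw [map_mul, map_mul]
    exact hgc _ (hQf ▸ ⟨q, hq, rfl⟩)
  · intro g hg q hq
    rw [hQ] at hq ⊢
    obtain ⟨u, hu, rfl⟩ := hq
    exact ⟨⟨g, hg⟩ * u * ⟨g, hg⟩⁻¹, (inferInstance : (Cfsg.pCore 2 C₀).Normal).conj_mem u hu _, rfl⟩
  · rw [← hrange]; exact Subgroup.map_mono le_top
  · rw [hQf, ← Subgroup.map_inf _ _ f hf, hK1, Subgroup.map_bot]
  · rw [hQf, ← Subgroup.map_sup, hK2, hrange]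
  · exact ⟨(K.equivMapOfInjective f hf).symm.trans hK3⟩

end Cfsg.Agent.H92.SLParabolic
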