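import Mathlib
import Cfsg.Agent.H92.SLParabolic

/-!
`AGL (n + 1, 2)` inside `SL (n + 2, 2)` and the centraliser of a translation.
-/

set_option autoImplicit false
set_option linter.style.haveILetI false

namespace Cfsg.Agent.H92.AffineParabolic

open Matrix
open SLParabolic (F2 mx)

variable {n : ℕ}

/-- The embedding of the linear coordinates. -/
abbrev sg (i : Fin (n + 1)) : Fin (n + 2) := (1 : Fin (n + 2)).succAbove i

/-- An affine matrix. -/
def aff (A : Matrix (Fin (n + 1)) (Fin (n + 1)) F2) (u : Fin (n + 1) → F2) :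
    Matrix (Fin (n + 2)) (Fin (n + 2)) F2 :=
  Matrix.of (Fin.insertNth (α := fun _ => Fin (n + 2) → F2) 1 (Pi.single 1 1)
    (fun i => Fin.insertNth (α := fun _ => F2) 1 (u i) (A i)))

variable (A A' : Matrix (Fin (n + 1)) (Fin (n + 1)) F2) (u u' : Fin (n + 1) → F2)

@[simp] theorem aff_11 : aff A u 1 1 = 1 := by simp [aff]
@[simp] theorem aff_1j (j : Fin (n + 1)) : aff A u 1 (sg j) = 0 := by
  simp [aff, Fin.succAbove_ne]
@[simp] theorem aff_i1 (i : Fin (n + 1)) : aff A u (sg i) 1 = u i := by simp [aff]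
@[simp] theorem aff_ij (i j : Fin (n + 1)) : aff A u (sg i) (sg j) = A i j := by simp [aff]

theorem aff_mul : aff A u * aff A' u' = aff (A * A') (u + A *ᵥ u') := by
  ext i j
  rw [mul_apply, Fin.sum_univ_succAbove _ (1 : Fin (n + 2))]
  induction i using Fin.succAboveCases (1 : Fin (n + 2)) <;>
    induction j using Fin.succAboveCases (1 : Fin (n + 2)) <;>
    simp [mul_apply, mulVec, dotProduct]

theorem aff_one : aff (1 : Matrix (Fin (n + 1)) (Fin (n + 1)) F2) 0 = 1 := by
  ext i j
  induction i using Fin.succAboveCases (1 : Fin (n + 2)) <;>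
    induction j using Fin.succAboveCases (1 : Fin (n + 2)) <;>
    simp [one_apply, Fin.succAbove_ne, (Fin.succAbove_ne _ _).symm, Fin.succAbove_right_inj]

theorem aff_injective {A A' : Matrix (Fin (n + 1)) (Fin (n + 1)) F2} {u u' : Fin (n + 1) → F2}
    (h : aff A u = aff A' u') : A = A' ∧ u = u' := by
  refine ⟨Matrix.ext fun i j => ?_, funext fun i => ?_⟩
  · simpa using congrFun (congrFun h (sg i)) (sg j)
  · simpa using congrFun (congrFun h (sg i)) 1

theorem zT_eq : mx (SLParabolic.zT : SpecialLinearGroup (Fin (n + 2)) F2)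
    = aff 1 (Pi.single 0 1) := by
  rw [show mx (SLParabolic.zT : SpecialLinearGroup (Fin (n + 2)) F2) = transvection 0 1 1 from
    SLParabolic.zT_coe]
  ext i j
  have h0 : (1 : Fin (n + 2)).succAbove 0 = 0 := by simp
  induction i using Fin.succAboveCases (1 : Fin (n + 2)) with
  | x =>
    induction j using Fin.succAboveCases (1 : Fin (n + 2)) with
    | x => simp [transvection, one_apply, Matrix.single]
    | p j => simp [transvection, one_apply, Matrix.single, (Fin.succAbove_ne _ _).symm]
  | p i =>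
    induction j using Fin.succAboveCases (1 : Fin (n + 2)) with
    | x =>
      rw [aff_i1, transvection, Matrix.add_apply, one_apply, if_neg (Fin.succAbove_ne _ _)]
      by_cases hi : i = 0
      · subst hi; simp [Matrix.single, h0]
      · have : (1 : Fin (n + 2)).succAbove i ≠ 0 := fun e => hi (Fin.succAbove_right_injective (e.trans h0.symm))
        simp [Matrix.single, this.symm, hi]
    | p j =>
      rw [aff_ij, transvection, Matrix.add_apply, one_apply]
      simp [Matrix.single, (Fin.succAbove_ne _ _).symm, one_apply, Fin.succAbove_right_inj]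

/-- The linear part of an element of the parabolic. -/
def linPart (M : Matrix (Fin (n + 2)) (Fin (n + 2)) F2) : Matrix (Fin (n + 1)) (Fin (n + 1)) F2 :=
  Matrix.of fun i j => M (sg i) (sg j)

theorem eq_aff {g : SpecialLinearGroup (Fin (n + 2)) F2} (hg : g ∈ SLParabolic.C n) :
    mx g = aff (linPart (mx g)) (fun i => mx g (sg i) 1) := by
  have h := SLParabolic.eq_blk hg
  ext i j
  induction i using Fin.succAboveCases (1 : Fin (n + 2)) with
  | x =>
    induction j using Fin.succAboveCases (1 : Fin (n + 2)) with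
    | x => rw [aff_11, show mx g = _ from h]; simp
    | p j =>
      rw [aff_1j, show mx g = _ from h]
      induction j using Fin.cases with
      | zero => simp
      | succ j =>
        have : (1 : Fin (n + 2)).succAbove j.succ = j.succ.succ := by
          simp [Fin.succAbove, Fin.lt_def]
        rw [this, SLParabolic.blk_1j]
  | p i =>
    induction j using Fin.succAboveCases (1 : Fin (n + 2)) with
    | x => rw [aff_i1]
    | p j => rw [aff_ij]; rfl

theorem linPart_aff : linPart (aff A u) = A := Matrix.ext fun i j => aff_ij A u i j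

theorem linPart_mul {g h : SpecialLinearGroup (Fin (n + 2)) F2} (hg : g ∈ SLParabolic.C n)
    (hh : h ∈ SLParabolic.C n) : linPart (mx (g * h)) = linPart (mx g) * linPart (mx h) := by
  conv_lhs => rw [SLParabolic.mx_mul, eq_aff hg, eq_aff hh, aff_mul, linPart_aff]

/-- A nonzero vector can be taken to the first basis vector. -/
theorem exists_map_single {m : ℕ} (v : Fin (m + 1) → F2) (hv : v ≠ 0) :
    ∃ L : (Fin (m + 1) → F2) ≃ₗ[F2] (Fin (m + 1) → F2), L v = Pi.single 0 1 := by
  obtain ⟨j, hj⟩ : ∃ j, v j ≠ 0 := by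
    by_contra h
    push Not at h
    exact hv (funext h)
  let S := LinearEquiv.funCongrLeft F2 F2 (Equiv.swap 0 j)
  have hw : S v 0 = 1 := by
    show v (Equiv.swap 0 j 0) = 1
    rw [Equiv.swap_apply_left]
    exact (SLParabolic.two_cases (v j)).resolve_left hj
  set w := S v
  set d := w + Pi.single 0 1 with hd
  have hd0 : d 0 = 0 := by rw [hd, Pi.add_apply, hw, Pi.single_eq_same]; decide
  let T : (Fin (m + 1) → F2) →ₗ[F2] (Fin (m + 1) → F2) :=
    LinearMap.id + (LinearMap.proj 0).smulRight d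
  have hT : ∀ x, T x = x + x 0 • d := fun x => rfl
  have hinv : Function.Involutive T := by
    intro x
    rw [hT (T x), hT x, Pi.add_apply, Pi.smul_apply, hd0, smul_zero, add_zero, add_assoc,
      ← add_smul, CharTwo.add_self_eq_zero, zero_smul, add_zero]
  refine ⟨S.trans (LinearEquiv.ofInvolutive T hinv), ?_⟩
  show T w = _
  rw [hT, hw, one_smul, hd, ← add_assoc]
  rw [show w + w = 0 from funext fun i => CharTwo.add_self_eq_zero _, zero_add]

/-- The affine group with translation `ζ` embeds so that the centralisers correspond. -/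
theorem exists_equiv {G : Type*} [Group G] (U M : Subgroup G) [U.Normal]
    (hU : Cfsg.IsElementaryAbelian 2 U) (hUcard : Nat.card U = 2 ^ (n + 1)) (hUM : U ⊓ M = ⊥)
    (hUM' : U ⊔ M = ⊤) (hfaith : ∀ m ∈ M, (∀ u ∈ U, m * u * m⁻¹ = u) → m = 1)
    (hfull : ∀ φ : ↥U ≃* ↥U, ∃ m ∈ M, ∀ u : ↥U, ((φ u : ↥U) : G) = m * u * m⁻¹)
    {ζ : G} (hζ : ζ ∈ U) (hζ1 : ζ ≠ 1) :
    Nonempty (↥(Subgroup.centralizer ({ζ} : Set G)) ≃* SLParabolic.C n) := by
  classical
  haveI := hU.1
  letI : CommGroup U := { (inferInstance : Group U) with mul_comm := fun a b => hU.1.1.comm a b }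
  letI : Module F2 (Additive U) := AddCommGroup.zmodModule (fun v => by
    obtain ⟨a, rfl⟩ := Additive.ofMul.surjective v
    rw [two_nsmul, ← ofMul_mul, ← ofMul_one]
    congr 1
    apply Subtype.ext
    simpa [pow_two] using hU.2 a a.2)
  haveI : Finite U := Nat.finite_of_card_ne_zero (by rw [hUcard]; positivity)
  haveI : Finite (Additive U) := inferInstanceAs (Finite U)
  have hdim : Module.finrank F2 (Additive U) = n + 1 := by
    have h := Module.natCard_eq_pow_finrank (K := F2) (V := Additive U)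
    rw [Nat.card_zmod, show Nat.card (Additive U) = Nat.card U from rfl, hUcard] at h
    exact (Nat.pow_right_injective le_rfl h).symm
  let crd₀ : Additive U ≃ₗ[F2] (Fin (n + 1) → F2) :=
    (Module.finBasisOfFinrankEq F2 _ hdim).equivFun
  obtain ⟨L, hL⟩ := exists_map_single (crd₀ (Additive.ofMul ⟨ζ, hζ⟩)) (fun e => hζ1 (by
    have := crd₀.map_eq_zero_iff.mp e
    exact congrArg Subtype.val (ofMul_eq_zero.mp this)))
  let crd := crd₀.trans L
  have hcrd : crd (Additive.ofMul ⟨ζ, hζ⟩) = Pi.single 0 1 := hL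
  have hconj : ∀ (g : G) (a : U), g * a * g⁻¹ ∈ U := fun g a =>
    (inferInstance : U.Normal).conj_mem a a.2 g
  let cj : G → Additive U →+ Additive U := fun g => MonoidHom.toAdditive
    (MonoidHom.mk' (fun a : U => (⟨g * a * g⁻¹, hconj g a⟩ : U))
      (fun a b => Subtype.ext (by simp [mul_assoc])))
  let lin : G → (Fin (n + 1) → F2) →ₗ[F2] (Fin (n + 1) → F2) := fun g =>
    ((crd.toAddEquiv.toAddMonoidHom.comp (cj g)).comp crd.symm.toAddEquiv.toAddMonoidHom).toZModLinearMap 2
  have lin_crd : ∀ g a, lin g (crd (Additive.ofMul a)) = crd (Additive.ofMul ⟨g * a * g⁻¹, hconj g a⟩) := by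
    intro g a
    show crd (cj g (crd.symm (crd (Additive.ofMul a)))) = _
    rw [crd.symm_apply_apply]; rfl
  have crd_surj : ∀ x, ∃ a, crd (Additive.ofMul a) = x := fun x =>
    ⟨Additive.toMul (crd.symm x), by rw [ofMul_toMul, crd.apply_symm_apply]⟩
  have crd_inj : ∀ a b : U, crd (Additive.ofMul a) = crd (Additive.ofMul b) → a = b := fun a b h =>
    Additive.ofMul.injective (crd.injective h)
  let mat : G → Matrix (Fin (n + 1)) (Fin (n + 1)) F2 := fun g => LinearMap.toMatrix' (lin g)
  have mat_crd : ∀ g a, mat g *ᵥ crd (Additive.ofMul a) = crd (Additive.ofMul ⟨g * a * g⁻¹, hconj g a⟩) :=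
    fun g a => by rw [← lin_crd, ← Matrix.toLin'_apply, Matrix.toLin'_toMatrix']
  have mat_ext : ∀ {B B' : Matrix (Fin (n + 1)) (Fin (n + 1)) F2},
      (∀ a, B *ᵥ crd (Additive.ofMul a) = B' *ᵥ crd (Additive.ofMul a)) → B = B' := fun {B B'} h => by
    apply Matrix.toLin'.injective
    refine LinearMap.ext fun x => ?_
    obtain ⟨a, rfl⟩ := crd_surj x
    rw [Matrix.toLin'_apply, Matrix.toLin'_apply, h]
  have mat_mul : ∀ g h, mat (g * h) = mat g * mat h := fun g h => mat_ext fun a => by
    rw [← mulVec_mulVec, mat_crd, mat_crd, mat_crd]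
    congr 2
    exact Subtype.ext (by simp [mul_assoc])
  have mat_one : mat 1 = 1 := mat_ext fun a => by
    rw [mat_crd, one_mulVec]
    congr 2
    exact Subtype.ext (by simp)
  have hex : ∀ g : G, ∃ t : U, (t : G)⁻¹ * g ∈ M := by
    intro g
    have hg : g ∈ ((U ⊔ M : Subgroup G) : Set G) := by rw [hUM']; trivial
    rw [Subgroup.normal_mul] at hg
    obtain ⟨t, ht, m, hm, rfl⟩ := Set.mem_mul.mp hg
    exact ⟨⟨t, ht⟩, by simpa using hm⟩
  choose τ hτ using hex
  have huniq : ∀ (g : G) (t : U), (t : G)⁻¹ * g ∈ M → τ g = t := by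
    intro g t ht
    have hm : (τ g : G)⁻¹ * t ∈ U ⊓ M := by
      refine ⟨U.mul_mem (U.inv_mem (τ g).2) t.2, ?_⟩
      have := mul_mem (hτ g) (inv_mem ht)
      simpa [mul_assoc] using this
    rw [hUM, Subgroup.mem_bot] at hm
    exact Subtype.ext (inv_mul_eq_one.mp hm)
  let vec : G → Fin (n + 1) → F2 := fun g => crd (Additive.ofMul (τ g))
  have vec_mul : ∀ g h, vec (g * h) = vec g + mat g *ᵥ vec h := by
    intro g h
    show crd (Additive.ofMul (τ (g * h))) = crd (Additive.ofMul (τ g)) + mat g *ᵥ crd (Additive.ofMul (τ h))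
    rw [mat_crd, ← map_add, ← ofMul_mul]
    congr 2
    apply huniq
    have hm := mul_mem (hτ g) (hτ h)
    have e : ((τ g * ⟨g * (τ h : G) * g⁻¹, hconj g (τ h)⟩ : U) : G)⁻¹ * (g * h)
        = (τ g : G)⁻¹ * g * ((τ h : G)⁻¹ * h) := by
      have hc : (τ g : G) * (g * (τ h : G) * g⁻¹) = g * (τ h : G) * g⁻¹ * (τ g : G) :=
        congrArg Subtype.val (mul_comm (τ g) ⟨g * (τ h : G) * g⁻¹, hconj g (τ h)⟩)
      rw [Subgroup.coe_mul, show ((⟨g * (τ h : G) * g⁻¹, hconj g (τ h)⟩ : U) : G) = g * (τ h : G) * g⁻¹ from rfl,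
        hc]
      group
    rw [e]; exact hm
  have vec_of_mem : ∀ a : U, vec a = crd (Additive.ofMul a) := fun a => by
    show crd (Additive.ofMul (τ a)) = _
    rw [huniq a a (by simp)]
  have mat_of_mem : ∀ a : U, mat a = 1 := fun a => mat_ext fun b => by
    rw [mat_crd, one_mulVec]
    congr 2
    refine Subtype.ext ?_
    show (a : G) * b * (a : G)⁻¹ = b
    rw [show (a : G) * b = b * a from congrArg Subtype.val (mul_comm a b), mul_inv_cancel_right]
  let fm : G → Matrix (Fin (n + 2)) (Fin (n + 2)) F2 := fun g => aff (mat g) (vec g)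
  have fm_mul : ∀ g h, fm (g * h) = fm g * fm h := fun g h => by
    show aff _ _ = aff _ _ * aff _ _
    rw [aff_mul, mat_mul, vec_mul]
  have fm_one : fm 1 = 1 := by
    show aff (mat 1) (vec 1) = 1
    rw [mat_one, show (1 : G) = ((1 : U) : G) from rfl, vec_of_mem, ofMul_one, map_zero, aff_one]
  let f : G →* SpecialLinearGroup (Fin (n + 2)) F2 := MonoidHom.mk'
    (fun g => ⟨fm g, SLParabolic.det_eq_one (M' := fm g⁻¹) (by rw [← fm_mul, mul_inv_cancel, fm_one])⟩)
    (fun g h => Subtype.ext (fm_mul g h))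
  have hfinj : Function.Injective f := by
    rw [injective_iff_map_eq_one]
    intro g hg
    have h1 : fm g = 1 := congrArg Subtype.val hg
    obtain ⟨hA, hv⟩ := aff_injective (h1.trans aff_one.symm)
    have ht : τ g = 1 := crd_inj _ _ (by rw [ofMul_one, map_zero]; exact hv)
    have hgM : g ∈ M := by simpa [ht] using hτ g
    refine hfaith g hgM fun a ha => ?_
    have := mat_crd g ⟨a, ha⟩
    rw [hA, one_mulVec] at this
    exact (congrArg Subtype.val (crd_inj _ _ this)).symm
  have hfζ : f ζ = SLParabolic.zT := by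
    apply Subtype.ext
    show fm ζ = mx SLParabolic.zT
    rw [zT_eq]
    show aff (mat ((⟨ζ, hζ⟩ : U) : G)) (vec ((⟨ζ, hζ⟩ : U) : G)) = _
    rw [mat_of_mem, vec_of_mem, hcrd]
  have hmem : ∀ g, f g ∈ SLParabolic.C n ↔ g ∈ Subgroup.centralizer ({ζ} : Set G) := by
    intro g
    rw [SLParabolic.C, Subgroup.mem_centralizer_singleton_iff, Subgroup.mem_centralizer_singleton_iff,
      ← hfζ, ← map_mul, ← map_mul, hfinj.eq_iff]
  let F : ↥(Subgroup.centralizer ({ζ} : Set G)) →* SLParabolic.C n :=
    (f.comp (Subgroup.centralizer ({ζ} : Set G)).subtype).codRestrict _ fun g => (hmem g).mpr g.2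
  refine ⟨MulEquiv.ofBijective F ⟨fun a b h => Subtype.ext (hfinj (congrArg Subtype.val h)), ?_⟩⟩
  rintro ⟨p, hp⟩
  set B := linPart (mx p)
  set B' := linPart (mx p⁻¹)
  have hB : ∀ {q q' : SpecialLinearGroup (Fin (n + 2)) F2}, q ∈ SLParabolic.C n →
      q' ∈ SLParabolic.C n → q * q' = 1 → linPart (mx q) * linPart (mx q') = 1 := by
    intro q q' hq hq' he
    rw [← linPart_mul hq hq', he, SLParabolic.mx_one, ← aff_one, linPart_aff]
  have hBB : B * B' = 1 := hB hp (inv_mem hp) (mul_inv_cancel p)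
  have hBB' : B' * B = 1 := hB (inv_mem hp) hp (inv_mul_cancel p)
  let au : U → U := fun a => Additive.toMul (crd.symm (B *ᵥ crd (Additive.ofMul a)))
  let au' : U → U := fun a => Additive.toMul (crd.symm (B' *ᵥ crd (Additive.ofMul a)))
  have hau : ∀ a, crd (Additive.ofMul (au a)) = B *ᵥ crd (Additive.ofMul a) := fun a =>
    crd.apply_symm_apply _
  have hau' : ∀ a, crd (Additive.ofMul (au' a)) = B' *ᵥ crd (Additive.ofMul a) := fun a =>
    crd.apply_symm_apply _
  let φ : U ≃* U :=
    { toFun := au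
      invFun := au'
      left_inv := fun a => crd_inj _ _ (by rw [hau', hau, mulVec_mulVec, hBB', one_mulVec])
      right_inv := fun a => crd_inj _ _ (by rw [hau, hau', mulVec_mulVec, hBB, one_mulVec])
      map_mul' := fun a b => crd_inj _ _ (by
        rw [hau, ofMul_mul, ofMul_mul, map_add, map_add, mulVec_add, hau, hau]) }
  obtain ⟨m, hm, hmφ⟩ := hfull φ
  obtain ⟨t, ht⟩ := crd_surj (fun i => mx p (sg i) 1)
  have hfg : f ((t : G) * m) = p := by
    apply Subtype.ext
    show fm ((t : G) * m) = mx p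
    rw [eq_aff hp]
    show aff (mat ((t : G) * m)) (vec ((t : G) * m)) = _
    have e1 : mat ((t : G) * m) = B := by
      rw [mat_mul, mat_of_mem, one_mul]
      refine mat_ext fun a => ?_
      rw [mat_crd, ← hau]
      congr 2
      exact Subtype.ext (hmφ a).symm
    have e2 : τ ((t : G) * m) = t := huniq _ _ (by simpa using hm)
    rw [e1]
    show aff B (crd (Additive.ofMul (τ ((t : G) * m)))) = _
    rw [e2, ht]
  exact ⟨⟨(t : G) * m, (hmem _).mp (by rw [hfg]; exact hp)⟩, Subtype.ext hfg⟩

end Cfsg.Agent.H92.AffineParabolic
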