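import Cfsg.Agent.H92.CoOneAutData
import Cfsg.Agent.H92.CoOneAutLists
import Cfsg.Agent.H63.M24SylowQuot

/-!
An elementary abelian subgroup of a Sylow 2-subgroup of M24 through the central involution, times
the number of sign classes it fixes, is at most 2048.
-/

set_option autoImplicit false

namespace Cfsg.Agent.H92.CoOneAut

open Cfsg Cfsg.Agent.Golay Cfsg.Agent.H63.M24Sylow
open scoped Pointwise

/-- The elements of the Sylow subgroup. -/
def pList : List ℕ := reps.flatMap fun r => aList.map (tblMul r.1)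

/-- An involution. -/
def isInv (T : ℕ) : Bool := tblEq (tblMul T T) idTbl && !tblEq T idTbl

/-- Commuting tables, pointwise. -/
def commT (A B : ℕ) : Bool :=
  (List.range 24).all fun i => Nat.beq (Golay.app A (Golay.app B i)) (Golay.app B (Golay.app A i))

/-- A sign class fixed by a table. -/
def fixCl (T m : ℕ) : Bool :=
  Nat.beq (tblImg T m) m || Nat.beq (tblImg T m) (m ^^^ fullMask)

/-- The classes fixed by the central involution. -/
def zFixed : List ℕ := codeList.filter (fixCl zT)

/-- The number of classes fixed with the central involution. -/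
def pairCount (u : ℕ) : ℕ := (zFixed.filter (fixCl u)).length

/-- The checks on an involution. -/
def invOK (I : List ℕ) (u : ℕ) : Bool :=
  tblEq u zT ||
    (Nat.ble (pairCount u) 128 && (Nat.ble (pairCount u) 64 || wideOne.contains u) &&
      (Nat.ble (pairCount u) 32 || wideTwo.contains u))
  && (Nat.ble (I.filter (commT u)).length 126 || wideComm.contains u)

/-- The shift of a mask by a table. -/
def diffT (T m : ℕ) : ℕ := Nat.xor (tblImg T m) m

/-- The positions. -/
def idx24 : List ℕ := [0,1,2,3,4,5,6,7,8,9,10,11,12,13,14,15,16,17,18,19,20,21,22,23]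

/-- Commuting tables, in primitive operations. -/
def commF (A B : ℕ) : Bool :=
  idx24.all fun i => Nat.beq
    (Nat.land (Nat.shiftRight A (Nat.mul 5 (Nat.land (Nat.shiftRight B (Nat.mul 5 i)) 31))) 31)
    (Nat.land (Nat.shiftRight B (Nat.mul 5 (Nat.land (Nat.shiftRight A (Nat.mul 5 i)) 31))) 31)

/-- The number of fixed classes, from the shifts of a basis. -/
def pairCountL (u : ℕ) : ℕ :=
  ((spanList (zBasis.map (diffT u))).filter fun d => Nat.beq d 0 || Nat.beq d fullMask).length

/-- The checks on an involution, in cheaper form. -/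
def invOKL (u : ℕ) : Bool :=
  let c := pairCountL u
  tblEq u zT ||
    (Nat.ble c 128 && (Nat.ble c 64 || wideOne.contains u) &&
      (Nat.ble c 32 || wideTwo.contains u))
  && (Nat.ble (invList.filter (commF u)).length 126 || wideComm.contains u)

lemma commT_eq : commT = commF := rfl

lemma tblImg_xor {T : ℕ} (hT : validT T = true) (a b : ℕ) :
    tblImg T (a ^^^ b) = tblImg T a ^^^ tblImg T b := by
  refine Nat.eq_of_testBit_eq fun j => ?_
  have key : ∀ m i, i < 24 → app T i = j → (tblImg T m).testBit j = m.testBit i := by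
    intro m i hi hij
    refine Bool.eq_iff_iff.2 ⟨fun h => ?_, fun h => (testBit_tblImg _ _ _).2 ⟨i, hi, h, hij⟩⟩
    obtain ⟨i', hi', hm, hij'⟩ := (testBit_tblImg _ _ _).1 h
    have he : tblFun T (pt i') = tblFun T (pt i) := by
      simp only [tblFun, idx_pt _ hi, idx_pt _ hi', hij, hij']
    have := congrArg idx ((validT_bijective hT).1.1 he)
    rw [idx_pt _ hi, idx_pt _ hi'] at this
    rw [← this]; exact hm
  by_cases h : ∃ i < 24, app T i = j
  · obtain ⟨i, hi, hij⟩ := h
    rw [Nat.testBit_xor, key _ i hi hij, key _ i hi hij, key _ i hi hij, Nat.testBit_xor]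
  · have hn : ∀ m, (tblImg T m).testBit j = false := fun m => Bool.eq_false_iff.2 fun hm => by
      obtain ⟨i, hi, -, hij⟩ := (testBit_tblImg _ _ _).1 hm
      exact h ⟨i, hi, hij⟩
    rw [Nat.testBit_xor, hn, hn, hn]; rfl

lemma map_spanList_hom (f : ℕ → ℕ) (h0 : f 0 = 0) (hx : ∀ a b, f (a ^^^ b) = f a ^^^ f b) :
    ∀ L : List ℕ, (spanList L).map f = spanList (L.map f)
  | [] => by simp [spanList, h0]
  | b :: t => by
    simp only [spanList, List.map_cons, List.map_append, List.map_map,
      ← map_spanList_hom f h0 hx t]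
    congr 1
    exact List.map_congr_left fun x _ => hx b x

lemma zFixed_eq : zFixed = spanList zBasis := by decide +kernel

lemma pairCount_eq {T : ℕ} (hT : validT T = true) : pairCount T = pairCountL T := by
  have hd : ∀ a b, diffT T (a ^^^ b) = diffT T a ^^^ diffT T b := by
    intro a b
    show tblImg T (a ^^^ b) ^^^ (a ^^^ b) = (tblImg T a ^^^ a) ^^^ (tblImg T b ^^^ b)
    rw [tblImg_xor hT]
    ac_rfl
  have h0 : diffT T 0 = 0 := by
    have := hd 0 0
    simpa using this
  have e : fixCl T = (fun d => Nat.beq d 0 || Nat.beq d fullMask) ∘ diffT T := by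
    funext m
    show _ = (Nat.beq (tblImg T m ^^^ m) 0 || Nat.beq (tblImg T m ^^^ m) fullMask)
    refine Bool.eq_iff_iff.2 ?_
    simp only [fixCl, Bool.or_eq_true, Nat.beq_eq, Nat.xor_eq_zero_iff]
    refine or_congr Iff.rfl ⟨fun h => ?_, fun h => ?_⟩
    · rw [h, Nat.xor_comm m, Nat.xor_assoc, Nat.xor_self, Nat.xor_zero]
    · rw [← h, ← Nat.xor_assoc, Nat.xor_comm m, Nat.xor_assoc, Nat.xor_self, Nat.xor_zero]
  rw [pairCount, pairCountL, zFixed_eq, ← map_spanList_hom _ h0 hd, List.filter_map,
    List.length_map, e]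

lemma invList_eq : pList.filter isInv = invList := by decide +kernel

lemma invList_valid : invList.all validT = true := by decide +kernel

lemma checkA : invA.all invOKL = true := by decide +kernel

lemma checkB : invB.all invOKL = true := by decide +kernel

lemma checkC : invC.all invOKL = true := by decide +kernel

lemma checkD : invD.all invOKL = true := by decide +kernel

lemma checkE : invE.all invOKL = true := by decide +kernel

lemma checkF : invF.all invOKL = true := by decide +kernel

lemma bound_checks :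
    ((pList.filter isInv).all (invOK (pList.filter isInv))) = true ∧
    zFixed.length = 256 ∧ wideOne.length = 14 ∧ wideTwo.length = 54 ∧ wideComm.length = 7 := by
  refine ⟨?_, by rw [zFixed_eq]; decide +kernel, rfl, rfl, rfl⟩
  rw [invList_eq, List.all_eq_true]
  intro u hu
  have h : invOKL u = true := by
    have : invList.all invOKL = true := by
      simp only [invList, List.all_append, checkA, checkB, checkC, checkD, checkE, checkF,
        Bool.and_self]
    exact List.all_eq_true.1 this u hu
  simpa only [invOK, invOKL, commT_eq,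
    pairCount_eq (List.all_eq_true.1 invList_valid u hu)] using h

lemma commT_iff {A B : ℕ} (hA : validT A = true) (hB : validT B = true) :
    commT A B = true ↔ mkPerm A * mkPerm B = mkPerm B * mkPerm A := by
  rw [commT, List.all_eq_true]
  constructor
  · intro h
    ext p : 1
    apply idx_injective
    rw [Equiv.Perm.mul_apply, Equiv.Perm.mul_apply, idx_mkPerm hA, idx_mkPerm hB, idx_mkPerm hB,
      idx_mkPerm hA]
    exact Nat.eq_of_beq_eq_true (h (idx p) (List.mem_range.2 (idx_lt p)))
  · intro h i hi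
    have := congrArg (fun σ : Equiv.Perm GolayPt => idx (σ (pt i))) h
    simp only [Equiv.Perm.mul_apply, idx_mkPerm hA, idx_mkPerm hB,
      idx_pt i (List.mem_range.1 hi)] at this
    rw [this]; exact Nat.beq_refl _

lemma tblEq_of_mkPerm {A B : ℕ} (hA : validT A = true) (hB : validT B = true)
    (h : mkPerm A = mkPerm B) : tblEq A B = true := by
  rw [tblEq, List.all_eq_true]
  intro i hi
  have := congrArg (fun σ : Equiv.Perm GolayPt => idx (σ (pt i))) h
  simp only [idx_mkPerm hA, idx_mkPerm hB, idx_pt i (List.mem_range.1 hi)] at this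
  exact beq_iff_eq.2 this

theorem exists_inv_table {x : Equiv.Perm GolayPt} (hx : x ∈ P0) (h2 : x * x = 1) (h1 : x ≠ 1) :
    ∃ T ∈ pList.filter isInv, validT T = true ∧ mkPerm T = x := by
  obtain ⟨vo, vz, va, vs, vr, vl⟩ := valid_facts
  obtain ⟨i, hi, a, ha, rfl⟩ := mem_P0_iff.1 hx
  obtain ⟨t, ht, rfl⟩ := mem_At_iff.1 ha
  have hr := rep_mem hi
  have hs := tblMul_spec (vr _ hr).1 (vl t ht)
  refine ⟨_, List.mem_filter.2 ⟨List.mem_flatMap.2 ⟨_, hr, List.mem_map.2 ⟨t, ht, rfl⟩⟩, ?_⟩,
    hs.1, hs.2⟩
  rw [isInv, Bool.and_eq_true, Bool.not_eq_true']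
  refine ⟨tblEq_of_mkPerm (tblMul_spec hs.1 hs.1).1 idTbl_spec.1 ?_, ?_⟩
  · rw [(tblMul_spec hs.1 hs.1).2, hs.2, idTbl_spec.2]; exact h2
  · rw [← Bool.not_eq_true]
    intro he
    have := mkPerm_eq_of_tblEq hs.1 idTbl_spec.1 he
    rw [hs.2, idTbl_spec.2] at this
    exact h1 this

lemma fixCl_iff {T m : ℕ} (hT : validT T = true) (hm : m < 2 ^ 24) :
    fixCl T m = true ↔
      mkPerm T • ptSet m = ptSet m ∨ mkPerm T • ptSet m = ptSet (m ^^^ fullMask) := by
  have hf : m ^^^ fullMask < 2 ^ 24 := Nat.xor_lt_two_pow hm (by decide)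
  rw [fixCl, Bool.or_eq_true, ← ptSet_tblImg hT]
  constructor
  · rintro (h | h)
    · exact Or.inl (congrArg ptSet (Nat.eq_of_beq_eq_true h))
    · exact Or.inr (congrArg ptSet (Nat.eq_of_beq_eq_true h))
  · rintro (h | h)
    · left; rw [ptSet_injOn (tblImg_lt hT m) hm h]; exact Nat.beq_refl _
    · right; rw [ptSet_injOn (tblImg_lt hT m) hf h]; exact Nat.beq_refl _

/-- The bound. -/
theorem card_mul_le (U : Subgroup (Equiv.Perm GolayPt)) (hU : U ≤ P0) (hz : zP ∈ U)
    (hexp : ∀ x ∈ U, x * x = 1) (hcomm : ∀ x ∈ U, ∀ y ∈ U, x * y = y * x)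
    (hcard : ∃ k, Nat.card U = 2 ^ k) (S : Finset ℕ) (hS : ∀ m ∈ S, m ∈ codeList ∧
      ∀ x ∈ U, x • ptSet m = ptSet m ∨ x • ptSet m = ptSet (m ^^^ fullMask)) :
    Nat.card U * S.card ≤ 2048 := by
  classical
  obtain ⟨hok, hz256, hw1, hw2, hwc⟩ := bound_checks
  obtain ⟨vo, vz, va, vs, vr, vl⟩ := valid_facts
  set I := pList.filter isInv
  set Uf : Finset (Equiv.Perm GolayPt) := (U : Set (Equiv.Perm GolayPt)).toFinite.toFinset
  have hUf : ∀ x, x ∈ Uf ↔ x ∈ U := fun x => Set.Finite.mem_toFinset _
  have hUcard : Uf.card = Nat.card U := (Nat.card_eq_card_finite_toFinset _).symm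
  have hSz : S ⊆ zFixed.toFinset := fun m hm => List.mem_toFinset.2 (List.mem_filter.2
    ⟨(hS m hm).1, (fixCl_iff vz (codeList_lt (hS m hm).1)).2 ((hS m hm).2 zP hz)⟩)
  have hS256 : S.card ≤ 256 :=
    (Finset.card_le_card hSz).trans ((List.toFinset_card_le _).trans hz256.le)
  have hpair : ∀ T, validT T = true → mkPerm T ∈ U → S.card ≤ pairCount T := by
    intro T hT hTU
    refine (Finset.card_le_card (fun m hm => ?_)).trans (List.toFinset_card_le _)
    exact List.mem_toFinset.2 (List.mem_filter.2 ⟨List.mem_toFinset.1 (hSz hm),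
      (fixCl_iff hT (codeList_lt (hS m hm).1)).2 ((hS m hm).2 _ hTU)⟩)
  have hex : ∀ (L : List ℕ) (b : ℕ), L.length + 3 ≤ Nat.card U →
      (∀ T ∈ I, tblEq T zT = true ∨ L.contains T = true ∨ pairCount T ≤ b) → S.card ≤ b := by
    intro L b hL hall
    by_contra hc
    push Not at hc
    have hsub : Uf ⊆ insert 1 (insert zP (L.toFinset.image mkPerm)) := by
      intro x hx
      rw [hUf] at hx
      by_cases hx1 : x = 1
      · simp [hx1]
      obtain ⟨T, hT, hTv, rfl⟩ := exists_inv_table (hU hx) (hexp x hx) hx1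
      rcases hall T hT with h | h | h
      · rw [Finset.mem_insert, Finset.mem_insert]
        exact Or.inr (Or.inl (mkPerm_eq_of_tblEq hTv vz h))
      · rw [Finset.mem_insert, Finset.mem_insert, Finset.mem_image]
        exact Or.inr (Or.inr ⟨T, List.mem_toFinset.2 (List.contains_iff_mem.1 h), rfl⟩)
      · have := hpair T hTv hx; omega
    have := Finset.card_le_card hsub
    rw [hUcard] at this
    have := (Finset.card_insert_le 1 (insert zP (L.toFinset.image mkPerm)))
    have := (Finset.card_insert_le zP (L.toFinset.image mkPerm))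
    have := (Finset.card_image_le (f := mkPerm) (s := L.toFinset))
    have := List.toFinset_card_le (l := L)
    omega
  obtain ⟨k, hk⟩ := hcard
  have hinv : ∀ T ∈ I, invOK I T = true := List.all_eq_true.1 hok
  have c1 : ∀ T ∈ I, tblEq T zT = true ∨ pairCount T ≤ 128 ∧
      (pairCount T ≤ 64 ∨ wideOne.contains T = true) ∧
      (pairCount T ≤ 32 ∨ wideTwo.contains T = true) := by
    intro T hT
    have h := hinv T hT
    simp only [invOK, Bool.or_eq_true, Bool.and_eq_true, Nat.ble_eq] at h
    exact h.imp id fun h => ⟨h.1.1.1, h.1.1.2, h.1.2⟩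
  have hk7 : k ≤ 6 := by
    by_contra hc
    push Not at hc
    have h128 : 128 ≤ Nat.card U := by
      rw [hk]; exact le_trans (by norm_num) (Nat.pow_le_pow_right (by norm_num) hc)
    have hsub : Uf ⊆ insert 1 (insert zP (wideComm.toFinset.image mkPerm)) := by
      intro x hx
      rw [hUf] at hx
      by_cases hx1 : x = 1
      · simp [hx1]
      obtain ⟨T, hT, hTv, rfl⟩ := exists_inv_table (hU hx) (hexp x hx) hx1
      have h := hinv T hT
      simp only [invOK, Bool.or_eq_true, Bool.and_eq_true, Nat.ble_eq] at h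
      rw [Finset.mem_insert, Finset.mem_insert, Finset.mem_image]
      rcases h with h | ⟨-, h | h⟩
      · exact Or.inr (Or.inl (mkPerm_eq_of_tblEq hTv vz h))
      · exfalso
        have hall : Uf.erase 1 ⊆ (I.filter (commT T)).toFinset.image mkPerm := by
          intro y hy
          rw [Finset.mem_erase, hUf] at hy
          obtain ⟨Y, hY, hYv, rfl⟩ := exists_inv_table (hU hy.2) (hexp y hy.2) hy.1
          exact Finset.mem_image.2 ⟨Y, List.mem_toFinset.2 (List.mem_filter.2
            ⟨hY, (commT_iff hTv hYv).2 (hcomm _ hx _ hy.2)⟩), rfl⟩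
        have h2 := (Finset.card_le_card hall).trans
          (Finset.card_image_le.trans (List.toFinset_card_le _))
        rw [Finset.card_erase_of_mem ((hUf 1).2 U.one_mem), hUcard] at h2
        omega
      · exact Or.inr (Or.inr ⟨T, List.mem_toFinset.2 (List.contains_iff_mem.1 h), rfl⟩)
    have := Finset.card_le_card hsub
    rw [hUcard] at this
    have := (Finset.card_insert_le 1 (insert zP (wideComm.toFinset.image mkPerm)))
    have := (Finset.card_insert_le zP (wideComm.toFinset.image mkPerm))
    have := (Finset.card_image_le (f := mkPerm) (s := wideComm.toFinset))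
    have := List.toFinset_card_le (l := wideComm)
    omega
  by_cases h8 : k ≤ 3
  · calc Nat.card U * S.card ≤ 2 ^ 3 * 256 :=
          Nat.mul_le_mul (hk ▸ Nat.pow_le_pow_right (by norm_num) h8) hS256
      _ = 2048 := by norm_num
  have hu : S.card ≤ 128 :=
    hex [] 128 (by rw [hk]; have := Nat.pow_le_pow_right (show 1 ≤ 2 by norm_num) (show 4 ≤ k by omega)
                   simp; omega)
      fun T hT => (c1 T hT).imp id fun h => Or.inr h.1
  interval_cases k
  · rw [hk]; omega
  · have : S.card ≤ 64 := hex wideOne 64 (by rw [hk, hw1]; norm_num)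
      fun T hT => (c1 T hT).imp id fun h => h.2.1.symm
    rw [hk]; omega
  · have : S.card ≤ 32 := hex wideTwo 32 (by rw [hk, hw2]; norm_num)
      fun T hT => (c1 T hT).imp id fun h => h.2.2.symm
    rw [hk]; omega

end Cfsg.Agent.H92.CoOneAut
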