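import Cfsg.Agent.H92.CoOneAutSetup
import Cfsg.Agent.Golay.Zeta

/-!
A normalised automorphism of Co1 is inner.
-/

set_option autoImplicit false

namespace Cfsg.Agent.H92.CoOneAut

open Cfsg Cfsg.Agent.Golay
open Cfsg.Agent.H92.LeechTwo (co0_ext SignSet signs permOf permOf_permAut mem_signs signs_le signs_comm
  signs_sq signAut_mul)
open Cfsg.Agent.H92.CoTwoCent (octSet octInv)
open scoped Pointwise symmDiff


/-! ### Sign classes as masks -/

/-- The sign class of a mask of the code, and one for other masks. -/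
def sm (m : ℕ) : Spor.Co1 :=
  if h : m ∈ codeList then sgn ⟨ptSet m, (ptSet_mem_supports_iff (codeList_lt h)).2 h⟩ else 1

lemma sm_eq_sgn {m : ℕ} (h : m ∈ codeList) (c : SignSet) (hc : c.1 = ptSet m) : sm m = sgn c := by
  rw [sm, dif_pos h]
  exact congrArg sgn (Subtype.ext hc.symm)

lemma sgn_eq_sm (c : SignSet) : sgn c = sm (maskOf c.1) :=
  (sm_eq_sgn (mem_supports_iff.1 c.2) c (ptSet_maskOf c.1).symm).symm

lemma sm_mem (m : ℕ) : sm m ∈ signG := by
  unfold sm
  split
  · exact sgn_mem _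
  · exact one_mem _

lemma exists_sm {x : Spor.Co1} (hx : x ∈ signG) : ∃ m ∈ codeList, x = sm m := by
  obtain ⟨c, rfl⟩ := exists_sgn hx
  exact ⟨_, mem_supports_iff.1 c.2, sgn_eq_sm c⟩

lemma xor_mem_code {a b : ℕ} (ha : a ∈ codeList) (hb : b ∈ codeList) : a ^^^ b ∈ codeList :=
  xor_mem_spanList _ ha hb

lemma sm_mul {a b : ℕ} (ha : a ∈ codeList) (hb : b ∈ codeList) : sm a * sm b = sm (a ^^^ b) := by
  rw [sm, sm, dif_pos ha, dif_pos hb, sgn, sgn, ← map_mul, signAut_mul,
    sm_eq_sgn (xor_mem_code ha hb) ⟨_, symmDiff_mem_supports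
      ((ptSet_mem_supports_iff (codeList_lt ha)).2 ha) ((ptSet_mem_supports_iff (codeList_lt hb)).2 hb)⟩
      (ptSet_xor a b).symm]
  rfl

lemma empty_code : (0 : ℕ) ∈ codeList := zero_mem_spanList _

lemma full_code : fullMask ∈ codeList := by decide +kernel

lemma sm_zero : sm 0 = 1 := by
  have h := sm_mul empty_code empty_code
  rw [Nat.xor_self] at h
  exact mul_eq_left.1 h

lemma sm_full : sm fullMask = 1 := by
  rw [sm_eq_sgn full_code ⟨Finset.univ, univ_mem_supports⟩
    (show (Finset.univ : Finset GolayPt) = ptSet fullMask by decide +kernel)]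
  exact (QuotientGroup.eq_one_iff _).2 (mem_center_of_scalar false fun v =>
    (negAll_apply v).trans (by simp))

lemma sm_eq_one {m : ℕ} (hm : m ∈ codeList) (h : sm m = 1) : m = 0 ∨ m = fullMask := by
  rw [← sm_zero, sm, dif_pos hm, sm, dif_pos empty_code] at h
  have hlt := codeList_lt hm
  rcases sgn_eq_sgn h with r | r
  · left
    have r' : ptSet m = ptSet 0 := by rw [← ptSet_maskOf (ptSet m)]; exact r
    exact ptSet_injOn hlt (by norm_num) r'
  · right
    have r' : ptSet (m ^^^ fullMask) = ptSet 0 := by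
      rw [ptSet_xor, ← ptSet_maskOf (ptSet m), ← ptSet_xor]; exact r
    have := ptSet_injOn (Nat.xor_lt_two_pow hlt (by decide)) (by norm_num) r'
    exact Nat.xor_eq_zero_iff.1 this

lemma tblImg_code {T m : ℕ} (hv : validT T = true) (hT : mkPerm T ∈ M24) (hm : m ∈ codeList) :
    tblImg T m ∈ codeList := by
  have h := smul_mem_supports hT ((ptSet_mem_supports_iff (codeList_lt hm)).2 hm)
  rw [← ptSet_tblImg hv] at h
  exact (ptSet_mem_supports_iff (tblImg_lt hv m)).1 h

lemma sm_conj {T m : ℕ} (σ : M24) (hv : validT T = true) (he : mkPerm T = σ.1)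
    (hm : m ∈ codeList) : permG σ * sm m * (permG σ)⁻¹ = sm (tblImg T m) := by
  have hm' := tblImg_code hv (he ▸ σ.2) hm
  rw [sm, dif_pos hm, permG_conj]
  exact (sm_eq_sgn hm' _ (by rw [ptSet_tblImg hv, he])).symm

lemma fixCl_of_comm {T m : ℕ} (σ : M24) (hv : validT T = true) (he : mkPerm T = σ.1)
    (hm : m ∈ codeList) (h : permG σ * sm m * (permG σ)⁻¹ = sm m) : fixCl T m = true := by
  rw [sm_conj σ hv he hm] at h
  have hm' := tblImg_code hv (he ▸ σ.2) hm
  have h1 := sm_mul hm hm'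
  rw [h, signG_sq (sm_mem _), eq_comm] at h1
  rw [fixCl, Bool.or_eq_true]
  rcases sm_eq_one (xor_mem_code hm hm') h1 with r | r
  · left; rw [← Nat.xor_eq_zero_iff.1 r]; exact Nat.beq_refl _
  · right
    rw [← r, ← Nat.xor_assoc, Nat.xor_self, Nat.zero_xor]
    exact Nat.beq_refl _

/-! ### Checked facts -/

/-- Iterated composition of a table. -/
def tpow (T : ℕ) : ℕ → ℕ
  | 0 => idTbl
  | n + 1 => tblMul T (tpow T n)

lemma tpow_spec {T : ℕ} (hv : validT T = true) :
    ∀ n, validT (tpow T n) = true ∧ mkPerm (tpow T n) = mkPerm T ^ n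
  | 0 => ⟨idTbl_spec.1, idTbl_spec.2.trans (pow_zero _).symm⟩
  | n + 1 => by
    obtain ⟨h1, h2⟩ := tpow_spec hv n
    refine ⟨(tblMul_spec hv h1).1, ?_⟩
    rw [pow_succ', ← h2]
    exact (tblMul_spec hv h1).2

/-- The sign part of a power. -/
def twistSum (T m : ℕ) : ℕ → ℕ
  | 0 => 0
  | n + 1 => m ^^^ tblImg T (twistSum T m n)

/-- The word used against the inversion. -/
def wordTbl : ℕ := tblMul (tpow translTbl 4) (tblMul projInvTbl cubeTwistTbl)

lemma table_facts :
    inM24 doubleTbl = true ∧ inM24 projInvTbl = true ∧ inM24 cubeTwistTbl = true ∧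
    inM24 translTbl = true ∧
    tblEq (tblMul doubleTbl translTbl) (tblMul (tpow translTbl 2) doubleTbl) = true ∧
    tblEq (tblMul projInvTbl doubleTbl) (tblMul (tpow doubleTbl 10) projInvTbl) = true ∧
    tblEq (tblMul cubeTwistTbl doubleTbl) (tblMul (tpow doubleTbl 3) cubeTwistTbl) = true ∧
    tblEq (tpow cubeTwistTbl 5) idTbl = true ∧ tblEq (tpow wordTbl 8) idTbl = true ∧
    twistMask ∈ codeList ∧
    twistSum cubeTwistTbl twistMask 5 ≠ 0 ∧ twistSum cubeTwistTbl twistMask 5 ≠ fullMask ∧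
    twistSum wordTbl (tblImg (tpow translTbl 4) twistMask) 8 ≠ 0 ∧
    twistSum wordTbl (tblImg (tpow translTbl 4) twistMask) 8 ≠ fullMask := by
  decide +kernel

lemma fixed_facts :
    (codeList.all fun m => !fixCl translTbl m || Nat.beq m 0 || Nat.beq m fullMask) = true ∧
    (codeList.all fun m => !fixCl (tpow translTbl 2) m || Nat.beq m 0 || Nat.beq m fullMask)
      = true ∧
    (codeList.all fun m => !fixCl (tpow doubleTbl 10) m || Nat.beq m 0 || Nat.beq m fullMask ||
      Nat.beq m twistMask || Nat.beq m (twistMask ^^^ fullMask)) = true ∧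
    (codeList.all fun m => !fixCl (tpow doubleTbl 3) m || Nat.beq m 0 || Nat.beq m fullMask ||
      Nat.beq m twistMask || Nat.beq m (twistMask ^^^ fullMask)) = true := by
  decide +kernel

lemma octad_facts :
    (∀ T ∈ octTbls, inM24 T = true ∧ tblImg T CoTwoCent.octMask = CoTwoCent.octMask) ∧
    CoTwoCent.octMask ∈ codeList ∧
    (codeList.all fun m => !(octTbls.all fun T => fixCl T m) || Nat.beq m 0 || Nat.beq m fullMask ||
      Nat.beq m CoTwoCent.octMask || Nat.beq m (CoTwoCent.octMask ^^^ fullMask)) = true := by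
  decide +kernel

/-- The point function of a table. -/
def ptT (T : ℕ) (p : GolayPt) : GolayPt := pt (app T (idx p))

lemma sextet_facts :
    (∀ T ∈ sextetTbls, inM24 T = true ∧ ∀ i l : GolayPt,
      zetaFun (Pi.single (ptT T i) 8) (ptT T l) = zetaFun (Pi.single i 8) l) ∧
    (codeList.all fun m => !(sextetTbls.all fun T => fixCl T m) || Nat.beq m 0 || Nat.beq m fullMask)
      = true ∧
    (∀ l : GolayPt, zetaFun (Pi.single none 8) l ≠ 8 ∧ zetaFun (Pi.single none 8) l ≠ -8) := by
  decide +kernel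

lemma even_facts :
    (∀ f ∈ evenOctads, f ∈ codeList ∧ popCnt f = 8) ∧
    (∀ f ∈ evenOctads, ∀ i : GolayPt, ∃ l : GolayPt,
      (zetaFun (fun r => if f.testBit (idx r) then -zetaFun (Pi.single i 8) r
        else zetaFun (Pi.single i 8) r) l = 8 ∨
      zetaFun (fun r => if f.testBit (idx r) then -zetaFun (Pi.single i 8) r
        else zetaFun (Pi.single i 8) r) l = -8) ∧
      ∀ q : GolayPt, q ≠ l → zetaFun (fun r => if f.testBit (idx r) then
        -zetaFun (Pi.single i 8) r else zetaFun (Pi.single i 8) r) q = 0) ∧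
    (∀ p q : GolayPt, (∀ f ∈ evenOctads, f.testBit (idx p) = f.testBit (idx q)) → p = q) := by
  decide +kernel

lemma zero_or_full {m : ℕ} (h : (Nat.beq m 0 || Nat.beq m fullMask) = true) :
    sm m = 1 := by
  rw [Bool.or_eq_true] at h
  rcases h.imp Nat.eq_of_beq_eq_true Nat.eq_of_beq_eq_true with rfl | rfl
  exacts [sm_zero, sm_full]

/-- Only the identity class is fixed. -/
lemma fixed_one {T m : ℕ}
    (hall : (codeList.all fun m => !fixCl T m || Nat.beq m 0 || Nat.beq m fullMask) = true)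
    (hm : m ∈ codeList) (hf : fixCl T m = true) : sm m = 1 := by
  have h := List.all_eq_true.1 hall m hm
  rw [hf, Bool.not_true, Bool.false_or] at h
  exact zero_or_full h

/-- Only the twist class is fixed. -/
lemma fixed_twist {T m : ℕ}
    (hall : (codeList.all fun m => !fixCl T m || Nat.beq m 0 || Nat.beq m fullMask ||
      Nat.beq m twistMask || Nat.beq m (twistMask ^^^ fullMask)) = true)
    (hm : m ∈ codeList) (hf : fixCl T m = true) : sm m = 1 ∨ sm m = sm twistMask := by
  have h := List.all_eq_true.1 hall m hm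
  rw [hf, Bool.not_true, Bool.false_or] at h
  simp only [Bool.or_eq_true] at h
  rcases h with ((h | h) | h) | h <;> obtain rfl := Nat.eq_of_beq_eq_true h
  · exact Or.inl sm_zero
  · exact Or.inl sm_full
  · exact Or.inr rfl
  · refine Or.inr ?_
    rw [← sm_mul table_facts.2.2.2.2.2.2.2.2.2.1 full_code, sm_full, mul_one]

/-- An element of the group of the code given by a table. -/
noncomputable def ofTbl (T : ℕ) (h : inM24 T = true) : M24 := ⟨mkPerm T, mem_M24_of_inM24 h⟩

lemma permG_eq_of_tblEq {A B : ℕ} {σ τ : M24} (hA : validT A = true) (hB : validT B = true)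
    (eA : mkPerm A = σ.1) (eB : mkPerm B = τ.1) (h : tblEq A B = true) : σ = τ :=
  Subtype.ext (eA ▸ eB ▸ mkPerm_eq_of_tblEq hA hB h)

lemma twist_pow {T m : ℕ} (σ : M24) (hv : validT T = true) (he : mkPerm T = σ.1)
    (hm : m ∈ codeList) :
    ∀ n, twistSum T m n ∈ codeList ∧ (sm m * permG σ) ^ n = sm (twistSum T m n) * permG σ ^ n
  | 0 => ⟨empty_code, by simp [twistSum, sm_zero]⟩
  | n + 1 => by
    obtain ⟨h1, h2⟩ := twist_pow σ hv he hm n
    have h3 := tblImg_code hv (he ▸ σ.2) h1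
    refine ⟨xor_mem_code hm h3, ?_⟩
    rw [twistSum, ← sm_mul hm h3, ← sm_conj σ hv he h1, pow_succ', h2, pow_succ']
    group

lemma not_twist {T m n : ℕ} (σ : M24) (hv : validT T = true) (he : mkPerm T = σ.1)
    (hm : m ∈ codeList) (hn : tblEq (tpow T n) idTbl = true) (h0 : twistSum T m n ≠ 0)
    (hF : twistSum T m n ≠ fullMask) (β : MulAut Spor.Co1) : β (permG σ) ≠ sm m * permG σ := by
  intro h
  have hpow : σ ^ n = 1 := Subtype.ext (by
    rw [SubgroupClass.coe_pow, ← he, ← (tpow_spec hv n).2,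
      mkPerm_eq_of_tblEq (tpow_spec hv n).1 idTbl_spec.1 hn, idTbl_spec.2]
    rfl)
  have h1 := congrArg (fun x => x ^ n) h
  simp only [← map_pow, hpow, map_one] at h1
  rw [(twist_pow σ hv he hm n).2, ← map_pow, hpow, map_one, mul_one] at h1
  rcases sm_eq_one (twist_pow σ hv he hm n).1 h1.symm with r | r
  exacts [h0 r, hF r]

/-! ### The automorphism on the monomial group -/

section Normalised

variable (β : MulAut Spor.Co1) (hE : ∀ x ∈ signG, β x ∈ signG)
  (hP : ∀ σ : M24, β (permG σ) * (permG σ)⁻¹ ∈ signG)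

include hE hP

lemma conj_equivariant (σ : M24) {x : Spor.Co1} (hx : x ∈ signG) :
    β (permG σ * x * (permG σ)⁻¹) = permG σ * β x * (permG σ)⁻¹ := by
  have he := hP σ
  set e := β (permG σ) * (permG σ)⁻¹ with hedef
  have hb : β (permG σ) = e * permG σ := by rw [hedef, inv_mul_cancel_right]
  have hy : permG σ * β x * (permG σ)⁻¹ ∈ signG := by
    have := normalizer_signG.symm ▸ permG_mem σ
    exact (Subgroup.mem_normalizer_iff.1 this _).1 (hE x hx)
  rw [map_mul, map_mul, map_inv, hb,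
    show e * permG σ * β x * (e * permG σ)⁻¹ = e * (permG σ * β x * (permG σ)⁻¹) * e⁻¹ by group,
    signG_comm he hy, mul_inv_cancel_right]

lemma fix_octad : β (sm CoTwoCent.octMask) = sm CoTwoCent.octMask := by
  obtain ⟨hT, ho, hall⟩ := octad_facts
  obtain ⟨m, hm, hb⟩ := exists_sm (hE _ (sm_mem CoTwoCent.octMask))
  have hfix : octTbls.all (fun T => fixCl T m) = true := List.all_eq_true.2 fun T hTm => by
    obtain ⟨hin, himg⟩ := hT T hTm
    have hv := validT_of_inM24 hin
    refine fixCl_of_comm (ofTbl T hin) hv rfl hm ?_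
    rw [← hb, ← conj_equivariant β hE hP (ofTbl T hin) (sm_mem _),
      sm_conj (ofTbl T hin) hv rfl ho, himg]
  have h := List.all_eq_true.1 hall m hm
  rw [hfix, Bool.not_true, Bool.false_or] at h
  simp only [Bool.or_eq_true] at h
  have hne : sm CoTwoCent.octMask ≠ 1 := fun e => by
    have := sm_eq_one ho e
    rcases this with r | r <;> exact absurd r (by decide +kernel)
  rcases h with ((h | h) | h) | h <;> obtain rfl := Nat.eq_of_beq_eq_true h
  · rw [sm_zero] at hb
    exact absurd (β.injective (hb.trans (map_one β).symm)) hne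
  · rw [sm_full] at hb
    exact absurd (β.injective (hb.trans (map_one β).symm)) hne
  · exact hb
  · rw [hb, ← sm_mul ho full_code, sm_full, mul_one]

lemma fix_signs {x : Spor.Co1} (hx : x ∈ signG) : β x = x := by
  obtain ⟨c, rfl⟩ := exists_sgn hx
  obtain ⟨-, ho, -⟩ := octad_facts
  have hmem : signAut c ∈ (β.toMonoidHom.eqLocus (MonoidHom.id _)).comap mkG := by
    refine LeechTwo.signAut_mem_of_octads (fun d hd => ?_) c
    show β (sgn d) = sgn d
    obtain ⟨σ, hσ⟩ := exists_M24_map_octad (o := ptSet CoTwoCent.octMask) (o' := d.1)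
      ⟨(ptSet_mem_supports_iff (codeList_lt ho)).2 ho, CoTwoCent.oct_facts.2.2.2.1⟩ ⟨d.2, hd⟩
    have e : sgn d = permG σ * sm CoTwoCent.octMask * (permG σ)⁻¹ := by
      rw [sm, dif_pos ho, permG_conj]
      exact congrArg sgn (Subtype.ext hσ.symm)
    rw [e, conj_equivariant β hE hP σ (sm_mem _), fix_octad β hE hP]
  exact hmem

/-- A commutation with fixed elements pins down the twist. -/
lemma rel_fix {g h h' : M24} (e : g * h = h' * g) (fh : β (permG h) = permG h)
    (fh' : β (permG h') = permG h') :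
    permG h' * (β (permG g) * (permG g)⁻¹) * (permG h')⁻¹ = β (permG g) * (permG g)⁻¹ := by
  set d := β (permG g) * (permG g)⁻¹ with hd
  have hb : β (permG g) = d * permG g := by rw [hd, inv_mul_cancel_right]
  have h1 := congrArg (fun x => β (permG x)) e
  simp only [map_mul, hb, fh, fh'] at h1
  rw [mul_assoc d, ← map_mul, e, map_mul, ← mul_assoc, ← mul_assoc] at h1
  rw [mul_inv_eq_iff_eq_mul]
  exact (mul_right_cancel h1).symm

lemma fix_gens (h1 : β (permG ⟨transl, transl_mem⟩) = permG ⟨transl, transl_mem⟩) :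
    β (permG ⟨projInv, projInv_mem⟩) = permG ⟨projInv, projInv_mem⟩ ∧
      β (permG ⟨cubeTwist, cubeTwist_mem⟩) = permG ⟨cubeTwist, cubeTwist_mem⟩ := by
  obtain ⟨iy, ic, ik, it, ry, rc, rk, ok5, ow, hv, n1, n2, n3, n4⟩ := table_facts
  obtain ⟨f1, f2, f3, f4⟩ := fixed_facts
  obtain ⟨vt, vc, vk, -, et, ec, ek, -⟩ := gen_tables
  set t : M24 := ⟨transl, transl_mem⟩
  set c : M24 := ⟨projInv, projInv_mem⟩
  set k : M24 := ⟨cubeTwist, cubeTwist_mem⟩
  have mt : mkPerm translTbl = t.1 := by rw [← et, mkPerm_tblOf]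
  have mc : mkPerm projInvTbl = c.1 := by rw [← ec, mkPerm_tblOf]
  have mk : mkPerm cubeTwistTbl = k.1 := by rw [← ek, ← tblOf_cubeTwist, mkPerm_tblOf]
  set y := ofTbl doubleTbl iy
  have vy := validT_of_inM24 iy
  have my : mkPerm doubleTbl = y.1 := rfl
  have powm : ∀ {T : ℕ} {σ : M24} (n : ℕ), validT T = true → mkPerm T = σ.1 →
      validT (tpow T n) = true ∧ mkPerm (tpow T n) = (σ ^ n).1 := fun n hT hσ =>
    ⟨(tpow_spec hT n).1, by rw [(tpow_spec hT n).2, hσ, SubgroupClass.coe_pow]⟩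
  have fpow : ∀ {σ : M24} (n : ℕ), β (permG σ) = permG σ → β (permG (σ ^ n)) = permG (σ ^ n) :=
    fun n hσ => by rw [map_pow, map_pow, hσ]
  have reln : ∀ {A B C : ℕ} {g h h' : M24}, validT A = true → validT B = true → validT C = true →
      mkPerm A = g.1 → mkPerm B = h.1 → mkPerm C = h'.1 →
      tblEq (tblMul A B) (tblMul C A) = true → g * h = h' * g := by
    intro A B C g h h' hA hB hC eA eB eC he
    exact permG_eq_of_tblEq (tblMul_spec hA hB).1 (tblMul_spec hC hA).1
      (by rw [(tblMul_spec hA hB).2, eA, eB]; rfl) (by rw [(tblMul_spec hC hA).2, eC, eA]; rfl) he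
  -- the multiplication by two
  have fy : β (permG y) = permG y := by
    obtain ⟨m, hm, hd⟩ := exists_sm (hP y)
    have h := rel_fix β hE hP (reln vy vt (powm 2 vt mt).1 my mt (powm 2 vt mt).2 ry) h1 (fpow 2 h1)
    rw [hd] at h
    rw [← mul_inv_eq_one, hd]
    exact fixed_one f2 hm (fixCl_of_comm _ (powm 2 vt mt).1 (powm 2 vt mt).2 hm h)
  have fk : β (permG k) = permG k := by
    obtain ⟨m, hm, hd⟩ := exists_sm (hP k)
    have h := rel_fix β hE hP
      (reln vk vy (powm 3 vy my).1 mk my (powm 3 vy my).2 rk) fy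
      (fpow 3 fy)
    rw [hd] at h
    rw [← mul_inv_eq_one, hd]
    rcases fixed_twist f4 hm (fixCl_of_comm _ (powm 3 vy my).1
      (powm 3 vy my).2 hm h) with r | r
    · exact r
    · exact absurd (by rw [← r, ← hd, inv_mul_cancel_right])
        (not_twist k vk mk hv ok5 n1 n2 β)
  refine ⟨?_, fk⟩
  obtain ⟨m, hm, hd⟩ := exists_sm (hP c)
  have h := rel_fix β hE hP
    (reln vc vy (powm 10 vy my).1 mc my (powm 10 vy my).2 rc) fy
    (fpow 10 fy)
  rw [hd] at h
  rw [← mul_inv_eq_one, hd]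
  rcases fixed_twist f3 hm (fixCl_of_comm _ (powm 10 vy my).1
    (powm 10 vy my).2 hm h) with r | r
  · exact r
  exfalso
  have v4 := powm 4 vt mt
  have vck := tblMul_spec vc vk
  have vw := tblMul_spec v4.1 vck.1
  have ew : mkPerm wordTbl = (t ^ 4 * (c * k)).1 := by
    rw [wordTbl, vw.2, vck.2, v4.2, mc, mk]
    rfl
  have hbc : β (permG c) = sm twistMask * permG c := by rw [← r, ← hd, inv_mul_cancel_right]
  refine not_twist (t ^ 4 * (c * k)) vw.1 ew (tblImg_code v4.1 (v4.2 ▸ (t ^ 4).2) hv) ow n3 n4 β ?_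
  rw [map_mul, map_mul, map_mul, map_mul, fpow 4 h1, hbc, fk, ← sm_conj (t ^ 4) v4.1 v4.2 hv]
  group

lemma fix_perms (h1 : β (permG ⟨transl, transl_mem⟩) = permG ⟨transl, transl_mem⟩) (σ : M24) :
    β (permG σ) = permG σ := by
  obtain ⟨hc, hk⟩ := fix_gens β hE hP h1
  let H : Subgroup M24 := (β.toMonoidHom.comp permG).eqLocus permG
  have hle : M24 ≤ H.map M24.subtype := by
    conv_lhs => rw [← closure_eq_M24]
    rw [Subgroup.closure_le]
    rintro x (rfl | rfl | rfl)
    exacts [⟨⟨_, transl_mem⟩, h1, rfl⟩, ⟨⟨_, projInv_mem⟩, hc, rfl⟩, ⟨⟨_, cubeTwist_mem⟩, hk, rfl⟩]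
  obtain ⟨τ, hτ, he⟩ := hle σ.2
  rw [show σ = τ from Subtype.ext he.symm]
  exact hτ

lemma fix_mono (h1 : β (permG ⟨transl, transl_mem⟩) = permG ⟨transl, transl_mem⟩)
    {x : Spor.Co1} (hx : x ∈ monoG) : β x = x := by
  obtain ⟨e, he, σ, rfl⟩ := exists_split hx
  rw [map_mul, fix_signs β hE hP he, fix_perms β hE hP h1 σ]

omit hE hP in
/-- An inner twist fixing the translation. -/
lemma exists_twist (he : β (permG ⟨transl, transl_mem⟩) * (permG ⟨transl, transl_mem⟩)⁻¹ ∈ signG) :
    ∃ e ∈ signG, e * β (permG ⟨transl, transl_mem⟩) * e⁻¹ = permG ⟨transl, transl_mem⟩ := by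
  haveI := finite_co1
  obtain ⟨vt, -, -, -, et, -⟩ := gen_tables
  set t : M24 := ⟨transl, transl_mem⟩
  have mt : mkPerm translTbl = t.1 := by rw [← et, mkPerm_tblOf]
  have hn : ∀ x ∈ signG, permG t * x * (permG t)⁻¹ ∈ signG := fun x hx =>
    (Subgroup.mem_normalizer_iff.1 (normalizer_signG.symm ▸ permG_mem t) _).1 hx
  let F : signG → signG := fun x => ⟨x.1 * (permG t * x.1 * (permG t)⁻¹), mul_mem x.2 (hn _ x.2)⟩
  have hF : Function.Injective F := by
    intro a b hab
    have h : a.1 * (permG t * a.1 * (permG t)⁻¹) = b.1 * (permG t * b.1 * (permG t)⁻¹) :=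
      congrArg Subtype.val hab
    have hd : a.1 * b.1 ∈ signG := mul_mem a.2 b.2
    obtain ⟨m, hm, hd'⟩ := exists_sm hd
    have hfix : permG t * (a.1 * b.1) * (permG t)⁻¹ = a.1 * b.1 := by
      set A := permG t * a.1 * (permG t)⁻¹ with hA
      set B := permG t * b.1 * (permG t)⁻¹ with hB
      rw [show permG t * (a.1 * b.1) * (permG t)⁻¹ = A * B by rw [hA, hB]; group]
      have e1 : A = a.1⁻¹ * (b.1 * B) := by rw [← h, inv_mul_cancel_left]
      rw [e1, signG_inv a.2, mul_assoc, mul_assoc, ← mul_assoc b.1 B, mul_assoc b.1 B,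
        signG_sq (hn _ b.2), mul_one]
    rw [hd'] at hfix
    have h1' := fixed_one fixed_facts.1 hm (fixCl_of_comm t vt mt hm hfix)
    rw [← hd', mul_eq_one_iff_eq_inv, signG_inv b.2] at h1'
    exact Subtype.ext h1'
  obtain ⟨⟨e, he'⟩, hFe⟩ := Finite.injective_iff_surjective.1 hF ⟨_, he⟩
  refine ⟨e, he', ?_⟩
  have hq : e * (permG t * e * (permG t)⁻¹) = β (permG t) * (permG t)⁻¹ := congrArg Subtype.val hFe
  have hb : β (permG t) = e * (permG t * e * (permG t)⁻¹) * permG t := by
    rw [hq, inv_mul_cancel_right]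
  rw [hb, show e * (e * (permG t * e * (permG t)⁻¹) * permG t) * e⁻¹ = e * e * permG t by group,
    signG_sq he', one_mul]

end Normalised

/-! ### The element outside -/

/-- The class of the extra element. -/
def zetaG : Spor.Co1 := mkG zeta

lemma zeta_sq : zeta * zeta = 1 :=
  co0_ext fun v => Subtype.ext (by
    rw [mul_smul, one_smul, zeta_apply, zeta_apply]
    exact zetaFun_zetaFun (leech_le_zetaDom v.2).1)

lemma co0_ext_axis {g h : Co0} (he : ∀ i, g • axisVec i = h • axisVec i) : g = h := by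
  suffices hk : h⁻¹ * g = 1 from (inv_mul_eq_one.1 hk).symm
  refine co0_ext fun v => Subtype.ext (funext fun l => ?_)
  rw [one_smul]
  have e := co0_dot (h⁻¹ * g) v (axisVec l)
  rw [mul_smul h⁻¹ g (axisVec l), he l, inv_smul_smul, show (axisVec l).1 = Pi.single l 8 from rfl,
    dot_single, dot_single] at e
  omega

lemma axis_cases {v : leechLattice} (hv : (v : GolayPt → ℤ) ∈ stdCross) :
    ∃ i, v = axisVec i ∨ v = -axisVec i := by
  obtain ⟨i, s, hs, hvs⟩ := hv
  refine ⟨i, hs.imp (fun e => Subtype.ext ?_) fun e => Subtype.ext ?_⟩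
  · rw [hvs, e]; rfl
  · rw [hvs, e, AddSubgroup.coe_neg, show (axisVec i).1 = Pi.single i 8 from rfl, ← Pi.single_neg]

lemma stdCross_neg {x : GolayPt → ℤ} (hx : x ∈ stdCross) : -x ∈ stdCross := by
  obtain ⟨i, s, hs, rfl⟩ := hx
  exact ⟨i, -s, by omega, by rw [Pi.single_neg]⟩

lemma mem_crossStab_of_axes {g : Co0}
    (h : ∀ i, ((g • axisVec i : leechLattice) : GolayPt → ℤ) ∈ stdCross) : g ∈ crossStab :=
  mem_crossStab.2 fun v hv => by
    obtain ⟨i, rfl | rfl⟩ := axis_cases hv
    · exact h i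
    · rw [co0_smul_neg, AddSubgroup.coe_neg]; exact stdCross_neg (h i)

lemma zeta_not_mem : zeta ∉ crossStab := by
  intro h
  obtain ⟨l, s, hs, he⟩ := mem_crossStab.1 h (axisVec none) (axisVec_mem_stdCross none)
  have h1 := congrFun he l
  rw [zeta_apply, Pi.single_eq_same] at h1
  change zetaFun (Pi.single none 8) l = s at h1
  have := sextet_facts.2.2 l
  omega

lemma zetaG_not_mem : zetaG ∉ monoG := fun h => zeta_not_mem (mk_mem_monoG.1 h)

lemma zetaG_sq : zetaG * zetaG = 1 := by rw [zetaG, ← map_mul, zeta_sq, map_one]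

lemma octInv_eq : octInv = signAut CoTwoCent.coOct := rfl

/-- A class commuting with an octad sign lifts to an element commuting with it. -/
lemma comm_lift {ω : Co0} {f : ℕ} (hf : f ∈ codeList) (h8 : popCnt f = 8)
    (h : mkG ω * sm f = sm f * mkG ω) (c : SignSet) (hc : c.1 = ptSet f) :
    ω * signAut c = signAut c * ω := by
  rw [sm_eq_sgn hf c hc, sgn, ← map_mul, ← map_mul, CoOneCent.mk_eq_iff] at h
  rcases h with e | e
  · exact e.symm
  exfalso
  obtain ⟨ho, -⟩ := (octad_facts).2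
  obtain ⟨σ, hσ⟩ := exists_M24_map_octad (o := ptSet CoTwoCent.octMask) (o' := c.1)
    ⟨(ptSet_mem_supports_iff (codeList_lt ho)).2 ho, CoTwoCent.oct_facts.2.2.2.1⟩
    ⟨c.2, by rw [hc, card_ptSet, h8]⟩
  set N : Co0 := Golay.negAll with hN
  have hNc : ∀ a : Co0, N * a = a * N := fun a =>
    co0_ext fun v => by rw [mul_smul, mul_smul, negAll_apply, negAll_apply, co0_smul_neg]
  have hNN : N * N = 1 := co0_ext fun v => by
    rw [mul_smul, one_smul, negAll_apply, negAll_apply, neg_neg]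
  set P := permAut σ
  have hoct : P * (octInv * N) * P⁻¹ = signAut c := by
    have e0 : octInv * N = signAut ⟨ptSet CoTwoCent.octMask,
        (ptSet_mem_supports_iff (codeList_lt ho)).2 ho⟩ := by
      refine co0_ext fun v => Subtype.ext (funext fun p => ?_)
      rw [mul_smul, CoTwoCent.octInv_apply, negAll_apply, signAut_apply]
      show _ = if p ∈ octSet then _ else _
      split <;> simp
    rw [e0, Golay.conj_signAut]
    exact congrArg signAut (Subtype.ext hσ)
  have hI : octInv = P⁻¹ * signAut c * P * N := by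
    rw [← hoct, show P⁻¹ * (P * (octInv * N) * P⁻¹) * P = octInv * N by group, mul_assoc, hNN,
      mul_one]
  refine CoOneCent.not_anticommute (P⁻¹ * ω * P) ?_
  rw [hI]
  calc P⁻¹ * ω * P * (P⁻¹ * signAut c * P * N) = P⁻¹ * (ω * signAut c) * P * N := by group
    _ = P⁻¹ * (signAut c * ω * N) * P * N := by
        rw [e, mul_assoc (ω * signAut c) N N, hNN, mul_one]
    _ = P⁻¹ * signAut c * (ω * P) * (N * N) := by
        rw [show P⁻¹ * (signAut c * ω * N) * P * N = P⁻¹ * signAut c * ω * (N * P) * N by group,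
          hNc P]
        group
    _ = P⁻¹ * signAut c * P * (P⁻¹ * ω * P) * (N * N) := by group
    _ = P⁻¹ * signAut c * P * ((P⁻¹ * ω * P) * N) * N := by group
    _ = P⁻¹ * signAut c * P * N * (P⁻¹ * ω * P) * N := by rw [← hNc (P⁻¹ * ω * P)]; group

/-- Conjugates of the signs by the extra element that are monomial. -/
lemma zeta_conj_mem {f : ℕ} (hf : f ∈ evenOctads) (c : SignSet) (hc : c.1 = ptSet f) :
    zeta * signAut c * zeta ∈ crossStab := by
  refine mem_crossStab_of_axes fun i => ?_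
  obtain ⟨l, hl, h0⟩ := even_facts.2.1 f hf i
  set F := zetaFun (fun r => if f.testBit (idx r) then -zetaFun (Pi.single i 8) r
    else zetaFun (Pi.single i 8) r)
  have hF : ((zeta * signAut c * zeta) • axisVec i : leechLattice).1 = F := by
    rw [mul_smul, mul_smul, zeta_apply]
    refine congrArg zetaFun (funext fun r => ?_)
    rw [signAut_apply, zeta_apply, hc]
    exact if_congr mem_ptSet rfl rfl
  rw [hF]
  refine ⟨l, F l, hl, funext fun q => ?_⟩
  rcases eq_or_ne q l with rfl | hq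
  · rw [Pi.single_eq_same]
  · rw [Pi.single_eq_of_ne hq, h0 q hq]

lemma mem_signs_of_comm {ω : Co0}
    (h : ∀ f ∈ evenOctads, ∀ c : SignSet, c.1 = ptSet f → ω * signAut c = signAut c * ω) :
    ω ∈ signs := by
  have key : ∀ p q : GolayPt, q ≠ p → (ω • axisVec p).1 q = 0 := by
    intro p q hne
    by_contra h0
    refine hne (even_facts.2.2 q p fun f hf => ?_)
    obtain ⟨hfc, -⟩ := even_facts.1 f hf
    set c : SignSet := ⟨ptSet f, (ptSet_mem_supports_iff (codeList_lt hfc)).2 hfc⟩
    have e := congrArg (fun g : Co0 => (g • axisVec p).1 q) (h f hf c rfl)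
    simp only [mul_smul] at e
    rw [signAut_apply] at e
    have ec : signAut c • axisVec p = if p ∈ c.1 then -axisVec p else axisVec p := by
      refine Subtype.ext (funext fun r => ?_)
      rw [signAut_apply]
      rcases eq_or_ne r p with rfl | hr
      · split <;> simp [*]
      · have : (axisVec p).1 r = 0 := Pi.single_eq_of_ne hr _
        split <;> split <;> simp [this]
    rw [ec] at e
    have m1 : ∀ r : GolayPt, r ∈ c.1 ↔ f.testBit (idx r) = true := fun r => mem_ptSet
    rw [Bool.eq_iff_iff, ← m1, ← m1]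
    by_cases hp : p ∈ c.1 <;> by_cases hq : q ∈ c.1 <;>
      simp only [hp, hq, if_true, if_false, co0_smul_neg, AddSubgroup.coe_neg, Pi.neg_apply] at e ⊢
    all_goals omega
  have hax : ∀ p, (ω • axisVec p).1 p = 8 ∨ (ω • axisVec p).1 p = -8 := by
    intro p
    have h1 := co0_sqNorm ω (axisVec p)
    rw [show sqNorm (axisVec p).1 = 64 from (sqNorm_single p 8).trans (by norm_num), sqNorm,
      Finset.sum_eq_single p (fun q _ hq => by rw [key p q hq]; ring) (by simp)] at h1
    exact sq_eq_sq_iff_eq_or_eq_neg.1 (h1.trans (by norm_num : (64 : ℤ) = 8 ^ 2))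
  have hmem : ω ∈ crossStab := by
    refine mem_crossStab_of_axes fun p => ⟨p, _, hax p, funext fun q => ?_⟩
    rcases eq_or_ne q p with rfl | hq
    · rw [Pi.single_eq_same]
    · rw [Pi.single_eq_of_ne hq, key p q hq]
  refine ⟨⟨ω, hmem⟩, MonoidHom.mem_ker.2 (Subtype.ext (Equiv.ext fun p => ?_)), rfl⟩
  have hsp := LeechTwo.permOf_spec ⟨ω, hmem⟩ (axisVec p) p
  rw [show (axisVec p).1 p = 8 from Pi.single_eq_same p _] at hsp
  by_contra hne
  have h3 : (ω • axisVec p).1 ((permOf ⟨ω, hmem⟩).1 p) = 0 := key p _ hne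
  rcases hsp with h2 | h2 <;> exact absurd (h3.symm.trans h2) (by norm_num)

theorem mem_inn_of_normalised (β : MulAut Spor.Co1) (hE : ∀ x ∈ signG, β x ∈ signG)
    (hP : ∀ σ : M24, β (permG σ) * (permG σ)⁻¹ ∈ signG) : β ∈ Inn Spor.Co1 := by
  obtain ⟨e, he, het⟩ := exists_twist β (hP _)
  set γ := MulAut.conj e * β with hγ
  have γapp : ∀ x, γ x = e * β x * e⁻¹ := fun x => rfl
  have hE' : ∀ x ∈ signG, γ x ∈ signG := fun x hx => by
    rw [γapp, signG_comm he (hE x hx), mul_inv_cancel_right]; exact hE x hx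
  have hP' : ∀ σ : M24, γ (permG σ) * (permG σ)⁻¹ ∈ signG := fun σ => by
    have h1 : permG σ * e⁻¹ * (permG σ)⁻¹ ∈ signG :=
      (Subgroup.mem_normalizer_iff.1 (normalizer_signG.symm ▸ permG_mem σ) _).1 (inv_mem he)
    rw [γapp, show e * β (permG σ) * e⁻¹ * (permG σ)⁻¹
      = e * (β (permG σ) * (permG σ)⁻¹) * (permG σ * e⁻¹ * (permG σ)⁻¹) by group]
    exact mul_mem (mul_mem he (hP σ)) h1
  have hM : ∀ {x}, x ∈ monoG → γ x = x := fun hx => fix_mono γ hE' hP' ((γapp _).trans het) hx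
  -- the image of the extra element
  set Z' := γ zetaG with hZ'
  have hZ'2 : Z' * Z' = 1 := by rw [hZ', ← map_mul, zetaG_sq, map_one]
  obtain ⟨ω, hω⟩ := QuotientGroup.mk'_surjective (Subgroup.center Co0) (zetaG * Z')
  have hωs : ω ∈ signs := by
    refine mem_signs_of_comm fun f hf c hc => comm_lift (even_facts.1 f hf).1 (even_facts.1 f hf).2 ?_ c hc
    set s := sm f
    have hs : γ s = s := hM (signG_le (sm_mem f))
    have hzs : γ (zetaG * s * zetaG) = zetaG * s * zetaG := by
      refine hM ?_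
      show zetaG * sm f * zetaG ∈ monoG
      rw [zetaG, sm_eq_sgn (even_facts.1 f hf).1 c hc, sgn, ← map_mul, ← map_mul, mk_mem_monoG]
      exact zeta_conj_mem hf c hc
    rw [map_mul, map_mul, hs, ← hZ'] at hzs
    have e1 : Z' * s = zetaG * s * zetaG * Z' := by
      rw [← hzs, mul_assoc, mul_assoc, hZ'2, mul_one]
    show mkG ω * s = s * mkG ω
    rw [hω, mul_assoc, e1, ← mul_assoc, ← mul_assoc, ← mul_assoc, zetaG_sq, one_mul, mul_assoc]
  have hd : zetaG * Z' ∈ signG := hω ▸ mk_mem_signG.2 hωs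
  obtain ⟨m, hm, hdm⟩ := exists_sm hd
  have hcomm : sextetTbls.all (fun T => fixCl T m) = true := List.all_eq_true.2 fun T hT => by
    obtain ⟨hin, hz⟩ := sextet_facts.1 T hT
    have hv := validT_of_inM24 hin
    set σ := ofTbl T hin
    refine fixCl_of_comm σ hv rfl hm ?_
    have hcz : permAut σ * zeta = zeta * permAut σ := by
      refine co0_ext_axis fun i => Subtype.ext (funext fun r => ?_)
      obtain ⟨l, rfl⟩ : ∃ l, σ.1 l = r := ⟨σ.1.symm r, σ.1.apply_symm_apply r⟩
      have hpt : ∀ p, σ.1 p = ptT T p := fun p => mkPerm_apply hv p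
      have hax : permAut σ • axisVec i = axisVec (σ.1 i) := by
        refine Subtype.ext (funext fun q => ?_)
        obtain ⟨p, rfl⟩ : ∃ p, σ.1 p = q := ⟨σ.1.symm q, σ.1.apply_symm_apply q⟩
        rw [permAut_apply]
        show (Pi.single i 8 : GolayPt → ℤ) p = (Pi.single (σ.1 i) 8 : GolayPt → ℤ) (σ.1 p)
        simp only [Pi.single_apply, σ.1.injective.eq_iff]
      rw [mul_smul, mul_smul, hax, permAut_apply, zeta_apply, zeta_apply, hpt, hpt]
      exact (hz i l).symm
    have hG : permG σ * zetaG = zetaG * permG σ := by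
      rw [zetaG, permG_apply, ← map_mul, hcz, map_mul]
    have hG' : permG σ * Z' = Z' * permG σ := by
      have := congrArg γ hG
      rwa [map_mul, map_mul, hM (permG_mem σ)] at this
    rw [← hdm, ← mul_assoc, hG, mul_assoc zetaG, hG', ← mul_assoc, mul_inv_cancel_right]
  have hone : zetaG * Z' = 1 := by
    rw [hdm]
    have h := List.all_eq_true.1 sextet_facts.2.1 m hm
    rw [hcomm, Bool.not_true, Bool.false_or] at h
    exact zero_or_full h
  have hfix : γ zetaG = zetaG := by
    rw [← hZ', ← mul_right_inj zetaG, hone, zetaG_sq]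
  have htop : γ.toMonoidHom.eqLocus (MonoidHom.id _) = ⊤ :=
    monoG_isCoatom.2 _ (lt_of_le_of_ne (fun x hx => hM hx) fun e =>
      zetaG_not_mem (e ▸ (hfix : zetaG ∈ γ.toMonoidHom.eqLocus (MonoidHom.id _))))
  have h1 : γ = 1 := MulEquiv.ext fun x =>
    (htop ▸ Subgroup.mem_top x : x ∈ γ.toMonoidHom.eqLocus (MonoidHom.id _))
  exact ⟨e⁻¹, by rw [map_inv, inv_eq_iff_mul_eq_one, ← hγ, h1]⟩

theorem card_out_co1 : Nat.card (Out Spor.Co1) = 1 := by
  rw [Nat.card_eq_one_iff_unique]
  refine ⟨⟨fun a b => ?_⟩, ⟨1⟩⟩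
  have key : ∀ x : Out Spor.Co1, x = 1 := fun x => by
    obtain ⟨α, rfl⟩ := QuotientGroup.mk_surjective x
    obtain ⟨β, hβ, hE, hP⟩ := exists_normalised α
    refine (QuotientGroup.eq_one_iff α).2 ?_
    have := mul_mem hβ (mem_inn_of_normalised β hE hP)
    rwa [inv_mul_cancel_right] at this
  rw [key a, key b]

end Cfsg.Agent.H92.CoOneAut
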