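import Cfsg.Agent.H92.CoOneCentTop
import Cfsg.Agent.H92.ExtraIso
import Cfsg.Agent.Components.Layer
import Cfsg.Agent.Components.Fitting

/-!
The centraliser in Co1 of the class of the octad involution: generalised Fitting subgroup and
quotient, and a conjugate of the involution inside the large extraspecial subgroup.
-/

set_option autoImplicit false

namespace Cfsg.Agent.H92.CoOneCent

open Cfsg Cfsg.Agent.Golay Cfsg.Agent.H92.LeechOrbit Cfsg.Agent.Orthogonal
open Cfsg.Agent.H92.CoTwoCent (Supp octSet octInv qd InKer octInv_fix_iff)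
open scoped Pointwise Matrix commutatorElement

/-- The class of the involution. -/
def zBar : Spor.Co1 := QuotientGroup.mk' (Subgroup.center Co0) octInv

lemma mk_eq_iff {a b : Co0} :
    QuotientGroup.mk' (Subgroup.center Co0) a = QuotientGroup.mk' (Subgroup.center Co0) b
      ↔ b = a ∨ b = a * negAll := by
  rw [QuotientGroup.mk'_eq_mk']
  constructor
  · rintro ⟨z, hz, rfl⟩
    rcases center_cases hz with rfl | rfl
    · exact Or.inl (mul_one a)
    · exact Or.inr rfl
  · rintro (rfl | rfl)
    · exact ⟨1, one_mem _, mul_one _⟩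
    · exact ⟨negAll, mem_center_of_scalar false fun v => (negAll_apply v).trans (by simp), rfl⟩

lemma not_anticommute (g : Co0) : ¬ g * octInv = (octInv * g) * negAll := by
  intro h
  have hw : ∀ q : GolayPt, q ∉ octSet → Supp (g • axisVec q).1 := by
    intro q hq
    have hneg : octInv • axisVec q = -axisVec q := by
      refine Subtype.ext (funext fun p => ?_)
      rw [CoTwoCent.octInv_apply, AddSubgroup.coe_neg, Pi.neg_apply]
      split
      · rename_i hp
        show (Pi.single q 8 : GolayPt → ℤ) p = -(Pi.single q 8 : GolayPt → ℤ) p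
        rw [Pi.single_eq_of_ne (fun e => hq (by rw [← e]; exact hp)), neg_zero]
      · rfl
    have := congrArg (fun k : Co0 => k • axisVec q) h
    simp only [mul_smul, hneg, negAll_apply, co0_smul_neg] at this
    exact octInv_fix_iff.1 (neg_injective this).symm
  have hval : ∀ p q : GolayPt, (g • axisVec q : leechLattice).1 p
      = (g⁻¹ • axisVec p : leechLattice).1 q := by
    intro p q
    have h2 := co0_dot g (axisVec q) (g⁻¹ • axisVec p)
    rw [smul_inv_smul, show (axisVec p).1 = Pi.single p 8 from rfl, dot_single,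
      show dotInt (axisVec q).1 (g⁻¹ • axisVec p : leechLattice).1
        = dotInt (g⁻¹ • axisVec p : leechLattice).1 (Pi.single q 8) from
          Finset.sum_congr rfl fun i _ => mul_comm _ _, dot_single] at h2
    omega
  have h64 : ∀ x : GolayPt, sqNorm (axisVec x).1 = 64 := fun x =>
    (sqNorm_single x 8).trans (by norm_num)
  have hsum : ∑ q ∈ octSetᶜ, ∑ p ∈ octSet, (g • axisVec q : leechLattice).1 p ^ 2
      = 16 * 64 := by
    rw [Finset.sum_congr rfl (g := fun _ => (64 : ℤ)) (fun q hq => by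
      rw [← h64 q, ← co0_sqNorm g, sqNorm]
      exact Finset.sum_subset (Finset.subset_univ _) fun p _ hp => by
        rw [hw q (Finset.mem_compl.1 hq) p hp]; ring), Finset.sum_const, Finset.card_compl,
      CoTwoCent.oct_facts.2.2.2.1, show Fintype.card GolayPt = 24 from rfl]
    rfl
  rw [Finset.sum_comm] at hsum
  have hle : ∀ p ∈ octSet, ∑ q ∈ octSetᶜ, (g • axisVec q : leechLattice).1 p ^ 2 ≤ 64 := by
    intro p _
    simp only [hval p]
    rw [← h64 p, ← co0_sqNorm g⁻¹, sqNorm]
    exact Finset.sum_le_univ_sum_of_nonneg fun i => sq_nonneg _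
  have := (Finset.sum_le_sum hle).trans_eq (by
    rw [Finset.sum_const, CoTwoCent.oct_facts.2.2.2.1]; rfl : ∑ _p ∈ octSet, (64 : ℤ) = 512)
  omega

/-- The natural map onto the centraliser in Co1. -/
def toBar : centZero →* Subgroup.centralizer ({zBar} : Set Spor.Co1) :=
  ((QuotientGroup.mk' (Subgroup.center Co0)).comp centZero.subtype).codRestrict _ fun g =>
    Subgroup.mem_centralizer_singleton_iff.2 (by
      show QuotientGroup.mk' _ g.1 * zBar = zBar * QuotientGroup.mk' _ g.1
      rw [zBar, ← map_mul, ← map_mul, mem_centZero.1 g.2])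

lemma toBar_surjective : Function.Surjective toBar := by
  rintro ⟨q, hq⟩
  obtain ⟨g, rfl⟩ := QuotientGroup.mk'_surjective _ q
  have h := Subgroup.mem_centralizer_singleton_iff.1 hq
  rw [zBar, ← map_mul, ← map_mul, mk_eq_iff] at h
  have hg : g ∈ centZero := by
    rw [mem_centZero]
    rcases h with e | e
    · exact e.symm
    · exfalso
      refine not_anticommute g ?_
      have hN : negAll * negAll = 1 := Subtype.ext (Equiv.ext fun v => by
        show negAll • negAll • v = v
        rw [negAll_apply, negAll_apply, neg_neg])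
      rw [e, mul_assoc, hN, mul_one]
  exact ⟨⟨g, hg⟩, rfl⟩

/-- The surjection onto `Omega`. -/
noncomputable def omegaRep : centZero →* Cfsg.Omega (ZMod 2) (Cfsg.quadFormPlus 4 (ZMod 2)) :=
  (omegaEquiv qPlus).symm.toMonoidHom.comp
    (oRep.codRestrict (commutator (O qPlus)) fun g => range_oRep ▸ ⟨g, rfl⟩)

lemma omegaRep_surjective : Function.Surjective omegaRep := by
  refine (omegaEquiv qPlus).symm.surjective.comp ?_
  rintro ⟨y, hy⟩
  rw [← range_oRep] at hy
  obtain ⟨x, hx⟩ := hy
  exact ⟨x, Subtype.ext hx⟩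

lemma omegaRep_eq_one_iff (g : centZero) :
    omegaRep g = 1 ↔ InKer g.1 ∨ InKer (negAll * g.1) := by
  rw [← oRep_eq_one_iff]
  constructor
  · intro h
    have h3 := (omegaEquiv qPlus).symm.injective
      (show (omegaEquiv qPlus).symm
        ((oRep.codRestrict (commutator (O qPlus)) fun x => range_oRep ▸ ⟨x, rfl⟩) g)
          = (omegaEquiv qPlus).symm 1 from h.trans (map_one _).symm)
    exact congrArg Subtype.val h3
  · intro h
    show (omegaEquiv qPlus).symm _ = 1
    rw [MulEquiv.map_eq_one_iff]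
    exact Subtype.ext h

lemma inKer_one : InKer 1 :=
  ⟨1, noSigns, one_mem _, fun p _ => by simp [noSigns], CoTwoCent.monoAut_one.symm⟩

/-- The map on the centraliser in Co1. -/
noncomputable def chi : Subgroup.centralizer ({zBar} : Set Spor.Co1) →*
    Cfsg.Omega (ZMod 2) (Cfsg.quadFormPlus 4 (ZMod 2)) :=
  toBar.liftOfSurjective toBar_surjective ⟨omegaRep, fun g hg => by
    rw [MonoidHom.mem_ker] at hg ⊢
    rw [omegaRep_eq_one_iff]
    have h : QuotientGroup.mk' (Subgroup.center Co0) g.1
        = QuotientGroup.mk' (Subgroup.center Co0) 1 := (congrArg Subtype.val hg).trans (map_one _).symm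
    rw [mk_eq_iff] at h
    rcases h with e | e
    · left; rw [← e]; exact inKer_one
    · right
      have hNc : ∀ a : Co0, negAll * a = a * negAll := fun a => Subtype.ext (Equiv.ext fun v => by
        show negAll • a • v = a • negAll • v
        rw [negAll_apply, negAll_apply, co0_smul_neg])
      rw [hNc, ← e]; exact inKer_one⟩

lemma chi_toBar (g : centZero) : chi (toBar g) = omegaRep g :=
  MonoidHom.liftOfRightInverse_comp_apply _ _ _ _ g

lemma chi_surjective : Function.Surjective chi := fun y => by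
  obtain ⟨g, rfl⟩ := omegaRep_surjective y
  exact ⟨toBar g, chi_toBar g⟩

/-- The monomial kernel inside the centraliser of Co1. -/
def kerHom : CoTwoCent.rep.ker →* Subgroup.centralizer ({zBar} : Set Spor.Co1) :=
  toBar.comp ((Subgroup.inclusion (inf_le_right : CoTwoCent.cent ≤ centZero)).comp
    CoTwoCent.rep.ker.subtype)

lemma negAll_not_inKer : ¬ InKer negAll := by
  intro h
  have hc := (CoTwoCent.mem_cent.1 (CoTwoCent.inKer_mem_cent h)).1
  rw [negAll_apply] at hc
  have h2 := congrArg (fun v : leechLattice => v.1 none) hc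
  change -Spor.vecU none = Spor.vecU none at h2
  simp [Spor.vecU] at h2

lemma inKer_of_ker (x : CoTwoCent.rep.ker) : InKer x.1.1 :=
  (CoTwoCent.rep_eq_one_iff x.1).1 (MonoidHom.mem_ker.1 x.2)

lemma kerHom_injective : Function.Injective kerHom := by
  refine (injective_iff_map_eq_one kerHom).2 fun x hx => ?_
  have h : QuotientGroup.mk' (Subgroup.center Co0) x.1.1
      = QuotientGroup.mk' (Subgroup.center Co0) 1 := (congrArg Subtype.val hx).trans (map_one _).symm
  rw [eq_comm, mk_eq_iff, one_mul] at h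
  rcases h with e | e
  · exact Subtype.ext (Subtype.ext e)
  · exact absurd (e ▸ inKer_of_ker x) negAll_not_inKer

lemma range_kerHom : kerHom.range = chi.ker := by
  ext y
  constructor
  · rintro ⟨x, rfl⟩
    rw [MonoidHom.mem_ker]
    show chi (toBar _) = 1
    rw [chi_toBar, omegaRep_eq_one_iff]
    exact Or.inl (inKer_of_ker x)
  · intro hy
    obtain ⟨g, rfl⟩ := toBar_surjective y
    rw [MonoidHom.mem_ker, chi_toBar, omegaRep_eq_one_iff] at hy
    rcases hy with hk | hk
    · exact ⟨⟨⟨g.1, CoTwoCent.inKer_mem_cent hk⟩,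
        MonoidHom.mem_ker.2 ((CoTwoCent.rep_eq_one_iff _).2 hk)⟩, rfl⟩
    · refine ⟨⟨⟨_, CoTwoCent.inKer_mem_cent hk⟩,
        MonoidHom.mem_ker.2 ((CoTwoCent.rep_eq_one_iff _).2 hk)⟩, Subtype.ext ?_⟩
      show QuotientGroup.mk' (Subgroup.center Co0) (negAll * g.1)
        = QuotientGroup.mk' (Subgroup.center Co0) g.1
      rw [eq_comm, mk_eq_iff]
      refine Or.inr (Subtype.ext (Equiv.ext fun v => ?_))
      show negAll • g.1 • v = g.1 • negAll • v
      rw [negAll_apply, negAll_apply, co0_smul_neg]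

/-- The large extraspecial subgroup. -/
noncomputable def bigQ : Subgroup (Subgroup.centralizer ({zBar} : Set Spor.Co1)) := chi.ker

theorem isExtraspecial_bigQ : Cfsg.IsExtraspecial 2 bigQ :=
  isExtraspecial_of_mulEquiv
    ((MonoidHom.ofInjective kerHom_injective).trans (MulEquiv.subgroupCongr range_kerHom))
    CoTwoCent.isExtraspecial_ker

theorem card_bigQ : Nat.card bigQ = 2 ^ 9 := by
  rw [show bigQ = chi.ker from rfl, ← range_kerHom,
    Nat.card_congr (MonoidHom.ofInjective kerHom_injective).toEquiv.symm, CoTwoCent.card_ker]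
  norm_num

/-! ### The generalised Fitting subgroup -/

lemma center_omega_bot :
    Subgroup.center (Cfsg.Omega (ZMod 2) (Cfsg.quadFormPlus 4 (ZMod 2))) = ⊥ := by
  rw [eq_bot_iff]
  intro g hg
  rw [Subgroup.mem_bot]
  refine Subtype.ext (Subtype.ext (Units.ext ?_))
  rcases center_omega_cases (Q := qPlus) (formPlus_nondeg _ _)
    (by rw [finrank_formPlus]; norm_num) hg with e | e
  · exact e
  · refine e.trans ?_
    ext i j
    rw [Matrix.neg_apply, ZMod.neg_eq_self_mod_two]
    rfl

lemma isSimpleGroup_omega :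
    IsSimpleGroup (Cfsg.Omega (ZMod 2) (Cfsg.quadFormPlus 4 (ZMod 2))) := by
  haveI : IsSimpleGroup (Cfsg.POmega (ZMod 2) (Cfsg.quadFormPlus 4 (ZMod 2))) :=
    isSimpleGroup_POmega (Q := qPlus) (formPlus_nondeg _ _) (by rw [finrank_formPlus]; norm_num)
  exact MulEquiv.isSimpleGroup
    ((QuotientGroup.quotientBot).symm.trans
      (QuotientGroup.quotientMulEquivOfEq center_omega_bot.symm))

lemma move_facts :
    atomOK (.mono moveMask (mk16 24 fun i => bif moveMask.testBit i then 1 else 0) moveTbl) = true ∧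
    words.getD 3 [] = [.mono moveMask (mk16 24 fun i => bif moveMask.testBit i then 1 else 0) moveTbl] ∧
    testMask ∈ CoTwoCent.offMasks ∧ octadList.contains testMask = true ∧
    (tblImg moveTbl testMask != testMask) = true ∧
    (tblImg moveTbl testMask != testMask ^^^ (fullMask ^^^ CoTwoCent.octMask)) = true ∧
    testMask &&& CoTwoCent.octMask = 0 ∧
    tblImg moveTbl testMask &&& CoTwoCent.octMask = 0 := by
  refine ⟨by decide +kernel, rfl, ?_, by decide +kernel, by decide +kernel, by decide +kernel,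
    by decide +kernel, by decide +kernel⟩
  refine List.contains_iff_mem.1 ?_
  decide +kernel

/-- The test sign pattern. -/
def testSigns : {c : Finset GolayPt // c ∈ supports (golayCode : Set (GolayPt → ZMod 2))} :=
  ⟨ptSet testMask, by
    rw [supports_eq_image]; exact ⟨_, (CoTwoCent.mask_mem move_facts.2.2.1).1, rfl⟩⟩

lemma testSigns_inKer : InKer (signAut testSigns) :=
  ⟨1, testSigns, one_mem _, (CoTwoCent.mask_mem move_facts.2.2.1).2, rfl⟩

theorem exists_moved :
    ∃ x : Subgroup.centralizer ({zBar} : Set Spor.Co1), ∃ k ∈ bigQ,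
      x * k * x⁻¹ ≠ k ∧ x * k * x⁻¹ ≠ k * toBar ⟨octInv, mem_centZero.2 rfl⟩ := by
  obtain ⟨hok, hw, hm, -, hne1, hne2, hd1, hd2⟩ := move_facts
  set k : centZero := ⟨signAut testSigns, (CoTwoCent.inKer_mem_cent testSigns_inKer).2⟩
  set g : centZero := ⟨wordG 3, wordG_mem 3⟩
  refine ⟨toBar g, toBar k, ?_, ?_⟩
  · rw [bigQ, MonoidHom.mem_ker, chi_toBar, omegaRep_eq_one_iff]
    exact Or.inl testSigns_inKer
  simp only [atomOK, Bool.and_eq_true, decide_eq_true_eq] at hok
  have hT := mem_M24_of_inM24 hok.1.2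
  have hv := validT_of_inM24 hok.1.2
  have hgel : wordG 3 = signAut ⟨ptSet moveMask, (ptSet_mem_supports_iff hok.1.1.2).2
      (inCode_iff.1 hok.1.1.1)⟩ * permAut ⟨mkPerm moveTbl, hT⟩ := by
    rw [wordG, show ((3 : Fin 5) : ℕ) = 3 from rfl, hw, wordEl, wordEl, one_mul, atomEl,
      dif_pos ⟨hok.1.1.1, hok.1.1.2, hok.1.2⟩]
  have hconj : wordG 3 * signAut testSigns * (wordG 3)⁻¹
      = signAut ⟨mkPerm moveTbl • testSigns.1, smul_mem_supports hT testSigns.2⟩ := by
    rw [hgel]
    set s := signAut (⟨ptSet moveMask, (ptSet_mem_supports_iff hok.1.1.2).2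
      (inCode_iff.1 hok.1.1.1)⟩ : {c : Finset GolayPt // c ∈ supports (golayCode : Set (GolayPt → ZMod 2))})
    set p := permAut ⟨mkPerm moveTbl, hT⟩
    rw [show s * p * signAut testSigns * (s * p)⁻¹ = s * (p * signAut testSigns * p⁻¹) * s⁻¹ by
      simp only [mul_inv_rev, mul_assoc], conj_signAut, signSub_comm s (signAut_mem _) _ (signAut_mem _),
      mul_inv_cancel_right]
  have hoff : ∀ {m n : ℕ}, m &&& CoTwoCent.octMask = 0 → n &&& CoTwoCent.octMask = 0 →
      m < 2 ^ 24 → n < 2 ^ 24 → m ≠ n →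
      ∀ hm' hn', ∀ e, (e = 1 ∨ e = negAll) →
        signAut ⟨ptSet n, hn'⟩ ≠ signAut ⟨ptSet m, hm'⟩ * e := by
    intro m n hm0 hn0 hm1 hn1 hne hm' hn' e he hc
    rcases he with rfl | rfl
    · rw [mul_one] at hc
      have h := congrArg (fun q => q.2.1) (monoAut_injective (a₁ := (1, _)) (a₂ := (1, _)) hc)
      exact hne (ptSet_injOn hm1 hn1 h.symm)
    · have hp : (none : GolayPt) ∈ octSet := CoTwoCent.oct_facts.2.1
      have hout : ∀ {r : ℕ}, r &&& CoTwoCent.octMask = 0 → (none : GolayPt) ∉ ptSet r := by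
        intro r hr h
        have h1 := congrArg (fun z => z.testBit (idx (none : GolayPt))) hr
        simp only [Nat.testBit_and, mem_ptSet.1 h, mem_ptSet.1 hp, Nat.zero_testBit] at h1
        exact Bool.noConfusion h1
      have h := congrArg (fun q : Co0 => (q • axisVec none : leechLattice).1 none) hc
      simp only [mul_smul, negAll_apply, co0_smul_neg, AddSubgroup.coe_neg, Pi.neg_apply,
        signAut_apply, if_neg (hout hm0), if_neg (hout hn0)] at h
      change (Pi.single none 8 : GolayPt → ℤ) none = -(Pi.single none 8 : GolayPt → ℤ) none at h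
      simp at h
  have hval : ∀ (m : ℕ) hm', m &&& CoTwoCent.octMask = 0 → m < 2 ^ 24 →
      tblImg moveTbl testMask ≠ m → (toBar g * toBar k * (toBar g)⁻¹).1
        ≠ QuotientGroup.mk' (Subgroup.center Co0) (signAut ⟨ptSet m, hm'⟩) := by
    intro m hm' h0 h1 hne hc
    rw [← map_inv, ← map_mul, ← map_mul] at hc
    change QuotientGroup.mk' (Subgroup.center Co0) (wordG 3 * signAut testSigns * (wordG 3)⁻¹)
      = _ at hc
    rw [hconj, mk_eq_iff] at hc
    have hlt := tblImg_lt hv testMask
    have hsup : ptSet (tblImg moveTbl testMask) ∈ supports (golayCode : Set (GolayPt → ZMod 2)) := by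
      rw [ptSet_tblImg hv]; exact smul_mem_supports hT testSigns.2
    have hrw : (⟨mkPerm moveTbl • testSigns.1, smul_mem_supports hT testSigns.2⟩ :
        {c : Finset GolayPt // c ∈ supports (golayCode : Set (GolayPt → ZMod 2))})
        = ⟨ptSet (tblImg moveTbl testMask), hsup⟩ := Subtype.ext (ptSet_tblImg hv testMask).symm
    rw [hrw] at hc
    rcases hc with e | e
    · exact hoff hd2 h0 hlt h1 hne hsup hm' 1 (Or.inl rfl) (e.trans (mul_one _).symm)
    · exact hoff hd2 h0 hlt h1 hne hsup hm' negAll (Or.inr rfl) e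
  constructor
  · intro e
    exact hval testMask testSigns.2 hd1 (codeList_lt (CoTwoCent.mask_mem hm).1)
      (by simpa using hne1) (congrArg Subtype.val e)
  · intro e
    have hx : ptSet (testMask ^^^ (fullMask ^^^ CoTwoCent.octMask))
        ∈ supports (golayCode : Set (GolayPt → ZMod 2)) := by
      rw [ptSet_xor]; exact symmDiff_mem_supports testSigns.2 CoTwoCent.coOct.2
    refine hval _ hx (by decide +kernel) (by decide +kernel) (by simpa using hne2)
      ((congrArg Subtype.val e).trans ?_)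
    show QuotientGroup.mk' _ (signAut testSigns) * QuotientGroup.mk' _ octInv = _
    rw [← map_mul]
    refine congrArg _ ?_
    refine Subtype.ext (Equiv.ext fun v => Subtype.ext (funext fun i => ?_))
    show (signAut testSigns • octInv • v).1 i = (signAut _ • v).1 i
    rw [signAut_apply, signAut_apply, CoTwoCent.octInv_apply]
    have hco : i ∈ ptSet (fullMask ^^^ CoTwoCent.octMask) ↔ i ∉ octSet := CoTwoCent.mem_coOct i
    generalize hR : ptSet (fullMask ^^^ CoTwoCent.octMask) = R at hco
    simp only [testSigns, ptSet_xor testMask (fullMask ^^^ CoTwoCent.octMask), hR,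
      Finset.mem_symmDiff, hco]
    by_cases h1 : i ∈ ptSet testMask <;> by_cases h2 : i ∈ octSet <;>
      simp [h1, h2]

theorem centralizer_bigQ_le :
    Subgroup.centralizer (bigQ : Set (Subgroup.centralizer ({zBar} : Set Spor.Co1))) ≤ bigQ := by
  haveI := isSimpleGroup_omega
  set C := Subgroup.centralizer (bigQ : Set (Subgroup.centralizer ({zBar} : Set Spor.Co1)))
  haveI : bigQ.Normal := MonoidHom.normal_ker chi
  haveI : C.Normal := inferInstance
  rcases Subgroup.Normal.eq_bot_or_eq_top (Subgroup.Normal.map (H := C) inferInstance chi chi_surjective)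
    with h | h
  · exact fun x hx => MonoidHom.mem_ker.2 (Subgroup.mem_bot.1 (h ▸ ⟨x, hx, rfl⟩))
  exfalso
  obtain ⟨x, k, hk, h1, h2⟩ := exists_moved
  obtain ⟨c, hc, hcx⟩ : chi x ∈ C.map chi := h ▸ Subgroup.mem_top _
  set b := c⁻¹ * x
  have hb : b ∈ bigQ := by rw [bigQ, MonoidHom.mem_ker, map_mul, map_inv, hcx, inv_mul_cancel]
  have hbk : x * k * x⁻¹ = b * k * b⁻¹ := by
    have hcm : b * k * b⁻¹ ∈ bigQ := mul_mem (mul_mem hb hk) (inv_mem hb)
    have := Subgroup.mem_centralizer_iff.1 hc _ hcm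
    calc x * k * x⁻¹ = c * (b * k * b⁻¹) * c⁻¹ := by
          simp only [b, mul_inv_rev, inv_inv, mul_assoc, mul_inv_cancel_left, mul_inv_cancel, mul_one]
      _ = b * k * b⁻¹ := by rw [← this, mul_inv_cancel_right]
  set ζ : bigQ := ⟨toBar ⟨octInv, mem_centZero.2 rfl⟩, by
    rw [bigQ, MonoidHom.mem_ker, chi_toBar, omegaRep_eq_one_iff]
    exact Or.inl CoTwoCent.inKer_octInv⟩
  have hext := isExtraspecial_bigQ
  have hζc : ζ ∈ Subgroup.center bigQ := Subgroup.mem_center_iff.2 fun y => by
    apply Subtype.ext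
    have hy : y.1 ∈ kerHom.range := by rw [range_kerHom]; exact y.2
    obtain ⟨w, hw⟩ := hy
    show y.1 * _ = _ * y.1
    rw [← hw]
    refine Subtype.ext ?_
    show QuotientGroup.mk' _ w.1.1 * QuotientGroup.mk' _ octInv
      = QuotientGroup.mk' _ octInv * QuotientGroup.mk' _ w.1.1
    rw [← map_mul, ← map_mul, (CoTwoCent.mem_cent.1 w.1.2).2]
  have hcomm : (⟨b, hb⟩ : bigQ) * ⟨k, hk⟩ * (⟨b, hb⟩ : bigQ)⁻¹ * (⟨k, hk⟩ : bigQ)⁻¹
      ∈ Subgroup.center bigQ := by
    rw [← hext.1.2.2]
    exact Subgroup.commutator_mem_commutator (Subgroup.mem_top _) (Subgroup.mem_top _)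
  have hζ1 : ζ ≠ 1 := by
    intro e
    have h3 : QuotientGroup.mk' (Subgroup.center Co0) octInv = QuotientGroup.mk' _ 1 := by
      have := congrArg (fun q : bigQ => q.1.1) e
      exact this.trans (map_one _).symm
    rw [eq_comm, mk_eq_iff, one_mul] at h3
    rcases h3 with e3 | e3
    · exact CoTwoCent.octInv_ne_one e3
    · exact negAll_not_inKer (e3 ▸ CoTwoCent.inKer_octInv)
  obtain ⟨y, -, huniq⟩ := (Nat.card_eq_two_iff' (1 : Subgroup.center bigQ)).1 hext.2
  by_cases he : (⟨b, hb⟩ : bigQ) * ⟨k, hk⟩ * (⟨b, hb⟩ : bigQ)⁻¹ * (⟨k, hk⟩ : bigQ)⁻¹ = 1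
  · exact h1 (hbk.trans (congrArg Subtype.val (mul_inv_eq_one.1 he)))
  · have e1 := huniq ⟨_, hcomm⟩ (fun e => he (congrArg Subtype.val e))
    have e2 := huniq ⟨ζ, hζc⟩ (fun e => hζ1 (congrArg Subtype.val e))
    have e3 := mul_inv_eq_iff_eq_mul.1 (congrArg Subtype.val (e1.trans e2.symm))
    rw [show ζ * (⟨k, hk⟩ : bigQ) = (⟨k, hk⟩ : bigQ) * ζ from
      (Subgroup.mem_center_iff.1 hζc _).symm] at e3
    exact h2 (hbk.trans (congrArg Subtype.val e3))

theorem genFitting_eq_bigQ :
    Cfsg.generalizedFittingSubgroup (Subgroup.centralizer ({zBar} : Set Spor.Co1)) = bigQ := by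
  haveI : Finite ↥Co0 := finite_co0
  haveI : Fact (Nat.Prime 2) := ⟨Nat.prime_two⟩
  haveI : bigQ.Normal := MonoidHom.normal_ker chi
  haveI := isSimpleGroup_omega
  have hnil : Group.IsNilpotent bigQ := isExtraspecial_bigQ.1.1.isNilpotent
  refine le_antisymm (Components.genFitting_le_of_centralizer_le _ ?_ centralizer_bigQ_le)
    ((le_sSup (show bigQ ∈ {N : Subgroup (Subgroup.centralizer ({zBar} : Set Spor.Co1)) |
      N.Normal ∧ Group.IsNilpotent N} from ⟨inferInstance, hnil⟩)).trans le_sup_right)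
  intro x hx
  set F := Cfsg.fittingSubgroup (Subgroup.centralizer ({zBar} : Set Spor.Co1))
  rcases Subgroup.Normal.eq_bot_or_eq_top
    (Subgroup.Normal.map (H := F) inferInstance chi chi_surjective) with h | h
  · exact MonoidHom.mem_ker.2 (Subgroup.mem_bot.1 (h ▸ ⟨x, hx, rfl⟩))
  exfalso
  haveI : Group.IsNilpotent (Cfsg.Omega (ZMod 2) (Cfsg.quadFormPlus 4 (ZMod 2))) := by
    refine Group.nilpotent_of_surjective (G := F) (chi.comp F.subtype) fun y => ?_
    have hy : y ∈ F.map chi := h ▸ Subgroup.mem_top y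
    obtain ⟨a, ha, rfl⟩ := hy
    exact ⟨⟨a, ha⟩, rfl⟩
  have hne : Subgroup.center (Cfsg.Omega (ZMod 2) (Cfsg.quadFormPlus 4 (ZMod 2))) ≠ ⊥ := by
    haveI : Nontrivial (Cfsg.Omega (ZMod 2) (Cfsg.quadFormPlus 4 (ZMod 2))) := IsSimpleGroup.toNontrivial
    exact Group.IsNilpotent.center_ne_bot _
  exact hne center_omega_bot

theorem exists_conj_mem :
    ∃ g : Spor.Co1, (∃ hq : g * zBar * g⁻¹ ∈ Subgroup.centralizer ({zBar} : Set Spor.Co1),
      (⟨g * zBar * g⁻¹, hq⟩ : Subgroup.centralizer ({zBar} : Set Spor.Co1)) ∈ bigQ) ∧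
      g * zBar * g⁻¹ ≠ zBar := by
  obtain ⟨-, -, hm, hoct, -, -, hd1, -⟩ := move_facts
  have ho' : ptSet testMask ∈ octads := ptSet_mem_octads (List.contains_iff_mem.1 hoct)
  obtain ⟨σ, hσ⟩ := exists_M24_map_octad CoTwoCent.octSet_mem_octads ho'
  have hσ' : σ.1 • octSet = ptSet testMask := hσ
  set d : {c : Finset GolayPt // c ∈ supports (golayCode : Set (GolayPt → ZMod 2))} :=
    ⟨σ.1 • CoTwoCent.coOct.1, smul_mem_supports σ.2 CoTwoCent.coOct.2⟩
  have hcomp : ∀ i, i ∈ d.1 ↔ i ∉ ptSet testMask := by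
    intro i
    rw [← hσ']
    show i ∈ σ.1 • CoTwoCent.coOct.1 ↔ _
    rw [mem_smul_finset_iff, mem_smul_finset_iff, CoTwoCent.mem_coOct]
  have hd : signAut d = signAut testSigns * negAll := by
    refine Subtype.ext (Equiv.ext fun v => Subtype.ext (funext fun i => ?_))
    show (signAut d • v).1 i = (signAut testSigns • negAll • v).1 i
    rw [signAut_apply, signAut_apply, negAll_apply, AddSubgroup.coe_neg, Pi.neg_apply]
    by_cases h : i ∈ ptSet testMask
    · rw [if_neg (fun h' => (hcomp i).1 h' h), if_pos (show i ∈ testSigns.1 from h), neg_neg]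
    · rw [if_pos ((hcomp i).2 h), if_neg (show i ∉ testSigns.1 from h)]
  have himg : QuotientGroup.mk' (Subgroup.center Co0) (permAut σ) * zBar
      * (QuotientGroup.mk' (Subgroup.center Co0) (permAut σ))⁻¹
      = QuotientGroup.mk' (Subgroup.center Co0) (signAut testSigns) := by
    rw [zBar, ← map_mul, ← map_inv, ← map_mul, octInv, conj_signAut, eq_comm, mk_eq_iff]
    exact Or.inr hd
  refine ⟨QuotientGroup.mk' _ (permAut σ), ⟨?_, ?_⟩, ?_⟩
  · rw [himg]
    exact (toBar ⟨_, (CoTwoCent.inKer_mem_cent testSigns_inKer).2⟩).2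
  · rw [bigQ, MonoidHom.mem_ker]
    rw [show (⟨_, _⟩ : Subgroup.centralizer ({zBar} : Set Spor.Co1))
      = toBar ⟨_, (CoTwoCent.inKer_mem_cent testSigns_inKer).2⟩ from Subtype.ext himg,
      chi_toBar, omegaRep_eq_one_iff]
    exact Or.inl testSigns_inKer
  · rw [himg, zBar, ne_comm, Ne, mk_eq_iff]
    have hnone : (none : GolayPt) ∉ ptSet testMask :=
      (CoTwoCent.mask_mem hm).2 none CoTwoCent.oct_facts.2.1
    rintro (e | e)
    · obtain ⟨i, hi, hi'⟩ : ∃ i : GolayPt, i ∉ octSet ∧ i ∉ ptSet testMask := by decide +kernel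
      have := congrArg (fun q : Co0 => (q • axisVec i : leechLattice).1 i) e
      simp only [CoTwoCent.octInv_apply, if_neg hi, signAut_apply,
        if_neg (show i ∉ testSigns.1 from hi')] at this
      change (Pi.single i 8 : GolayPt → ℤ) i = -(Pi.single i 8 : GolayPt → ℤ) i at this
      simp at this
    · have := congrArg (fun q : Co0 => (q • axisVec none : leechLattice).1 none) e
      simp only [CoTwoCent.octInv_apply, if_pos CoTwoCent.oct_facts.2.1, mul_smul, negAll_apply,
        co0_smul_neg, AddSubgroup.coe_neg, Pi.neg_apply, signAut_apply,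
        if_neg (show (none : GolayPt) ∉ testSigns.1 from hnone)] at this
      change (Pi.single none 8 : GolayPt → ℤ) none = -(Pi.single none 8 : GolayPt → ℤ) none at this
      simp at this

lemma orderOf_zBar : orderOf zBar = 2 := by
  refine orderOf_eq_prime ?_ ?_
  · rw [zBar, ← map_pow, pow_two, CoTwoCent.octInv_sq, map_one]
  · intro h
    rw [zBar, ← map_one (QuotientGroup.mk' (Subgroup.center Co0)), eq_comm, mk_eq_iff, one_mul] at h
    rcases h with e | e
    · exact CoTwoCent.octInv_ne_one e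
    · exact negAll_not_inKer (e ▸ CoTwoCent.inKer_octInv)

end Cfsg.Agent.H92.CoOneCent
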