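import Cfsg.Agent.H92.CoOneAutBound
import Cfsg.Agent.H92.CrossGroup
import Cfsg.Agent.H92.CoOneCentStruct
import Cfsg.Agent.S2064
import Cfsg.Prelude.Def_KGroupFacts

/-!
Every automorphism of Co1 is, up to an inner one, the identity modulo the elementary abelian
subgroup of order 2^11 on the image of the monomial group.
-/

set_option autoImplicit false

namespace Cfsg.Agent.H92.CoOneAut

open Cfsg Cfsg.Agent.Golay
open Cfsg.Agent.H92.LeechTwo (SignSet signs permOf permOf_permAut mem_signs signs_le signs_comm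
  signs_sq card_signs signAut_mul split_crossStab permHom_signs center_le_crossStab)
open scoped Pointwise symmDiff

/-- The projection. -/
abbrev mkG : Co0 →* Spor.Co1 := QuotientGroup.mk' (Subgroup.center Co0)

/-- The image of the monomial group. -/
def monoG : Subgroup Spor.Co1 := crossStab.map mkG

/-- The image of the signs. -/
noncomputable def signG : Subgroup Spor.Co1 := signs.map mkG

/-- A sign class. -/
def sgn (c : SignSet) : Spor.Co1 := mkG (signAut c)

/-- A permutation. -/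
noncomputable def permG : M24 →* Spor.Co1 := mkG.comp LeechTwo.permHom

lemma permG_apply (σ : M24) : permG σ = mkG (permAut σ) := rfl

lemma center_le : Subgroup.center Co0 ≤ crossStab := center_le_crossStab.trans signs_le

lemma mk_mem_monoG {g : Co0} : mkG g ∈ monoG ↔ g ∈ crossStab := by
  rw [monoG, ← Subgroup.mem_comap, Subgroup.comap_map_eq, QuotientGroup.ker_mk', sup_eq_left.2 center_le]

lemma mk_mem_signG {g : Co0} : mkG g ∈ signG ↔ g ∈ signs := by
  rw [signG, ← Subgroup.mem_comap, Subgroup.comap_map_eq, QuotientGroup.ker_mk',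
    sup_eq_left.2 center_le_crossStab]

lemma sgn_mem (c : SignSet) : sgn c ∈ signG := mk_mem_signG.2 (mem_signs.2 ⟨c, rfl⟩)

lemma exists_sgn {x : Spor.Co1} (hx : x ∈ signG) : ∃ c, x = sgn c := by
  obtain ⟨g, hg, rfl⟩ := hx
  obtain ⟨c, rfl⟩ := mem_signs.1 hg
  exact ⟨c, rfl⟩

lemma signG_le : signG ≤ monoG := Subgroup.map_mono signs_le

lemma permG_mem (σ : M24) : permG σ ∈ monoG := mk_mem_monoG.2 (LeechTwo.permAut_mem σ)

lemma exists_split {x : Spor.Co1} (hx : x ∈ monoG) : ∃ e ∈ signG, ∃ σ, x = e * permG σ := by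
  obtain ⟨g, hg, rfl⟩ := hx
  obtain ⟨a, ha, σ, rfl⟩ := split_crossStab hg
  exact ⟨mkG a, mk_mem_signG.2 ha, σ, map_mul _ _ _⟩

lemma permG_signG {σ : M24} (h : permG σ ∈ signG) : σ = 1 := permHom_signs (mk_mem_signG.1 h)

lemma signG_comm {x y : Spor.Co1} (hx : x ∈ signG) (hy : y ∈ signG) : x * y = y * x := by
  obtain ⟨a, ha, rfl⟩ := hx
  obtain ⟨b, hb, rfl⟩ := hy
  rw [← map_mul, ← map_mul, signs_comm ha hb]

lemma signG_sq {x : Spor.Co1} (hx : x ∈ signG) : x * x = 1 := by
  obtain ⟨a, ha, rfl⟩ := hx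
  rw [← map_mul, signs_sq ha, map_one]

lemma signG_inv {x : Spor.Co1} (hx : x ∈ signG) : x⁻¹ = x :=
  inv_eq_of_mul_eq_one_left (signG_sq hx)

lemma monoG_isCoatom : IsCoatom monoG := by
  refine ⟨fun h => ?_, fun K hK => ?_⟩
  · refine crossStab_isCoatom.1 (eq_top_iff.2 fun g _ => mk_mem_monoG.1 ?_)
    rw [h]
    exact Subgroup.mem_top _
  · have h := crossStab_isCoatom.2 (K.comap mkG) (lt_of_le_of_ne
      (fun g hg => hK.le (mk_mem_monoG.2 hg)) fun e => hK.ne ?_)
    · rw [← Subgroup.map_comap_eq_self_of_surjective (QuotientGroup.mk'_surjective _) K, h]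
      exact Subgroup.map_top_of_surjective _ (QuotientGroup.mk'_surjective _)
    · rw [monoG, e, Subgroup.map_comap_eq_self_of_surjective (QuotientGroup.mk'_surjective _)]

lemma monoG_ne_top : monoG ≠ ⊤ := monoG_isCoatom.1

lemma card_co1 : Nat.card Spor.Co1 = 4157776806543360000 := Golay.isCo1_quotient.2

lemma finite_co1 : Finite Spor.Co1 := Nat.finite_of_card_ne_zero (by rw [card_co1]; norm_num)

lemma card_map_mk {H : Subgroup Co0} (h : Subgroup.center Co0 ≤ H) :
    Nat.card H = 2 * Nat.card (H.map mkG) := by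
  have h1 := Subgroup.index_map_eq (f := mkG) (H := H) (QuotientGroup.mk'_surjective _)
    (by rw [QuotientGroup.ker_mk']; exact h)
  have e1 := H.card_mul_index
  have e2 := (H.map mkG).card_mul_index
  rw [card_co0] at e1
  rw [card_co1, h1] at e2
  have hi : H.index ≠ 0 := fun e => by rw [e, mul_zero] at e1; norm_num at e1
  exact Nat.eq_of_mul_eq_mul_right (Nat.pos_of_ne_zero hi) (by rw [e1, mul_assoc, e2]; norm_num)

lemma card_signG : Nat.card signG = 2048 := by
  have h := card_map_mk center_le_crossStab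
  rw [card_signs] at h
  rw [signG]
  omega

/-- The permutation carried by a class of the monomial group. -/
noncomputable def permBar : monoG →* M24 :=
  (mkG.subgroupMap crossStab).liftOfSurjective (mkG.subgroupMap_surjective crossStab)
    ⟨permOf, fun g hg => by
      rw [MonoidHom.mem_ker] at hg ⊢
      have h : mkG g.1 = 1 := congrArg Subtype.val hg
      have hs : g.1 ∈ signs := center_le_crossStab ((QuotientGroup.eq_one_iff _).1 h)
      obtain ⟨k, hk, hke⟩ := hs
      rw [show g = k from Subtype.ext hke.symm]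
      exact hk⟩

lemma permBar_mk (g : crossStab) : permBar (mkG.subgroupMap crossStab g) = permOf g :=
  MonoidHom.liftOfRightInverse_comp_apply _ _ _ _ g

lemma permBar_permG (σ : M24) : permBar ⟨permG σ, permG_mem σ⟩ = σ :=
  (permBar_mk ⟨permAut σ, LeechTwo.permAut_mem σ⟩).trans (permOf_permAut σ)

lemma permBar_eq_one {x : monoG} : permBar x = 1 ↔ x.1 ∈ signG := by
  obtain ⟨g, rfl⟩ := mkG.subgroupMap_surjective crossStab x
  rw [permBar_mk]
  show _ ↔ mkG g.1 ∈ signG
  rw [mk_mem_signG]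
  constructor
  · exact fun h => ⟨g, h, rfl⟩
  · rintro ⟨k, hk, hke⟩
    rw [show g = k from Subtype.ext hke.symm]
    exact hk

lemma normalizer_signG : Subgroup.normalizer (signG : Set Spor.Co1) = monoG := by
  haveI := Golay.isCo1_quotient.1
  have hle : monoG ≤ Subgroup.normalizer (signG : Set Spor.Co1) := by
    intro x hx
    rw [Subgroup.mem_normalizer_iff]
    intro y
    have key : ∀ a ∈ monoG, ∀ b ∈ signG, a * b * a⁻¹ ∈ signG := by
      intro a ha b hb
      have hb' : (⟨b, signG_le hb⟩ : monoG) ∈ permBar.ker :=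
        MonoidHom.mem_ker.2 (permBar_eq_one.2 hb)
      exact permBar_eq_one.1 (MonoidHom.mem_ker.1
        (permBar.normal_ker.conj_mem _ hb' ⟨a, ha⟩))
    refine ⟨key x hx y, fun h => ?_⟩
    have := key x⁻¹ (inv_mem hx) _ h
    rwa [inv_inv, show x⁻¹ * (x * y * x⁻¹) * x = y by group] at this
  refine (eq_or_lt_of_le hle).elim Eq.symm fun h => ?_
  exfalso
  have hn : signG.Normal := Subgroup.normalizer_eq_top_iff.1 (monoG_isCoatom.2 _ h)
  rcases hn.eq_bot_or_eq_top with e | e
  · have := card_signG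
    rw [e, Subgroup.card_bot] at this
    omega
  · exact monoG_ne_top (eq_top_iff.2 (e ▸ signG_le))

/-! ### A Sylow 2-subgroup and its only normal elementary abelian subgroup of order 2^11 -/

/-- The Sylow 2-subgroup of M24 inside the group of the code. -/
def sylM : Subgroup M24 := H63.M24Sylow.P0.subgroupOf M24

/-- Its preimage in the monomial group. -/
noncomputable def sylZero : Subgroup Co0 := (sylM.comap permOf).map crossStab.subtype

/-- A Sylow 2-subgroup. -/
noncomputable def sylG : Subgroup Spor.Co1 := sylZero.map mkG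

lemma card_sylM : Nat.card sylM = 1024 := by
  rw [sylM, Nat.card_congr (Subgroup.subgroupOfEquivOfLe H63.M24Sylow.P0_le).toEquiv]
  exact H63.M24Sylow.card_P0

lemma signs_le_sylZero : signs ≤ sylZero := by
  rintro g ⟨k, hk, rfl⟩
  refine ⟨k, ?_, rfl⟩
  show permOf k ∈ sylM
  rw [MonoidHom.mem_ker.1 hk]
  exact one_mem _

lemma mem_sylZero {g : Co0} (hg : g ∈ sylZero) :
    ∃ h : g ∈ crossStab, (permOf ⟨g, h⟩).1 ∈ H63.M24Sylow.P0 := by
  obtain ⟨k, hk, rfl⟩ := hg
  exact ⟨k.2, hk⟩

lemma permG_mem_sylG {σ : M24} (hσ : σ.1 ∈ H63.M24Sylow.P0) : permG σ ∈ sylG :=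
  ⟨permAut σ, ⟨⟨permAut σ, LeechTwo.permAut_mem σ⟩, by
    show permOf _ ∈ sylM
    rw [permOf_permAut]; exact hσ, rfl⟩, rfl⟩

lemma index_sylG : sylG.index = 8292375 * 239085 := by
  rw [sylG, Subgroup.index_map_eq (f := mkG) _ (QuotientGroup.mk'_surjective _)
      (by rw [QuotientGroup.ker_mk']; exact center_le_crossStab.trans signs_le_sylZero),
    sylZero, Subgroup.index_map_subtype, index_crossStab,
    Subgroup.index_comap_of_surjective _ fun σ => ⟨_, permOf_permAut σ⟩]
  have h := sylM.card_mul_index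
  rw [card_sylM, Agent.Golay.card_M24] at h
  have h1 : sylM.index = 239085 :=
    Nat.eq_of_mul_eq_mul_left (by norm_num : 0 < 1024) (h.trans (by norm_num))
  rw [h1]

lemma card_sylG : Nat.card sylG = 2 ^ 21 := by
  have h := sylG.card_mul_index
  rw [index_sylG, card_co1] at h
  exact Nat.eq_of_mul_eq_mul_right (by norm_num : 0 < 8292375 * 239085) (h.trans (by norm_num))

/-- The Sylow subgroup. -/
noncomputable def sylTwo : Sylow 2 Spor.Co1 :=
  haveI : Fact (Nat.Prime 2) := ⟨Nat.prime_two⟩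
  (IsPGroup.of_card card_sylG).toSylow (by rw [index_sylG]; norm_num)

lemma coe_sylTwo : (sylTwo : Subgroup Spor.Co1) = sylG := rfl

/-- The classes fixed by a group of permutations. -/
noncomputable def fixedMasks (U : Subgroup (Equiv.Perm GolayPt)) : Finset ℕ :=
  haveI : DecidablePred fun m => ∀ x ∈ U, x • ptSet m = ptSet m ∨
      x • ptSet m = ptSet (m ^^^ fullMask) := fun _ => Classical.dec _
  codeList.toFinset.filter fun m => ∀ x ∈ U, x • ptSet m = ptSet m ∨
      x • ptSet m = ptSet (m ^^^ fullMask)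

lemma mem_fixedMasks {U : Subgroup (Equiv.Perm GolayPt)} {m : ℕ} :
    m ∈ fixedMasks U ↔ m ∈ codeList ∧ ∀ x ∈ U, x • ptSet m = ptSet m ∨
      x • ptSet m = ptSet (m ^^^ fullMask) := by
  simp [fixedMasks]

lemma permG_conj (σ : M24) (c : SignSet) :
    permG σ * sgn c * (permG σ)⁻¹ = sgn ⟨σ.1 • c.1, smul_mem_supports σ.2 c.2⟩ := by
  rw [permG_apply, sgn, sgn, ← map_inv, ← map_mul, ← map_mul, Golay.conj_signAut]

lemma sgn_eq_sgn {c d : SignSet} (h : sgn c = sgn d) :
    ptSet (maskOf c.1) = d.1 ∨ ptSet (maskOf c.1 ^^^ fullMask) = d.1 := by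
  rcases CoOneCent.mk_eq_iff.1 h with e | e
  · left
    rw [ptSet_maskOf]
    exact (congrArg Subtype.val
      (congrArg Prod.snd (monoAut_injective (a₁ := ((1 : M24), d)) (a₂ := ((1 : M24), c)) e))).symm
  · right
    rw [negAll, signAut_mul] at e
    have := congrArg Subtype.val
      (congrArg Prod.snd (monoAut_injective (a₁ := ((1 : M24), d)) (a₂ := ((1 : M24), _)) e))
    rw [ptSet_xor, ptSet_maskOf, show ptSet fullMask = Finset.univ by decide +kernel]
    exact this.symm

theorem elab_unique {A : Subgroup Spor.Co1} (hA : A ≤ sylG)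
    (hn : ∀ s ∈ sylG, ∀ a ∈ A, s * a * s⁻¹ ∈ A) (hc : ∀ a ∈ A, ∀ b ∈ A, a * b = b * a)
    (hsq : ∀ a ∈ A, a * a = 1) (hcard : Nat.card A = 2048) : A = signG := by
  classical
  set A0 := A.comap mkG with hA0
  have hcen : Subgroup.center Co0 ≤ A0 := fun z hz => by
    show mkG z ∈ A
    rw [show mkG z = 1 from (QuotientGroup.eq_one_iff z).2 hz]
    exact one_mem _
  have hmap : A0.map mkG = A :=
    Subgroup.map_comap_eq_self_of_surjective (QuotientGroup.mk'_surjective _) A
  have hcard0 : Nat.card A0 = 4096 := by rw [card_map_mk hcen, hmap, hcard]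
  have hsub : ∀ g ∈ A0, g ∈ sylZero := by
    intro g hg
    have h : mkG g ∈ sylG := hA hg
    rw [sylG, ← Subgroup.mem_comap, Subgroup.comap_map_eq, QuotientGroup.ker_mk',
      sup_eq_left.2 (center_le_crossStab.trans signs_le_sylZero)] at h
    exact h
  let inc : A0 →* crossStab := Subgroup.inclusion fun g hg => (mem_sylZero (hsub g hg)).1
  let f : A0 →* Equiv.Perm GolayPt := M24.subtype.comp (permOf.comp inc)
  set U := f.range with hU
  have hUP : U ≤ H63.M24Sylow.P0 := by
    rintro _ ⟨g, rfl⟩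
    exact (mem_sylZero (hsub g.1 g.2)).2
  have hker1 : ∀ g : A0, g.1 ∈ signs → f g = 1 := by
    rintro ⟨g, hg⟩ ⟨k, hk, hke⟩
    show (permOf (inc ⟨g, hg⟩)).1 = 1
    rw [show inc ⟨g, hg⟩ = k from Subtype.ext hke.symm, MonoidHom.mem_ker.1 hk]
    rfl
  have hker2 : ∀ g : A0, f g = 1 → g.1 ∈ signs := fun g hg =>
    ⟨inc g, MonoidHom.mem_ker.2 (Subtype.ext hg), rfl⟩
  by_cases hbot : ∀ g : A0, f g = 1
  · have hle : A0 ≤ signs := fun g hg => hker2 ⟨g, hg⟩ (hbot _)
    have h2 : A0 = signs :=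
      Subgroup.eq_of_le_of_card_ge hle (by rw [hcard0, card_signs])
    rw [← hmap, h2]
    rfl
  · exfalso
    push Not at hbot
    obtain ⟨g0, hg0⟩ := hbot
    have hUn : ∀ x ∈ H63.M24Sylow.P0, ∀ u ∈ U, x * u * x⁻¹ ∈ U := by
      rintro x hx _ ⟨g, rfl⟩
      let σ : M24 := ⟨x, H63.M24Sylow.P0_le hx⟩
      have hs := hn (permG σ) (permG_mem_sylG (σ := σ) hx) (mkG g.1) g.2
      have hmem : permAut σ * g.1 * (permAut σ)⁻¹ ∈ A0 := by
        show mkG _ ∈ A
        rw [map_mul, map_mul, map_inv]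
        exact hs
      refine ⟨⟨_, hmem⟩, ?_⟩
      show (permOf (⟨permAut σ, LeechTwo.permAut_mem σ⟩ * inc g
        * ⟨permAut σ, LeechTwo.permAut_mem σ⟩⁻¹)).1 = x * _ * x⁻¹
      rw [map_mul, map_mul, map_inv, permOf_permAut]
      rfl
    have hcz : ∀ g h : A0, g.1 * h.1 * (h.1 * g.1)⁻¹ ∈ Subgroup.center Co0 := by
      intro g h
      refine (QuotientGroup.eq_one_iff _).1 ?_
      show mkG (g.1 * h.1 * (h.1 * g.1)⁻¹) = 1
      rw [map_mul, map_inv, map_mul, map_mul, hc _ g.2 _ h.2, mul_inv_cancel]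
    have hcen1 : ∀ g : A0, g.1 ∈ Subgroup.center Co0 → f g = 1 :=
      fun g hg => hker1 g (center_le_crossStab hg)
    have hexp : ∀ u ∈ U, u * u = 1 := by
      rintro _ ⟨g, rfl⟩
      rw [← map_mul]
      refine hcen1 _ ((QuotientGroup.eq_one_iff _).1 ?_)
      show mkG (g.1 * g.1) = 1
      rw [map_mul, hsq _ g.2]
    have hcomm : ∀ u ∈ U, ∀ v ∈ U, u * v = v * u := by
      rintro _ ⟨g, rfl⟩ _ ⟨h, rfl⟩
      have := hcen1 (g * h * (h * g)⁻¹) (hcz g h)
      rw [map_mul, map_inv, map_mul, map_mul, mul_inv_eq_one] at this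
      exact this
    have hp : IsPGroup 2 A0 := IsPGroup.of_card (hcard0.trans (by norm_num : (4096 : ℕ) = 2 ^ 12))
    haveI : Fact (Nat.Prime 2) := ⟨Nat.prime_two⟩
    haveI : Finite A0 := Nat.finite_of_card_ne_zero (by rw [hcard0]; norm_num)
    have hpU : IsPGroup 2 U := hp.of_surjective f.rangeRestrict f.rangeRestrict_surjective
    have hz : H63.M24Sylow.zP ∈ U := by
      let U' := U.subgroupOf H63.M24Sylow.P0
      haveI : U'.Normal := ⟨fun u hu x => hUn x.1 x.2 u.1 hu⟩
      have hP : IsPGroup 2 H63.M24Sylow.P0 :=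
        IsPGroup.of_card (H63.M24Sylow.card_P0.trans (by norm_num : (1024 : ℕ) = 2 ^ 10))
      haveI : Nontrivial U' := by
        refine ⟨⟨⟨⟨f g0, hUP ⟨g0, rfl⟩⟩, ⟨g0, rfl⟩⟩, 1, fun e => hg0 ?_⟩⟩
        exact congrArg (fun u : U' => u.1.1) e
      haveI : Finite U' := Finite.of_injective (fun u => u.1.1) fun a b h =>
        Subtype.ext (Subtype.ext h)
      have hdvd : 2 ∣ Nat.card U' := by
        have hU' : IsPGroup 2 U' := hP.to_subgroup U'
        obtain ⟨n, hn0, hn'⟩ := hU'.nontrivial_iff_card.1 inferInstance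
        rw [hn']
        exact dvd_pow_self 2 hn0.ne'
      have hact : IsPGroup 2 (ConjAct H63.M24Sylow.P0) := hP
      obtain ⟨b, hb, hb1⟩ := hact.exists_fixed_point_of_prime_dvd_card_of_fixed_point U' hdvd
        (a := 1) (fun x => smul_one x)
      rcases H63.M24Sylow.centre_cases (x := b.1.1) b.1.2 (fun y hy => by
        have := congrArg (fun u : U' => u.1.1) (hb (ConjAct.toConjAct ⟨y, hy⟩))
        change y * b.1.1 * y⁻¹ = b.1.1 at this
        rw [mul_inv_eq_iff_eq_mul] at this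
        exact this.symm) with e | e
      · exact absurd (Subtype.ext (Subtype.ext e.symm)) hb1
      · exact e ▸ b.2
    obtain ⟨k, hk⟩ := IsPGroup.iff_card.1 hpU
    have hb := card_mul_le U hUP hz hexp hcomm ⟨k, hk⟩ (fixedMasks U) (fun m hm => by
      exact mem_fixedMasks.1 hm)
    have hker : Nat.card f.ker ≤ (fixedMasks U).card := by
      have hex : ∀ g : f.ker, ∃ c : SignSet, g.1.1 = signAut c := fun g =>
        mem_signs.1 (hker2 g.1 (MonoidHom.mem_ker.1 g.2))
      choose cf hcf using hex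
      have hmem : ∀ g : f.ker, maskOf (cf g).1 ∈ fixedMasks U := by
        intro g
        rw [mem_fixedMasks]
        refine ⟨mem_supports_iff.1 (cf g).2, ?_⟩
        rintro _ ⟨h, rfl⟩
        obtain ⟨e, he, σ, heσ⟩ := exists_split (x := mkG h.1)
          (mk_mem_monoG.2 (inc h).2)
        have hσ : f h = σ.1 := by
          show (permOf (inc h)).1 = σ.1
          have h0 : mkG.subgroupMap crossStab (inc h)
              = (⟨e, signG_le he⟩ : monoG) * (⟨permG σ, permG_mem σ⟩ : monoG) := Subtype.ext heσ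
          have h1 : permOf (inc h) = σ :=
            (permBar_mk (inc h)).symm.trans ((congrArg permBar h0).trans
              ((map_mul permBar _ _).trans
                (by rw [permBar_permG, permBar_eq_one.2 he, one_mul])))
          exact congrArg Subtype.val h1
        have hx : mkG g.1.1 = sgn (cf g) := congrArg mkG (hcf g)
        have h2 : mkG h.1 * sgn (cf g) * (mkG h.1)⁻¹ = sgn (cf g) := by
          rw [← hx, hc _ h.2 _ g.1.2, mul_inv_cancel_right]
        rw [heσ, show e * permG σ * sgn (cf g) * (e * permG σ)⁻¹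
          = e * (permG σ * sgn (cf g) * (permG σ)⁻¹) * e⁻¹ by group, permG_conj,
          signG_comm he (sgn_mem _), mul_inv_cancel_right] at h2
        rw [hσ, ptSet_maskOf]
        rcases sgn_eq_sgn h2.symm with r | r
        · left; rw [ptSet_maskOf] at r; exact r.symm
        · right; exact r.symm
      haveI : Finite f.ker := inferInstance
      rw [← Nat.card_eq_finsetCard]
      refine Nat.card_le_card_of_injective (fun g => ⟨_, hmem g⟩) fun a b hab => ?_
      refine Subtype.ext (Subtype.ext ?_)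
      rw [hcf a, hcf b]
      have h := congrArg Subtype.val hab
      exact congrArg signAut (Subtype.ext ((ptSet_maskOf (cf a).1).symm.trans
        ((congrArg ptSet h).trans (ptSet_maskOf (cf b).1))))
    have htot : Nat.card f.ker * Nat.card U = 4096 := by
      rw [← hcard0, ← f.ker.card_mul_index, Subgroup.index_ker]
    nlinarith [Nat.mul_le_mul_left (Nat.card U) hker]

/-! ### Normalised automorphisms -/

/-- Every automorphism can be normalised by an inner one. -/
theorem exists_normalised (α : MulAut Spor.Co1) : ∃ β : MulAut Spor.Co1,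
    α * β⁻¹ ∈ Inn Spor.Co1 ∧ (∀ x ∈ signG, β x ∈ signG) ∧
      ∀ σ : M24, β (permG σ) * (permG σ)⁻¹ ∈ signG := by
  haveI := finite_co1
  haveI : Fact (Nat.Prime 2) := ⟨Nat.prime_two⟩
  have hScard : Nat.card (sylG.map α.toMonoidHom) = 2 ^ 21 := by
    rw [Subgroup.card_map_of_injective α.injective, card_sylG]
  obtain ⟨g, hg⟩ : ∃ g : Spor.Co1, (sylG.map α.toMonoidHom).map (MulAut.conj g).toMonoidHom = sylG := by
    let Q : Sylow 2 Spor.Co1 := (IsPGroup.of_card hScard).toSylow (by
      rw [Subgroup.index_map_of_bijective (f := α.toMonoidHom) α.bijective, index_sylG]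
      norm_num)
    obtain ⟨g, hg⟩ := MulAction.exists_smul_eq Spor.Co1 Q sylTwo
    exact ⟨g, congrArg Sylow.toSubgroup hg⟩
  set α1 : MulAut Spor.Co1 := MulAut.conj g * α with hα1
  have hS : ∀ x, x ∈ sylG → α1 x ∈ sylG := fun x hx => by
    rw [← hg]; exact ⟨α x, ⟨x, hx, rfl⟩, rfl⟩
  have hS' : ∀ y ∈ sylG, ∃ x ∈ sylG, α1 x = y := by
    intro y hy
    rw [← hg] at hy
    obtain ⟨_, ⟨x, hx, rfl⟩, rfl⟩ := hy
    exact ⟨x, hx, rfl⟩
  have hE : signG.map α1.toMonoidHom = signG := by
    refine elab_unique ?_ ?_ ?_ ?_ ?_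
    · rintro _ ⟨x, hx, rfl⟩
      exact hS x (Subgroup.map_mono signs_le_sylZero hx)
    · rintro s hs _ ⟨x, hx, rfl⟩
      obtain ⟨t, ht, rfl⟩ := hS' s hs
      refine ⟨t * x * t⁻¹, ?_, by simp⟩
      have htM : t ∈ monoG := Subgroup.map_mono (Subgroup.map_subtype_le _) ht
      have := normalizer_signG.symm ▸ htM
      exact (Subgroup.mem_normalizer_iff.1 this x).1 hx
    · rintro _ ⟨x, hx, rfl⟩ _ ⟨y, hy, rfl⟩
      rw [← map_mul, ← map_mul, signG_comm hx hy]
    · rintro _ ⟨x, hx, rfl⟩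
      rw [← map_mul, signG_sq hx, map_one]
    · rw [Subgroup.card_map_of_injective α1.injective, card_signG]
  have hE1 : ∀ x, α1 x ∈ signG ↔ x ∈ signG := fun x => by
    constructor
    · intro h
      rw [← hE] at h
      obtain ⟨y, hy, he⟩ := h
      exact α1.injective he ▸ hy
    · exact fun h => hE ▸ ⟨x, h, rfl⟩
  have hM1 : ∀ x, x ∈ monoG → α1 x ∈ monoG := by
    intro x hx
    rw [← normalizer_signG, Subgroup.mem_normalizer_iff] at hx ⊢
    intro y
    obtain ⟨z, rfl⟩ := α1.surjective y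
    rw [← map_mul, ← map_inv, ← map_mul, hE1, hE1]
    exact hx z
  let ψ : M24 →* M24 := permBar.comp
    (((α1.toMonoidHom.comp permG).codRestrict monoG fun σ => hM1 _ (permG_mem σ)))
  have hψ : Function.Bijective ψ := by
    have hinj : Function.Injective ψ := (injective_iff_map_eq_one ψ).2 fun σ h =>
      permG_signG ((hE1 _).1 (permBar_eq_one.1 h))
    exact ⟨hinj, Finite.injective_iff_surjective.1 hinj⟩
  obtain ⟨τ, hτ⟩ : ∃ τ : M24, ∀ σ, ψ σ = τ * σ * τ⁻¹ := by
    have h := S2064.result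
    rw [Nat.card_eq_one_iff_unique] at h
    haveI := h.1
    obtain ⟨τ, hτ⟩ := (QuotientGroup.eq_one_iff (N := Inn M24) (MulEquiv.ofBijective ψ hψ)).1
      (Subsingleton.elim _ _)
    exact ⟨τ, fun σ => (DFunLike.congr_fun hτ σ).symm⟩
  refine ⟨MulAut.conj (permG τ)⁻¹ * α1, ?_, fun x hx => ?_, fun σ => ?_⟩
  · refine ⟨((permG τ)⁻¹ * g)⁻¹, ?_⟩
    refine MulEquiv.ext fun x => ?_
    rw [hα1, map_inv]
    simp [MulAut.mul_apply, ← mul_assoc]
  · have h1 : α1 x ∈ signG := (hE1 x).2 hx
    have := normalizer_signG.symm ▸ inv_mem (permG_mem τ)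
    exact (Subgroup.mem_normalizer_iff.1 this _).1 h1
  · obtain ⟨e, he, ρ, hρ⟩ := exists_split (hM1 _ (permG_mem σ))
    have hρ' : ρ = τ * σ * τ⁻¹ := by
      rw [← hτ σ]
      show ρ = permBar ⟨α1 (permG σ), _⟩
      rw [show (⟨α1 (permG σ), hM1 _ (permG_mem σ)⟩ : monoG) = ⟨e, signG_le he⟩ * ⟨permG ρ, permG_mem ρ⟩
        from Subtype.ext hρ, map_mul, permBar_permG, permBar_eq_one.2 he, one_mul]
    show (permG τ)⁻¹ * α1 (permG σ) * ((permG τ)⁻¹)⁻¹ * (permG σ)⁻¹ ∈ signG
    rw [hρ, hρ', map_mul, map_mul, map_inv,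
      show (permG τ)⁻¹ * (e * (permG τ * permG σ * (permG τ)⁻¹)) * ((permG τ)⁻¹)⁻¹ * (permG σ)⁻¹
        = (permG τ)⁻¹ * e * ((permG τ)⁻¹)⁻¹ by group]
    have := normalizer_signG.symm ▸ inv_mem (permG_mem τ)
    exact (Subgroup.mem_normalizer_iff.1 this _).1 he

end Cfsg.Agent.H92.CoOneAut
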