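import Cfsg.Agent.H92.CoTwoCentKer
import Cfsg.Agent.Symplectic.Simple
import Cfsg.Prelude.Def_Solvable

/-!
The symplectic representation is onto: a transvection and transitivity on nonzero vectors.
-/

set_option autoImplicit false

namespace Cfsg.Agent.H92.CoTwoCent

open Cfsg Cfsg.Agent.Golay Cfsg.Agent.H92.LeechOrbit
open scoped Pointwise Matrix

/-! ### Membership in the centraliser -/

lemma supp_of_nsmul {x : leechLattice} {n : ℕ} (hn : n ≠ 0) (h : Supp (n • x).1) : Supp x.1 := by
  intro p hp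
  have := h p hp
  rw [AddSubgroup.coe_nsmul, Pi.smul_apply, nsmul_eq_mul] at this
  rcases mul_eq_zero.1 this with e | e
  · exact absurd (by exact_mod_cast e) hn
  · exact e

theorem commute_octInv_of_supp {g : Co0}
    (h1 : ∀ x : leechLattice, Supp x.1 → Supp (g • x).1) : g * octInv = octInv * g := by
  haveI := finite_co0
  have hpow : ∀ (k : ℕ) (x : leechLattice), Supp x.1 → Supp (g ^ k • x).1 := by
    intro k
    induction k with
    | zero => intro x hx; rwa [pow_zero, one_smul]
    | succ k ih => intro x hx; rw [pow_succ', mul_smul]; exact h1 _ (ih x hx)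
  have hinv : ∀ x : leechLattice, Supp x.1 → Supp (g⁻¹ • x).1 := by
    intro x hx
    obtain ⟨k, hk⟩ : ∃ k : ℕ, g⁻¹ = g ^ k := by
      refine ⟨orderOf g - 1, inv_eq_of_mul_eq_one_right ?_⟩
      rw [← pow_succ', Nat.sub_add_cancel (orderOf_pos g), pow_orderOf_eq_one]
    rw [hk]; exact hpow k x hx
  refine Subtype.ext (Equiv.ext fun v => ?_)
  show g • octInv • v = octInv • g • v
  set a := v + octInv • v with ha
  set b := v - octInv • v with hb'
  have hoo : octInv • octInv • v = v := by rw [← mul_smul, octInv_sq, one_smul]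
  have hsa : Supp a.1 := by rw [← octInv_fix_iff, ha, co0_smul_add, hoo, add_comm]
  have hneg : octInv • b = -b := by rw [hb', co0_smul_sub, hoo, neg_sub]
  have hgb : octInv • g • b = -(g • b) := by
    refine Subtype.ext (funext fun p => ?_)
    rw [octInv_apply, AddSubgroup.coe_neg, Pi.neg_apply]
    split
    · rename_i hp
      have h : dotInt (g • b : leechLattice).1 (axisVec p).1 = 0 := by
        rw [← co0_dot g⁻¹, inv_smul_smul]
        refine Finset.sum_eq_zero fun i _ => ?_
        by_cases hi : i ∈ octSet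
        · have := congrArg (fun z : leechLattice => z.1 i) hneg
          simp only [octInv_apply, if_pos hi, AddSubgroup.coe_neg, Pi.neg_apply] at this
          rw [show b.1 i = 0 by omega, zero_mul]
        · rw [hinv _ (axis_supp hp) i hi, mul_zero]
      rw [show (axisVec p).1 = Pi.single p 8 from rfl, dot_single] at h
      omega
    · rfl
  have h2 : (2 : ℕ) • (g • octInv • v) = (2 : ℕ) • (octInv • g • v) := by
    rw [← co0_smul_nsmul, ← co0_smul_nsmul, ← co0_smul_nsmul, ← co0_smul_nsmul]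
    have e1 : (2 : ℕ) • v = a + b := by rw [ha, hb', two_nsmul]; abel
    rw [e1, co0_smul_add octInv a b, hneg, octInv_fix_iff.2 hsa, co0_smul_add g a (-b),
      co0_smul_add g a b, co0_smul_add octInv (g • a) (g • b), hgb, octInv_fix_iff.2 (h1 a hsa),
      co0_smul_neg]
  refine Subtype.ext (funext fun p => ?_)
  have := congrArg (fun z : leechLattice => z.1 p) h2
  simp only [AddSubgroup.coe_nsmul, Pi.smul_apply, nsmul_eq_mul] at this
  exact mul_left_cancel₀ (by norm_num) this

theorem mem_cent_of_images {g : Co0} (hU : g • Spor.leechU = Spor.leechU)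
    (hb : ∀ j, Supp (g • bV j).1) : g ∈ cent := by
  refine mem_cent.2 ⟨hU, commute_octInv_of_supp fun x hx => ?_⟩
  refine supp_of_nsmul (n := 3) (by norm_num) ?_
  rw [← co0_smul_nsmul, expand_b hx, co0_smul_sum]
  simp only [co0_smul_zsmul]
  exact supp_sum_zsmul _ _ hb

/-! ### The words -/

/-- The element of a word of the list. -/
noncomputable def wordG (i : Fin 4) : Co0 := wordEl (words.getD i.1 [])

/-- The listed images of a word. -/
def imgOf (i : Fin 4) : Fin 8 → ℕ := imgs.getD i.1 0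

lemma word_checks :
    (∀ i : Fin 4, (words.getD i.1 []).all atomOK = true) ∧
    (∀ (i : Fin 4) (j : Fin 8), chk (words.getD i.1 []) (bCode j) (imgOf i j) = true) ∧
    (∀ (i : Fin 4) (j : Fin 8) (p : GolayPt), p ∉ octSet → dec (imgOf i j) p = 0) ∧
    (∀ i : Fin 4, imgOf i 6 = bCode 6) := by
  decide +kernel

lemma wordG_val (i : Fin 4) (j : Fin 8) : (wordG i • bV j).1 = dec (imgOf i j) :=
  chk_sound (word_checks.1 i) (word_checks.2.1 i j) rfl

lemma wordG_mem (i : Fin 4) : wordG i ∈ cent := by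
  refine mem_cent_of_images ?_ fun j p hp => ?_
  · rw [← gram_facts.2.2.1]
    exact Subtype.ext ((wordG_val i 6).trans (congrArg dec (word_checks.2.2.2 i)))
  · rw [wordG_val]; exact word_checks.2.2.1 i j p hp

/-- The matrix read from listed images. -/
def matOf (n : Fin 8 → ℕ) : Symplectic.Mat 3 (ZMod 2) :=
  Matrix.of fun k l => ((dotInt (dec (n (ek l))) (dec (bCode (ek (sw k)))) / 16 : ℤ) : ZMod 2)

lemma rep_wordG (i : Fin 4) :
    ((rep ⟨wordG i, wordG_mem i⟩ : Matrix.symplecticGroup (Fin 3) (ZMod 2)) : Symplectic.Mat 3 (ZMod 2))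
      = matOf (imgOf i) := by
  refine Matrix.ext fun k l => ?_
  show ((dotInt (wordG i • bV (ek l)).1 (bV (ek (sw k))).1 / 16 : ℤ) : ZMod 2) = _
  rw [wordG_val]
  rfl

/-- The vector of a bit code. -/
def bitVec (n : ℕ) : Fin 3 ⊕ Fin 3 → ZMod 2 := fun k => bif n.testBit (ek k).1 then 1 else 0

/-- The root of the tree. -/
def rootCode : ℕ := (tree.getD 0 (0, 0, 0)).1

lemma tree_checks :
    (∀ i : Fin 63, i.1 = 0 ∨ ((tree.getD i.1 (0, 0, 0)).2.1 < i.1 ∧
      ∃ g : Fin 4, g.1 = (tree.getD i.1 (0, 0, 0)).2.2 ∧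
        matOf (imgOf g) *ᵥ bitVec (tree.getD (tree.getD i.1 (0, 0, 0)).2.1 (0, 0, 0)).1
          = bitVec (tree.getD i.1 (0, 0, 0)).1)) ∧
    (∀ u : Fin 3 ⊕ Fin 3 → ZMod 2, u = 0 ∨ ∃ i : Fin 63, bitVec (tree.getD i.1 (0, 0, 0)).1 = u) ∧
    matOf (imgOf 3) = Cfsg.sympTransvection 3 (bitVec rootCode) 1 := by
  decide +kernel

theorem exists_move_vec {u : Fin 3 ⊕ Fin 3 → ZMod 2} (hu : u ≠ 0) :
    ∃ g : cent, (rep g : Symplectic.Mat 3 (ZMod 2)) *ᵥ bitVec rootCode = u := by
  obtain ⟨i, rfl⟩ := (tree_checks.2.1 u).resolve_left hu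
  clear hu
  obtain ⟨n, hn⟩ := i
  induction n using Nat.strong_induction_on with
  | _ n ih =>
    rcases tree_checks.1 ⟨n, hn⟩ with h0 | ⟨hp, g, -, hg⟩
    · simp only at h0
      subst h0
      exact ⟨1, by rw [map_one, OneMemClass.coe_one, Matrix.one_mulVec]; rfl⟩
    · simp only at hp hg
      obtain ⟨a, ha⟩ := ih _ hp (lt_trans hp hn)
      refine ⟨⟨wordG g, wordG_mem g⟩ * a, ?_⟩
      simp only at ha
      rw [map_mul, Submonoid.coe_mul, ← Matrix.mulVec_mulVec, ha, rep_wordG, hg]

lemma zmod2_cases : ∀ c : ZMod 2, c = 0 ∨ c = 1 := by decide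

lemma root_transvection_ne :
    ¬Cfsg.sympTransvection 3 (bitVec rootCode) (1 : ZMod 2) = 1 := by
  decide +kernel

theorem rep_surjective : Function.Surjective rep := by
  rw [← MonoidHom.range_eq_top, eq_top_iff, ← Symplectic.closure_TSet, Subgroup.closure_le]
  rintro _ ⟨w, c, rfl⟩
  rcases (zmod2_cases c) with rfl | rfl
  · exact ⟨1, by rw [map_one, Symplectic.T_zero]⟩
  by_cases hw : w = 0
  · subst hw
    refine ⟨1, ?_⟩
    rw [map_one]
    exact Symplectic.sp_ext fun x => by simp [Symplectic.T_mulVec]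
  obtain ⟨g, hg⟩ := exists_move_vec hw
  refine ⟨g * ⟨wordG 3, wordG_mem 3⟩ * g⁻¹, ?_⟩
  have h3 : rep ⟨wordG 3, wordG_mem 3⟩ = Symplectic.T (bitVec rootCode) 1 :=
    Subtype.ext ((rep_wordG 3).trans tree_checks.2.2)
  rw [map_mul, map_mul, map_inv, h3, Symplectic.T_conj, hg]

/-! ### Two-cores -/

/-- A two-group normal in `Sp(6,2)` is trivial. -/
theorem sp_two_normal (N : Subgroup (Matrix.symplecticGroup (Fin 3) (ZMod 2))) [N.Normal]
    (hN : IsPGroup 2 N) : N = ⊥ := by
  have hperf := Symplectic.perfect (F := ZMod 2) 3 (Or.inl le_rfl)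
  rcases Symplectic.normal_subgroup_cases hperf N with h | h
  · rw [eq_bot_iff]
    intro n hn
    rw [Subgroup.mem_bot]
    obtain ⟨c, hc⟩ := (Symplectic.mem_center_iff n).1 (h hn)
    refine Symplectic.sp_ext fun v => ?_
    rw [hc, OneMemClass.coe_one, Matrix.one_mulVec]
    rcases (zmod2_cases c) with rfl | rfl
    · have h1 := hc (bitVec rootCode)
      rw [zero_smul] at h1
      have h2 := congrArg (fun z => ((n⁻¹ : Matrix.symplecticGroup (Fin 3) (ZMod 2)) :
        Symplectic.Mat 3 (ZMod 2)) *ᵥ z) h1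
      simp only [Matrix.mulVec_zero, Matrix.mulVec_mulVec, ← Submonoid.coe_mul, inv_mul_cancel,
        OneMemClass.coe_one, Matrix.one_mulVec] at h2
      exact absurd h2 (by decide +kernel)
    · rw [one_smul]
  · exfalso
    subst h
    have hG : IsPGroup 2 (Matrix.symplecticGroup (Fin 3) (ZMod 2)) := hN.of_equiv Subgroup.topEquiv
    haveI : Fact (Nat.Prime 2) := ⟨Nat.prime_two⟩
    haveI := hG.isNilpotent
    obtain ⟨n, hn⟩ := (isSolvable_def (G := Matrix.symplecticGroup (Fin 3) (ZMod 2))).1 inferInstance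
    have hall : ∀ k, derivedSeries (Matrix.symplecticGroup (Fin 3) (ZMod 2)) k = ⊤ := by
      intro k
      induction k with
      | zero => rfl
      | succ k ih => rw [derivedSeries_succ, ih]; exact hperf
    have h1 : Symplectic.T (F := ZMod 2) (m := 3) (bitVec rootCode) 1 ∈
        (⊥ : Subgroup (Matrix.symplecticGroup (Fin 3) (ZMod 2))) := by
      rw [← hn, hall]; trivial
    rw [Subgroup.mem_bot] at h1
    have h2 := congrArg Subtype.val h1
    exact root_transvection_ne h2

theorem pCore_eq_ker {G : Type*} [Group G] [Finite G]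
    (φ : G →* Matrix.symplecticGroup (Fin 3) (ZMod 2)) (hφ : Function.Surjective φ)
    (hker : IsPGroup 2 φ.ker) : Cfsg.pCore 2 G = φ.ker := by
  refine le_antisymm (sSup_le ?_) (le_sSup ⟨inferInstance, hker⟩)
  rintro N ⟨hN, hp⟩
  haveI := hN
  haveI : (N.map φ).Normal := hN.map φ hφ
  intro n hn
  rw [MonoidHom.mem_ker, ← Subgroup.mem_bot, ← sp_two_normal (N.map φ) (hp.map φ)]
  exact ⟨n, hn, rfl⟩

end Cfsg.Agent.H92.CoTwoCent
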