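import Cfsg.Agent.H92.CoOneCentData
import Cfsg.Agent.H92.CoTwoCentTop
import Cfsg.Agent.Orthogonal.POmega
import Cfsg.Agent.Orthogonal.StdForms

/-!
The action of the centraliser of the octad involution of Co0 on the octad sublattice modulo two,
as a homomorphism into the orthogonal group of plus type in dimension eight.
-/

set_option autoImplicit false

namespace Cfsg.Agent.H92.CoOneCent

open Cfsg Cfsg.Agent.Golay Cfsg.Agent.H92.LeechOrbit Cfsg.Agent.Orthogonal
open Cfsg.Agent.H92.CoTwoCent (Supp octSet octInv qd bV eV octInv_fix_iff)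
open scoped Pointwise Matrix

/-- The centraliser of the involution. -/
def centZero : Subgroup Co0 := Subgroup.centralizer {octInv}

lemma mem_centZero {g : Co0} : g ∈ centZero ↔ g * octInv = octInv * g :=
  Subgroup.mem_centralizer_singleton_iff

lemma supp_smul {g : Co0} (hg : g ∈ centZero) {x : leechLattice} (hx : Supp x.1) :
    Supp (g • x).1 := by
  rw [← octInv_fix_iff, ← mul_smul, ← mem_centZero.1 hg, mul_smul, octInv_fix_iff.2 hx]

lemma aBasis_facts :
    ∀ j, inLeech (dec (aCode j)) = true ∧ ∀ p, p ∉ octSet → dec (aCode j) p = 0 := by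
  decide +kernel

/-- The basis, hyperbolic modulo two. -/
def aV (j : Fin 8) : leechLattice := ⟨dec (aCode j), mem_of_inLeech (aBasis_facts j).1⟩

lemma aV_supp (j : Fin 8) : Supp (aV j).1 := (aBasis_facts j).2

lemma aDual_ok : ∀ l, ∀ p ∈ octSet,
    ∑ j, (∑ i, aDual i j * dec (aCode i) p) * dec (aCode j) l
      = if l = p then 16 * ((aDen : ℕ) : ℤ) else 0 := by
  decide +kernel

theorem expand_a {x : leechLattice} (hx : Supp x.1) :
    aDen • x = ∑ j, CoTwoCent.coef aDual aV x j • aV j :=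
  CoTwoCent.expand aV_supp aDual_ok hx

/-- The eight coordinates. -/
def ek4 : Fin 4 ⊕ Fin 4 → Fin 8 := Sum.elim (fun i => ⟨i, by omega⟩) (fun i => ⟨i + 4, by omega⟩)

/-- Coordinates modulo two. -/
def red (x : leechLattice) (k : Fin 4 ⊕ Fin 4) : ZMod 2 := (qd x (aV (ek4 k.swap)) : ℤ)

lemma aGram :
    (∀ k l : Fin 4 ⊕ Fin 4, ((qd (aV (ek4 k)) (aV (ek4 l)) : ℤ) : ZMod 2)
      = if l = k.swap then 1 else 0) ∧
    (∀ j : Fin 8, qd (aV j) (aV j) % 4 = 0) ∧
    (∀ k l : Fin 4 ⊕ Fin 4, (aDual (ek4 l) (ek4 k) : ZMod 2) = if l = k.swap then 1 else 0) ∧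
    ((aDen : ℕ) : ZMod 2) = 1 := by
  decide +kernel

lemma sum_eight {R : Type*} [AddCommMonoid R] (F : Fin 8 → R) :
    ∑ i, F i = ∑ k, F (ek4 k) := by
  refine (Fintype.sum_bijective ek4 ?_ _ _ fun _ => rfl).symm
  decide

lemma coef_ek (x : leechLattice) (k : Fin 4 ⊕ Fin 4) :
    (CoTwoCent.coef aDual aV x (ek4 k) : ZMod 2) = red x k := by
  rw [CoTwoCent.coef]
  push_cast
  rw [sum_eight]
  simp only [aGram.2.2.1, ite_mul, one_mul, zero_mul, Finset.sum_ite_eq', Finset.mem_univ, if_true]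
  rfl

/-- The matrix of an element. -/
def repMat (g : Co0) : Matrix (Fin 4 ⊕ Fin 4) (Fin 4 ⊕ Fin 4) (ZMod 2) :=
  Matrix.of fun k l => red (g • aV (ek4 l)) k

theorem qd_cast {x y : leechLattice} (hx : Supp x.1) (hy : Supp y.1) :
    (qd x y : ZMod 2) = ∑ k, red x k * ((qd (aV (ek4 k)) y : ℤ) : ZMod 2) := by
  have h1 := congrArg (fun z => ((qd z y : ℤ) : ZMod 2)) (expand_a hx)
  simp only [CoTwoCent.qd_sum_left _ _ aV_supp hy] at h1
  rw [← natCast_zsmul, CoTwoCent.qd_zsmul_left _ hx hy] at h1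
  push_cast at h1
  rw [aGram.2.2.2, one_mul, sum_eight] at h1
  rw [h1]
  exact Finset.sum_congr rfl fun k _ => by rw [coef_ek]

theorem red_smul {g : Co0} (hg : g ∈ centZero) {x : leechLattice} (hx : Supp x.1) :
    red (g • x) = repMat g *ᵥ red x := by
  funext k
  have h := congrArg (fun z => g • z) (expand_a hx)
  simp only [co0_smul_nsmul, CoTwoCent.co0_smul_sum, CoTwoCent.co0_smul_zsmul] at h
  have hgs : ∀ j, Supp (g • aV j).1 := fun j => supp_smul hg (aV_supp j)
  have h1 := congrArg (fun z => ((qd z (aV (ek4 k.swap)) : ℤ) : ZMod 2)) h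
  simp only [CoTwoCent.qd_sum_left _ _ hgs (aV_supp _)] at h1
  rw [← natCast_zsmul, CoTwoCent.qd_zsmul_left _ (supp_smul hg hx) (aV_supp _)] at h1
  push_cast at h1
  rw [aGram.2.2.2, one_mul, sum_eight] at h1
  rw [show red (g • x) k = ((qd (g • x) (aV (ek4 k.swap)) : ℤ) : ZMod 2) from rfl, h1,
    Matrix.mulVec, dotProduct]
  refine Finset.sum_congr rfl fun l _ => ?_
  rw [coef_ek, mul_comm]
  rfl

lemma red_basis (l : Fin 4 ⊕ Fin 4) : red (aV (ek4 l)) = Pi.single l 1 := by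
  funext k
  rw [red, aGram.1, Pi.single_apply]
  simp only [(show ∀ a b : Fin 4 ⊕ Fin 4, a.swap = b.swap ↔ a = b from fun a b => by
    revert a b; decide)]

theorem exists_red (u : Fin 4 ⊕ Fin 4 → ZMod 2) :
    ∃ x : leechLattice, Supp x.1 ∧ red x = u := by
  have hs : ∀ l, Supp (aV (ek4 l)).1 := fun l => aV_supp _
  refine ⟨∑ l, ((u l).val : ℤ) • aV (ek4 l), CoTwoCent.supp_sum_zsmul _ _ hs, funext fun k => ?_⟩
  rw [red, CoTwoCent.qd_sum_left _ _ hs (aV_supp _)]
  push_cast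
  have h : ∀ l, ((qd (aV (ek4 l)) (aV (ek4 k.swap)) : ℤ) : ZMod 2) = if l = k then 1 else 0 := by
    intro l
    have h := congrFun (red_basis l) k
    rw [red] at h
    rw [h, Pi.single_apply]
    exact if_congr eq_comm rfl rfl
  simp [h, ZMod.natCast_zmod_val]

theorem polar_red {x y : leechLattice} (hx : Supp x.1) (hy : Supp y.1) :
    QuadraticMap.polar (formPlus (ZMod 2) 4) (red x) (red y) = (qd x y : ZMod 2) := by
  rw [polar_formPlus, qd_cast hx hy, Fintype.sum_sum_type, ← Finset.sum_add_distrib]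
  refine Finset.sum_congr rfl fun i _ => ?_
  have hs : ∀ k, ((qd (aV (ek4 k)) y : ℤ) : ZMod 2) = red y k.swap := by
    intro k
    rw [CoTwoCent.qd_comm]
    show _ = ((qd y (aV (ek4 k.swap.swap)) : ℤ) : ZMod 2)
    rw [Sum.swap_swap]
  rw [hs, hs, mul_comm (red y _) (red x (Sum.inr i))]
  rfl

/-- Half the norm modulo two. -/
def halfNorm (x : leechLattice) : ZMod 2 := ((qd x x / 2 : ℤ) : ZMod 2)

lemma two_dvd_qd {x : leechLattice} (hx : Supp x.1) : (2 : ℤ) ∣ qd x x := by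
  have h1 := CoTwoCent.dot_eq hx hx
  have h2 : dotInt x.1 x.1 = sqNorm x.1 := Finset.sum_congr rfl fun i _ => by ring
  obtain ⟨π, a, ha, A, hA⟩ := CoTwoCent.supp_shape hx
  rw [h2, sqNorm, ← Finset.sum_subset (Finset.subset_univ octSet)
    (fun p _ hp => by rw [hx p hp]; ring),
    Finset.sum_congr rfl (g := fun p => 4 * π ^ 2 + 16 * π * a p + 16 * (a p * a p))
      (fun p hp => by rw [ha p hp]; ring)] at h1
  simp only [Finset.sum_add_distrib, Finset.sum_const, ← Finset.mul_sum,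
    CoTwoCent.oct_facts.2.2.2.1, nsmul_eq_mul, hA] at h1
  obtain ⟨m, hm⟩ : (2 : ℤ) ∣ (∑ p ∈ octSet, a p * a p) := by
    have h0 : (2 : ℤ) ∣ ∑ p ∈ octSet, (a p * a p - a p) := Finset.dvd_sum fun p _ => by
      rcases Int.even_or_odd (a p) with ⟨e, he⟩ | ⟨e, he⟩
      · exact ⟨2 * e * e - e, by rw [he]; ring⟩
      · exact ⟨2 * e * e + e, by rw [he]; ring⟩
    rw [Finset.sum_sub_distrib, hA] at h0
    omega
  rw [hm] at h1
  push_cast at h1
  exact ⟨π ^ 2 + π * A + m, by linarith⟩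

lemma halfNorm_add {x y : leechLattice} (hx : Supp x.1) (hy : Supp y.1) :
    halfNorm (x + y) = halfNorm x + halfNorm y + (qd x y : ZMod 2) := by
  have hxy : Supp (x + y).1 := by rw [AddSubgroup.coe_add]; exact hx.add hy
  rw [halfNorm, halfNorm, halfNorm, CoTwoCent.qd_add_left hx hxy, CoTwoCent.qd_comm x (x + y),
    CoTwoCent.qd_comm y (x + y), CoTwoCent.qd_add_left hx hx, CoTwoCent.qd_add_left hx hy,
    CoTwoCent.qd_comm y x]
  obtain ⟨a, ha⟩ := two_dvd_qd hx
  obtain ⟨b, hb⟩ := two_dvd_qd hy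
  rw [ha, hb, show (2 * a + qd x y + (qd x y + 2 * b)) / 2 = a + b + qd x y by omega,
    show 2 * a / 2 = a by omega, show 2 * b / 2 = b by omega]
  push_cast; ring

lemma red_add {x y : leechLattice} (hx : Supp x.1) : red (x + y) = red x + red y := by
  funext k
  rw [Pi.add_apply, red, red, red, CoTwoCent.qd_add_left hx (aV_supp _), Int.cast_add]

/-- The supported vectors where the form is compatible. -/
def formAgree : AddSubgroup leechLattice where
  carrier := {x | Supp x.1 ∧ formPlus (ZMod 2) 4 (red x) = halfNorm x}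
  zero_mem' := ⟨fun p _ => rfl, by
    rw [show red 0 = 0 from funext fun k => by simp [red, qd, dotInt], QuadraticMap.map_zero]
    simp [halfNorm, qd, dotInt]⟩
  add_mem' := by
    rintro x y ⟨hx, ex⟩ ⟨hy, ey⟩
    refine ⟨hx.add hy, ?_⟩
    rw [red_add hx, map_add_polar, ex, ey, polar_red hx hy, halfNorm_add hx hy]
  neg_mem' := by
    rintro x ⟨hx, ex⟩
    have hn : Supp (-x).1 := fun p hp => by
      rw [AddSubgroup.coe_neg, Pi.neg_apply, hx p hp, neg_zero]
    have hz : ∀ u, qd (-x) u = dotInt (-x.1) u.1 / 16 := fun u => rfl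
    have h1 : ∀ {u : leechLattice}, Supp u.1 → qd (-x) u = -qd x u := by
      intro u hu
      rw [← neg_one_zsmul x, CoTwoCent.qd_zsmul_left _ hx hu, neg_one_mul]
    refine ⟨hn, ?_⟩
    have hr : red (-x) = red x := by
      funext k
      rw [red, red, h1 (aV_supp _), Int.cast_neg, ZMod.neg_eq_self_mod_two]
    rw [hr, ex, halfNorm, halfNorm, h1 hn, CoTwoCent.qd_comm x (-x), h1 hx, neg_neg]

theorem form_red {x : leechLattice} (hx : Supp x.1) :
    formPlus (ZMod 2) 4 (red x) = halfNorm x := by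
  have hb : ∀ j, aV j ∈ formAgree := by
    intro j
    obtain ⟨k, rfl⟩ : ∃ k, ek4 k = j := by revert j; decide
    refine ⟨aV_supp _, ?_⟩
    rw [red_basis, halfNorm]
    have h4 := aGram.2.1 (ek4 k)
    have h2 : (((qd (aV (ek4 k)) (aV (ek4 k)) / 2 : ℤ)) : ZMod 2) = 0 := by
      rw [ZMod.intCast_zmod_eq_zero_iff_dvd]; omega
    rw [h2]
    have hall : ∀ k : Fin 4 ⊕ Fin 4, quadFormPlus 4 (ZMod 2) (Pi.single k 1) = 0 := by decide
    exact hall k
  have hmem : aDen • x ∈ formAgree := by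
    rw [expand_a hx]
    exact sum_mem fun j _ => zsmul_mem (hb j) _
  obtain ⟨t, ht⟩ : ∃ t, aDen = 2 * t + 1 := ⟨aDen / 2, by decide⟩
  have h1 : red (aDen • x) = red x := by
    funext k
    rw [red, red, ← natCast_zsmul, CoTwoCent.qd_zsmul_left _ hx (aV_supp _), Int.cast_mul,
      Int.cast_natCast, aGram.2.2.2, one_mul]
  have h2 : halfNorm (aDen • x) = halfNorm x := by
    have hD : Supp ((aDen : ℤ) • x).1 := by rw [AddSubgroup.coe_zsmul]; exact hx.zsmul _
    rw [halfNorm, halfNorm, ← natCast_zsmul, CoTwoCent.qd_zsmul_left _ hx hD, CoTwoCent.qd_comm x,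
      CoTwoCent.qd_zsmul_left _ hx hx]
    obtain ⟨a, ha⟩ := two_dvd_qd hx
    rw [ha, show ((aDen : ℤ) * ((aDen : ℤ) * (2 * a))) / 2 = (aDen : ℤ) * aDen * a by
      rw [show (aDen : ℤ) * ((aDen : ℤ) * (2 * a)) = 2 * ((aDen : ℤ) * aDen * a) by ring,
        Int.mul_ediv_cancel_left _ (by norm_num)],
      show 2 * a / 2 = a by omega]
    push_cast
    rw [aGram.2.2.2]; ring
  rw [← h1, hmem.2, h2]

theorem repMat_mul {g h : Co0} (hg : g ∈ centZero) (hh : h ∈ centZero) :
    repMat (g * h) = repMat g * repMat h := by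
  refine Matrix.ext fun k l => ?_
  show red ((g * h) • aV (ek4 l)) k = _
  rw [mul_smul, red_smul hg (supp_smul hh (aV_supp _))]
  rfl

/-- The matrices. -/
def repHom : centZero →* Matrix (Fin 4 ⊕ Fin 4) (Fin 4 ⊕ Fin 4) (ZMod 2) where
  toFun g := repMat g.1
  map_one' := Matrix.ext fun k l => by
    show red ((1 : Co0) • aV (ek4 l)) k = _
    rw [one_smul, red_basis, Pi.single_apply]
    exact (Matrix.one_apply).symm
  map_mul' a b := repMat_mul a.2 b.2

/-- The action as isometries. -/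
noncomputable def oRep : centZero →* O (formPlus (ZMod 2) 4) :=
  (toO (formPlus (ZMod 2) 4)).toMonoidHom.comp
    (repHom.toHomUnits.codRestrict _ fun g => (mem_isometryGroup_iff _ _).2 fun u => by
      obtain ⟨x, hx, rfl⟩ := exists_red u
      show formPlus (ZMod 2) 4 (repMat g.1 *ᵥ red x) = formPlus (ZMod 2) 4 (red x)
      rw [← red_smul g.2 hx, form_red (supp_smul g.2 hx), form_red hx, halfNorm, halfNorm,
        CoTwoCent.qd_smul])

lemma oRep_apply (g : centZero) (u : Fin 4 ⊕ Fin 4 → ZMod 2) :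
    (oRep g : (Fin 4 ⊕ Fin 4 → ZMod 2) ≃ₗ[ZMod 2] _) u = repMat g.1 *ᵥ u := rfl

lemma oRep_red (g : centZero) {x : leechLattice} (hx : Supp x.1) :
    (oRep g : (Fin 4 ⊕ Fin 4 → ZMod 2) ≃ₗ[ZMod 2] _) (red x) = red (g.1 • x) :=
  (red_smul g.2 hx).symm

lemma polar_red_refl {x r : leechLattice} (hx : Supp x.1) (hr : Supp r.1)
    (hn : halfNorm r = 1) :
    (rO (formPlus (ZMod 2) 4) (red r) : (Fin 4 ⊕ Fin 4 → ZMod 2) ≃ₗ[ZMod 2] _) (red x)
      = red (x + (-qd x r) • r) := by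
  rw [rO_app, red_add hx, form_red hr, hn, inv_one, one_mul, QuadraticMap.polar_comm,
    polar_red hx hr, sub_eq_add_neg]
  congr 1
  funext k
  rw [Pi.neg_apply, Pi.smul_apply, red, red, CoTwoCent.qd_zsmul_left _ hr (aV_supp _),
    Int.cast_mul, Int.cast_neg, smul_eq_mul, neg_mul]

end Cfsg.Agent.H92.CoOneCent
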