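import Cfsg.Agent.H92.CoOneCentBasic

/-!
The image of the centraliser of the octad involution in the orthogonal group is its commutator
subgroup; the kernel consists of the monomial kernel and its negatives.
-/

set_option autoImplicit false

namespace Cfsg.Agent.H92.CoOneCent

open Cfsg Cfsg.Agent.Golay Cfsg.Agent.H92.LeechOrbit Cfsg.Agent.Orthogonal
open Cfsg.Agent.H92.CoTwoCent (Supp octSet octInv qd InKer octInv_fix_iff)
open scoped Pointwise Matrix commutatorElement

/-- The plus form. -/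
abbrev qPlus : QuadraticForm (ZMod 2) (Fin 4 ⊕ Fin 4 → ZMod 2) := formPlus (ZMod 2) 4

/-! ### Congruent roots -/

lemma cBasis_facts :
    (∀ j, inLeech (dec (cCode j)) = true ∧ ∀ p, p ∉ octSet → dec (cCode j) p = 0) := by
  decide +kernel

/-- The connected basis of roots. -/
def cV (j : Fin 8) : leechLattice := ⟨dec (cCode j), mem_of_inLeech (cBasis_facts j).1⟩

lemma cV_supp (j : Fin 8) : Supp (cV j).1 := (cBasis_facts j).2

lemma cDual_ok : ∀ l, ∀ p ∈ octSet,
    ∑ j, (∑ i, cDual i j * dec (cCode i) p) * dec (cCode j) l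
      = if l = p then 16 * ((cDen : ℕ) : ℤ) else 0 := by
  decide +kernel

theorem expand_c {x : leechLattice} (hx : Supp x.1) :
    x = ∑ j, CoTwoCent.coef cDual cV x j • cV j := by
  have h := CoTwoCent.expand cV_supp cDual_ok hx
  rwa [show cDen = 1 from rfl, one_smul] at h

lemma cV_facts : (∀ j, sqNorm (cV j).1 = 32) ∧ cV 0 = Spor.leechU ∧
    (∀ j : Fin 8, j = 0 ∨ ∃ i : Fin 8, i < j ∧ qd (cV i) (cV j) ≠ 0) := by
  refine ⟨by decide +kernel, Subtype.ext (funext ?_), by decide +kernel⟩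
  decide +kernel

/-- A map agreeing with an isometry on the connected basis modulo two agrees up to one sign. -/
theorem uniform_sign (g : centZero) (s : leechLattice → leechLattice)
    (hs : ∀ j, Supp (s (cV j)).1) (hn : ∀ j, sqNorm (s (cV j)).1 = 32)
    (hq : ∀ i j, qd (s (cV i)) (s (cV j)) = qd (cV i) (cV j))
    (hred : ∀ j, red (g.1 • cV j) = red (s (cV j))) :
    ∃ ε : ℤ, (ε = 1 ∨ ε = -1) ∧ ∀ j, g.1 • cV j = ε • s (cV j) := by
  have hsign : ∀ j, ∃ ε : ℤ, (ε = 1 ∨ ε = -1) ∧ g.1 • cV j = ε • s (cV j) := by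
    intro j
    have hgs : Supp (g.1 • cV j).1 := supp_smul g.2 (cV_supp j)
    set d := g.1 • cV j - s (cV j) with hd
    have hds : Supp d.1 := by rw [hd, AddSubgroup.coe_sub]; exact hgs.sub (hs j)
    have hev : ∀ i, ∃ q : ℤ, CoTwoCent.coef aDual aV d i = 2 * q := by
      intro i
      obtain ⟨k, rfl⟩ : ∃ k, ek4 k = i := by revert i; decide
      have h0 : (CoTwoCent.coef aDual aV d (ek4 k) : ZMod 2) = 0 := by
        have hadd := red_add (y := s (cV j)) hds
        rw [show d + s (cV j) = g.1 • cV j by rw [hd, sub_add_cancel], hred] at hadd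
        rw [coef_ek, show red d = 0 from by simpa using hadd.symm]
        rfl
      rw [ZMod.intCast_zmod_eq_zero_iff_dvd] at h0
      exact h0
    choose q hq' using hev
    obtain ⟨t, ht⟩ : ∃ t, aDen = 2 * t + 1 := ⟨aDen / 2, by decide⟩
    have hz : g.1 • cV j - s (cV j) = 2 • ((∑ i, q i • aV i) - t • d) := by
      rw [← hd, smul_sub, Finset.smul_sum,
        Finset.sum_congr rfl (g := fun i => CoTwoCent.coef aDual aV d i • aV i) (fun i _ => by
          rw [hq', ← natCast_zsmul, smul_smul]; rfl),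
        ← expand_a hds, ht, smul_smul, add_smul, one_smul]
      abel
    rcases CoTwoCent.eq_or_neg_of_congr hz (by rw [co0_sqNorm, cV_facts.1, hn]; norm_num) with e | e
    · exact ⟨1, Or.inl rfl, by rw [e, one_smul]⟩
    · exact ⟨-1, Or.inr rfl, by rw [e, neg_one_zsmul]⟩
  obtain ⟨ε, hε, h0⟩ := hsign 0
  refine ⟨ε, hε, fun j => ?_⟩
  obtain ⟨n, hn'⟩ := j
  induction n using Nat.strong_induction_on with
  | _ n ih =>
    rcases cV_facts.2.2 ⟨n, hn'⟩ with e | ⟨i, hi, hne⟩
    · rw [e]; exact h0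
    · obtain ⟨a, ha, ea⟩ := hsign ⟨n, hn'⟩
      have h := CoTwoCent.qd_smul g.1 (cV i) (cV ⟨n, hn'⟩)
      have hsm : ∀ (c : ℤ) (k : Fin 8), Supp (c • s (cV k)).1 := fun c k => by
        rw [AddSubgroup.coe_zsmul]; exact (hs k).zsmul _
      rw [ih i.1 hi i.2, ea, CoTwoCent.qd_zsmul_left _ (hs i) (hsm _ _), CoTwoCent.qd_comm,
        CoTwoCent.qd_zsmul_left _ (hs _) (hs i), CoTwoCent.qd_comm (s (cV ⟨n, hn'⟩)),
        ← mul_assoc, hq] at h
      rcases hε with rfl | rfl <;> rcases ha with rfl | rfl <;> first | exact ea | omega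

/-! ### Signs and the kernel -/

lemma negAll_mem : negAll ∈ centZero := by
  rw [mem_centZero]
  refine Subtype.ext (Equiv.ext fun v => ?_)
  show negAll • octInv • v = octInv • negAll • v
  rw [negAll_apply, negAll_apply, co0_smul_neg]

lemma negAll_ne_one : negAll ≠ 1 := by
  intro h
  have h1 := congrArg (fun z : leechLattice => z.1 none) (negAll_apply (axisVec none))
  rw [h, one_smul] at h1
  change (Pi.single none 8 : GolayPt → ℤ) none = -(Pi.single none 8 : GolayPt → ℤ) none at h1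
  simp at h1

lemma center_cases {g : Co0} (hg : g ∈ Subgroup.center Co0) : g = 1 ∨ g = negAll := by
  have hN : negAll ∈ Subgroup.center Co0 :=
    mem_center_of_scalar false fun v => (negAll_apply v).trans (by simp)
  obtain ⟨y, -, huniq⟩ := (Nat.card_eq_two_iff' (1 : Subgroup.center Co0)).1 card_center_co0
  by_cases h1 : g = 1
  · exact Or.inl h1
  · right
    have e1 := huniq ⟨g, hg⟩ (fun e => h1 (congrArg Subtype.val e))
    have e2 := huniq ⟨negAll, hN⟩ (fun e => negAll_ne_one (congrArg Subtype.val e))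
    exact congrArg Subtype.val (e1.trans e2.symm)

lemma inKer_of_fix {g : Co0} (hg : g ∈ centZero)
    (h : ∀ x : leechLattice, Supp x.1 → g • x = x) : InKer g := by
  have hc : g ∈ CoTwoCent.cent :=
    CoTwoCent.mem_cent.2 ⟨h _ CoTwoCent.leechU_supp, mem_centZero.1 hg⟩
  refine (CoTwoCent.rep_eq_one_iff ⟨g, hc⟩).1 (Subtype.ext (Matrix.ext fun k l => ?_))
  show CoTwoCent.red (g • CoTwoCent.bV (CoTwoCent.ek l)) k = (1 : Symplectic.Mat 3 (ZMod 2)) k l
  rw [h _ (CoTwoCent.bV_supp _), CoTwoCent.red_basis, Pi.single_apply, Matrix.one_apply]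

lemma sign_fix {g : centZero} {s : leechLattice → leechLattice} {ε : ℤ}
    (hlin : ∀ (c : Fin 8 → ℤ), s (∑ j, c j • cV j) = ∑ j, c j • s (cV j))
    (h : ∀ j, g.1 • cV j = ε • s (cV j)) {x : leechLattice} (hx : Supp x.1) :
    g.1 • x = ε • s x := by
  rw [expand_c hx, hlin, CoTwoCent.co0_smul_sum, Finset.smul_sum]
  exact Finset.sum_congr rfl fun j _ => by rw [CoTwoCent.co0_smul_zsmul, h, smul_comm]

theorem oRep_eq_one_iff (g : centZero) :
    oRep g = 1 ↔ InKer g.1 ∨ InKer (negAll * g.1) := by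
  constructor
  · intro hg
    obtain ⟨ε, hε, he⟩ := uniform_sign g id cV_supp cV_facts.1 (fun _ _ => rfl) fun j => by
      have h := oRep_red g (cV_supp j)
      rw [hg] at h
      exact h.symm
    have hfix := fun {x : leechLattice} (hx : Supp x.1) =>
      sign_fix (s := id) (fun _ => rfl) he hx
    rcases hε with rfl | rfl
    · exact Or.inl (inKer_of_fix g.2 fun x hx => by rw [hfix hx, one_smul]; rfl)
    · refine Or.inr (inKer_of_fix (centZero.mul_mem negAll_mem g.2) fun x hx => ?_)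
      rw [mul_smul, hfix hx, negAll_apply, neg_one_zsmul, neg_neg]; rfl
  · intro h
    refine O.ext_app fun u => ?_
    obtain ⟨x, hx, rfl⟩ := exists_red u
    rw [oRep_red g hx]
    have hker : ∀ {k : Co0}, InKer k → k • x = x := fun {k} hk => by
      obtain ⟨σ, c, hσ, hc, rfl⟩ := hk
      exact CoTwoCent.monoAut_fix hσ hc hx
    rcases h with h | h
    · rw [hker h]; rfl
    · have h2 := hker h
      rw [mul_smul, negAll_apply, neg_eq_iff_eq_neg] at h2
      rw [h2]
      show red (-x) = red x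
      funext k
      rw [red, red, ← neg_one_zsmul x, CoTwoCent.qd_zsmul_left _ hx (aV_supp _), neg_one_mul,
        Int.cast_neg, ZMod.neg_eq_self_mod_two]

/-! ### No odd element -/

/-- The reflection in the fixed vector of Co2. -/
def reflU (x : leechLattice) : leechLattice := x + (-qd x Spor.leechU) • Spor.leechU

lemma reflU_facts :
    (∀ i, sqNorm (reflU (cV i)).1 = 32) ∧
    (∀ i j, qd (reflU (cV i)) (reflU (cV j)) = qd (cV i) (cV j)) ∧
    qd Spor.leechU Spor.leechU = 2 := by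
  decide +kernel

lemma reflU_supp {x : leechLattice} (hx : Supp x.1) : Supp (reflU x).1 := by
  rw [reflU, AddSubgroup.coe_add, AddSubgroup.coe_zsmul]
  exact hx.add (CoTwoCent.leechU_supp.zsmul _)

lemma reflU_sum (c : Fin 8 → ℤ) : reflU (∑ j, c j • cV j) = ∑ j, c j • reflU (cV j) := by
  simp only [reflU, smul_add, Finset.sum_add_distrib, smul_smul, ← Finset.sum_smul,
    CoTwoCent.qd_sum_left _ _ cV_supp CoTwoCent.leechU_supp, mul_neg, Finset.sum_neg_distrib]

lemma halfNorm_U : halfNorm Spor.leechU = 1 := by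
  rw [halfNorm, reflU_facts.2.2]; rfl

/-- The root vector modulo two. -/
def uZero : Fin 4 ⊕ Fin 4 → ZMod 2 := red Spor.leechU

lemma qPlus_uZero : qPlus uZero = 1 := by
  rw [uZero, form_red CoTwoCent.leechU_supp, halfNorm_U]

lemma flip_axis : ∀ p ∈ octSet, ∀ l : GolayPt,
    (reflU (axisVec p)).1 l = (Pi.single (CoTwoCent.pairSwap p)
      (if p = none ∨ p = some 0 then -8 else 8) : GolayPt → ℤ) l := by
  decide +kernel

lemma third_point : (some 1 : GolayPt) ∈ octSet ∧
    CoTwoCent.pairSwap (some 1) = some 1 ∧ ¬((some 1 : GolayPt) = none ∨ (some 1 : GolayPt) = some 0)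
    ∧ ∀ p ∈ octSet, CoTwoCent.pairSwap p ∈ octSet := by
  decide +kernel

theorem refl_not_mem : rO qPlus uZero ∉ oRep.range := by
  rintro ⟨g, hg⟩
  obtain ⟨ε, hε, he⟩ := uniform_sign g reflU (fun j => reflU_supp (cV_supp j)) reflU_facts.1
    reflU_facts.2.1 fun j => by
      have h := oRep_red g (cV_supp j)
      rw [hg, uZero, polar_red_refl (cV_supp j) CoTwoCent.leechU_supp halfNorm_U] at h
      exact h.symm
  have hfix := fun {x : leechLattice} (hx : Supp x.1) => sign_fix reflU_sum he hx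
  obtain ⟨k, hk, hkx⟩ : ∃ k ∈ centZero, ∀ x : leechLattice, Supp x.1 → k • x = reflU x := by
    rcases hε with rfl | rfl
    · exact ⟨g.1, g.2, fun x hx => by rw [hfix hx, one_smul]⟩
    · exact ⟨negAll * g.1, centZero.mul_mem negAll_mem g.2, fun x hx => by
        rw [mul_smul, hfix hx, negAll_apply, neg_one_zsmul, neg_neg]⟩
  have hax : ∀ p ∈ octSet, (k • axisVec p : leechLattice).1
      = Pi.single (CoTwoCent.pairSwap p) (if p = none ∨ p = some 0 then -8 else 8) := fun p hp =>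
    funext fun l => by rw [hkx _ (CoTwoCent.axis_supp hp)]; exact flip_axis p hp l
  have hcross : k ∈ crossStab := by
    have : k • axisVec (some 1) = axisVec (some 1) := by
      refine Subtype.ext ((hax _ third_point.1).trans ?_)
      rw [third_point.2.1, if_neg third_point.2.2.1]
      rfl
    rw [crossStab, MulAction.mem_stabilizer_iff, ← crossSet_axis (some 1), smul_crossSet, this]
  obtain ⟨σ, c, hσc⟩ := stdCross_stabiliser_eq_monomial k (mem_crossStab.1 hcross)
  have hσ : ∀ p ∈ octSet, σ.1 p = CoTwoCent.pairSwap p := by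
    intro p hp
    by_contra hne
    have h := congrFun (hax p hp) (σ.1 p)
    rw [hσc, monoAut_smul_apply, Equiv.symm_apply_apply, Pi.single_eq_of_ne hne,
      show (axisVec p).1 p = 8 from Pi.single_eq_same p 8] at h
    split at h <;> norm_num at h
  have hst : σ.1 ∈ setStab octSet := by
    refine ⟨σ.2, MulAction.mem_stabilizer_iff.2 (Finset.eq_of_subset_of_card_le ?_
      (by rw [Finset.card_smul_finset]))⟩
    intro q hq
    obtain ⟨p, hp, rfl⟩ := Finset.mem_smul_finset.1 hq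
    rw [Equiv.Perm.smul_def, hσ p hp]
    exact third_point.2.2.2 p hp
  have hres : restrictHom octSet ⟨σ.1, hst⟩
      = Equiv.swap ⟨none, CoTwoCent.oct_facts.2.1⟩ ⟨some 0, CoTwoCent.oct_facts.2.2.1⟩ := by
    ext x : 1
    apply Subtype.ext
    rw [restrictHom_apply]
    show σ.1 x.1 = _
    rw [hσ x.1 x.2, CoTwoCent.pairSwap]
    simp only [Equiv.swap_apply_def, Subtype.ext_iff]
    split_ifs <;> rfl
  have hmem : restrictHom octSet ⟨σ.1, hst⟩ ∈ alternatingGroup ↥octSet :=
    range_restrictHom CoTwoCent.octSet_mem_octads ▸ ⟨_, rfl⟩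
  rw [Equiv.Perm.mem_alternatingGroup, hres, Equiv.Perm.sign_swap (by simp)] at hmem
  exact absurd hmem (by decide)

/-! ### The words -/

/-- The element of a listed word. -/
noncomputable def wordG (i : Fin 5) : Co0 := wordEl (words.getD i.1 [])

/-- The listed images. -/
def imgOf (i : Fin 5) : Fin 8 → ℕ := imgs.getD i.1 0

lemma word_checks :
    (∀ i : Fin 5, (words.getD i.1 []).all atomOK = true) ∧
    (∀ (i : Fin 5) (j : Fin 8), chk (words.getD i.1 []) (aCode j) (imgOf i j) = true) ∧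
    (∀ (i : Fin 5) (j : Fin 8) (p : GolayPt), p ∉ octSet → dec (imgOf i j) p = 0) := by
  decide +kernel

lemma wordG_val (i : Fin 5) (j : Fin 8) : (wordG i • aV j).1 = dec (imgOf i j) :=
  chk_sound (word_checks.1 i) (word_checks.2.1 i j) rfl

lemma wordG_mem (i : Fin 5) : wordG i ∈ centZero := by
  refine mem_centZero.2 (CoTwoCent.commute_octInv_of_supp fun x hx => ?_)
  refine CoTwoCent.supp_of_nsmul (n := aDen) (by decide) ?_
  rw [← co0_smul_nsmul, expand_a hx, CoTwoCent.co0_smul_sum]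
  simp only [CoTwoCent.co0_smul_zsmul]
  refine CoTwoCent.supp_sum_zsmul _ _ fun j p hp => ?_
  rw [wordG_val]; exact word_checks.2.2 i j p hp

/-- The matrix read from listed images. -/
def matOf (n : Fin 8 → ℕ) : Matrix (Fin 4 ⊕ Fin 4) (Fin 4 ⊕ Fin 4) (ZMod 2) :=
  Matrix.of fun k l => ((dotInt (dec (n (ek4 l))) (dec (aCode (ek4 k.swap))) / 16 : ℤ) : ZMod 2)

lemma repMat_wordG (i : Fin 5) : repMat (wordG i) = matOf (imgOf i) := by
  refine Matrix.ext fun k l => ?_
  show ((dotInt (wordG i • aV (ek4 l)).1 (aV (ek4 k.swap)).1 / 16 : ℤ) : ZMod 2) = _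
  rw [wordG_val]
  rfl

/-- The vector of a bit code. -/
def bitVec (n : ℕ) : Fin 4 ⊕ Fin 4 → ZMod 2 := fun k => bif n.testBit (ek4 k).1 then 1 else 0

/-- The polar form as a sum. -/
def polF (u x : Fin 4 ⊕ Fin 4 → ZMod 2) : ZMod 2 :=
  ∑ i : Fin 4, (u (.inl i) * x (.inr i) + x (.inl i) * u (.inr i))

lemma rO_eq {u : Fin 4 ⊕ Fin 4 → ZMod 2} (hu : qPlus u = 1) (x : Fin 4 ⊕ Fin 4 → ZMod 2) :
    (rO qPlus u : (Fin 4 ⊕ Fin 4 → ZMod 2) ≃ₗ[ZMod 2] _) x = x - polF u x • u := by
  rw [rO_app, hu, inv_one, one_mul, polar_formPlus]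
  rfl

lemma tree_checks :
    (∀ i : Fin 120, i.1 = 0 ∧ bitVec (tree.getD i.1 (0, 0, 0)).1 = uZero ∨
      ((tree.getD i.1 (0, 0, 0)).2.1 < i.1 ∧ ∃ g : Fin 4, g.1 = (tree.getD i.1 (0, 0, 0)).2.2 ∧
        matOf (imgOf g.castSucc) *ᵥ bitVec (tree.getD (tree.getD i.1 (0, 0, 0)).2.1 (0, 0, 0)).1
          = bitVec (tree.getD i.1 (0, 0, 0)).1)) ∧
    (∀ u : Fin 4 ⊕ Fin 4 → ZMod 2, quadFormPlus 4 (ZMod 2) u ≠ 1 ∨
      ∃ i : Fin 120, bitVec (tree.getD i.1 (0, 0, 0)).1 = u) ∧
    (∀ g : Fin 4, g = 3 ∨ matOf (imgOf g.castSucc) *ᵥ uZero = uZero) ∧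
    (∀ x : Fin 4 ⊕ Fin 4 → ZMod 2,
      (matOf (imgOf 4) *ᵥ x) = (x - polF uZero x • uZero)
        - polF (matOf (imgOf 3) *ᵥ uZero) (x - polF uZero x • uZero) •
          (matOf (imgOf 3) *ᵥ uZero)) := by
  decide +kernel

/-- The element of a word in the orthogonal group. -/
noncomputable def wordO (i : Fin 5) : O qPlus := oRep ⟨wordG i, wordG_mem i⟩

lemma wordO_app (i : Fin 5) (x : Fin 4 ⊕ Fin 4 → ZMod 2) :
    (wordO i : (Fin 4 ⊕ Fin 4 → ZMod 2) ≃ₗ[ZMod 2] _) x = matOf (imgOf i) *ᵥ x := by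
  rw [wordO, oRep_apply, repMat_wordG]

theorem pair_mem {u : Fin 4 ⊕ Fin 4 → ZMod 2} (hu : qPlus u = 1) :
    rO qPlus u * rO qPlus uZero ∈ oRep.range ∧
      ∃ m ∈ oRep.range, (m : (Fin 4 ⊕ Fin 4 → ZMod 2) ≃ₗ[ZMod 2] _) uZero = u := by
  have hbase : ∀ g : Fin 4,
      rO qPlus ((wordO g.castSucc : (Fin 4 ⊕ Fin 4 → ZMod 2) ≃ₗ[ZMod 2] _) uZero)
        * rO qPlus uZero ∈ oRep.range := by
    intro g
    rcases tree_checks.2.2.1 g with rfl | h
    · refine ⟨⟨wordG 4, wordG_mem 4⟩, O.ext_app fun x => ?_⟩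
      have hw : qPlus ((wordO 3 : (Fin 4 ⊕ Fin 4 → ZMod 2) ≃ₗ[ZMod 2] _) uZero) = 1 := by
        rw [O.map_app, qPlus_uZero]
      show ((wordO 4 : O qPlus) : (Fin 4 ⊕ Fin 4 → ZMod 2) ≃ₗ[ZMod 2] (Fin 4 ⊕ Fin 4 → ZMod 2)) x = _
      rw [Subgroup.coe_mul, mul_app]
      show _ = ((rO qPlus ((wordO 3 : (Fin 4 ⊕ Fin 4 → ZMod 2) ≃ₗ[ZMod 2] _) uZero) : O qPlus) :
        (Fin 4 ⊕ Fin 4 → ZMod 2) ≃ₗ[ZMod 2] (Fin 4 ⊕ Fin 4 → ZMod 2)) _
      rw [rO_eq hw, rO_eq qPlus_uZero, wordO_app, wordO_app]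
      exact tree_checks.2.2.2 x
    · rw [wordO_app, h, rO_mul_self]
      exact one_mem _
  obtain ⟨i, rfl⟩ := (tree_checks.2.1 u).resolve_left (not_not.2 hu)
  clear hu
  obtain ⟨n, hn⟩ := i
  induction n using Nat.strong_induction_on with
  | _ n ih =>
    rcases tree_checks.1 ⟨n, hn⟩ with ⟨-, h0⟩ | ⟨hp, g, -, hg⟩
    · rw [h0, rO_mul_self]
      exact ⟨one_mem _, 1, one_mem _, rfl⟩
    · simp only at hp hg
      obtain ⟨hmem, m, hm, hmu⟩ := ih _ hp (lt_trans hp hn)
      set M := wordO g.castSucc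
      have hM : M ∈ oRep.range := ⟨_, rfl⟩
      have happ : (M : (Fin 4 ⊕ Fin 4 → ZMod 2) ≃ₗ[ZMod 2] _)
          (bitVec (tree.getD (tree.getD n (0, 0, 0)).2.1 (0, 0, 0)).1)
          = bitVec (tree.getD n (0, 0, 0)).1 := by rw [wordO_app]; exact hg
      refine ⟨?_, M * m, mul_mem hM hm, by rw [Subgroup.coe_mul, mul_app, hmu, happ]⟩
      have key : rO qPlus (bitVec (tree.getD n (0, 0, 0)).1) * rO qPlus uZero
          = (M * (rO qPlus (bitVec (tree.getD (tree.getD n (0, 0, 0)).2.1 (0, 0, 0)).1)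
              * rO qPlus uZero) * M⁻¹)
            * (rO qPlus ((M : (Fin 4 ⊕ Fin 4 → ZMod 2) ≃ₗ[ZMod 2] _) uZero) * rO qPlus uZero) := by
        rw [← happ, ← conj_rO, ← conj_rO M uZero]
        have hr := rO_mul_self qPlus uZero
        have hi := rO_inv qPlus uZero
        generalize rO qPlus uZero = r at hr hi ⊢
        generalize rO qPlus (bitVec (tree.getD (tree.getD n (0, 0, 0)).2.1 (0, 0, 0)).1) = s
        calc M * s * M⁻¹ * r = M * (s * (r * r)) * M⁻¹ * r := by rw [hr, mul_one]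
          _ = _ := by simp only [mul_assoc, inv_mul_cancel_left]
      rw [key]
      exact mul_mem (mul_mem (mul_mem hM hmem) (inv_mem hM)) (hbase g)

lemma zmod_two : ∀ c : ZMod 2, c = 0 ∨ c = 1 := by decide

/-- Reflection pairs generate with one reflection. -/
theorem mem_or_mul_mem (K : Subgroup (O qPlus))
    (hK : ∀ u, qPlus u = 1 → rO qPlus u * rO qPlus uZero ∈ K) (a : O qPlus) :
    a ∈ K ∨ a * rO qPlus uZero ∈ K := by
  have hgen : reflGroup qPlus = ⊤ :=
    reflGroup_eq_top (formPlus_nondeg _ _) (Or.inr (by rw [finrank_formPlus]; norm_num))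
  have ha : a ∈ reflGroup qPlus := by rw [hgen]; trivial
  have hstep : ∀ (y : O qPlus) (v : Fin 4 ⊕ Fin 4 → ZMod 2),
      (y ∈ K ∨ y * rO qPlus uZero ∈ K) →
        (y * rO qPlus v ∈ K ∨ y * rO qPlus v * rO qPlus uZero ∈ K) := by
    intro y v hy
    rcases zmod_two (qPlus v) with h0 | h1
    · rwa [rO_of_singular h0, mul_one]
    · rcases hy with hy | hy
      · right; rw [mul_assoc]; exact mul_mem hy (hK v h1)
      · left
        have h := mul_mem hy (inv_mem (hK v h1))
        rwa [mul_inv_rev, rO_inv, rO_inv, ← mul_assoc, mul_assoc y, rO_mul_self, mul_one] at h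
  induction ha using Subgroup.closure_induction_right with
  | one => exact Or.inl (one_mem _)
  | mul_right y _ z hz ih =>
    obtain ⟨v, rfl⟩ := hz
    exact hstep y v ih
  | mul_inv_cancel y _ z hz ih =>
    obtain ⟨v, rfl⟩ := hz
    rw [rO_inv]
    exact hstep y v ih

theorem range_oRep : oRep.range = commutator (O qPlus) := by
  set r := rO qPlus uZero with hr
  have hrr : r * r = 1 := rO_mul_self _ _
  have hsplit := mem_or_mul_mem oRep.range fun u hu => (pair_mem hu).1
  have hidx : oRep.range.index = 2 := by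
    refine Subgroup.index_eq_two_iff.2 ⟨r, fun b => ?_⟩
    rcases hsplit b with h | h
    · refine Or.inr ⟨h, fun h' => refl_not_mem ?_⟩
      have := mul_mem (inv_mem h) h'
      rwa [inv_mul_cancel_left] at this
    · refine Or.inl ⟨h, fun h' => refl_not_mem ?_⟩
      have := mul_mem (inv_mem h') h
      rwa [inv_mul_cancel_left] at this
  haveI := Subgroup.normal_of_index_eq_two hidx
  have hle : commutator (O qPlus) ≤ oRep.range := by
    haveI : IsMulCommutative (O qPlus ⧸ oRep.range) := by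
      have hc : Nat.card (O qPlus ⧸ oRep.range) = 2 := hidx
      haveI : IsCyclic (O qPlus ⧸ oRep.range) :=
        @isCyclic_of_prime_card _ _ 2 ⟨Nat.prime_two⟩ hc
      exact ⟨⟨fun a b => by
        letI := IsCyclic.commGroup (α := O qPlus ⧸ oRep.range)
        exact mul_comm a b⟩⟩
    exact (Subgroup.Normal.quotient_commutative_iff_commutator_le).1 inferInstance
  refine le_antisymm ?_ hle
  have hpair : ∀ u, qPlus u = 1 → rO qPlus u * rO qPlus uZero ∈ commutator (O qPlus) := by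
    intro u hu
    obtain ⟨m, -, rfl⟩ := (pair_mem hu).2
    rw [← conj_rO]
    have : m * r * m⁻¹ * r = ⁅m, r⁆ := by
      rw [commutatorElement_def, show r⁻¹ = r from rO_inv _ _]
    rw [this]
    exact Subgroup.commutator_mem_commutator (Subgroup.mem_top _) (Subgroup.mem_top _)
  intro h hh
  rcases mem_or_mul_mem (commutator (O qPlus)) hpair h with h1 | h1
  · exact h1
  · exfalso
    refine refl_not_mem ?_
    have := mul_mem (inv_mem hh) (hle h1)
    rwa [inv_mul_cancel_left] at this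

end Cfsg.Agent.H92.CoOneCent
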