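import Cfsg.Agent.H92.CoThreeOrbitData

/-!
Kernel check of the orbit tree for Co3 on 11178 vectors.
-/

set_option autoImplicit false

namespace Cfsg.Agent.H92.LeechOrbit

theorem co3Cert_ok : certOK co3Cert = true := by decide +kernel

end Cfsg.Agent.H92.LeechOrbit
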