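import Cfsg.Agent.H92.CoThreeOrbit
import Cfsg.Agent.H92.LeechFrames

/-!
The stabiliser of a norm 48 vector on 11178 minimal vectors, and moving pairs defining HS.
-/

set_option autoImplicit false

namespace Cfsg.Agent.H92.LeechOrbit

open Cfsg Cfsg.Agent.Golay

/-- The configuration of Co3 acting on 11178 points. -/
theorem frame_co3 (u : leechLattice) (hu : sqNorm u.1 = 48) :
    ∃ k : Co0, Frame co3Cert [(u, -16)] k := by
  obtain ⟨k, hk⟩ := exists_move_fortyeight u hu
  refine ⟨k, ?_⟩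
  show [((k • u : leechLattice).1, (-16 : ℤ))] = _
  rw [hk]
  rfl

theorem co3_transitive (u x y : leechLattice) (hu : sqNorm u.1 = 48)
    (hx : sqNorm x.1 = 32) (hxd : dotInt u.1 x.1 = -16)
    (hy : sqNorm y.1 = 32) (hyd : dotInt u.1 y.1 = -16) :
    ∃ g : Co0, g • u = u ∧ g • x = y := by
  obtain ⟨k, hF⟩ := frame_co3 u hu
  obtain ⟨g, hg, he⟩ := hF.transitive co3Cert_ok co3Cert_cover (x := x) (y := y)
    ⟨hx, by simpa using hxd⟩ ⟨hy, by simpa using hyd⟩
  exact ⟨g, hg _ (List.mem_singleton_self _), he⟩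

theorem exists_move_pair (v w : leechLattice) (hv : sqNorm v.1 = 48) (hw : sqNorm w.1 = 48)
    (hvw : dotInt v.1 w.1 = -32) : ∃ k : Co0, k • v = refU ∧ k • w = refW := by
  obtain ⟨k, hk⟩ := exists_move_fortyeight v hv
  have hsum := (sqNorm_add_sub v.1 w.1).1
  have hxn : sqNorm (-(v + w) : leechLattice).1 = 32 := by
    rw [AddSubgroup.coe_neg, AddSubgroup.coe_add]
    rw [show sqNorm (-(v.1 + w.1)) = sqNorm (v.1 + w.1) from Finset.sum_congr rfl fun i _ => by
      rw [Pi.neg_apply, neg_sq]]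
    omega
  have hxd : dotInt v.1 (-(v + w) : leechLattice).1 = -16 := by
    rw [AddSubgroup.coe_neg, AddSubgroup.coe_add]
    have e : dotInt v.1 (-(v.1 + w.1)) = -(sqNorm v.1 + dotInt v.1 w.1) := by
      rw [dotInt, dotInt, sqNorm, ← Finset.sum_add_distrib, ← Finset.sum_neg_distrib]
      refine Finset.sum_congr rfl fun i _ => ?_
      rw [Pi.neg_apply, Pi.add_apply]; ring
    omega
  obtain ⟨g, g1, g2⟩ := co3_transitive refU (k • -(v + w)) refX ref_facts.2.1.1
    (by rw [co0_sqNorm]; exact hxn) (by rw [← hk, co0_dot]; exact hxd) ref_facts.2.1.2.2.2.2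
    ref_facts.2.2.1.1
  have h1 : (g * k) • v = refU := by rw [mul_smul, hk, g1]
  refine ⟨g * k, h1, ?_⟩
  have h2 : (g * k) • -(v + w) = refX := by rw [mul_smul, g2]
  have hw' : w = -(-(v + w)) - v := by abel
  rw [hw', co0_smul_sub, co0_smul_neg, h2, h1]
  refine Subtype.ext (funext fun l => ?_)
  rw [AddSubgroup.coe_sub, AddSubgroup.coe_neg, Pi.sub_apply, Pi.neg_apply]
  exact (ref_facts.2.2.2 l).symm

end Cfsg.Agent.H92.LeechOrbit
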