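import Cfsg.Agent.H92.LeechOrbit
import Cfsg.Agent.Golay.PairOrbit

/-!
Completeness of an orbit certificate: a pruned enumeration of all minimal vectors by shape.
-/

set_option autoImplicit false

namespace Cfsg.Agent.H92.LeechOrbit

open Cfsg Cfsg.Agent.Golay
open scoped Pointwise

/-- Weights packing all inner products of a certificate into one integer. -/
def weightAt (refs : List (ℕ × ℤ)) (i : ℕ) : ℤ :=
  refs.foldr (fun r acc => ((fld r.1 i : ℤ) - 8) + 65536 * acc) 0

/-- The packed target. -/
def goalOf (refs : List (ℕ × ℤ)) : ℤ :=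
  refs.foldr (fun r acc => r.2 + 65536 * acc) 0

lemma weight_sum : ∀ (refs : List (ℕ × ℤ)) (x : GolayPt → ℤ),
    (∀ r ∈ refs, dotInt (dec r.1) x = r.2) →
      ∑ i ∈ Finset.range 24, x (pt i) * weightAt refs i = goalOf refs
  | [], x, _ => by simp [weightAt, goalOf]
  | r :: rest, x, h => by
    have ih := weight_sum rest x fun s hs => h s (List.mem_cons_of_mem _ hs)
    have h1 : ∑ i ∈ Finset.range 24, x (pt i) * ((fld r.1 i : ℤ) - 8) = r.2 := by
      rw [← h r (by simp), dotInt, sum_points]
      exact Finset.sum_congr rfl fun i hi => by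
        rw [dec, idx_pt i (Finset.mem_range.1 hi)]; ring
    calc ∑ i ∈ Finset.range 24, x (pt i) * weightAt (r :: rest) i
        = ∑ i ∈ Finset.range 24, (x (pt i) * ((fld r.1 i : ℤ) - 8)
            + 65536 * (x (pt i) * weightAt rest i)) :=
          Finset.sum_congr rfl fun i _ => by
            show x (pt i) * (((fld r.1 i : ℤ) - 8) + 65536 * weightAt rest i) = _
            ring
      _ = goalOf (r :: rest) := by
          rw [Finset.sum_add_distrib, ← Finset.mul_sum, h1, ih]
          rfl

/-- Entry `i` of a packed table with 80-bit entries. -/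
def tab (P i : ℕ) : ℕ := (P >>> (80 * i)) &&& 1208925819614629174706175

/-- Packed offset weights: `P` holds `B + 2W` and `M` holds `B - 2W`. -/
def weightsOK (refs : List (ℕ × ℤ)) (B P M : ℕ) : Bool :=
  (List.range 24).all fun i => decide ((tab P i : ℤ) = B + 2 * weightAt refs i) &&
    decide ((tab M i : ℤ) = B - 2 * weightAt refs i)

/-- All sign choices on a list of positions, values `±2`. -/
noncomputable def sgAll (P M G : ℕ) (f : ℕ → Bool) (L : List ℕ) : ℕ → ℕ → ℤ → Bool :=
  List.rec (motive := fun _ => ℕ → ℕ → ℤ → Bool)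
    (fun k n c => bif Nat.beq n G then !(k % 2 == 0) || f (eights + c).toNat else true)
    (fun i _ ih k n c =>
      bif ih k (Nat.add n (tab P i)) (c + 2 * 16 ^ i) then
        ih (k + 1) (Nat.add n (tab M i)) (c - 2 * 16 ^ i)
      else false) L

lemma sgAll_cons (P M G : ℕ) (f : ℕ → Bool) (i : ℕ) (r : List ℕ) (k n : ℕ) (c : ℤ) :
    sgAll P M G f (i :: r) k n c =
      (sgAll P M G f r k (n + tab P i) (c + 2 * 16 ^ i) &&
        sgAll P M G f r (k + 1) (n + tab M i) (c - 2 * 16 ^ i)) := by
  show (bif sgAll P M G f r k (n + tab P i) (c + 2 * 16 ^ i) then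
    sgAll P M G f r (k + 1) (n + tab M i) (c - 2 * 16 ^ i) else false) = _
  cases sgAll P M G f r k (n + tab P i) (c + 2 * 16 ^ i) <;> rfl

lemma sgAll_spec {B P M G : ℕ} {W : ℕ → ℤ} {f : ℕ → Bool} (x : ℕ → ℤ) : ∀ (L : List ℕ)
    (k n : ℕ) (c : ℤ), sgAll P M G f L k n c = true →
    (∀ i ∈ L, (tab P i : ℤ) = B + 2 * W i ∧ (tab M i : ℤ) = B - 2 * W i) →
    (∀ i ∈ L, x i = 2 ∨ x i = -2) → (k + L.countP fun i => decide (x i = -2)) % 2 = 0 →
    (n : ℤ) + (L.length : ℤ) * B + (L.map fun i => x i * W i).sum = G →
      f (eights + (c + (L.map fun i => x i * 16 ^ i).sum)).toNat = true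
  | [], k, n, c, h, _, _, hk, ha => by
    simp only [List.countP_nil, add_zero] at hk
    simp only [List.map_nil, List.sum_nil, add_zero, List.length_nil, Nat.cast_zero,
      zero_mul] at ha
    have hn : n = G := by exact_mod_cast ha
    simpa [sgAll, hk, hn] using h
  | i :: r, k, n, c, h, hT, hx, hk, ha => by
    rw [sgAll_cons, Bool.and_eq_true] at h
    have hr := fun j hj => hx j (List.mem_cons_of_mem _ hj)
    have hT' := fun j hj => hT j (List.mem_cons_of_mem _ hj)
    obtain ⟨tP, tM⟩ := hT i (by simp)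
    simp only [List.map_cons, List.sum_cons, List.length_cons] at ha ⊢
    rw [List.countP_cons] at hk
    push_cast at ha
    rcases hx i (by simp) with e | e
    · have := sgAll_spec (B := B) (W := W) x r k _ _ h.1 hT' hr (by simpa [e] using hk)
        (by push_cast; rw [tP, ← ha, e]; ring)
      rw [e]; rwa [← add_assoc c]
    · have := sgAll_spec (B := B) (W := W) x r (k + 1) _ _ h.2 hT' hr
        (by simpa [e, add_comm, add_assoc, add_left_comm] using hk)
        (by push_cast; rw [tM, ← ha, e]; ring)
      rw [e]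
      rwa [← add_assoc c, show c + -2 * (16 : ℤ) ^ i = c - 2 * 16 ^ i by ring]

/-- The bits of a mask. -/
def bitsOf (m : ℕ) : List ℕ := (List.range 24).filter fun i => m.testBit i

/-- Signed sum over a code word. -/
def signBase (g : ℕ → ℤ) (c : ℕ) : ℤ :=
  (List.range 24).foldl (fun acc i => bif c.testBit i then acc - g i else acc + g i) 0

lemma signBase_eq (g : ℕ → ℤ) (c : ℕ) :
    signBase g c = ∑ i ∈ Finset.range 24, (if c.testBit i then -1 else 1) * g i := by
  rw [signBase]
  generalize 24 = n
  induction n with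
  | zero => simp
  | succ n ih =>
    rw [List.range_succ, List.foldl_append, Finset.sum_range_succ, ← ih, List.foldl_cons,
      List.foldl_nil]
    cases c.testBit n <;> simp [sub_eq_add_neg]

/-- A bit, by shifting. -/
def bitAt (c i : ℕ) : Bool := Nat.beq ((c >>> i) &&& 1) 1

lemma bitAt_eq (c i : ℕ) : bitAt c i = c.testBit i := by
  have h : (c >>> i) % 2 = 0 ∨ (c >>> i) % 2 = 1 := Nat.mod_two_eq_zero_or_one _
  rw [bitAt, Nat.and_one_is_mod, Nat.testBit_eq_decide_div_mod_eq, ← Nat.shiftRight_eq_div_pow]
  rcases h with h | h <;> simp [h] <;> rfl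

/-- Offset signed sum of doubled weights over a code word. -/
noncomputable def oddBase (P M c : ℕ) (L : List ℕ) : ℕ :=
  List.rec (motive := fun _ => ℕ) 0
    (fun i _ ih => Nat.add (bif bitAt c i then tab M i else tab P i) ih) L

lemma oddBase_eq {B P M : ℕ} {W : ℕ → ℤ} (c : ℕ) : ∀ L : List ℕ,
    (∀ i ∈ L, (tab P i : ℤ) = B + 2 * W i ∧ (tab M i : ℤ) = B - 2 * W i) →
    (oddBase P M c L : ℤ) = (L.length : ℤ) * B +
      2 * (L.map fun i => (if c.testBit i then -1 else 1) * W i).sum
  | [], _ => by simp [oddBase]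
  | i :: r, h => by
    obtain ⟨tP, tM⟩ := h i (by simp)
    show (((bif bitAt c i then tab M i else tab P i) + oddBase P M c r : ℕ) : ℤ) = _
    rw [bitAt_eq]
    rw [Nat.cast_add, oddBase_eq c r fun j hj => h j (List.mem_cons_of_mem _ hj),
      List.length_cons, List.map_cons, List.sum_cons]
    cases c.testBit i <;> simp [tP, tM] <;> ring

/-- The code of a vector with two nonzero entries. -/
def twoCode (i j : ℕ) (a b : ℤ) : ℕ := (eights + (a * 16 ^ i + b * 16 ^ j)).toNat

/-- Shape with two nonzero entries. -/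
def fourOK (refs : List (ℕ × ℤ)) (f : ℕ → Bool) : Bool :=
  (List.range 24).all fun i => (List.range 24).all fun j => (i == j) ||
    ([(4 : ℤ), -4].all fun a => [(4 : ℤ), -4].all fun b =>
      !(a * weightAt refs i + b * weightAt refs j == goalOf refs) || f (twoCode i j a b))

/-- Shape supported on an octad; `G` is `8B + T`. -/
noncomputable def octOK (P M G : ℕ) (f : ℕ → Bool) (L : List ℕ) : Bool :=
  L.all fun o => sgAll P M G f (bitsOf o) 0 0 0

/-- Odd shape; `H` is `28B + 2T`. -/
noncomputable def oddOK (P M H : ℕ) (f : ℕ → Bool) (L : List ℕ) : Bool :=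
  L.all fun c =>
    let n := oddBase P M c [0, 1, 2, 3, 4, 5, 6, 7, 8, 9, 10, 11, 12, 13, 14, 15, 16, 17, 18, 19,
      20, 21, 22, 23]
    [0, 1, 2, 3, 4, 5, 6, 7, 8, 9, 10, 11, 12, 13, 14, 15, 16, 17, 18, 19, 20, 21, 22, 23].all fun i =>
      bif bitAt c i then
        bif Nat.beq (Nat.add n (4 * tab P i)) H then
          f (eights + (signBase (fun k => 16 ^ k) c + 4 * 16 ^ i)).toNat
        else true
      else
        bif Nat.beq (Nat.add n (4 * tab M i)) H then
          f (eights + (signBase (fun k => 16 ^ k) c - 4 * 16 ^ i)).toNat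
        else true

/-- The parameters of a completeness check. -/
structure CoverData (C : Cert) where
  B : ℕ
  P : ℕ
  M : ℕ
  G : ℕ
  H : ℕ
  weights : (weightsOK C.refs B P M && decide ((G : ℤ) = 8 * B + goalOf C.refs) &&
    decide ((H : ℤ) = 28 * B + 2 * goalOf C.refs)) = true
  four : fourOK C.refs (found C) = true
  oct : octOK P M G (found C) octadList = true
  odd : oddOK P M H (found C) codeList = true

lemma sum_bitsOf (m : ℕ) (g : ℕ → ℤ) (h : ∀ i < 24, m.testBit i = false → g i = 0) :
    ((bitsOf m).map g).sum = ∑ i ∈ Finset.range 24, g i := by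
  rw [← List.sum_toFinset _ (show (bitsOf m).Nodup from List.nodup_range.filter _)]
  refine Finset.sum_subset (fun i hi => ?_) fun i hi hni => ?_
  · rw [List.mem_toFinset, bitsOf, List.mem_filter] at hi
    exact Finset.mem_range.2 (List.mem_range.1 hi.1)
  · refine h i (Finset.mem_range.1 hi) ?_
    rw [List.mem_toFinset, bitsOf, List.mem_filter, not_and, List.mem_range, Bool.not_eq_true] at hni
    exact hni (Finset.mem_range.1 hi)

lemma sum_two_point {i j : ℕ} (hi : i < 24) (hj : j < 24) (hij : i ≠ j) (a b : ℤ) (g : ℕ → ℤ)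
    {x : ℕ → ℤ} (xi : x i = a) (xj : x j = b) (x0 : ∀ k < 24, k ≠ i → k ≠ j → x k = 0) :
    ∑ k ∈ Finset.range 24, x k * g k = a * g i + b * g j := by
  have hd : ∀ k ∈ Finset.range 24, k ∉ ({i, j} : Finset ℕ) → x k * g k = 0 := by
    intro k hk hn
    simp only [Finset.mem_insert, Finset.mem_singleton, not_or] at hn
    rw [x0 k (Finset.mem_range.1 hk) hn.1 hn.2, zero_mul]
  rw [← Finset.sum_subset (s₁ := ({i, j} : Finset ℕ)) (by
      intro k hk
      simp only [Finset.mem_insert, Finset.mem_singleton] at hk
      rcases hk with rfl | rfl <;> exact Finset.mem_range.2 ‹_›) hd,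
    Finset.sum_pair hij, xi, xj]

theorem cover_of_data {C : Cert} (D : CoverData C) : Cover C := by
  obtain ⟨B, P, M, G, H, hw, h4, h2, h3⟩ := D
  simp only [weightsOK, Bool.and_eq_true, decide_eq_true_eq, List.all_eq_true] at hw
  obtain ⟨⟨hW, hG⟩, hH⟩ := hw
  intro x hx hn hd
  set X : ℕ → ℤ := fun i => x (pt i) with hX
  set T := goalOf C.refs with hT
  have hsum : ∑ i ∈ Finset.range 24, X i * weightAt C.refs i = T := weight_sum C.refs x hd
  have fin : ∀ {m : ℕ}, found C m = true → m = code24 X → (∀ i < 24, -8 ≤ X i ∧ X i ≤ 7) →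
      ∃ i < C.N, dec (C.code i) = x := by
    intro m hm e hb
    obtain ⟨i, hi, hc⟩ := found_spec hm
    refine ⟨i, hi, ?_⟩
    rw [hc, e]
    funext p
    rw [dec_code24 hb, hX]
    simp only [pt_idx]
  rcases min_shape hx hn with ⟨p, q, hpq, hp, hq, h0⟩ | ⟨o, ho, hin, hout⟩ | ⟨p, hp, h1⟩
  · have hi := idx_lt p; have hj := idx_lt q
    have hne : idx p ≠ idx q := fun e => hpq (idx_injective e)
    have x0 : ∀ k < 24, k ≠ idx p → k ≠ idx q → X k = 0 := fun k hk a b =>
      h0 _ (fun e => a (by rw [← e, idx_pt k hk])) (fun e => b (by rw [← e, idx_pt k hk]))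
    have xi : X (idx p) = x p := by simp only [hX, pt_idx]
    have xj : X (idx q) = x q := by simp only [hX, pt_idx]
    have hh := List.all_eq_true.1 (List.all_eq_true.1 h4 _ (List.mem_range.2 hi)) _
      (List.mem_range.2 hj)
    rw [show (idx p == idx q) = false by rw [beq_eq_false_iff_ne]; exact hne, Bool.false_or] at hh
    have hh' := List.all_eq_true.1 (List.all_eq_true.1 hh (x p) (by simpa using hp)) (x q)
      (by simpa using hq)
    rw [← sum_two_point hi hj hne _ _ _ xi xj x0, hsum, hT, beq_self_eq_true, Bool.not_true,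
      Bool.false_or] at hh'
    refine fin hh' ?_ fun k hk => ?_
    · rw [twoCode, code24, sum_two_point hi hj hne _ _ _ xi xj x0]
    · by_cases a : k = idx p
      · subst a; rw [xi]; omega
      by_cases b : k = idx q
      · subst b; rw [xj]; omega
      rw [x0 k hk a b]; omega
  · set m := maskOf o with hm
    have hbit : ∀ i < 24, m.testBit i = true ↔ pt i ∈ o := fun i hi => by
      rw [hm, testBit_maskOf]; simp [hi]
    have hz : ∀ i < 24, m.testBit i = false → X i = 0 := fun i hi hb =>
      hout _ fun hmem => by rw [(hbit i hi).2 hmem] at hb; exact Bool.noConfusion hb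
    have hL : ∀ i ∈ bitsOf m, X i = 2 ∨ X i = -2 := fun i hi => by
      rw [bitsOf, List.mem_filter, List.mem_range] at hi
      exact hin _ ((hbit i hi.1).1 hi.2)
    have hlen : (bitsOf m).length = 8 := by
      have he : (bitsOf m).toFinset = o.image idx := by
        ext i
        simp only [bitsOf, List.mem_toFinset, List.mem_filter, List.mem_range, Finset.mem_image]
        constructor
        · exact fun hi => ⟨pt i, (hbit i hi.1).1 hi.2, idx_pt i hi.1⟩
        · rintro ⟨l, hl, rfl⟩
          exact ⟨idx_lt l, (hbit _ (idx_lt l)).2 (by rwa [pt_idx])⟩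
      have hc : (bitsOf m).toFinset.card = (bitsOf m).length :=
        List.toFinset_card_of_nodup (List.nodup_range.filter _)
      rw [← hc, he, Finset.card_image_of_injective _ idx_injective]
      exact ho.2
    have hcnt : ∀ L : List ℕ, (∀ i ∈ L, X i = 2 ∨ X i = -2) →
        (L.map X).sum = 2 * (L.length : ℤ) - 4 * (L.countP fun i => decide (X i = -2) : ℕ) := by
      intro L
      induction L with
      | nil => simp
      | cons a L ih =>
        intro hh
        rw [List.map_cons, List.sum_cons, ih fun i hi => hh i (List.mem_cons_of_mem _ hi),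
          List.length_cons, List.countP_cons]
        rcases hh a (by simp) with e | e <;> simp [e] <;> omega
    obtain ⟨mm, hm1, hm2, -⟩ := mem_leech_iff.1 hx
    have htot : ∑ l, x l = ((bitsOf m).map X).sum := by rw [sum_points, sum_bitsOf m X hz]
    obtain ⟨l0, hl0⟩ : o.Nonempty := Finset.card_pos.1 (by rw [ho.2]; norm_num)
    have hev : mm % 2 = 0 := by
      have := hm1 l0; rcases hin l0 hl0 with e | e <;> omega
    rw [htot, hcnt _ hL, hlen] at hm2
    have hmem : m ∈ octadList := mem_octads_iff.1 ho
    have hs : ∀ g : ℕ → ℤ, ((bitsOf m).map fun i => X i * g i).sum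
        = ∑ i ∈ Finset.range 24, X i * g i := fun g =>
      sum_bitsOf m _ fun i hi hb => by rw [hz i hi hb, zero_mul]
    have := sgAll_spec (B := B) (W := weightAt C.refs) X (bitsOf m) 0 0 0
      (List.all_eq_true.1 h2 m hmem)
      (fun i hi => hW i (List.mem_range.2 (List.mem_range.1 (List.mem_filter.1 hi).1))) hL
      (by omega) (by rw [hs, hsum, hlen]; push_cast; omega)
    refine fin this ?_ fun k hk => ?_
    · rw [code24, zero_add, hs]
    · cases hb : m.testBit k
      · rw [hz k hk hb]; omega
      · rcases hin _ ((hbit k hk).1 hb) with e | e <;> simp only [hX, e] <;> omega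
  · obtain ⟨-, -, -, hdig⟩ := mem_leech_iff.1 hx
    set c := wordMask (digitWord x) with hc
    have hi := idx_lt p
    have hbit : ∀ i < 24, c.testBit i = true ↔ ((x (pt i) / 2 : ℤ) : ZMod 2) ≠ 0 := fun i hi => by
      rw [hc, wordMask, testBit_maskOf]; simp [hi, mem_support₂, digitWord]
    have hval : ∀ i < 24, X i = (if c.testBit i then -1 else 1) +
        (if i = idx p then (if c.testBit i then 4 else -4) else 0) := by
      intro i hi
      have hb := hbit i hi
      by_cases e : i = idx p
      · subst e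
        rw [if_pos rfl]
        simp only [hX, pt_idx] at hb ⊢
        rcases hp with v | v <;> rw [v] at hb ⊢ <;>
          cases hbb : c.testBit (idx p) <;> rw [hbb] at hb <;> first | (simp; done) | (simp at hb; done) | (revert hb; decide)
      · rw [if_neg e, add_zero]
        simp only [hX] at hb ⊢
        rcases h1 (pt i) (fun h => e (by rw [← h, idx_pt i hi])) with v | v <;> rw [v] at hb ⊢ <;>
          cases hbb : c.testBit i <;> rw [hbb] at hb <;> first | (simp; done) | (simp at hb; done) | (revert hb; decide)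
    have hlin : ∀ g : ℕ → ℤ, ∑ i ∈ Finset.range 24, X i * g i
        = signBase g c + (if c.testBit (idx p) then 4 else -4) * g (idx p) := by
      intro g
      rw [signBase_eq, Finset.sum_congr rfl fun i hi => by
        rw [hval i (Finset.mem_range.1 hi), add_mul], Finset.sum_add_distrib]
      congr 1
      rw [Finset.sum_eq_single (idx p) (fun b _ hb => by rw [if_neg hb, zero_mul])
        (fun hn => absurd (Finset.mem_range.2 hi) hn), if_pos rfl]
    have hmem : c ∈ codeList := mem_golayCode_iff.1 hdig
    have hh := List.all_eq_true.1 (List.all_eq_true.1 h3 c hmem) (idx p)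
      ((show List.range 24 = [0, 1, 2, 3, 4, 5, 6, 7, 8, 9, 10, 11, 12, 13, 14, 15, 16, 17, 18, 19,
        20, 21, 22, 23] from rfl) ▸ List.mem_range.2 hi)
    rw [bitAt_eq] at hh
    have hw := hlin (weightAt C.refs)
    rw [hsum, signBase_eq] at hw
    have hn' := oddBase_eq (B := B) (P := P) (M := M) (W := weightAt C.refs) c
      [0, 1, 2, 3, 4, 5, 6, 7, 8, 9, 10, 11, 12, 13, 14, 15, 16, 17, 18, 19, 20, 21, 22, 23]
      (fun i hi => hW i hi)
    rw [← List.sum_toFinset _ (show List.Nodup [0, 1, 2, 3, 4, 5, 6, 7, 8, 9, 10, 11, 12, 13, 14,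
      15, 16, 17, 18, 19, 20, 21, 22, 23] by decide)] at hn'
    rw [show List.toFinset [0, 1, 2, 3, 4, 5, 6, 7, 8, 9, 10, 11, 12, 13, 14, 15, 16, 17, 18, 19,
      20, 21, 22, 23] = Finset.range 24 by decide] at hn'
    obtain ⟨tP, tM⟩ := hW (idx p) (List.mem_range.2 hi)
    have hcode : code24 X = (eights + (signBase (fun k => (16 : ℤ) ^ k) c
        + (if c.testBit (idx p) then 4 else -4) * 16 ^ idx p)).toNat := by
      rw [code24, hlin]
    refine fin (m := code24 X) ?_ rfl fun k hk => ?_
    · rw [hcode]
      cases hb : c.testBit (idx p) <;> rw [hb] at hh hw <;>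
        simp only [cond_true, cond_false, if_true, Bool.false_eq_true, if_false, neg_mul,
          ← sub_eq_add_neg, Nat.add_eq] at hh hw ⊢ <;>
        (rw [Bool.cond_eq_ite, if_pos] at hh
         · exact hh
         · refine Nat.beq_eq.symm ▸ ?_
           apply Nat.cast_injective (R := ℤ)
           push_cast
           simp only [List.length_cons, List.length_nil] at hn'
           push_cast at hn'
           omega)
    · rw [hval k hk]; split_ifs <;> omega

end Cfsg.Agent.H92.LeechOrbit
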