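import Cfsg.Agent.H92.CoThreeSubData
import Cfsg.Agent.H92.LeechCover
import Cfsg.Agent.H92.CoThreeOrbit

/-!
Kernel checks of the orbit certificates.
-/

set_option autoImplicit false
set_option Elab.async false

namespace Cfsg.Agent.H92.LeechOrbit

open Cfsg.Agent.Golay

theorem co3NegCert_ok : certOK co3NegCert = true := by decide +kernel

theorem co3NegCert_cover : Cover co3NegCert :=
  cover_sub (r := (22447979379041562318170785932, (-8))) co3Cert_cover rfl (by decide +kernel)

theorem co3HighCert_ok : certOK co3HighCert = true := by decide +kernel

theorem co3HighCert_cover : Cover co3HighCert :=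
  cover_sub (r := (22447979379041562318170785932, (16))) co3Cert_cover rfl (by decide +kernel)

end Cfsg.Agent.H92.LeechOrbit
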