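import Cfsg.Agent.H92.CoThreeSubData
import Cfsg.Agent.H92.LeechCover
import Cfsg.Agent.H92.CoThreeOrbit

/-!
Kernel checks of the orbit certificates.
-/

set_option autoImplicit false
set_option Elab.async false

namespace Cfsg.Agent.H92.LeechOrbit

open Cfsg.Agent.Golay

theorem co3ZeroCert_ok : certOK co3ZeroCert = true := by decide +kernel

theorem co3ZeroCert_cover : Cover co3ZeroCert :=
  cover_sub (r := (22447979379041562318170785932, (0))) co3Cert_cover rfl (by decide +kernel)

end Cfsg.Agent.H92.LeechOrbit
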