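import Cfsg.Agent.H92.CoTwoCentData
import Cfsg.Agent.Golay.Co1
import Cfsg.Agent.Symplectic.Std
import Cfsg.Prelude.Def_Spor_Conway

/-!
The sublattice of vectors supported on an octad, its coordinates modulo two and the
symplectic representation of the centraliser of the octad involution in Co2.
-/

set_option autoImplicit false

namespace Cfsg.Agent.H92.CoTwoCent

open Cfsg Cfsg.Agent.Golay Cfsg.Agent.H92.LeechOrbit
open scoped Pointwise Matrix

/-- The octad. -/
def octSet : Finset GolayPt := ptSet octMask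

/-- Supported on the octad. -/
def Supp (x : GolayPt → ℤ) : Prop := ∀ p, p ∉ octSet → x p = 0

lemma oct_facts :
    (fullMask ^^^ octMask) ∈ codeList ∧ (none : GolayPt) ∈ octSet ∧ some 0 ∈ octSet ∧
    octSet.card = 8 ∧
    (codeList.all fun m => !(Nat.beq (m ||| octMask) octMask) || Nat.beq m 0 || Nat.beq m octMask)
      = true := by
  decide +kernel

lemma codeword_within {c : Finset GolayPt}
    (hc : c ∈ supports (golayCode : Set (GolayPt → ZMod 2))) (hsub : c ⊆ octSet) :
    c = ∅ ∨ c = octSet := by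
  rw [supports_eq_image] at hc
  obtain ⟨m, hm, rfl⟩ := hc
  have hor : m ||| octMask = octMask := by
    refine Nat.eq_of_testBit_eq fun k => ?_
    rw [Nat.testBit_or]
    by_cases hk : m.testBit k = true
    · have hlt : k < 24 := by
        by_contra h
        have := Nat.testBit_lt_two_pow (lt_of_lt_of_le (codeList_lt hm)
          (Nat.pow_le_pow_right (by norm_num) (le_of_not_gt h)))
        simp [this] at hk
      have h2 : pt k ∈ octSet := hsub (by rw [mem_ptSet, idx_pt k hlt]; exact hk)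
      rw [octSet, mem_ptSet, idx_pt k hlt] at h2
      simp [hk, h2]
    · simp [Bool.eq_false_iff.2 hk]
  have hm' := List.all_eq_true.1 oct_facts.2.2.2.2 m hm
  simp only [hor, Nat.beq_refl, Bool.not_true, Bool.false_or, Bool.or_eq_true] at hm'
  rcases hm'.imp Nat.eq_of_beq_eq_true Nat.eq_of_beq_eq_true with rfl | rfl
  · left; ext p; simp
  · right; rfl

lemma Supp.add {x y : GolayPt → ℤ} (hx : Supp x) (hy : Supp y) : Supp (x + y) :=
  fun p hp => by rw [Pi.add_apply, hx p hp, hy p hp, add_zero]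

lemma Supp.sub {x y : GolayPt → ℤ} (hx : Supp x) (hy : Supp y) : Supp (x - y) :=
  fun p hp => by rw [Pi.sub_apply, hx p hp, hy p hp, sub_zero]

lemma Supp.zsmul {x : GolayPt → ℤ} (hx : Supp x) (n : ℤ) : Supp (n • x) :=
  fun p hp => by rw [Pi.smul_apply, hx p hp, smul_zero]

lemma Supp.sum {ι : Type*} (s : Finset ι) {f : ι → GolayPt → ℤ} (h : ∀ i ∈ s, Supp (f i)) :
    Supp (∑ i ∈ s, f i) :=
  fun p hp => by rw [Finset.sum_apply]; exact Finset.sum_eq_zero fun i hi => h i hi p hp

/-- The shape of a supported lattice vector. -/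
lemma supp_shape {x : leechLattice} (hx : Supp x.1) :
    ∃ (π : ℤ) (a : GolayPt → ℤ), (∀ p ∈ octSet, x.1 p = 2 * (π + 2 * a p)) ∧
      (2 : ℤ) ∣ ∑ p ∈ octSet, a p := by
  obtain ⟨m, h1, h2, h3⟩ := mem_leech_iff.1 x.2
  obtain ⟨p0, hp0⟩ : ∃ p, p ∉ octSet := by
    by_contra h
    push Not at h
    have := oct_facts.2.2.2.1
    rw [Finset.eq_univ_iff_forall.2 h, Finset.card_univ,
      show Fintype.card GolayPt = 24 from rfl] at this
    omega
  have hm : m % 2 = 0 := by have := h1 p0; rw [hx p0 hp0] at this; omega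
  have hev : ∀ p, x.1 p = 2 * (x.1 p / 2) := fun p => by have := h1 p; omega
  have hsub : support₂ (digitWord x.1) ⊆ octSet := by
    intro p hp
    by_contra h
    rw [mem_support₂, digitWord, hx p h] at hp
    simp at hp
  have hcases := codeword_within (support₂_mem_supports_iff.2 h3) hsub
  obtain ⟨π, hπ⟩ : ∃ π : ℤ, ∀ p ∈ octSet, (x.1 p / 2) % 2 = π % 2 := by
    rcases hcases with h | h
    · refine ⟨0, fun p _ => ?_⟩
      have hp : p ∉ support₂ (digitWord x.1) := by rw [h]; simp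
      rw [mem_support₂, digitWord, not_not, ZMod.intCast_zmod_eq_zero_iff_dvd] at hp
      omega
    · refine ⟨1, fun p hp => ?_⟩
      rw [← h, mem_support₂, digitWord, Ne, ZMod.intCast_zmod_eq_zero_iff_dvd] at hp
      omega
  refine ⟨π, fun p => (x.1 p / 2 - π) / 2, fun p hp => ?_, ?_⟩
  · show x.1 p = 2 * (π + 2 * ((x.1 p / 2 - π) / 2))
    have := hπ p hp; have := hev p; omega
  · show (2 : ℤ) ∣ ∑ p ∈ octSet, (x.1 p / 2 - π) / 2
    have hs : ∑ p, x.1 p = ∑ p ∈ octSet, x.1 p :=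
      (Finset.sum_subset (Finset.subset_univ _) fun p _ hp => hx p hp).symm
    rw [hs, Finset.sum_congr rfl (g := fun p => 2 * π + 4 * ((x.1 p / 2 - π) / 2))
      (fun p hp => by have := hπ p hp; have := hev p; omega), Finset.sum_add_distrib,
      Finset.sum_const, oct_facts.2.2.2.1, ← Finset.mul_sum] at h2
    simp only [nsmul_eq_mul, Nat.cast_ofNat] at h2
    omega

theorem sixteen_dvd_dot {x y : leechLattice} (hx : Supp x.1) (hy : Supp y.1) :
    (16 : ℤ) ∣ dotInt x.1 y.1 := by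
  obtain ⟨π, a, ha, ⟨A, hA⟩⟩ := supp_shape hx
  obtain ⟨ρ, e, he, ⟨B, hB⟩⟩ := supp_shape hy
  rw [dotInt, ← Finset.sum_subset (Finset.subset_univ octSet)
    (fun p _ hp => by rw [hx p hp, zero_mul]),
    Finset.sum_congr rfl (g := fun p => 4 * π * ρ + 8 * ρ * a p + 8 * π * e p + 16 * (a p * e p))
      (fun p hp => by rw [ha p hp, he p hp]; ring)]
  simp only [Finset.sum_add_distrib, Finset.sum_const, ← Finset.mul_sum, oct_facts.2.2.2.1,
    nsmul_eq_mul, hA, hB]
  exact ⟨2 * π * ρ + ρ * A + π * B + ∑ p ∈ octSet, a p * e p, by push_cast; ring⟩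

/-! ### Inner products divided by sixteen -/

/-- The scaled inner product. -/
def qd (x y : leechLattice) : ℤ := dotInt x.1 y.1 / 16

lemma dot_eq {x y : leechLattice} (hx : Supp x.1) (hy : Supp y.1) :
    dotInt x.1 y.1 = 16 * qd x y := (Int.mul_ediv_cancel' (sixteen_dvd_dot hx hy)).symm

lemma qd_comm (x y : leechLattice) : qd x y = qd y x := by
  rw [qd, qd, show dotInt x.1 y.1 = dotInt y.1 x.1 from
    Finset.sum_congr rfl fun i _ => mul_comm _ _]

lemma coe_sum {ι : Type*} (s : Finset ι) (f : ι → leechLattice) :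
    ((∑ i ∈ s, f i : leechLattice) : GolayPt → ℤ) = ∑ i ∈ s, (f i : GolayPt → ℤ) :=
  map_sum leechLattice.subtype f s

lemma dot_add_left (x y z : GolayPt → ℤ) : dotInt (x + y) z = dotInt x z + dotInt y z := by
  simp [dotInt, add_mul, Finset.sum_add_distrib]

lemma dot_zsmul_left (n : ℤ) (x z : GolayPt → ℤ) : dotInt (n • x) z = n * dotInt x z := by
  simp only [dotInt, Pi.smul_apply, smul_eq_mul, Finset.mul_sum, mul_assoc]

lemma qd_add_left {x y z : leechLattice} (hx : Supp x.1) (hz : Supp z.1) :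
    qd (x + y) z = qd x z + qd y z := by
  rw [qd, qd, qd, AddSubgroup.coe_add, dot_add_left, Int.add_ediv_of_dvd_left (sixteen_dvd_dot hx hz)]

lemma qd_zsmul_left (n : ℤ) {x z : leechLattice} (hx : Supp x.1) (hz : Supp z.1) :
    qd (n • x) z = n * qd x z := by
  rw [qd, qd, AddSubgroup.coe_zsmul, dot_zsmul_left, Int.mul_ediv_assoc _ (sixteen_dvd_dot hx hz)]

lemma supp_sum_zsmul {ι : Type*} (s : Finset ι) (c : ι → ℤ) {f : ι → leechLattice}
    (h : ∀ i, Supp (f i).1) : Supp (∑ i ∈ s, c i • f i).1 := by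
  rw [coe_sum]
  exact Supp.sum s fun i _ => by rw [AddSubgroup.coe_zsmul]; exact (h i).zsmul _

lemma qd_sum_left {ι : Type*} (s : Finset ι) (c : ι → ℤ) {f : ι → leechLattice} {z : leechLattice}
    (h : ∀ i, Supp (f i).1) (hz : Supp z.1) :
    qd (∑ i ∈ s, c i • f i) z = ∑ i ∈ s, c i * qd (f i) z := by
  classical
  induction s using Finset.induction_on with
  | empty => simp [qd, dotInt]
  | insert a s ha ih =>
    rw [Finset.sum_insert ha, Finset.sum_insert ha,
      qd_add_left (by rw [AddSubgroup.coe_zsmul]; exact (h a).zsmul _) hz,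
      qd_zsmul_left _ (h a) hz, ih]

/-! ### Two bases -/

lemma basis_facts :
    (∀ j, inLeech (dec (bCode j)) = true ∧ ∀ p, p ∉ octSet → dec (bCode j) p = 0) ∧
    (∀ j, inLeech (dec (eCode j)) = true ∧ ∀ p, p ∉ octSet → dec (eCode j) p = 0) ∧
    (inLeech (dec linkCode) = true ∧ ∀ p, p ∉ octSet → dec linkCode p = 0) := by
  decide +kernel

/-- The first basis. -/
def bV (j : Fin 8) : leechLattice := ⟨dec (bCode j), mem_of_inLeech (basis_facts.1 j).1⟩

/-- The second basis. -/
def eV (j : Fin 8) : leechLattice := ⟨dec (eCode j), mem_of_inLeech (basis_facts.2.1 j).1⟩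

/-- The linking root. -/
def linkV : leechLattice := ⟨dec linkCode, mem_of_inLeech basis_facts.2.2.1⟩

lemma bV_supp (j : Fin 8) : Supp (bV j).1 := (basis_facts.1 j).2
lemma eV_supp (j : Fin 8) : Supp (eV j).1 := (basis_facts.2.1 j).2
lemma linkV_supp : Supp linkV.1 := basis_facts.2.2.2

/-- Coefficients in a basis with a scaled dual matrix. -/
def coef (M : Fin 8 → Fin 8 → ℤ) (b : Fin 8 → leechLattice) (x : leechLattice) (j : Fin 8) : ℤ :=
  ∑ i, M i j * qd x (b i)

theorem expand {M : Fin 8 → Fin 8 → ℤ} {b : Fin 8 → leechLattice} {D : ℕ}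
    (hb : ∀ j, Supp (b j).1)
    (hM : ∀ l, ∀ p ∈ octSet,
      ∑ j, (∑ i, M i j * (b i).1 p) * (b j).1 l = if l = p then 16 * (D : ℤ) else 0)
    {x : leechLattice} (hx : Supp x.1) :
    D • x = ∑ j, coef M b x j • b j := by
  refine Subtype.ext (funext fun l => ?_)
  rw [coe_sum, Finset.sum_apply, AddSubgroup.coe_nsmul, Pi.smul_apply]
  simp only [AddSubgroup.coe_zsmul, Pi.smul_apply, smul_eq_mul, nsmul_eq_mul]
  apply mul_left_cancel₀ (show (16 : ℤ) ≠ 0 by norm_num)
  have h1 : ∀ j, 16 * coef M b x j = ∑ p ∈ octSet, x.1 p * ∑ i, M i j * (b i).1 p := by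
    intro j
    rw [coef, Finset.mul_sum]
    simp only [Finset.mul_sum]
    rw [Finset.sum_comm]
    refine Finset.sum_congr rfl fun i _ => ?_
    rw [← mul_assoc, mul_comm 16 (M i j), mul_assoc, ← dot_eq hx (hb i), dotInt,
      ← Finset.sum_subset (Finset.subset_univ octSet) (fun p _ hp => by rw [hx p hp, zero_mul]),
      Finset.mul_sum]
    exact Finset.sum_congr rfl fun p _ => by ring
  rw [Finset.mul_sum, Finset.sum_congr rfl
    (fun j _ => show 16 * (coef M b x j * (b j).1 l)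
      = ∑ p ∈ octSet, x.1 p * ((∑ i, M i j * (b i).1 p) * (b j).1 l) by
      rw [← mul_assoc, h1, Finset.sum_mul]
      exact Finset.sum_congr rfl fun p _ => mul_assoc _ _ _),
    Finset.sum_comm, Finset.sum_congr rfl
    (fun p hp => show ∑ j, x.1 p * ((∑ i, M i j * (b i).1 p) * (b j).1 l)
      = if l = p then x.1 p * (16 * (D : ℤ)) else 0 by
      rw [← Finset.mul_sum, hM l p hp]; split <;> simp),
    Finset.sum_ite_eq]
  split
  · ring
  · rename_i h; rw [hx l h]; ring

lemma bDual_ok : ∀ l, ∀ p ∈ octSet,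
    ∑ j, (∑ i, bDual i j * dec (bCode i) p) * dec (bCode j) l
      = if l = p then 16 * ((3 : ℕ) : ℤ) else 0 := by
  decide +kernel

lemma eDual_ok : ∀ l, ∀ p ∈ octSet,
    ∑ j, (∑ i, eDual i j * dec (eCode i) p) * dec (eCode j) l
      = if l = p then 16 * ((eDen : ℕ) : ℤ) else 0 := by
  decide +kernel

theorem expand_b {x : leechLattice} (hx : Supp x.1) :
    (3 : ℕ) • x = ∑ j, coef bDual bV x j • bV j := expand bV_supp bDual_ok hx

theorem expand_e {x : leechLattice} (hx : Supp x.1) :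
    eDen • x = ∑ j, coef eDual eV x j • eV j := expand eV_supp eDual_ok hx

/-! ### The centraliser -/

/-- The complement of the octad, as a codeword. -/
def coOct : {c : Finset GolayPt // c ∈ supports (golayCode : Set (GolayPt → ZMod 2))} :=
  ⟨ptSet (fullMask ^^^ octMask), by rw [supports_eq_image]; exact ⟨_, oct_facts.1, rfl⟩⟩

lemma mem_coOct : ∀ p : GolayPt, p ∈ coOct.1 ↔ p ∉ octSet := by
  show ∀ p : GolayPt, p ∈ ptSet (fullMask ^^^ octMask) ↔ p ∉ ptSet octMask
  decide +kernel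

/-- The involution. -/
def octInv : Co0 := signAut coOct

lemma octInv_apply (x : leechLattice) (p : GolayPt) :
    (octInv • x).1 p = if p ∈ octSet then x.1 p else -x.1 p := by
  rw [octInv, signAut_apply]
  simp only [mem_coOct, ite_not]

lemma octInv_fix_iff {x : leechLattice} : octInv • x = x ↔ Supp x.1 := by
  constructor
  · intro h p hp
    have := congrArg (fun z : leechLattice => z.1 p) h
    simp only [octInv_apply, if_neg hp] at this
    omega
  · intro h
    refine Subtype.ext (funext fun p => ?_)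
    rw [octInv_apply]
    split
    · rfl
    · rename_i hp; rw [h p hp, neg_zero]

lemma leechU_supp : Supp (Spor.leechU : leechLattice).1 := by
  intro p hp
  show Spor.vecU p = 0
  rw [Spor.vecU, if_neg]
  rintro (rfl | rfl)
  exacts [hp oct_facts.2.1, hp oct_facts.2.2.1]

/-- The centraliser of the involution in the stabiliser of the fixed vector. -/
def cent : Subgroup Co0 :=
  MulAction.stabilizer Co0 Spor.leechU ⊓ Subgroup.centralizer {octInv}

lemma mem_cent {g : Co0} : g ∈ cent ↔ g • Spor.leechU = Spor.leechU ∧ g * octInv = octInv * g := by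
  rw [cent, Subgroup.mem_inf, MulAction.mem_stabilizer_iff, Subgroup.mem_centralizer_singleton_iff]

lemma supp_smul {g : Co0} (hg : g ∈ cent) {x : leechLattice} (hx : Supp x.1) : Supp (g • x).1 := by
  rw [← octInv_fix_iff, ← mul_smul, ← (mem_cent.1 hg).2, mul_smul, octInv_fix_iff.2 hx]

lemma qd_smul (g : Co0) (x y : leechLattice) : qd (g • x) (g • y) = qd x y := by
  rw [qd, qd, co0_dot]

lemma co0_smul_zsmul (g : Co0) (n : ℤ) (x : leechLattice) : g • (n • x) = n • (g • x) :=
  map_zsmul (⟨⟨fun z => g • z, co0_smul_zero g⟩, co0_smul_add g⟩ : leechLattice →+ leechLattice) n x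

lemma co0_smul_sum {ι : Type*} (g : Co0) (s : Finset ι) (f : ι → leechLattice) :
    g • (∑ i ∈ s, f i) = ∑ i ∈ s, g • f i :=
  map_sum (⟨⟨fun z => g • z, co0_smul_zero g⟩, co0_smul_add g⟩ : leechLattice →+ leechLattice) f s

/-- The six coordinates. -/
def ek : Fin 3 ⊕ Fin 3 → Fin 8 := Sum.elim (fun i => ⟨i, by omega⟩) (fun i => ⟨i + 3, by omega⟩)

/-- The partner of a coordinate. -/
def sw : Fin 3 ⊕ Fin 3 → Fin 3 ⊕ Fin 3 := Sum.swap

/-- Coordinates modulo two. -/
def red (x : leechLattice) (k : Fin 3 ⊕ Fin 3) : ZMod 2 := (qd x (bV (ek (sw k))) : ℤ)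

lemma gram_facts :
    (∀ k l, ((qd (bV (ek k)) (bV (ek l)) : ℤ) : ZMod 2) = if l = sw k then 1 else 0) ∧
    (∀ k, qd (bV (ek k)) (bV 6) = 0) ∧ bV 6 = Spor.leechU ∧
    (∀ (k l : Fin 3 ⊕ Fin 3), (bDual (ek l) (ek k) : ZMod 2) = if l = sw k then 1 else 0) ∧
    (∀ k : Fin 3 ⊕ Fin 3, (bDual 6 (ek k) : ZMod 2) = 0 ∧ (bDual 7 (ek k) : ZMod 2) = 0 ∧
      (bDual (ek k) 6 : ZMod 2) = 0 ∧ (bDual (ek k) 7 : ZMod 2) = 0) ∧
    (bDual 6 6 : ZMod 2) = 0 ∧ (bDual 7 6 : ZMod 2) = 1 ∧
    (bDual 6 7 : ZMod 2) = 1 ∧ (bDual 7 7 : ZMod 2) = 0 := by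
  refine ⟨?_, ?_, ?_, ?_⟩
  · decide +kernel
  · decide +kernel
  · refine Subtype.ext (funext ?_)
    decide +kernel
  · decide +kernel

lemma sum_eight {R : Type*} [AddCommMonoid R] (F : Fin 8 → R) :
    ∑ i, F i = (∑ k, F (ek k)) + F 6 + F 7 := by
  rw [Fintype.sum_sum_type, Fin.sum_univ_three, Fin.sum_univ_three, Fin.sum_univ_eight]
  rw [show ek (Sum.inl 0) = 0 from rfl, show ek (Sum.inl 1) = 1 from rfl,
    show ek (Sum.inl 2) = 2 from rfl, show ek (Sum.inr 0) = 3 from rfl,
    show ek (Sum.inr 1) = 4 from rfl, show ek (Sum.inr 2) = 5 from rfl]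
  abel

lemma coef_ek {x : leechLattice} (k : Fin 3 ⊕ Fin 3) :
    (coef bDual bV x (ek k) : ZMod 2) = red x k := by
  obtain ⟨-, -, -, hd, h6, -⟩ := gram_facts
  rw [coef]
  push_cast
  rw [sum_eight]
  simp only [hd, (h6 k).1, (h6 k).2.1, ite_mul, one_mul, zero_mul, Finset.sum_ite_eq',
    Finset.mem_univ, if_true, add_zero]
  rfl

lemma coef_seven {x : leechLattice} :
    (coef bDual bV x 7 : ZMod 2) = (qd x Spor.leechU : ℤ) := by
  obtain ⟨-, -, hv, -, h6, -, -, h67, h77⟩ := gram_facts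
  rw [coef]
  push_cast
  rw [sum_eight]
  simp [(fun k => (h6 k).2.2.2), h67, h77, hv]

/-- The matrix of an element. -/
def repMat (g : Co0) : Matrix (Fin 3 ⊕ Fin 3) (Fin 3 ⊕ Fin 3) (ZMod 2) :=
  Matrix.of fun k l => red (g • bV (ek l)) k

theorem red_smul {g : Co0} (hg : g ∈ cent) {x : leechLattice} (hx : Supp x.1)
    (hv : (qd x Spor.leechU : ZMod 2) = 0) : red (g • x) = repMat g *ᵥ red x := by
  funext k
  have h := congrArg (fun z => g • z) (expand_b hx)
  simp only [co0_smul_nsmul, co0_smul_sum, co0_smul_zsmul] at h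
  have hgs : ∀ j, Supp (g • bV j).1 := fun j => supp_smul hg (bV_supp j)
  have h1 := congrArg (fun z => ((qd z (bV (ek (sw k))) : ℤ) : ZMod 2)) h
  simp only [qd_sum_left _ _ hgs (bV_supp _)] at h1
  rw [← natCast_zsmul, qd_zsmul_left _ (supp_smul hg hx) (bV_supp _)] at h1
  push_cast at h1
  rw [show (3 : ZMod 2) = 1 from by decide, one_mul, sum_eight] at h1
  rw [show red (g • x) k = ((qd (g • x) (bV (ek (sw k))) : ℤ) : ZMod 2) from rfl, h1, coef_seven, hv,
    zero_mul, add_zero, gram_facts.2.2.1, (mem_cent.1 hg).1]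
  have h0 : ((qd Spor.leechU (bV (ek (sw k))) : ℤ) : ZMod 2) = 0 := by
    rw [qd_comm, ← gram_facts.2.2.1, gram_facts.2.1, Int.cast_zero]
  rw [h0, mul_zero, add_zero, Matrix.mulVec, dotProduct]
  refine Finset.sum_congr rfl fun l _ => ?_
  rw [coef_ek, mul_comm]
  rfl

lemma red_add {x y : leechLattice} (hx : Supp x.1) : red (x + y) = red x + red y := by
  funext k
  rw [Pi.add_apply, red, red, red, qd_add_left hx (bV_supp _), Int.cast_add]

lemma red_basis (l : Fin 3 ⊕ Fin 3) : red (bV (ek l)) = Pi.single l 1 := by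
  funext k
  have h : ∀ a b : Fin 3 ⊕ Fin 3, sw a = sw b ↔ a = b := fun a b => by revert a b; decide
  rw [red, gram_facts.1, Pi.single_apply]
  simp only [h]

theorem exists_red (u : Fin 3 ⊕ Fin 3 → ZMod 2) :
    ∃ x : leechLattice, Supp x.1 ∧ (qd x Spor.leechU : ZMod 2) = 0 ∧ red x = u := by
  have hs : ∀ l, Supp (bV (ek l)).1 := fun l => bV_supp _
  refine ⟨∑ l, ((u l).val : ℤ) • bV (ek l), supp_sum_zsmul _ _ hs, ?_, funext fun k => ?_⟩
  · rw [qd_sum_left _ _ hs leechU_supp]
    simp only [← gram_facts.2.2.1, gram_facts.2.1, mul_zero, Finset.sum_const_zero, Int.cast_zero]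
  · rw [red, qd_sum_left _ _ hs (bV_supp _)]
    push_cast
    have h : ∀ l, ((qd (bV (ek l)) (bV (ek (sw k))) : ℤ) : ZMod 2) = if l = k then 1 else 0 := by
      intro l
      have h := congrFun (red_basis l) k
      rw [red] at h
      rw [h, Pi.single_apply]
      exact if_congr eq_comm rfl rfl
    simp [h, ZMod.natCast_zmod_val]

theorem form_red {x y : leechLattice} (hx : Supp x.1) (hy : Supp y.1)
    (hxv : (qd x Spor.leechU : ZMod 2) = 0) (hyv : (qd y Spor.leechU : ZMod 2) = 0) :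
    sympForm 3 (ZMod 2) (red x) (red y) = (qd x y : ZMod 2) := by
  have h1 := congrArg (fun z => ((qd z y : ℤ) : ZMod 2)) (expand_b hx)
  simp only [qd_sum_left _ _ bV_supp hy] at h1
  rw [← natCast_zsmul, qd_zsmul_left _ hx hy] at h1
  push_cast at h1
  rw [show (3 : ZMod 2) = 1 from by decide, one_mul, sum_eight, coef_seven, hxv, zero_mul,
    add_zero, gram_facts.2.2.1, qd_comm Spor.leechU, hyv, mul_zero, add_zero] at h1
  rw [h1, Symplectic.sympForm_eq, Fintype.sum_sum_type, ← Finset.sum_add_distrib]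
  refine Finset.sum_congr rfl fun i _ => ?_
  rw [coef_ek, coef_ek, qd_comm _ y, qd_comm _ y, sub_eq_add_neg, ZMod.neg_eq_self_mod_two,
    add_comm]
  rfl

lemma qd_smul_fixed {g : Co0} (hg : g ∈ cent) (x : leechLattice) :
    qd (g • x) Spor.leechU = qd x Spor.leechU := by
  conv_lhs => rw [← (mem_cent.1 hg).1, qd_smul]

theorem repMat_mem {g : Co0} (hg : g ∈ cent) :
    repMat g ∈ Matrix.symplecticGroup (Fin 3) (ZMod 2) := by
  rw [Symplectic.mem_symplectic_iff_form]
  intro u w
  obtain ⟨x, hx, hxv, rfl⟩ := exists_red u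
  obtain ⟨y, hy, hyv, rfl⟩ := exists_red w
  rw [← red_smul hg hx hxv, ← red_smul hg hy hyv,
    form_red (supp_smul hg hx) (supp_smul hg hy) (by rwa [qd_smul_fixed hg])
      (by rwa [qd_smul_fixed hg]), qd_smul, form_red hx hy hxv hyv]

theorem repMat_mul {g h : Co0} (hg : g ∈ cent) (hh : h ∈ cent) :
    repMat (g * h) = repMat g * repMat h := by
  refine Matrix.ext fun k l => ?_
  show red ((g * h) • bV (ek l)) k = _
  have hv : (qd (h • bV (ek l)) Spor.leechU : ZMod 2) = 0 := by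
    rw [qd_smul_fixed hh, ← gram_facts.2.2.1, gram_facts.2.1, Int.cast_zero]
  rw [mul_smul, red_smul hg (supp_smul hh (bV_supp _)) hv]
  rfl

/-- The representation. -/
def rep : cent →* Matrix.symplecticGroup (Fin 3) (ZMod 2) where
  toFun g := ⟨repMat g.1, repMat_mem g.2⟩
  map_one' := Subtype.ext (Matrix.ext fun k l => by
    show red ((1 : Co0) • bV (ek l)) k = _
    rw [one_smul, red_basis, Pi.single_apply]
    exact (Matrix.one_apply).symm)
  map_mul' a b := Subtype.ext (repMat_mul a.2 b.2)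

lemma rep_mulVec (g : cent) {x : leechLattice} (hx : Supp x.1)
    (hv : (qd x Spor.leechU : ZMod 2) = 0) :
    (rep g : Symplectic.Mat 3 (ZMod 2)) *ᵥ red x = red (g.1 • x) := (red_smul g.2 hx hv).symm

end Cfsg.Agent.H92.CoTwoCent
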