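import Cfsg.Agent.H92.CoTwoCentBasic
import Cfsg.Agent.Golay.OctadAlt
import Cfsg.Agent.H92.QuotLarge

/-!
The kernel of the symplectic representation: the monomial elements fixing the octad pointwise with
signs off the octad, an extraspecial group of order 512.
-/

set_option autoImplicit false

namespace Cfsg.Agent.H92.CoTwoCent

open Cfsg Cfsg.Agent.Golay Cfsg.Agent.H92.LeechOrbit
open scoped Pointwise Matrix

/-! ### Short congruent vectors -/

lemma eq_or_neg_of_congr {a w z : leechLattice} (h : a - w = 2 • z)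
    (hn : sqNorm a.1 + sqNorm w.1 < 128) : a = w ∨ a = -w := by
  by_contra hc
  push Not at hc
  have h2 : a + w = 2 • (z + w) := by rw [smul_add, ← h, two_nsmul]; abel
  have hz : z ≠ 0 := fun e => hc.1 (sub_eq_zero.1 (by rw [h, e, smul_zero]))
  have hzw : z + w ≠ 0 := fun e => hc.2 (eq_neg_of_add_eq_zero_left (by rw [h2, e, smul_zero]))
  have n1 := thirtytwo_le_sqNorm z.2 (fun e => hz (Subtype.ext e))
  have n2 := thirtytwo_le_sqNorm (z + w).2 (fun e => hzw (Subtype.ext e))
  have e1 := congrArg (fun v : leechLattice => sqNorm v.1) h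
  have e2 := congrArg (fun v : leechLattice => sqNorm v.1) h2
  simp only [AddSubgroup.coe_sub, AddSubgroup.coe_nsmul, sqNorm_nsmul, AddSubgroup.coe_add] at e1 e2
  rw [(sqNorm_add_sub a.1 w.1).2] at e1
  rw [(sqNorm_add_sub a.1 w.1).1] at e2
  simp only [AddSubgroup.coe_add] at n2
  norm_num at e1 e2
  omega

lemma six_facts : qd (bV 6) (bV 6) = 2 ∧ sqNorm (bV 6).1 = 32 := by decide +kernel

/-- A root of the sublattice orthogonal to the fixed vector. -/
def IsPerpRoot (r : leechLattice) : Prop :=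
  Supp r.1 ∧ sqNorm r.1 = 32 ∧ qd r Spor.leechU = 0

lemma congr_of_red {x y : leechLattice} (hx : Supp x.1) (hy : Supp y.1)
    (hxv : qd x Spor.leechU = 0) (hyv : qd y Spor.leechU = 0) (h : red x = red y) :
    ∃ (z : leechLattice) (c : ℤ), y - x = 2 • z + c • Spor.leechU := by
  set d := y - x with hd
  have hds : Supp d.1 := by rw [hd, AddSubgroup.coe_sub]; exact hy.sub hx
  have hadd : ∀ b, Supp b.1 → qd d b = qd y b - qd x b := by
    intro b hb
    have := qd_add_left (y := x) hds hb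
    rw [show d + x = y by rw [hd, sub_add_cancel]] at this
    omega
  have hev : ∀ j : Fin 8, j ≠ 6 → ∃ q : ℤ, coef bDual bV d j = 2 * q := by
    intro j hj
    have h0 : (coef bDual bV d j : ZMod 2) = 0 := by
      rcases (show (∃ k, j = ek k) ∨ j = 7 by revert j; decide) with ⟨k, rfl⟩ | rfl
      · rw [coef_ek, red, hadd _ (bV_supp _)]
        have := congrFun h k
        rw [red, red] at this
        rw [Int.cast_sub, this, sub_self]
      · rw [coef_seven, hadd _ leechU_supp, hxv, hyv, sub_self, Int.cast_zero]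
    rw [ZMod.intCast_zmod_eq_zero_iff_dvd] at h0
    exact h0
  choose q hq using hev
  refine ⟨(∑ j, if hj : j = 6 then 0 else q j hj • bV j) - d, coef bDual bV d 6, ?_⟩
  have he := expand_b hds
  rw [← Finset.add_sum_erase _ _ (Finset.mem_univ (6 : Fin 8)), gram_facts.2.2.1] at he
  rw [← Finset.add_sum_erase _ (fun j => if hj : j = (6 : Fin 8) then 0 else q j hj • bV j)
    (Finset.mem_univ (6 : Fin 8))]
  rw [dif_pos rfl, zero_add, smul_sub, Finset.smul_sum,
    Finset.sum_congr rfl (g := fun j => coef bDual bV d j • bV j) (fun j hj => by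
      rw [dif_neg (Finset.ne_of_mem_erase hj), hq j (Finset.ne_of_mem_erase hj), ← natCast_zsmul,
        smul_smul]
      rfl)]
  calc d = (3 : ℕ) • d - 2 • d := by rw [show (3 : ℕ) = 2 + 1 from rfl, add_nsmul, one_nsmul]; abel
    _ = _ := by rw [he]; abel

lemma root_eq_or_neg {r s : leechLattice} (hr : IsPerpRoot r) (hs : IsPerpRoot s)
    (h : red r = red s) : s = r ∨ s = -r := by
  obtain ⟨z, c, hz⟩ := congr_of_red hr.1 hs.1 hr.2.2 hs.2.2 h
  rcases Int.even_or_odd c with ⟨e, rfl⟩ | ⟨e, rfl⟩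
  · refine eq_or_neg_of_congr (z := z + e • Spor.leechU) ?_ (by rw [hr.2.1, hs.2.1]; norm_num)
    rw [hz, smul_add, add_smul, two_nsmul (e • Spor.leechU)]
  · have hU : sqNorm (Spor.leechU : leechLattice).1 = 32 := by
      rw [← gram_facts.2.2.1]; exact six_facts.2
    have hn : sqNorm (r + Spor.leechU).1 = 64 := by
      rw [AddSubgroup.coe_add, (sqNorm_add_sub _ _).1, hr.2.1, hU,
        dot_eq hr.1 leechU_supp, hr.2.2]
      norm_num
    rcases eq_or_neg_of_congr (a := s) (w := r + Spor.leechU) (z := z + e • Spor.leechU) (by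
        rw [sub_add_eq_sub_sub, hz, smul_add, add_smul, one_smul,
          show (2 * e) • (Spor.leechU : leechLattice) = 2 • (e • Spor.leechU) by
            rw [← natCast_zsmul, smul_smul]; rfl]
        abel) (by rw [hs.2.1, hn]; norm_num) with e' | e'
    · have := congrArg (fun v : leechLattice => sqNorm v.1) e'
      simp only [hs.2.1, hn] at this
      norm_num at this
    · have h1 := congrArg (fun v : leechLattice => sqNorm v.1) e'
      simp only [hs.2.1, AddSubgroup.coe_neg] at h1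
      rw [show sqNorm (-(r + Spor.leechU).1) = sqNorm (r + Spor.leechU).1 from
        Finset.sum_congr rfl fun i _ => by rw [Pi.neg_apply, neg_sq], hn] at h1
      norm_num at h1

/-! ### A sign for the action on the roots -/

lemma root_facts :
    ((∀ k, sqNorm (bV (ek k)).1 = 32) ∧ sqNorm (eV 7).1 = 32 ∧ sqNorm linkV.1 = 32) ∧
    (qd (eV 7) (bV 6) = 0 ∧ qd linkV (bV 6) = 0) ∧
    (∀ j : Fin 8, j = 6 ∨ j = 7 ∨ ∃ k, eV j = bV (ek k)) ∧ eV 6 = bV 6 ∧
    (∀ k, qd linkV (bV (ek k)) ≠ 0 ∨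
      (qd linkV (bV (ek (sw k))) ≠ 0 ∧ qd (bV (ek (sw k))) (bV (ek k)) ≠ 0)) ∧
    qd (bV (ek (Sum.inl 1))) (eV 7) ≠ 0 := by
  refine ⟨by decide +kernel, by decide +kernel, ?_, ?_, by decide +kernel, by decide +kernel⟩
  · intro j
    rcases (show j = 6 ∨ j = 7 ∨ ∃ k, eCode j = bCode (ek k) by revert j; decide) with h | h | ⟨k, h⟩
    · exact Or.inl h
    · exact Or.inr (Or.inl h)
    · exact Or.inr (Or.inr ⟨k, Subtype.ext (congrArg dec h)⟩)
  · exact Subtype.ext (congrArg dec (by decide))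

lemma smul_perpRoot {g : Co0} (hg : g ∈ cent) {r : leechLattice} (hr : IsPerpRoot r) :
    IsPerpRoot (g • r) :=
  ⟨supp_smul hg hr.1, by rw [co0_sqNorm]; exact hr.2.1, by rw [qd_smul_fixed hg]; exact hr.2.2⟩

theorem exists_sign (g : cent) (hg : rep g = 1) :
    ∃ ε : ℤ, (ε = 1 ∨ ε = -1) ∧ ∀ j : Fin 8, j ≠ 6 → g.1 • eV j = ε • eV j := by
  have hsign : ∀ r, IsPerpRoot r → ∃ ε : ℤ, (ε = 1 ∨ ε = -1) ∧ g.1 • r = ε • r := by
    intro r hr
    have h := rep_mulVec g hr.1 (by rw [hr.2.2]; rfl)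
    rw [hg] at h
    simp only [OneMemClass.coe_one, Matrix.one_mulVec] at h
    rcases root_eq_or_neg hr (smul_perpRoot g.2 hr) h with e | e
    · exact ⟨1, Or.inl rfl, by rw [e, one_smul]⟩
    · exact ⟨-1, Or.inr rfl, by rw [e, neg_one_zsmul]⟩
  have hsame : ∀ {r s : leechLattice} {a b : ℤ}, IsPerpRoot r → IsPerpRoot s → (a = 1 ∨ a = -1) →
      (b = 1 ∨ b = -1) → g.1 • r = a • r → g.1 • s = b • s → qd r s ≠ 0 → a = b := by
    intro r s a b hr hs ha hb er es hne
    have h := qd_smul g.1 r s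
    rw [er, es, qd_zsmul_left _ hr.1 (by rw [AddSubgroup.coe_zsmul]; exact hs.1.zsmul _), qd_comm,
      qd_zsmul_left _ hs.1 hr.1, qd_comm s r, ← mul_assoc] at h
    rcases ha with rfl | rfl <;> rcases hb with rfl | rfl <;> omega
  obtain ⟨⟨n1, n7, nl⟩, ⟨v7, vl⟩, hcases, -, hconn, h17⟩ := root_facts
  have hk : ∀ k, IsPerpRoot (bV (ek k)) := fun k =>
    ⟨bV_supp _, n1 k, by rw [← gram_facts.2.2.1]; exact gram_facts.2.1 k⟩
  have h7 : IsPerpRoot (eV 7) := ⟨eV_supp 7, n7, by rw [← gram_facts.2.2.1]; exact v7⟩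
  have hl : IsPerpRoot linkV := ⟨linkV_supp, nl, by rw [← gram_facts.2.2.1]; exact vl⟩
  obtain ⟨ε, hε, el⟩ := hsign _ hl
  have hall : ∀ k, g.1 • bV (ek k) = ε • bV (ek k) := by
    intro k
    obtain ⟨a, ha, ea⟩ := hsign _ (hk k)
    suffices a = ε by rw [← this]; exact ea
    rcases hconn k with h | ⟨h, h'⟩
    · exact (hsame hl (hk k) hε ha el ea h).symm
    · obtain ⟨b, hb, eb⟩ := hsign _ (hk (sw k))
      rw [← hsame (hk (sw k)) (hk k) hb ha eb ea h', hsame hl (hk (sw k)) hε hb el eb h]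
  refine ⟨ε, hε, fun j hj => ?_⟩
  rcases hcases j with h | rfl | ⟨k, h⟩
  · exact absurd h hj
  · obtain ⟨a, ha, ea⟩ := hsign _ h7
    rw [hsame (hk _) h7 hε ha (hall _) ea h17]
    exact ea
  · rw [h]; exact hall k

lemma axis_supp {p : GolayPt} (hp : p ∈ octSet) : Supp (axisVec p).1 := by
  intro q hq
  show (Pi.single p 8 : GolayPt → ℤ) q = 0
  rw [Pi.single_eq_of_ne]
  rintro rfl
  exact hq hp

/-- The transposition of the two coordinates of the fixed vector. -/
def pairSwap : Equiv.Perm GolayPt := Equiv.swap none (some 0)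

lemma flip_table : ∀ p ∈ octSet, ∀ l : GolayPt,
    -((eDen : ℤ) * (Pi.single p 8 : GolayPt → ℤ) l) + 2 * (coef eDual eV (axisVec p) 6) * Spor.vecU l
      = (eDen : ℤ) * (Pi.single (pairSwap p)
          (if p = none ∨ p = some 0 then 8 else -8) : GolayPt → ℤ) l := by
  decide +kernel

lemma smul_expand {g : Co0} (hg : g ∈ cent) {ε : ℤ}
    (h : ∀ j : Fin 8, j ≠ 6 → g • eV j = ε • eV j) {x : leechLattice} (hx : Supp x.1) (l : GolayPt) :
    (eDen : ℤ) * (g • x).1 l
      = ε * ((eDen : ℤ) * x.1 l) + (1 - ε) * coef eDual eV x 6 * Spor.vecU l := by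
  have h6 : eV 6 = Spor.leechU := root_facts.2.2.2.1.trans gram_facts.2.2.1
  have he : eDen • (g • x) = ε • (eDen • x) + ((1 - ε) * coef eDual eV x 6) • Spor.leechU := by
    rw [← co0_smul_nsmul, expand_e hx, co0_smul_sum, Finset.smul_sum,
      ← Finset.add_sum_erase _ _ (Finset.mem_univ (6 : Fin 8)),
      ← Finset.add_sum_erase _ (fun j => ε • coef eDual eV x j • eV j)
        (Finset.mem_univ (6 : Fin 8)),
      Finset.sum_congr rfl (g := fun j => ε • coef eDual eV x j • eV j) (fun j hj => by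
        rw [co0_smul_zsmul, h j (Finset.ne_of_mem_erase hj), smul_comm]),
      co0_smul_zsmul, h6, (mem_cent.1 hg).1, sub_mul, one_mul, sub_smul, smul_smul]
    abel
  have := congrArg (fun v : leechLattice => v.1 l) he
  simpa [AddSubgroup.coe_nsmul, AddSubgroup.coe_zsmul, Spor.leechU, nsmul_eq_mul] using this

lemma octSet_mem_octads : octSet ∈ octads :=
  ptSet_mem_octads (List.contains_iff_mem.1 (by decide +kernel : octadList.contains octMask = true))

/-- An element of the representation kernel fixes the sublattice. -/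
theorem fixes_supp (g : cent) (hg : rep g = 1) {x : leechLattice} (hx : Supp x.1) :
    g.1 • x = x := by
  obtain ⟨ε, hε, he⟩ := exists_sign g hg
  have hexp := fun {y : leechLattice} (hy : Supp y.1) l => smul_expand g.2 he hy l
  rcases hε with rfl | rfl
  · refine Subtype.ext (funext fun l => ?_)
    have h := hexp hx l
    rw [one_mul, sub_self, zero_mul, zero_mul, add_zero] at h
    exact mul_left_cancel₀ (show (eDen : ℤ) ≠ 0 by decide) h
  exfalso
  have hax : ∀ p ∈ octSet, (g.1 • axisVec p : leechLattice).1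
      = Pi.single (pairSwap p) (if p = none ∨ p = some 0 then 8 else -8) := by
    intro p hp
    funext l
    refine mul_left_cancel₀ (show (eDen : ℤ) ≠ 0 by decide) ?_
    rw [hexp (axis_supp hp) l, ← flip_table p hp l]
    show -1 * ((eDen : ℤ) * (Pi.single p 8 : GolayPt → ℤ) l) + _ = _
    ring
  have hmove : g.1 • axisVec none = axisVec (some 0) := by
    refine Subtype.ext ((hax none oct_facts.2.1).trans ?_)
    rw [if_pos (Or.inl rfl), pairSwap, Equiv.swap_apply_left]
    rfl
  have hcross : g.1 ∈ crossStab := by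
    rw [crossStab, MulAction.mem_stabilizer_iff, ← crossSet_axis none, smul_crossSet, hmove,
      crossSet_axis, crossSet_axis]
  obtain ⟨σ, c, hσc⟩ := stdCross_stabiliser_eq_monomial g.1 (mem_crossStab.1 hcross)
  have hσ : ∀ p ∈ octSet, σ.1 p = pairSwap p := by
    intro p hp
    by_contra hne
    have h := congrFun (hax p hp) (σ.1 p)
    rw [hσc, monoAut_smul_apply, Equiv.symm_apply_apply, Pi.single_eq_of_ne hne,
      show (axisVec p).1 p = 8 from Pi.single_eq_same p 8] at h
    split at h <;> norm_num at h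
  have hswap : ∀ p ∈ octSet, pairSwap p ∈ octSet := by decide +kernel
  have hst : σ.1 ∈ setStab octSet := by
    refine ⟨σ.2, MulAction.mem_stabilizer_iff.2 (Finset.eq_of_subset_of_card_le ?_
      (by rw [Finset.card_smul_finset]))⟩
    intro q hq
    obtain ⟨p, hp, rfl⟩ := Finset.mem_smul_finset.1 hq
    rw [Equiv.Perm.smul_def, hσ p hp]
    exact hswap p hp
  have hres : restrictHom octSet ⟨σ.1, hst⟩
      = Equiv.swap ⟨none, oct_facts.2.1⟩ ⟨some 0, oct_facts.2.2.1⟩ := by
    ext x : 1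
    apply Subtype.ext
    rw [restrictHom_apply]
    show σ.1 x.1 = _
    rw [hσ x.1 x.2, pairSwap]
    simp only [Equiv.swap_apply_def, Subtype.ext_iff]
    split_ifs <;> rfl
  have hmem : restrictHom octSet ⟨σ.1, hst⟩ ∈ alternatingGroup ↥octSet :=
    range_restrictHom octSet_mem_octads ▸ ⟨_, rfl⟩
  rw [Equiv.Perm.mem_alternatingGroup, hres, Equiv.Perm.sign_swap (by simp)] at hmem
  exact absurd hmem (by decide)

/-! ### The monomial form -/

/-- Monomial, fixing the octad pointwise, with signs off the octad. -/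
def InKer (g : Co0) : Prop :=
  ∃ σ : M24, ∃ c : {c : Finset GolayPt // c ∈ supports (golayCode : Set (GolayPt → ZMod 2))},
    σ.1 ∈ setFix octSet ∧ (∀ p ∈ octSet, p ∉ c.1) ∧ g = monoAut σ c

lemma monoAut_fix {σ : M24} {c : {c : Finset GolayPt // c ∈ supports (golayCode : Set (GolayPt → ZMod 2))}}
    (hσ : σ.1 ∈ setFix octSet) (hc : ∀ p ∈ octSet, p ∉ c.1) {x : leechLattice} (hx : Supp x.1) :
    monoAut σ c • x = x := by
  refine Subtype.ext (funext fun p => ?_)
  rw [monoAut_smul_apply]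
  by_cases hp : p ∈ octSet
  · rw [if_neg (hc p hp), (Equiv.symm_apply_eq σ.1).2
      ((mem_fixingSubgroup_iff _).1 hσ.2 p (Finset.mem_coe.2 hp)).symm]
  · have h2 : σ.1.symm p ∉ octSet := by
      intro h
      apply hp
      have := (apply_mem_iff_of_mem_setStab octSet (setFix_le octSet hσ) (σ.1.symm p)).2 h
      rwa [Equiv.apply_symm_apply] at this
    rw [hx p hp, hx _ h2, neg_zero, ite_self]

lemma inKer_mem_cent {g : Co0} (h : InKer g) : g ∈ cent := by
  obtain ⟨σ, c, hσ, hc, rfl⟩ := h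
  refine mem_cent.2 ⟨monoAut_fix hσ hc leechU_supp,
    Subtype.ext (Equiv.ext fun v => Subtype.ext (funext fun p => ?_))⟩
  show (monoAut σ c • octInv • v).1 p = (octInv • monoAut σ c • v).1 p
  rw [monoAut_smul_apply, octInv_apply, octInv_apply, monoAut_smul_apply]
  have : σ.1.symm p ∈ octSet ↔ p ∈ octSet := by
    have := (apply_mem_iff_of_mem_setStab octSet (setFix_le octSet hσ) (σ.1.symm p)).symm
    rwa [Equiv.apply_symm_apply] at this
  simp only [this]
  split_ifs <;> simp

theorem rep_eq_one_iff (g : cent) : rep g = 1 ↔ InKer g.1 := by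
  constructor
  · intro hg
    have hfix := fun {x : leechLattice} (hx : Supp x.1) => fixes_supp g hg hx
    have hcross : g.1 ∈ crossStab := by
      rw [crossStab, MulAction.mem_stabilizer_iff, ← crossSet_axis none, smul_crossSet,
        hfix (axis_supp oct_facts.2.1)]
    obtain ⟨σ, c, hσc⟩ := stdCross_stabiliser_eq_monomial g.1 (mem_crossStab.1 hcross)
    have hval : ∀ p ∈ octSet, σ.1 p = p ∧ p ∉ c.1 := by
      intro p hp
      have h := congrArg (fun v : leechLattice => v.1 p) (hfix (axis_supp hp))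
      simp only [hσc, monoAut_smul_apply] at h
      rw [show (axisVec p).1 p = 8 from Pi.single_eq_same p 8] at h
      have hp2 : σ.1.symm p = p := by
        by_contra hne
        rw [show (axisVec p).1 (σ.1.symm p) = 0 from Pi.single_eq_of_ne hne 8] at h
        split at h <;> norm_num at h
      refine ⟨((Equiv.symm_apply_eq σ.1).1 hp2).symm, fun hc => ?_⟩
      rw [if_pos hc, hp2, show (axisVec p).1 p = 8 from Pi.single_eq_same p 8] at h
      norm_num at h
    exact ⟨σ, c, ⟨σ.2, (mem_fixingSubgroup_iff _).2 fun y hy => (hval y (Finset.mem_coe.1 hy)).1⟩,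
      fun p hp => (hval p hp).2, hσc⟩
  · rintro ⟨σ, c, hσ, hc, hg⟩
    refine Subtype.ext (Matrix.ext fun k l => ?_)
    show red (g.1 • bV (ek l)) k = (1 : Symplectic.Mat 3 (ZMod 2)) k l
    rw [hg, monoAut_fix hσ hc (bV_supp _), red_basis, Pi.single_apply, Matrix.one_apply]

/-! ### Structure of the kernel -/

/-- The sign masks of the kernel. -/
def offMasks : List ℕ := codeList.filter fun m => Nat.beq (m &&& octMask) 0

lemma fix_checks :
    (fixTbls.all fun T => inM24 T && (List.range 24).all fun i =>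
      !octMask.testBit i || Nat.beq (app T i) i) = true ∧
    (fixTbls.map fun T => app T 4).Nodup ∧ fixTbls.length = 16 ∧ offMasks.length = 32 ∧
    (fixTbls.all fun T => offMasks.all fun m =>
      Nat.beq (m ^^^ tblImg T m) 0 || Nat.beq (m ^^^ tblImg T m) (fullMask ^^^ octMask)) = true ∧
    (fixTbls.all fun T => tblEq T idTbl || offMasks.any fun m => !Nat.beq (tblImg T m) m) = true ∧
    (offMasks.all fun m => Nat.beq m 0 || Nat.beq m (fullMask ^^^ octMask) ||
      fixTbls.any fun T => !Nat.beq (tblImg T m) m) = true := by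
  decide +kernel

lemma tbl_mem_fix {T : ℕ} (hT : T ∈ fixTbls) :
    validT T = true ∧ mkPerm T ∈ setFix octSet := by
  have h := List.all_eq_true.1 fix_checks.1 T hT
  rw [Bool.and_eq_true, List.all_eq_true] at h
  have hv := validT_of_inM24 h.1
  refine ⟨hv, mem_M24_of_inM24 h.1, (mem_fixingSubgroup_iff _).2 fun y hy => ?_⟩
  have h2 := h.2 (idx y) (List.mem_range.2 (idx_lt y))
  rw [mem_ptSet.1 (Finset.mem_coe.1 hy), Bool.not_true, Bool.false_or] at h2
  show mkPerm T y = y
  rw [mkPerm_apply hv, Nat.eq_of_beq_eq_true h2, pt_idx]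

lemma exists_tbl {σ : Equiv.Perm GolayPt} (h : σ ∈ setFix octSet) :
    ∃ T ∈ fixTbls, mkPerm T = σ := by
  classical
  set S : Finset (Equiv.Perm GolayPt) := fixTbls.toFinset.image mkPerm
  have hinj : Set.InjOn mkPerm (fixTbls.toFinset : Set ℕ) := by
    intro a ha b hb e
    simp only [List.coe_toFinset, Set.mem_setOf_eq] at ha hb
    refine List.inj_on_of_nodup_map fix_checks.2.1 ha hb ?_
    have := congrArg (fun τ : Equiv.Perm GolayPt => idx (τ (pt 4))) e
    simpa only [idx_mkPerm (tbl_mem_fix ha).1, idx_mkPerm (tbl_mem_fix hb).1,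
      idx_pt 4 (by norm_num)] using this
  have hnd : fixTbls.Nodup := List.Nodup.of_map _ fix_checks.2.1
  have hcard : S.card = 16 := by
    rw [Finset.card_image_of_injOn hinj, List.toFinset_card_of_nodup hnd, fix_checks.2.2.1]
  have hsub : (S : Set (Equiv.Perm GolayPt)) ⊆ (setFix octSet : Set (Equiv.Perm GolayPt)) := by
    intro τ hτ
    obtain ⟨T, hT, rfl⟩ := Finset.mem_image.1 (Finset.mem_coe.1 hτ)
    exact (tbl_mem_fix (List.mem_toFinset.1 hT)).2
  have heq : (S : Set (Equiv.Perm GolayPt)) = (setFix octSet : Set (Equiv.Perm GolayPt)) := by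
    refine Set.eq_of_subset_of_ncard_le hsub ?_ (Set.toFinite _)
    rw [Set.ncard_coe_finset, hcard, ← Nat.card_coe_set_eq]
    exact (octad_fixing octSet_mem_octads).1.le
  have h' : σ ∈ (S : Set (Equiv.Perm GolayPt)) := by rw [heq]; exact h
  obtain ⟨T, hT, rfl⟩ := Finset.mem_image.1 (Finset.mem_coe.1 h')
  exact ⟨T, List.mem_toFinset.1 hT, rfl⟩

lemma exists_mask {c : Finset GolayPt} (hc : c ∈ supports (golayCode : Set (GolayPt → ZMod 2)))
    (hd : ∀ p ∈ octSet, p ∉ c) : ∃ m ∈ offMasks, ptSet m = c := by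
  rw [supports_eq_image] at hc
  obtain ⟨m, hm, rfl⟩ := hc
  refine ⟨m, List.mem_filter.2 ⟨hm, ?_⟩, rfl⟩
  have h0 : m &&& octMask = 0 := by
    refine Nat.eq_of_testBit_eq fun k => ?_
    rw [Nat.testBit_and, Nat.zero_testBit, Bool.and_eq_false_iff]
    by_cases hk : k < 24
    · by_cases ho : octMask.testBit k = true
      · left
        have := hd (pt k) (by rw [octSet, mem_ptSet, idx_pt k hk]; exact ho)
        rw [mem_ptSet, idx_pt k hk] at this
        exact Bool.eq_false_iff.2 this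
      · exact Or.inr (Bool.eq_false_iff.2 ho)
    · exact Or.inl (Nat.testBit_lt_two_pow (lt_of_lt_of_le (codeList_lt hm)
        (Nat.pow_le_pow_right (by norm_num) (le_of_not_gt hk))))
  rw [h0]; rfl

lemma mask_mem {m : ℕ} (hm : m ∈ offMasks) :
    m ∈ codeList ∧ ∀ p ∈ octSet, p ∉ ptSet m := by
  obtain ⟨h1, h2⟩ := List.mem_filter.1 hm
  refine ⟨h1, fun p hp hp' => ?_⟩
  have h := congrArg (fun n => n.testBit (idx p)) (Nat.eq_of_beq_eq_true h2)
  simp only [Nat.testBit_and, mem_ptSet.1 hp', mem_ptSet.1 hp, Nat.zero_testBit] at h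
  exact Bool.noConfusion h

/-- Sign patterns of the kernel. -/
abbrev Off : Type :=
  {c : {c : Finset GolayPt // c ∈ supports (golayCode : Set (GolayPt → ZMod 2))} //
    ∀ p ∈ octSet, p ∉ c.1}

theorem card_ker : Nat.card (rep.ker) = 512 := by
  let f : setFix octSet × Off → rep.ker := fun q =>
    ⟨⟨monoAut ⟨q.1.1, q.1.2.1⟩ q.2.1, inKer_mem_cent ⟨_, _, q.1.2, q.2.2, rfl⟩⟩,
      MonoidHom.mem_ker.2 ((rep_eq_one_iff _).2 ⟨_, _, q.1.2, q.2.2, rfl⟩)⟩
  have hf : Function.Bijective f := by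
    refine ⟨fun a b h => ?_, fun g => ?_⟩
    · have := monoAut_injective (a₁ := (⟨a.1.1, a.1.2.1⟩, a.2.1)) (a₂ := (⟨b.1.1, b.1.2.1⟩, b.2.1))
        (congrArg (fun z : rep.ker => z.1.1) h)
      simp only [Prod.mk.injEq, Subtype.mk.injEq] at this
      exact Prod.ext (Subtype.ext this.1) (Subtype.ext this.2)
    · obtain ⟨σ, c, hσ, hc, hg⟩ := (rep_eq_one_iff g.1).1 (MonoidHom.mem_ker.1 g.2)
      exact ⟨(⟨σ.1, hσ⟩, ⟨c, hc⟩), Subtype.ext (Subtype.ext hg.symm)⟩
  have hoff : Nat.card Off = 32 := by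
    have e : Set.ncard {c : Finset GolayPt |
        c ∈ supports (golayCode : Set (GolayPt → ZMod 2)) ∧ ∀ p ∈ octSet, p ∉ c} = 32 := by
      have he : {c : Finset GolayPt |
          c ∈ supports (golayCode : Set (GolayPt → ZMod 2)) ∧ ∀ p ∈ octSet, p ∉ c}
          = ptSet '' {m | m ∈ offMasks} := by
        ext c
        constructor
        · rintro ⟨h1, h2⟩; exact exists_mask h1 h2
        · rintro ⟨m, hm, rfl⟩
          exact ⟨by rw [supports_eq_image]; exact ⟨m, (mask_mem hm).1, rfl⟩, (mask_mem hm).2⟩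
      rw [he, ncard_ptSet_image (l := offMasks) (codeList_nodup.filter _)
        (fun m hm => codeList_lt (List.mem_filter.1 hm).1), fix_checks.2.2.2.1]
    rw [← e, ← Nat.card_coe_set_eq]
    exact Nat.card_congr (Equiv.subtypeSubtypeEquivSubtypeInter _ fun c : Finset GolayPt =>
      ∀ p ∈ octSet, p ∉ c)
  rw [← Nat.card_congr (Equiv.ofBijective f hf), Nat.card_prod, hoff,
    show Nat.card (setFix octSet) = 16 from (octad_fixing octSet_mem_octads).1]

lemma supports_smul {σ : M24} {c : Finset GolayPt}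
    (hc : c ∈ supports (golayCode : Set (GolayPt → ZMod 2))) :
    σ.1 • c ∈ supports (golayCode : Set (GolayPt → ZMod 2)) := smul_mem_supports σ.2 hc

lemma monoAut_mul (σ τ : M24)
    (c d : {c : Finset GolayPt // c ∈ supports (golayCode : Set (GolayPt → ZMod 2))}) :
    monoAut σ c * monoAut τ d = monoAut (σ * τ)
      ⟨symmDiff c.1 (σ.1 • d.1), symmDiff_mem_supports c.2 (supports_smul d.2)⟩ := by
  refine Subtype.ext (Equiv.ext fun v => Subtype.ext (funext fun p => ?_))
  show (monoAut σ c • monoAut τ d • v).1 p = (monoAut (σ * τ) _ • v).1 p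
  rw [monoAut_smul_apply, monoAut_smul_apply, monoAut_smul_apply]
  simp only [Finset.mem_symmDiff, mem_smul_finset_iff, Subgroup.coe_mul,
    show (σ.1 * τ.1).symm p = τ.1.symm (σ.1.symm p) from rfl]
  by_cases h1 : p ∈ c.1 <;> by_cases h2 : σ.1.symm p ∈ d.1 <;> simp [h1, h2]

lemma monoAut_one : monoAut 1 noSigns = 1 := by
  refine Subtype.ext (Equiv.ext fun v => Subtype.ext (funext fun p => ?_))
  show (monoAut 1 noSigns • v).1 p = v.1 p
  rw [monoAut_smul_apply, if_neg (by simp [noSigns])]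
  rfl

lemma monoAut_coOct : monoAut 1 coOct = octInv := by
  refine Subtype.ext (Equiv.ext fun v => Subtype.ext (funext fun p => ?_))
  show (monoAut 1 coOct • v).1 p = (octInv • v).1 p
  rw [monoAut_smul_apply, octInv_apply]
  simp only [mem_coOct, ite_not]
  rfl

lemma octInv_ne_one : octInv ≠ 1 := by
  intro h
  obtain ⟨p, hp⟩ : ∃ p, p ∉ octSet := ⟨some 4, by decide +kernel⟩
  have := congrArg (fun g : Co0 => (g • axisVec p : leechLattice).1 p) h
  simp only [octInv_apply, if_neg hp, one_smul,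
    show (axisVec p).1 p = 8 from Pi.single_eq_same p 8] at this
  norm_num at this

lemma octInv_sq : octInv * octInv = 1 := by
  refine Subtype.ext (Equiv.ext fun v => Subtype.ext (funext fun p => ?_))
  show (octInv • octInv • v).1 p = v.1 p
  rw [octInv_apply, octInv_apply]
  split <;> simp

lemma inKer_octInv : InKer octInv :=
  ⟨1, coOct, one_mem _, fun p hp h => (mem_coOct p).1 h hp, monoAut_coOct.symm⟩

lemma signs_cases {σ : M24} (hσ : σ.1 ∈ setFix octSet) {c : Finset GolayPt}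
    (hc : c ∈ supports (golayCode : Set (GolayPt → ZMod 2))) (hd : ∀ p ∈ octSet, p ∉ c) :
    symmDiff c (σ.1 • c) = ∅ ∨ symmDiff c (σ.1 • c) = coOct.1 := by
  obtain ⟨T, hT, hσT⟩ := exists_tbl hσ
  obtain ⟨m, hm, rfl⟩ := exists_mask hc hd
  have h := List.all_eq_true.1 (List.all_eq_true.1 fix_checks.2.2.2.2.1 T hT) m hm
  rw [← hσT, ← ptSet_tblImg (tbl_mem_fix hT).1, ← ptSet_xor]
  rw [Bool.or_eq_true] at h
  rcases h.imp Nat.eq_of_beq_eq_true Nat.eq_of_beq_eq_true with e | e <;> rw [e]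
  · left; ext p; simp
  · right; rfl

theorem inKer_sq {g : Co0} (h : InKer g) : g * g = 1 ∨ g * g = octInv := by
  obtain ⟨σ, c, hσ, hc, rfl⟩ := h
  have hσ2 : σ * σ = 1 := Subtype.ext ((octad_fixing octSet_mem_octads).2 σ.1 hσ)
  rw [monoAut_mul, hσ2]
  rcases signs_cases hσ c.2 hc with e | e
  · left; rw [← monoAut_one]; congr 1; exact Subtype.ext e
  · right; rw [← monoAut_coOct]; congr 1; exact Subtype.ext e

theorem inKer_central {g : Co0} (h : InKer g) (hcomm : ∀ k, InKer k → k * g = g * k) :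
    g = 1 ∨ g = octInv := by
  obtain ⟨σ, c, hσ, hc, rfl⟩ := h
  have key : ∀ (τ : M24) (d : {c : Finset GolayPt // c ∈ supports (golayCode : Set (GolayPt → ZMod 2))}),
      τ.1 ∈ setFix octSet → (∀ p ∈ octSet, p ∉ d.1) →
      symmDiff d.1 (τ.1 • c.1) = symmDiff c.1 (σ.1 • d.1) := by
    intro τ d hτ hd
    have h := hcomm (monoAut τ d) ⟨τ, d, hτ, hd, rfl⟩
    rw [monoAut_mul, monoAut_mul] at h
    exact congrArg Subtype.val (congrArg Prod.snd
      (monoAut_injective (a₁ := (_, _)) (a₂ := (_, _)) h))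
  obtain ⟨T, hT, hσT⟩ := exists_tbl hσ
  have hσ1 : σ = 1 := by
    have h := List.all_eq_true.1 fix_checks.2.2.2.2.2.1 T hT
    rw [Bool.or_eq_true] at h
    rcases h with h | h
    · exact Subtype.ext (by
        rw [← hσT, mkPerm_eq_of_tblEq (tbl_mem_fix hT).1 idTbl_spec.1 h, idTbl_spec.2]; rfl)
    · exfalso
      rw [List.any_eq_true] at h
      obtain ⟨m, hm, hne⟩ := h
      have h1 := key 1 ⟨ptSet m, by rw [supports_eq_image]; exact ⟨m, (mask_mem hm).1, rfl⟩⟩
        (one_mem _) (mask_mem hm).2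
      rw [show ((1 : M24) : Equiv.Perm GolayPt) = 1 from rfl, one_smul, symmDiff_comm,
        symmDiff_right_inj, ← hσT, ← ptSet_tblImg (tbl_mem_fix hT).1] at h1
      have := ptSet_injOn (codeList_lt (mask_mem hm).1) (tblImg_lt (tbl_mem_fix hT).1 m) h1
      rw [← this, Nat.beq_refl] at hne
      exact Bool.noConfusion hne
  subst hσ1
  obtain ⟨m, hm, hcm⟩ := exists_mask c.2 hc
  have h := List.all_eq_true.1 fix_checks.2.2.2.2.2.2 m hm
  simp only [Bool.or_eq_true] at h
  rcases h with (h | h) | h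
  · left
    rw [← monoAut_one]; congr 1
    refine Subtype.ext ?_
    rw [← hcm, Nat.eq_of_beq_eq_true h]
    ext p; simp [noSigns]
  · right
    rw [← monoAut_coOct]; congr 1
    exact Subtype.ext (by rw [← hcm, Nat.eq_of_beq_eq_true h]; rfl)
  · exfalso
    rw [List.any_eq_true] at h
    obtain ⟨U, hU, hne⟩ := h
    have h1 := key ⟨mkPerm U, (tbl_mem_fix hU).2.1⟩ noSigns (tbl_mem_fix hU).2
      (fun p _ => by simp [noSigns])
    rw [show noSigns.1 = ∅ from rfl, Finset.smul_finset_empty, ← Finset.bot_eq_empty,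
      bot_symmDiff, symmDiff_bot, ← hcm, ← ptSet_tblImg (tbl_mem_fix hU).1] at h1
    have := ptSet_injOn (tblImg_lt (tbl_mem_fix hU).1 m) (codeList_lt (mask_mem hm).1) h1
    rw [this, Nat.beq_refl] at hne
    exact Bool.noConfusion hne

lemma commutator_cases {P : Type*} [Group P] {ζ : P} (hc : ∀ y, y * ζ = ζ * y) (hζ2 : ζ * ζ = 1)
    (hsq : ∀ x : P, x * x = 1 ∨ x * x = ζ) (x y : P) :
    x * y * x⁻¹ * y⁻¹ = 1 ∨ x * y * x⁻¹ * y⁻¹ = ζ := by
  have hcen : ∀ a z : P, z * (a * a) = (a * a) * z := fun a z => by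
    rcases hsq a with e | e <;> rw [e]
    · rw [mul_one, one_mul]
    · exact hc z
  have hinv : ∀ a : P, a⁻¹ = a * (a * a) := fun a => by
    apply inv_eq_of_mul_eq_one_right
    rw [← mul_assoc]
    rcases hsq a with e | e <;> rw [e]
    exacts [one_mul _, hζ2]
  have key : x * y * x⁻¹ * y⁻¹ = ((x * y) * (x * y)) * (x * x) * (y * y) := by
    rw [hinv x, hinv y]
    calc x * y * (x * (x * x)) * (y * (y * y))
        = x * y * x * ((x * x) * y) * (y * y) := by simp only [mul_assoc]
      _ = x * y * x * (y * (x * x)) * (y * y) := by rw [hcen x y]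
      _ = _ := by simp only [mul_assoc]
  rw [key]
  rcases hsq (x * y) with e | e <;> rcases hsq x with e' | e' <;> rcases hsq y with e'' | e'' <;>
    rw [e, e', e''] <;> simp [hζ2]

theorem isExtraspecial_ker : Cfsg.IsExtraspecial 2 rep.ker := by
  haveI : Finite cent := by
    haveI := finite_co0
    infer_instance
  set ζ : rep.ker := ⟨⟨octInv, inKer_mem_cent inKer_octInv⟩,
    MonoidHom.mem_ker.2 ((rep_eq_one_iff _).2 inKer_octInv)⟩ with hζ
  have hin : ∀ x : rep.ker, InKer x.1.1 := fun x => (rep_eq_one_iff x.1).1 (MonoidHom.mem_ker.1 x.2)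
  have hval : ∀ {x y : rep.ker}, x.1.1 = y.1.1 → x = y := fun e => Subtype.ext (Subtype.ext e)
  have hc : ∀ y : rep.ker, y * ζ = ζ * y := fun y => hval (mem_cent.1 y.1.2).2
  have hsq : ∀ x : rep.ker, x * x = 1 ∨ x * x = ζ := fun x =>
    (inKer_sq (hin x)).imp (fun e => hval e) (fun e => hval e)
  have hζ2 : ζ * ζ = 1 := hval octInv_sq
  have hζ1 : ζ ≠ 1 := fun e => octInv_ne_one (congrArg (fun x : rep.ker => x.1.1) e)
  have hp : IsPGroup 2 rep.ker := by
    intro x
    refine ⟨2, ?_⟩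
    rw [show (2 : ℕ) ^ 2 = 2 * 2 from rfl, pow_mul, pow_two x]
    rcases hsq x with e | e <;> rw [e, pow_two]
    exacts [one_mul _, hζ2]
  refine isExtraspecial_of_center_two hp hζ1 hc ?_ ?_ hsq (by rw [card_ker]; norm_num)
  · intro x hx
    refine (inKer_central (hin x) fun k hk => ?_).imp (fun e => hval e) (fun e => hval e)
    exact congrArg (fun z : rep.ker => z.1.1)
      (hx ⟨⟨k, inKer_mem_cent hk⟩, MonoidHom.mem_ker.2 ((rep_eq_one_iff _).2 hk)⟩)
  · exact fun x y => commutator_cases hc hζ2 hsq x y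

end Cfsg.Agent.H92.CoTwoCent
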