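import Mathlib
import Cfsg.Prelude.Def_Sporadic_a

set_option autoImplicit false

namespace Cfsg.Agent.H92.Golay

/-- Boolean table for the squares modulo 23. -/
def sqList : List (ZMod 23) := [0, 1, 2, 3, 4, 6, 8, 9, 12, 13, 16, 18]

/-- Fast form of the generators of the code: `none` gives the all-ones word. -/
def genWord : GolayPt → GolayPt → ZMod 2
  | none, _ => 1
  | some _, none => 0
  | some t, some x => if (x - t) ∈ sqList then 1 else 0

theorem mem_sqList : ∀ x : ZMod 23, x ∈ sqList ↔ ∃ r : ZMod 23, x = r ^ 2 := by decide +kernel

theorem qrWord_eq (t : ZMod 23) : qrWord t = genWord (some t) := by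
  funext p
  rcases p with _ | x
  · rfl
  · simp only [qrWord, genWord, mem_sqList, sub_eq_iff_eq_add]

theorem genWord_mem (g : GolayPt) : genWord g ∈ golayCode := by
  rcases g with _ | t
  · exact Submodule.subset_span (Set.mem_union_right _ rfl)
  · rw [← qrWord_eq]
    exact Submodule.subset_span (Set.mem_union_left _ ⟨t, rfl⟩)

theorem one_mem : (1 : GolayPt → ZMod 2) ∈ golayCode := genWord_mem none

theorem code_induction {motive : (GolayPt → ZMod 2) → Prop} (h0 : motive 0)
    (hadd : ∀ v w, motive v → motive w → motive (v + w)) (hgen : ∀ g, motive (genWord g))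
    {w : GolayPt → ZMod 2} (hw : w ∈ golayCode) : motive w := by
  induction hw using Submodule.span_induction with
  | mem x hx =>
    rcases hx with ⟨t, rfl⟩ | rfl
    · rw [qrWord_eq]; exact hgen _
    · exact hgen none
  | zero => exact h0
  | add x y _ _ hx hy => exact hadd x y hx hy
  | smul c x _ hx =>
    rcases (show c = 0 ∨ c = 1 from by revert c; decide) with rfl | rfl
    · rwa [zero_smul]
    · rwa [one_smul]

/-- The mod-2 inner product. -/
def dot (v w : GolayPt → ZMod 2) : ZMod 2 := ∑ p, v p * w p

theorem dot_gen : ∀ g h : GolayPt, dot (genWord g) (genWord h) = 0 := by decide +kernel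

theorem dot_eq_zero {v w : GolayPt → ZMod 2} (hv : v ∈ golayCode) (hw : w ∈ golayCode) :
    dot v w = 0 := by
  refine code_induction (motive := fun v => dot v w = 0) ?_ ?_ ?_ hv
  · simp [dot]
  · intro a b ha hb
    simp only [dot, Pi.add_apply, add_mul, Finset.sum_add_distrib] at *
    rw [ha, hb, add_zero]
  · intro g
    refine code_induction (motive := fun w => dot (genWord g) w = 0) ?_ ?_ (dot_gen g) hw
    · simp [dot]
    · intro a b ha hb
      simp only [dot, Pi.add_apply, mul_add, Finset.sum_add_distrib] at *
      rw [ha, hb, add_zero]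

/-- A sum of generators. -/
def comb (l : List GolayPt) : GolayPt → ZMod 2 := fun p => (l.map fun g => genWord g p).sum

theorem comb_mem (l : List GolayPt) : comb l ∈ golayCode := by
  induction l with
  | nil => exact Submodule.zero_mem _
  | cons a t ih =>
    have : comb (a :: t) = genWord a + comb t := by funext p; simp [comb]
    rw [this]
    exact Submodule.add_mem _ (genWord_mem a) ih

def invCert : List (List GolayPt) :=
  [[some 0, none],
   [some 4, some 5, some 6, some 8, some 10],
   [some 1, some 5, some 6, some 7, some 9],
   [some 0, some 2, some 3, some 4, some 5, some 7, some 8, some 10],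
   [some 0, some 1, some 2, some 4, some 5, some 8, some 9],
   [some 0, some 9, none],
   [some 1, some 3, some 4, some 5, some 9, some 10],
   [some 1, some 2, some 3, some 5, some 6, some 8, none],
   [some 2, some 4, some 7, some 9, some 10],
   [some 0, some 5],
   [some 1, some 3, some 4, some 7, some 8, none],
   [some 0, some 2, none],
   [some 3, some 6, some 7, some 8, some 9, some 10],
   [some 0, some 7],
   [some 0, some 2, some 3, some 5, some 6, some 9, some 10, none],
   [some 0, some 3, none],
   [some 0, some 10],
   [some 0, some 4, none],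
   [some 0, some 1, some 2, some 3, some 4, some 6, some 7, some 9],
   [some 0, some 6, none],
   [some 0, some 8, none],
   [some 0, some 1, some 2, some 6, some 7, some 8, some 10, none],
   [some 0, some 1, none]]

def checkRows : List (List GolayPt) :=
  [[some 0, some 2, some 5, some 9, some 10, none],
   [some 2, some 3, some 7],
   [some 3, some 4, some 8],
   [some 2, some 3, some 4, some 5, some 7, some 9],
   [some 3, some 4, some 5, some 6, some 8, some 10],
   [some 0, some 1, some 2, some 3, some 4, some 7],
   [some 1, some 4, some 5, some 7, some 8],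
   [some 3, some 5, some 6, some 7, some 8, some 9],
   [some 4, some 6, some 7, some 8, some 9, some 10],
   [some 0, some 1, some 6, some 8, some 10],
   [some 0, some 2, some 5, some 6],
   [some 1, some 2, some 6]]

/-- The translation t ↦ t + 1. -/
def shift : Equiv.Perm GolayPt := Equiv.optionCongr (Equiv.addRight (1 : ZMod 23))

theorem inv_cert : ∀ (t : Fin 23) (p : GolayPt),
    genWord (some (t.val : ZMod 23)) (projInvFun p) = comb (invCert.getD t.val []) p := by
  decide +kernel

theorem shift_cert : ∀ t : ZMod 23, ∀ p : GolayPt,
    genWord (some t) (shift p) = genWord (some (t - 1)) p ∧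
    genWord (some t) (shift.symm p) = genWord (some (t + 1)) p := by decide +kernel

theorem comp_shift {w : GolayPt → ZMod 2} (hw : w ∈ golayCode) :
    (fun p => w (shift p)) ∈ golayCode ∧ (fun p => w (shift.symm p)) ∈ golayCode := by
  refine code_induction (motive := fun w => (fun p => w (shift p)) ∈ golayCode ∧
    (fun p => w (shift.symm p)) ∈ golayCode) ⟨?_, ?_⟩ ?_ ?_ hw
  · exact Submodule.zero_mem _
  · exact Submodule.zero_mem _
  · intro a b ha hb
    exact ⟨Submodule.add_mem _ ha.1 hb.1, Submodule.add_mem _ ha.2 hb.2⟩
  · rintro (_ | t)
    · exact ⟨one_mem, one_mem⟩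
    · constructor
      · simp only [(shift_cert t _).1]; exact genWord_mem _
      · simp only [(shift_cert t _).2]; exact genWord_mem _

theorem comp_projInv {w : GolayPt → ZMod 2} (hw : w ∈ golayCode) :
    (fun p => w (projInvFun p)) ∈ golayCode := by
  refine code_induction (motive := fun w => (fun p => w (projInvFun p)) ∈ golayCode) ?_ ?_ ?_ hw
  · exact Submodule.zero_mem _
  · intro a b ha hb
    exact Submodule.add_mem _ ha hb
  · rintro (_ | t)
    · exact one_mem
    · have h := inv_cert ⟨t.val, ZMod.val_lt t⟩
      simp only [ZMod.natCast_rightInverse t] at h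
      simp only [h]
      exact comb_mem _

/-- The coordinates carrying systematic checks: none, 0, 1, …, 10. -/
def kPt (k : Fin 12) : GolayPt := if k.val = 0 then none else some ((k.val - 1 : ℕ) : ZMod 23)

theorem check_delta : ∀ k l : Fin 12,
    comb (checkRows.getD k.val []) (kPt l) = if k = l then 1 else 0 := by decide +kernel

theorem kPt_injective : Function.Injective kPt := by decide +kernel

/-- No non-zero code word is supported on the twelve check coordinates. -/
theorem eq_zero_of_supported {w : GolayPt → ZMod 2} (hw : w ∈ golayCode)
    (hs : ∀ p, (∀ k, p ≠ kPt k) → w p = 0) (k : Fin 12) : w (kPt k) = 0 := by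
  have h := dot_eq_zero hw (comb_mem (checkRows.getD k.val []))
  rw [dot, Finset.sum_eq_single (kPt k)] at h
  · rwa [check_delta, if_pos rfl, mul_one] at h
  · intro p _ hp
    by_cases hex : ∃ l, p = kPt l
    · obtain ⟨l, rfl⟩ := hex
      rw [check_delta, if_neg (fun e => hp (congrArg kPt e).symm), mul_zero]
    · rw [hs p (fun l hl => hex ⟨l, hl⟩), zero_mul]
  · simp

end Cfsg.Agent.H92.Golay
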