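import Cfsg.Agent.Linear.Order

/-!
Matrices for the upper unitriangular subgroup of the 3-dimensional special linear group over a
field with four elements, and its images in the projective group.
-/

set_option autoImplicit false

namespace Cfsg.Agent.H92.L34

open Matrix

variable {F : Type*} [Field F]

/-- upper unitriangular element -/
def M (a b c : F) : SpecialLinearGroup (Fin 3) F :=
  ⟨!![1, a, c; 0, 1, b; 0, 0, 1], by simp [det_fin_three]⟩

/-- lower elementary element in position (2,1) -/
def low1 (t : F) : SpecialLinearGroup (Fin 3) F :=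
  ⟨!![1, 0, 0; 0, 1, 0; 0, t, 1], by simp [det_fin_three]⟩

/-- lower elementary element in position (1,0) -/
def low2 (t : F) : SpecialLinearGroup (Fin 3) F :=
  ⟨!![1, 0, 0; t, 1, 0; 0, 0, 1], by simp [det_fin_three]⟩

theorem M_mul (a b c a' b' c' : F) :
    M a b c * M a' b' c' = M (a + a') (b + b') (c + c' + a * b') := by
  apply Subtype.ext
  rw [Matrix.SpecialLinearGroup.coe_mul]
  ext i j
  fin_cases i <;> fin_cases j <;>
    simp [M, Matrix.mul_apply, Fin.sum_univ_three] <;> ring

theorem M_zero : M (0 : F) 0 0 = 1 := by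
  apply Subtype.ext
  ext i j
  fin_cases i <;> fin_cases j <;> simp [M]

theorem M_eq_iff {a b c a' b' c' : F} : M a b c = M a' b' c' ↔ a = a' ∧ b = b' ∧ c = c' := by
  constructor
  · intro h
    have h' := fun i j : Fin 3 => congrArg (fun g : SpecialLinearGroup (Fin 3) F => g.1 i j) h
    have h1 := h' 0 1
    have h2 := h' 1 2
    have h3 := h' 0 2
    simp [M] at h1 h2 h3
    exact ⟨h1, h2, h3⟩
  · rintro ⟨rfl, rfl, rfl⟩; rfl

theorem M_mem_center {a b c : F} (h : M a b c ∈ Subgroup.center (SpecialLinearGroup (Fin 3) F)) :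
    a = 0 ∧ b = 0 ∧ c = 0 := by
  obtain ⟨r, -, hr⟩ := Matrix.SpecialLinearGroup.mem_center_iff.1 h
  have h' := fun i j : Fin 3 => congrArg (fun g : Matrix (Fin 3) (Fin 3) F => g i j) hr
  have h1 := h' 0 1
  have h2 := h' 1 2
  have h3 := h' 0 2
  simp [M] at h1 h2 h3
  exact ⟨h1.symm, h2.symm, h3.symm⟩

theorem low1_M [CharP F 2] (t a b : F) : low1 t * M a 0 b = M (a + b * t) 0 b * low1 t := by
  have h2 : ∀ x : F, x + x = 0 := CharTwo.add_self_eq_zero
  apply Subtype.ext
  rw [Matrix.SpecialLinearGroup.coe_mul, Matrix.SpecialLinearGroup.coe_mul]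
  ext i j
  fin_cases i <;> fin_cases j <;>
    simp [M, low1, Matrix.mul_apply, Fin.sum_univ_three, add_assoc, h2]

theorem low2_M (t a b : F) : low2 t * M 0 a b = M 0 (a + t * b) b * low2 t := by
  apply Subtype.ext
  rw [Matrix.SpecialLinearGroup.coe_mul, Matrix.SpecialLinearGroup.coe_mul]
  ext i j
  fin_cases i <;> fin_cases j <;>
    simp [M, low2, Matrix.mul_apply, Fin.sum_univ_three]
  ring

theorem charP_two [Fintype F] (hF : Fintype.card F = 4) : CharP F 2 := by
  have h4 : ((4 : ℕ) : F) = 0 := hF ▸ Nat.cast_card_eq_zero F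
  refine CharTwo.of_one_ne_zero_of_two_eq_zero one_ne_zero ?_
  have : (2 : F) * 2 = 0 := by norm_num at h4 ⊢; exact h4
  exact mul_self_eq_zero.1 this

theorem exists_gen [Fintype F] (hF : Fintype.card F = 4) :
    ∃ ω : F, ω ≠ 0 ∧ ω ≠ 1 ∧ ∀ x : F, x = 0 ∨ x = 1 ∨ x = ω ∨ x = 1 + ω := by
  classical
  obtain ⟨ω, hω⟩ : ∃ ω : F, ω ∉ ({0, 1} : Finset F) := by
    by_contra h
    push Not at h
    have := Finset.card_le_card (show (Finset.univ : Finset F) ⊆ {0, 1} from fun x _ => h x)
    have h2 := Finset.card_le_two (a := (0 : F)) (b := 1)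
    rw [Finset.card_univ, hF] at this
    omega
  simp only [Finset.mem_insert, Finset.mem_singleton, not_or] at hω
  refine ⟨ω, hω.1, hω.2, fun x => ?_⟩
  have := charP_two hF
  have h2 : ∀ x : F, x + x = 0 := CharTwo.add_self_eq_zero
  have h3 : (1 : F) + ω ≠ 0 := by
    intro h
    exact hω.2 (by linear_combination h - h2 1)
  have hs : ({0, 1, ω, 1 + ω} : Finset F) = Finset.univ := by
    refine Finset.eq_univ_of_card _ ?_
    rw [hF]
    rw [Finset.card_insert_of_notMem, Finset.card_insert_of_notMem, Finset.card_insert_of_notMem,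
      Finset.card_singleton]
    · simpa using hω.1
    · simp only [Finset.mem_insert, Finset.mem_singleton, not_or]
      exact ⟨fun h => hω.2 h.symm, fun h => hω.1 (by linear_combination -h)⟩
    · simp only [Finset.mem_insert, Finset.mem_singleton, not_or]
      exact ⟨zero_ne_one, Ne.symm hω.1, Ne.symm h3⟩
  have hx := Finset.mem_univ x
  rw [← hs] at hx
  simpa using hx

end Cfsg.Agent.H92.L34
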