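import Mathlib
import Cfsg.Prelude.Def_Sporadic_a
import Cfsg.Agent.H92.Golay

set_option autoImplicit false

namespace Cfsg.Agent.H92.Leech

open Cfsg.Agent.H92.Golay

/-- Indicator of the residues 2, 3 mod 4. -/
def chi (a : ℤ) : ZMod 2 := if a % 4 = 2 ∨ a % 4 = 3 then 1 else 0

/-- Explicit membership criterion. -/
def Cond (x : GolayPt → ℤ) : Prop :=
  ∃ m : ℤ, (m = 0 ∨ m = 1) ∧ (∀ i, x i % 2 = m) ∧ (∑ i, x i) % 8 = 4 * m ∧
    (fun i => chi (x i)) ∈ golayCode

theorem chi_add_even_left {a b : ℤ} (ha : a % 2 = 0) : chi (a + b) = chi a + chi b := by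
  unfold chi
  rcases (show a % 4 = 0 ∨ a % 4 = 2 by omega) with h | h <;>
  rcases (show b % 4 = 0 ∨ b % 4 = 1 ∨ b % 4 = 2 ∨ b % 4 = 3 by omega) with h' | h' | h' | h' <;>
  simp [h, h', Int.add_emod] <;> decide

theorem chi_add_odd {a b : ℤ} (ha : a % 2 = 1) (hb : b % 2 = 1) :
    chi (a + b) = chi a + chi b + 1 := by
  unfold chi
  rcases (show a % 4 = 1 ∨ a % 4 = 3 by omega) with h | h <;>
  rcases (show b % 4 = 1 ∨ b % 4 = 3 by omega) with h' | h' <;>
  simp [h, h', Int.add_emod] <;> decide

theorem chi_neg_even {a : ℤ} (ha : a % 2 = 0) : chi (-a) = chi a := by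
  unfold chi
  rcases (show a % 4 = 0 ∨ a % 4 = 2 by omega) with h | h
  · rw [h, show (-a) % 4 = 0 by omega]
  · rw [h, show (-a) % 4 = 2 by omega]

theorem chi_neg_odd {a : ℤ} (ha : a % 2 = 1) : chi (-a) = chi a + 1 := by
  unfold chi
  rcases (show a % 4 = 1 ∨ a % 4 = 3 by omega) with h | h
  · rw [h, show (-a) % 4 = 3 by omega]; decide
  · rw [h, show (-a) % 4 = 1 by omega]; decide

theorem cond_add {x y : GolayPt → ℤ} (hx : Cond x) (hy : Cond y) : Cond (x + y) := by
  obtain ⟨m, hm, hxm, hxs, hxc⟩ := hx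
  obtain ⟨n, hn, hyn, hys, hyc⟩ := hy
  have hsum : ∑ i, (x + y) i = ∑ i, x i + ∑ i, y i := Finset.sum_add_distrib
  rcases hm with rfl | rfl
  · refine ⟨n, hn, fun i => ?_, by rw [hsum]; omega, ?_⟩
    · have := hxm i; have := hyn i; simp only [Pi.add_apply]; omega
    · have : (fun i => chi ((x + y) i)) = (fun i => chi (x i)) + (fun i => chi (y i)) :=
        funext fun i => chi_add_even_left (hxm i)
      rw [this]; exact Submodule.add_mem _ hxc hyc
  · rcases hn with rfl | rfl
    · refine ⟨1, Or.inr rfl, fun i => ?_, by rw [hsum]; omega, ?_⟩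
      · have := hxm i; have := hyn i; simp only [Pi.add_apply]; omega
      · have : (fun i => chi ((x + y) i)) = (fun i => chi (x i)) + (fun i => chi (y i)) :=
          funext fun i => by
            simp only [Pi.add_apply]
            rw [add_comm (x i), chi_add_even_left (hyn i), add_comm]
        rw [this]; exact Submodule.add_mem _ hxc hyc
    · refine ⟨0, Or.inl rfl, fun i => ?_, by rw [hsum]; omega, ?_⟩
      · have := hxm i; have := hyn i; simp only [Pi.add_apply]; omega
      · have : (fun i => chi ((x + y) i)) = (fun i => chi (x i)) + (fun i => chi (y i)) + 1 :=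
          funext fun i => chi_add_odd (hxm i) (hyn i)
        rw [this]; exact Submodule.add_mem _ (Submodule.add_mem _ hxc hyc) Golay.one_mem

theorem cond_neg {x : GolayPt → ℤ} (hx : Cond x) : Cond (-x) := by
  obtain ⟨m, hm, hxm, hxs, hxc⟩ := hx
  have hsum : ∑ i, (-x) i = -∑ i, x i := Finset.sum_neg_distrib _
  refine ⟨m, hm, fun i => ?_, by rw [hsum]; omega, ?_⟩
  · have := hxm i; simp only [Pi.neg_apply]; omega
  · rcases hm with rfl | rfl
    · have : (fun i => chi ((-x) i)) = fun i => chi (x i) :=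
        funext fun i => chi_neg_even (hxm i)
      rw [this]; exact hxc
    · have : (fun i => chi ((-x) i)) = (fun i => chi (x i)) + 1 :=
        funext fun i => chi_neg_odd (hxm i)
      rw [this]; exact Submodule.add_mem _ hxc Golay.one_mem

theorem support_mem_supports {c : GolayPt → ZMod 2} {S : Finset GolayPt} (hc : c ∈ golayCode)
    (h : ∀ p, p ∈ S ↔ c p ≠ 0) : S ∈ supports (golayCode : Set (GolayPt → ZMod 2)) :=
  ⟨c, hc, by ext p; simp [support₂, h]⟩

theorem mem_of_supports {S : Finset GolayPt}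
    (hS : S ∈ supports (golayCode : Set (GolayPt → ZMod 2))) :
    (fun p => if p ∈ S then (1 : ZMod 2) else 0) ∈ golayCode := by
  obtain ⟨w, hw, rfl⟩ := hS
  have : (fun p => if p ∈ support₂ w then (1 : ZMod 2) else 0) = w := by
    funext p
    have h2 : ∀ a : ZMod 2, a = 0 ∨ a = 1 := by decide
    rcases h2 (w p) with h | h <;> simp [support₂, h]
  rw [this]; exact hw

theorem cond_of_leechSet {x : GolayPt → ℤ} (hx : x ∈ leechSet) : Cond x := by
  obtain ⟨m, hpar, hsum, hcl⟩ := hx
  refine ⟨m % 2, by omega, fun i => hpar i, ?_, ?_⟩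
  · have : (∑ i, x i) % 8 = (4 * m) % 8 := hsum
    omega
  · have h2 := Submodule.add_mem _ (mem_of_supports (hcl 2)) (mem_of_supports (hcl 3))
    refine (congrArg (· ∈ golayCode) ?_).mp h2
    funext i
    have e2 : i ∈ ({i | x i ≡ 2 [ZMOD 4]} : Finset GolayPt) ↔ x i % 4 = 2 :=
      ⟨fun h => (Finset.mem_filter.mp h).2, fun h => Finset.mem_filter.mpr ⟨Finset.mem_univ _, h⟩⟩
    have e3 : i ∈ ({i | x i ≡ 3 [ZMOD 4]} : Finset GolayPt) ↔ x i % 4 = 3 :=
      ⟨fun h => (Finset.mem_filter.mp h).2, fun h => Finset.mem_filter.mpr ⟨Finset.mem_univ _, h⟩⟩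
    simp only [Pi.add_apply, e2, e3, chi]
    rcases (show x i % 4 = 0 ∨ x i % 4 = 1 ∨ x i % 4 = 2 ∨ x i % 4 = 3 by omega) with
      h | h | h | h <;> simp [h]

theorem mem_filterI {x : GolayPt → ℤ} {k : ℤ} {i : GolayPt} :
    i ∈ (Finset.univ.filter fun i => x i ≡ k [ZMOD 4]) ↔ x i % 4 = k % 4 :=
  ⟨fun h => (Finset.mem_filter.mp h).2, fun h => Finset.mem_filter.mpr ⟨Finset.mem_univ _, h⟩⟩

theorem leechSet_of_cond {x : GolayPt → ℤ} (hx : Cond x) : x ∈ leechSet := by
  obtain ⟨m, hm, hxm, hxs, hxc⟩ := hx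
  refine ⟨m, fun i => ?_, ?_, fun k => ?_⟩
  · show x i % 2 = m % 2
    have := hxm i; omega
  · show (∑ i, x i) % 8 = (4 * m) % 8
    omega
  · have h4 : k % 4 = 0 ∨ k % 4 = 1 ∨ k % 4 = 2 ∨ k % 4 = 3 := by omega
    have hne : k % 2 ≠ m → (Finset.univ.filter fun i => x i ≡ k [ZMOD 4]) ∈
        supports (golayCode : Set (GolayPt → ZMod 2)) := by
      intro h
      refine support_mem_supports (Submodule.zero_mem _) (fun i => ?_)
      have := hxm i
      simp only [mem_filterI, Pi.zero_apply, ne_eq,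
        not_true_eq_false, iff_false]
      omega
    by_cases hk : k % 2 = m
    · by_cases hhi : k % 4 = 2 ∨ k % 4 = 3
      · refine support_mem_supports hxc (fun i => ?_)
        have := hxm i
        simp only [mem_filterI, chi]
        split_ifs with h
        · simp; omega
        · simp; omega
      · refine support_mem_supports (Submodule.add_mem _ hxc Golay.one_mem) (fun i => ?_)
        have := hxm i
        simp only [mem_filterI, chi, Pi.add_apply,
          Pi.one_apply]
        split_ifs with h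
        · simp [show (1 + 1 : ZMod 2) = 0 from rfl]; omega
        · simp; omega
    · exact hne hk

theorem mem_iff {x : GolayPt → ℤ} : x ∈ leechLattice ↔ Cond x := by
  refine ⟨fun hx => ?_, fun hx => AddSubgroup.subset_closure (leechSet_of_cond hx)⟩
  induction hx using AddSubgroup.closure_induction with
  | mem x h => exact cond_of_leechSet h
  | zero =>
    refine ⟨0, Or.inl rfl, fun i => rfl, by simp, ?_⟩
    exact Submodule.zero_mem _
  | add x y _ _ hx hy => exact cond_add hx hy
  | neg x _ hx => exact cond_neg hx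

theorem cond_four {y : GolayPt → ℤ} (hy : (∑ i, y i) % 2 = 0) : Cond (fun i => 4 * y i) := by
  refine ⟨0, Or.inl rfl, fun i => by beta_reduce; omega, by rw [← Finset.mul_sum]; omega, ?_⟩
  have : (fun i => chi (4 * y i)) = 0 := funext fun i => by
    unfold chi; beta_reduce; rw [if_neg (by omega)]; rfl
  rw [this]; exact Submodule.zero_mem _

theorem cond_two {y : GolayPt → ℤ} (hy : (∑ i, y i) % 4 = 0)
    (hc : (fun i => (y i : ZMod 2)) ∈ golayCode) : Cond (fun i => 2 * y i) := by
  refine ⟨0, Or.inl rfl, fun i => by beta_reduce; omega, by rw [← Finset.mul_sum]; omega, ?_⟩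
  refine (congrArg (· ∈ golayCode) (funext fun i => ?_)).mp hc
  unfold chi
  beta_reduce
  rw [← ZMod.intCast_mod (y i) 2]
  rcases (show y i % 2 = 0 ∨ y i % 2 = 1 by omega) with h | h
  · rw [show ((2 : ℕ) : ℤ) = 2 from rfl, h, if_neg (by omega)]; rfl
  · rw [show ((2 : ℕ) : ℤ) = 2 from rfl, h, if_pos (by omega)]; rfl

theorem code_of_cond_two {y : GolayPt → ℤ} (h : Cond (fun i => 2 * y i)) :
    (∑ i, y i) % 4 = 0 ∧ (fun i => (y i : ZMod 2)) ∈ golayCode := by
  obtain ⟨m, hm, hpar, hsum, hc⟩ := h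
  have := hpar none
  beta_reduce at this
  rw [← Finset.mul_sum] at hsum
  refine ⟨by omega, ?_⟩
  refine (congrArg (· ∈ golayCode) (funext fun i => ?_)).mp hc
  unfold chi
  beta_reduce
  rw [← ZMod.intCast_mod (y i) 2]
  rcases (show y i % 2 = 0 ∨ y i % 2 = 1 by omega) with h | h
  · rw [show ((2 : ℕ) : ℤ) = 2 from rfl, h, if_neg (by omega)]; rfl
  · rw [show ((2 : ℕ) : ℤ) = 2 from rfl, h, if_pos (by omega)]; rfl

/-! ### Monomial automorphisms -/

theorem cond_comp {x : GolayPt → ℤ} (σ : GolayPt ≃ GolayPt)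
    (hσ : ∀ w ∈ golayCode, (fun p => w (σ p)) ∈ golayCode) (hx : Cond x) :
    Cond (fun p => x (σ p)) := by
  obtain ⟨m, hm, hpar, hsum, hc⟩ := hx
  exact ⟨m, hm, fun i => hpar _, by rw [Equiv.sum_comp σ x]; exact hsum, hσ _ hc⟩

/-- The element of `Co0` induced by a permutation of coordinates preserving the code. -/
def permEl (σ : GolayPt ≃ GolayPt) (h₁ : ∀ w ∈ golayCode, (fun p => w (σ p)) ∈ golayCode)
    (h₂ : ∀ w ∈ golayCode, (fun p => w (σ.symm p)) ∈ golayCode) : Co0 :=
  ⟨{ toFun := fun v => ⟨fun p => (v : GolayPt → ℤ) (σ.symm p),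
       mem_iff.mpr (cond_comp σ.symm h₂ (mem_iff.mp v.2))⟩
     invFun := fun v => ⟨fun p => (v : GolayPt → ℤ) (σ p),
       mem_iff.mpr (cond_comp σ h₁ (mem_iff.mp v.2))⟩
     left_inv := fun v => by ext p; simp
     right_inv := fun v => by ext p; simp },
   fun v w => rfl,
   fun v => Equiv.sum_comp σ.symm (fun p => (v : GolayPt → ℤ) p ^ 2)⟩

theorem permEl_apply (σ : GolayPt ≃ GolayPt) (h₁ h₂) (v : leechLattice) (p : GolayPt) :
    ((permEl σ h₁ h₂ • v : leechLattice) : GolayPt → ℤ) p = (v : GolayPt → ℤ) (σ.symm p) := rfl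

/-- The lattice automorphism of t ↦ t + 1. -/
def shiftEl : Co0 := permEl shift (fun _ hw => (comp_shift hw).1) (fun _ hw => (comp_shift hw).2)

/-- The lattice automorphism of x ↦ -1/x. -/
def invEl : Co0 := permEl projInv (fun _ hw => comp_projInv hw) (fun _ hw => comp_projInv hw)

/-- Flip the signs on the squares modulo 23. -/
def flip (p : GolayPt) (a : ℤ) : ℤ := if genWord (some 0) p = 1 then -a else a

theorem flip_flip (p : GolayPt) (a : ℤ) : flip p (flip p a) = a := by
  unfold flip; split_ifs <;> simp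

theorem cond_flip {x : GolayPt → ℤ} (hx : Cond x) : Cond (fun p => flip p (x p)) := by
  obtain ⟨m, hm, hpar, hsum, hc⟩ := hx
  have horth := dot_eq_zero (genWord_mem (some 0)) hc
  refine ⟨m, hm, fun i => ?_, ?_, ?_⟩
  · have := hpar i
    unfold flip; beta_reduce; split_ifs <;> omega
  · set P := Finset.univ.filter (fun p => genWord (some 0) p = 1) with hP
    have hflip : ∑ p, flip p (x p) = ∑ p, x p - 2 * ∑ p ∈ P, x p := by
      rw [hP, Finset.sum_filter, Finset.mul_sum, ← Finset.sum_sub_distrib]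
      refine Finset.sum_congr rfl (fun p _ => ?_)
      unfold flip; split_ifs <;> ring
    have hdec : ∀ p ∈ P, ∃ q : ℤ, x p = m + 2 * ((chi (x p)).val : ℤ) + 4 * q := by
      intro p _
      refine ⟨x p / 4, ?_⟩
      have := hpar p
      unfold chi
      split_ifs with h
      · simp only [ZMod.val_one]; omega
      · simp only [ZMod.val_zero]; omega
    have hcard : P.card = 12 := by rw [hP]; decide +kernel
    have hdvd : (4 : ℤ) ∣ ∑ p ∈ P, x p := by
      have h1 : (4 : ℤ) ∣ ∑ p ∈ P, (x p - m - 2 * ((chi (x p)).val : ℤ)) :=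
        Finset.dvd_sum fun p hp => by obtain ⟨q, hq⟩ := hdec p hp; exact ⟨q, by omega⟩
      simp only [Finset.sum_sub_distrib, Finset.sum_const, hcard, ← Finset.mul_sum] at h1
      have h2 : (2 : ℤ) ∣ ∑ p ∈ P, ((chi (x p)).val : ℤ) := by
        apply (ZMod.intCast_zmod_eq_zero_iff_dvd _ 2).mp
        push_cast
        simp only [ZMod.natCast_rightInverse _]
        rw [hP, Finset.sum_filter]
        rw [dot] at horth
        refine Eq.trans ?_ horth
        refine Finset.sum_congr rfl (fun p _ => ?_)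
        rcases (show genWord (some 0) p = 0 ∨ genWord (some 0) p = 1 from by
          generalize genWord (some 0) p = a; revert a; decide) with h | h <;> simp [h]
      obtain ⟨a, ha⟩ := h1
      obtain ⟨b, hb⟩ := h2
      refine ⟨a + 3 * m + b, ?_⟩
      simp only [nsmul_eq_mul, Nat.cast_ofNat] at ha
      omega
    rw [hflip]; omega
  · rcases hm with rfl | rfl
    · refine (congrArg (· ∈ golayCode) (funext fun i => ?_)).mp hc
      unfold flip; beta_reduce; split_ifs
      · rw [chi_neg_even (hpar i)]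
      · rfl
    · refine (congrArg (· ∈ golayCode) (funext fun i => ?_)).mp
        (Submodule.add_mem _ hc (genWord_mem (some 0)))
      simp only [Pi.add_apply]
      unfold flip
      rcases (show genWord (some 0) i = 0 ∨ genWord (some 0) i = 1 from by
          generalize genWord (some 0) i = a; revert a; decide) with h | h <;> simp [h]
      exact (chi_neg_odd (hpar i)).symm

/-- The lattice automorphism changing signs on the squares modulo 23. -/
def flipEl : Co0 :=
  ⟨{ toFun := fun v => ⟨fun p => flip p ((v : GolayPt → ℤ) p),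
       mem_iff.mpr (cond_flip (mem_iff.mp v.2))⟩
     invFun := fun v => ⟨fun p => flip p ((v : GolayPt → ℤ) p),
       mem_iff.mpr (cond_flip (mem_iff.mp v.2))⟩
     left_inv := fun v => Subtype.ext (funext fun p => flip_flip p _)
     right_inv := fun v => Subtype.ext (funext fun p => flip_flip p _) },
   fun v w => by
     apply Subtype.ext; funext p
     show flip p ((v : GolayPt → ℤ) p + (w : GolayPt → ℤ) p) =
       flip p ((v : GolayPt → ℤ) p) + flip p ((w : GolayPt → ℤ) p)
     unfold flip; split_ifs <;> ring,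
   fun v => by
     show ∑ p, flip p ((v : GolayPt → ℤ) p) ^ 2 = ∑ p, (v : GolayPt → ℤ) p ^ 2
     refine Finset.sum_congr rfl (fun p _ => ?_)
     unfold flip; split_ifs <;> ring⟩

end Cfsg.Agent.H92.Leech
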