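import Mathlib
import Cfsg.Agent.H92.Leech

set_option autoImplicit false

namespace Cfsg.Agent.H92.Leech

open Cfsg.Agent.H92.Golay

/-- `4 (e_i + e_j)` -/
def vec (i j : GolayPt) : leechLattice :=
  ⟨fun p => 4 * ((if p = i then 1 else 0) + (if p = j then 1 else 0)),
    mem_iff.mpr (cond_four (by
      rw [Finset.sum_add_distrib, Finset.sum_ite_eq', Finset.sum_ite_eq']
      simp))⟩

theorem vec_apply (i j p : GolayPt) : (vec i j : GolayPt → ℤ) p =
    4 * ((if p = i then 1 else 0) + (if p = j then 1 else 0)) := rfl

theorem vec_comm (i j : GolayPt) : vec i j = vec j i :=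
  Subtype.ext (funext fun p => by simp only [vec_apply]; ring)

theorem permEl_vec (σ : GolayPt ≃ GolayPt) (h₁ h₂) (i j : GolayPt) :
    permEl σ h₁ h₂ • vec i j = vec (σ i) (σ j) :=
  Subtype.ext (funext fun p => by simp only [permEl_apply, vec_apply, Equiv.symm_apply_eq])

theorem flipEl_apply (v : leechLattice) (p : GolayPt) :
    ((flipEl • v : leechLattice) : GolayPt → ℤ) p = flip p ((v : GolayPt → ℤ) p) := rfl

theorem vec_self_congr (i j : GolayPt) : ∃ w : leechLattice, vec i i = vec j j + (w + w) := by
  refine ⟨⟨fun p => 4 * ((if p = i then 1 else 0) - (if p = j then 1 else 0)),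
    mem_iff.mpr (cond_four (by
      rw [Finset.sum_sub_distrib, Finset.sum_ite_eq', Finset.sum_ite_eq']
      simp))⟩, Subtype.ext (funext fun p => ?_)⟩
  simp only [AddSubgroup.coe_add, Pi.add_apply, vec_apply]
  ring

theorem vec_add_vec (i j k : GolayPt) : vec i j + vec i k = vec j k + vec i i :=
  Subtype.ext (funext fun p => by simp only [AddSubgroup.coe_add, Pi.add_apply, vec_apply]; ring)

/-- A quadratic function on the lattice modulo 2, invariant under the lattice automorphisms. -/
structure InvForm (f : leechLattice → ZMod 2) (c : leechLattice → leechLattice → ZMod 2) : Prop where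
  add : ∀ v w, f (v + w) = f v + f w + c v w
  bilin : ∀ u v w, c (u + v) w = c u w + c v w
  double : ∀ w, f (w + w) = 0
  inv : ∀ (g : Co0) v, f (g • v) = f v

namespace InvForm

variable {f : leechLattice → ZMod 2} {c : leechLattice → leechLattice → ZMod 2}

theorem symm (h : InvForm f c) (v w : leechLattice) : c v w = c w v := by
  have h1 := h.add v w
  rw [add_comm v w, h.add w v, add_comm (f w) (f v)] at h1
  exact (add_left_cancel h1).symm

theorem bilin' (h : InvForm f c) (u v w : leechLattice) : c u (v + w) = c u v + c u w := by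
  rw [h.symm, h.bilin, h.symm v, h.symm w]

theorem zero_left (h : InvForm f c) (v : leechLattice) : c 0 v = 0 := by
  have := h.bilin 0 0 v
  rwa [add_zero, left_eq_add] at this

theorem double_left (h : InvForm f c) (w v : leechLattice) : c (w + w) v = 0 := by
  rw [h.bilin]; exact CharTwo.add_self_eq_zero _

theorem f_congr (h : InvForm f c) (v w : leechLattice) : f (v + (w + w)) = f v := by
  rw [h.add, h.double, add_zero, h.symm, h.double_left, add_zero]

theorem c_congr (h : InvForm f c) (v w x : leechLattice) : c (v + (w + w)) x = c v x := by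
  rw [h.bilin, h.double_left, add_zero]

theorem c_eq (h : InvForm f c) (v w : leechLattice) : c v w = f (v + w) + f v + f w := by
  rw [h.add]
  have : ∀ a b d : ZMod 2, d = a + b + d + a + b := by decide
  exact this _ _ _

theorem c_inv (h : InvForm f c) (g : Co0) (v w : leechLattice) : c (g • v) (g • w) = c v w := by
  have : g • (v + w) = g • v + g • w := g.2.1 v w
  rw [h.c_eq, h.c_eq, ← this, h.inv, h.inv, h.inv]

theorem diag_c (h : InvForm f c) (i : GolayPt) (x : leechLattice) :
    c (vec i i) x = c (vec none none) x := by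
  obtain ⟨w, hw⟩ := vec_self_congr i none
  rw [hw, h.c_congr]

theorem diag_f (h : InvForm f c) (i : GolayPt) : f (vec i i) = f (vec none none) := by
  obtain ⟨w, hw⟩ := vec_self_congr i none
  rw [hw, h.f_congr]

/-- A function of pairs invariant under the translation and `x ↦ -1/x` is constant. -/
theorem const_of_inv {α : Type*} (F : GolayPt → GolayPt → α) (hsym : ∀ i j, F i j = F j i)
    (hT : ∀ i j, F (shift i) (shift j) = F i j) (hS : ∀ i j, F (projInv i) (projInv j) = F i j)
    (i j : GolayPt) (hij : i ≠ j) : F i j = F none (some 0) := by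
  have none_row : ∀ n : ℕ, F none (some (n : ZMod 23)) = F none (some 0) := by
    intro n
    induction n with
    | zero => simp
    | succ n ih =>
      rw [← ih, ← hT none (some (n : ZMod 23))]
      simp [shift]
  have none_row' : ∀ j, j ≠ none → F none j = F none (some 0) := by
    rintro (_ | t) hj
    · exact absurd rfl hj
    · rw [← ZMod.natCast_rightInverse t]; exact none_row _
  have zero_row : ∀ j, j ≠ some 0 → F (some 0) j = F none (some 0) := by
    intro j hj
    rw [← hS (some 0) j]
    have h0 : projInv (some 0) = none := rfl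
    rw [h0]
    exact none_row' _ (fun e => hj (projInv.injective (e.trans h0.symm)))
  have shifted : ∀ (n : ℕ) (j : GolayPt), j ≠ some (n : ZMod 23) →
      F (some (n : ZMod 23)) j = F none (some 0) := by
    intro n
    induction n with
    | zero => intro j hj; simpa using zero_row j (by simpa using hj)
    | succ n ih =>
      intro j hj
      obtain ⟨j', rfl⟩ := shift.surjective j
      have e : shift (some (n : ZMod 23)) = some ((n + 1 : ℕ) : ZMod 23) := by simp [shift]
      rw [← e, hT]
      exact ih j' (fun h' => hj (by rw [h', e]))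
  rcases i with _ | t
  · exact none_row' j hij.symm
  · rw [← ZMod.natCast_rightInverse t] at hij ⊢
    exact shifted _ j hij.symm

theorem vanish (h : InvForm f c) :
    (∀ i j, f (vec i j) = 0) ∧ ∀ i j k l, c (vec i j) (vec k l) = 0 := by
  set u := vec none none
  -- the pairing with `u` is constant on pairs
  have hshift : ∀ i j, shiftEl • vec i j = vec (shift i) (shift j) := fun i j => permEl_vec _ _ _ i j
  have hinv : ∀ i j, invEl • vec i j = vec (projInv i) (projInv j) := fun i j => permEl_vec _ _ _ i j
  have hFconst := fun i j hij => const_of_inv (fun i j => f (vec i j))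
    (fun i j => by rw [vec_comm]) (fun i j => by simp only [← hshift, h.inv])
    (fun i j => by simp only [← hinv, h.inv]) i j hij
  have hGconst := fun i j hij => const_of_inv (fun i j => c u (vec i j))
    (fun i j => by rw [vec_comm])
    (fun i j => by
      beta_reduce
      rw [← hshift, ← h.diag_c (shift none), ← hshift, h.c_inv])
    (fun i j => by
      beta_reduce
      rw [← hinv, ← h.diag_c (projInv none), ← hinv, h.c_inv]) i j hij
  beta_reduce at hFconst hGconst
  set a := f (vec none (some 0))
  -- the sign change
  have hflip1 : ∃ w : leechLattice,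
      flipEl • vec none (some 0) = vec none (some 0) + vec (some 0) (some 0) + (w + w) := by
    refine ⟨⟨fun p => 4 * (-2 * (if p = some 0 then 1 else 0)),
      mem_iff.mpr (cond_four (by rw [← Finset.mul_sum]; omega))⟩, Subtype.ext (funext fun p => ?_)⟩
    simp only [flipEl_apply, AddSubgroup.coe_add, Pi.add_apply, vec_apply, flip]
    revert p; decide +kernel
  have hflip2 : flipEl • vec (some 5) (some 7) = vec (some 5) (some 7) := by
    refine Subtype.ext (funext fun p => ?_)
    simp only [flipEl_apply, vec_apply, flip]
    revert p; decide +kernel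
  have hG0 : c u (vec none (some 0)) = 0 := by
    obtain ⟨w, hw⟩ := hflip1
    have h1 := h.c_inv flipEl (vec none (some 0)) (vec (some 5) (some 7))
    rw [hw, hflip2, h.c_congr, h.bilin, h.diag_c, hGconst _ _ (by decide), add_eq_left] at h1
    exact h1
  have hu : ∀ i j, i ≠ j → c u (vec i j) = 0 := fun i j hij => (hGconst i j hij).trans hG0
  have hfu : f u = 0 := by
    obtain ⟨w, hw⟩ := hflip1
    have h1 := h.inv flipEl (vec none (some 0))
    rw [hw, h.f_congr, h.add, h.diag_f, h.symm, h.diag_c, hu _ _ (by decide), add_zero,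
      add_eq_left] at h1
    exact h1
  have hcu : ∀ i j, c u (vec i j) = 0 := by
    intro i j
    by_cases hij : i = j
    · subst hij
      rw [h.symm, h.diag_c, h.c_eq, h.double, hfu]; rfl
    · exact hu i j hij
  have hcd : ∀ m i j, c (vec m m) (vec i j) = 0 := fun m i j => by rw [h.diag_c]; exact hcu i j
  have hadj : ∀ i j k, i ≠ j → i ≠ k → j ≠ k → c (vec i j) (vec i k) = a := by
    intro i j k h1 h2 h3
    rw [h.c_eq, vec_add_vec, h.add, h.diag_f, hfu, h.symm, hcd, hFconst _ _ h1, hFconst _ _ h2,
      hFconst _ _ h3]
    generalize a = b; revert b; decide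
  have hdis : ∀ i j k l, i ≠ j → i ≠ k → i ≠ l → j ≠ k → j ≠ l → k ≠ l →
      c (vec i j) (vec k l) = 0 := by
    intro i j k l h1 h2 h3 h4 h5 h6
    have e := congrArg (c (vec i j)) (vec_add_vec i k l)
    rw [h.bilin', h.bilin', h.symm _ (vec i i), hcd, add_zero, hadj i j k h1 h2 h4,
      hadj i j l h1 h3 h5, CharTwo.add_self_eq_zero] at e
    exact e.symm
  -- `a = 0` from a code word of weight 12
  have ha : a = 0 := by
    set P := Finset.univ.filter (fun p => genWord (some 0) p = 1) with hP
    let y : GolayPt → ℤ := fun p =>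
      (if genWord (some 0) p = 1 then 1 else 0) + (if p = none then 12 else 0)
    have hdbl : ∃ w : leechLattice, ∑ p ∈ P, vec none p = w + w := by
      refine ⟨⟨fun p => 2 * y p, mem_iff.mpr (cond_two (by decide +kernel) ?_)⟩,
        Subtype.ext (funext fun p => ?_)⟩
      · refine (congrArg (· ∈ golayCode) (funext ?_)).mp (genWord_mem (some 0))
        decide +kernel
      · simp only [AddSubgroup.coe_add, Pi.add_apply, AddSubmonoidClass.coe_finsetSum,
          Finset.sum_apply, vec_apply]
        rw [hP]
        revert p; decide +kernel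
    obtain ⟨w, hw⟩ := hdbl
    have hsum : ∀ s : Finset GolayPt, c (∑ p ∈ s, vec none p) (vec (some 0) (some 5)) =
        ∑ p ∈ s, c (vec none p) (vec (some 0) (some 5)) := by
      intro s
      induction s using Finset.induction_on with
      | empty => simp [h.zero_left]
      | insert p s hps ih => rw [Finset.sum_insert hps, Finset.sum_insert hps, h.bilin, ih]
    have h1 := hsum P
    rw [hw, h.double_left, Finset.sum_eq_single (some 0)] at h1
    · rw [vec_comm none (some 0), hadj _ _ _ (by decide) (by decide) (by decide)] at h1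
      exact h1.symm
    · intro p hp hp0
      have hp' : p ≠ none ∧ p ≠ some 5 := by
        have := (Finset.mem_filter.mp hp).2
        constructor <;> rintro rfl <;> revert this <;> decide +kernel
      exact hdis none p (some 0) (some 5) hp'.1.symm (by decide) (by decide) hp0 hp'.2 (by decide)
    · intro hp
      exact absurd (Finset.mem_filter.mpr ⟨Finset.mem_univ _, by decide +kernel⟩) hp
  have hf : ∀ i j, f (vec i j) = 0 := by
    intro i j
    by_cases hij : i = j
    · subst hij; rw [h.diag_f, hfu]
    · rw [hFconst i j hij, ha]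
  refine ⟨hf, fun i j k l => ?_⟩
  by_cases hij : i = j
  · subst hij; exact hcd _ _ _
  by_cases hkl : k = l
  · subst hkl; rw [h.symm]; exact hcd _ _ _
  have same : ∀ i j, i ≠ j → c (vec i j) (vec i j) = 0 := by
    intro i j _
    rw [h.c_eq, h.double, hf]; rfl
  by_cases hik : i = k
  · subst hik
    by_cases hjl : j = l
    · subst hjl; exact same _ _ hij
    · rw [hadj i j l hij hkl hjl, ha]
  by_cases hil : i = l
  · subst hil
    rw [vec_comm k i]
    by_cases hjk : j = k
    · subst hjk; exact same _ _ hij
    · rw [hadj i j k hij hik hjk, ha]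
  by_cases hjk : j = k
  · subst hjk
    rw [vec_comm i j, hadj j i l (Ne.symm hij) hkl hil, ha]
  by_cases hjl : j = l
  · subst hjl
    rw [vec_comm i j, vec_comm k j, hadj j i k (Ne.symm hij) hjk hik, ha]
  exact hdis i j k l hij hik hil hjk hjl hkl

/-- The subgroup spanned by the `4 (e_i + e_j)` is totally singular. -/
theorem vanish_closure (h : InvForm f c) {v : leechLattice}
    (hv : v ∈ AddSubgroup.closure {w | ∃ i j, vec i j = w}) : f v = 0 := by
  obtain ⟨hf, hc⟩ := h.vanish
  have hcv : ∀ x ∈ AddSubgroup.closure {w | ∃ i j, vec i j = w}, ∀ k l, c x (vec k l) = 0 := by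
    intro x hx k l
    induction hx using AddSubgroup.closure_induction with
    | mem x hx => obtain ⟨i, j, rfl⟩ := hx; exact hc _ _ _ _
    | zero => exact h.zero_left _
    | add x y _ _ hx hy => rw [h.bilin, hx, hy, add_zero]
    | neg x _ hx =>
      have := h.bilin (-x) x (vec k l)
      rw [neg_add_cancel, h.zero_left, hx, add_zero] at this
      exact this.symm
  have hcc : ∀ x ∈ AddSubgroup.closure {w | ∃ i j, vec i j = w},
      ∀ y ∈ AddSubgroup.closure {w | ∃ i j, vec i j = w}, c x y = 0 := by
    intro x hx y hy
    induction hy using AddSubgroup.closure_induction with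
    | mem y hy => obtain ⟨i, j, rfl⟩ := hy; exact hcv x hx _ _
    | zero => rw [h.symm]; exact h.zero_left _
    | add a b _ _ ha hb => rw [h.bilin', ha, hb, add_zero]
    | neg a _ ha =>
      have := h.bilin' x (-a) a
      rw [neg_add_cancel, h.symm x 0, h.zero_left, ha, add_zero] at this
      exact this.symm
  induction hv using AddSubgroup.closure_induction with
  | mem x hx => obtain ⟨i, j, rfl⟩ := hx; exact hf _ _
  | zero => simpa using h.double 0
  | add x y hx' hy' hx hy => rw [h.add, hx, hy, hcc x hx' y hy']; rfl
  | neg x hx' hx =>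
    have := h.add (-x) x
    rw [neg_add_cancel, hx, hcc _ (AddSubgroup.neg_mem _ hx') x hx'] at this
    have h0 : f 0 = 0 := by simpa using h.double 0
    simpa [h0] using this.symm

end InvForm

/-- The twelve test vectors. -/
def X (ε : Fin 12 → Fin 2) : leechLattice := ∑ k, (ε k).val • vec none (kPt k)

theorem X_mem (ε : Fin 12 → Fin 2) : X ε ∈ AddSubgroup.closure {w | ∃ i j, vec i j = w} :=
  AddSubgroup.sum_mem _ fun k _ =>
    AddSubgroup.nsmul_mem _ (AddSubgroup.subset_closure
      (show vec none (kPt k) ∈ {w | ∃ i j, vec i j = w} from ⟨_, _, rfl⟩)) _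

theorem X_congr {ε δ : Fin 12 → Fin 2} (h : ∃ w : leechLattice, X ε - X δ = w + w) : ε = δ := by
  obtain ⟨w, hw⟩ := h
  let d : Fin 12 → ℤ := fun k => ((ε k).val : ℤ) - ((δ k).val : ℤ)
  let D : GolayPt → ℤ := fun p =>
    ∑ k, d k * ((if p = none then 1 else 0) + (if p = kPt k then 1 else 0))
  have hwD : (w : GolayPt → ℤ) = fun p => 2 * D p := by
    funext p
    have := congrArg (fun v : leechLattice => (v : GolayPt → ℤ) p) hw
    simp only [X, AddSubgroup.coe_sub, AddSubgroup.coe_add, AddSubmonoidClass.coe_finsetSum,
      AddSubgroupClass.coe_nsmul, Pi.sub_apply, Pi.add_apply, Finset.sum_apply, Pi.smul_apply,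
      vec_apply, nsmul_eq_mul] at this
    simp only [Finset.sum_apply, Pi.mul_apply, Pi.natCast_apply, vec_apply] at this
    have h4 : 4 * D p = (w : GolayPt → ℤ) p + (w : GolayPt → ℤ) p := by
      rw [← this, Finset.mul_sum, ← Finset.sum_sub_distrib]
      refine Finset.sum_congr rfl (fun k _ => ?_)
      simp only [d, Pi.natCast_apply, Pi.mul_apply]
      push_cast
      ring
    omega
  obtain ⟨hsum, hcode⟩ := code_of_cond_two (hwD ▸ mem_iff.mp w.2)
  have hsupp : ∀ p, (∀ k, p ≠ kPt k) → (D p : ZMod 2) = 0 := by
    intro p hp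
    have : p ≠ none := fun e => hp 0 (by rw [e]; rfl)
    simp [D, this, hp]
  have hD : ∀ k : Fin 12, k ≠ 0 → D (kPt k) = d k := by
    intro k hk
    have hne : kPt k ≠ none := fun e => hk (kPt_injective (e.trans (show none = kPt 0 from rfl)))
    simp only [D, hne, if_false, zero_add]
    rw [Finset.sum_eq_single k]
    · simp
    · intro l _ hl
      rw [if_neg (fun e => hl (kPt_injective e).symm), mul_zero]
    · simp
  have hd : ∀ k : Fin 12, k ≠ 0 → d k = 0 := by
    intro k hk
    have h1 := eq_zero_of_supported hcode hsupp k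
    rw [hD k hk] at h1
    have h2 := (ZMod.intCast_zmod_eq_zero_iff_dvd _ _).mp h1
    simp only [d] at h2 ⊢
    omega
  have hd0 : d 0 = 0 := by
    have : ∑ p, D p = 2 * d 0 := by
      simp only [D]
      rw [Finset.sum_comm, Finset.sum_eq_single 0]
      · rw [← Finset.mul_sum, Finset.sum_add_distrib, Finset.sum_ite_eq', Finset.sum_ite_eq']
        simp; ring
      · intro l _ hl; simp [hd l hl]
      · simp
    rw [this] at hsum
    simp only [d] at hsum ⊢
    omega
  funext k
  have := (show d k = 0 from if hk : k = 0 then hk ▸ hd0 else hd k hk)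
  simp only [d] at this
  omega

end Cfsg.Agent.H92.Leech
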