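import Cfsg.Agent.H92.LeechModTwo

/-!
The stabiliser of a minimal vector: no normal 2-subgroup, no isotropic invariant classes; the
faithful irreducible action on the lattice modulo twice itself.
-/

set_option autoImplicit false

namespace Cfsg.Agent.H92.LeechTwo

open Cfsg Cfsg.Agent.Golay
open scoped Pointwise

/-- the second base point -/
abbrev qA : GolayPt := some 0

theorem co0_ext {g h : Co0} (H : ∀ x : leechLattice, g • x = h • x) : g = h :=
  Subtype.ext (Equiv.ext H)

theorem repA_val (p : GolayPt) : (repA : GolayPt → ℤ) p = if p = none ∨ p = qA then 4 else 0 := rfl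

/-- sign change by a code word given as a mask -/
def sg (m : ℕ) (hm : m ∈ codeList) : Co0 :=
  signAut ⟨ptSet m, (ptSet_mem_supports_iff (codeList_lt hm)).2 hm⟩

theorem sg_apply (m : ℕ) (hm : m ∈ codeList) (x : leechLattice) (i : GolayPt) :
    (sg m hm • x : leechLattice).1 i = if m.testBit (idx i) then -x.1 i else x.1 i := by
  rw [sg, signAut_apply]
  simp only [mem_ptSet]

/-- diagonal elements fixing the reference minimal vector -/
def diagFix : Subgroup Co0 where
  carrier := {g | g • repA = repA ∧ ∀ i, (∀ x : leechLattice, (g • x).1 i = x.1 i) ∨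
    (∀ x : leechLattice, (g • x).1 i = -x.1 i)}
  one_mem' := ⟨one_smul _ _, fun i => Or.inl fun x => by rw [one_smul]⟩
  mul_mem' := by
    rintro g h ⟨hg, hg'⟩ ⟨hh, hh'⟩
    refine ⟨by rw [mul_smul, hh, hg], fun i => ?_⟩
    rcases hg' i with a | a <;> rcases hh' i with b | b
    · exact Or.inl fun x => by rw [mul_smul, a, b]
    · exact Or.inr fun x => by rw [mul_smul, a, b]
    · exact Or.inr fun x => by rw [mul_smul, a, b]
    · exact Or.inl fun x => by rw [mul_smul, a, b, neg_neg]
  inv_mem' := by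
    rintro g ⟨hg, hg'⟩
    refine ⟨inv_smul_eq_iff.2 hg.symm, fun i => ?_⟩
    rcases hg' i with a | a
    · exact Or.inl fun x => by rw [← a (g⁻¹ • x), smul_inv_smul]
    · refine Or.inr fun x => ?_
      have h := a (g⁻¹ • x)
      rw [smul_inv_smul] at h
      rw [h, neg_neg]

theorem isPGroup_diagFix : IsPGroup 2 diagFix := by
  rintro ⟨g, -, hg⟩
  refine ⟨1, Subtype.ext (co0_ext fun x => Subtype.ext (funext fun i => ?_))⟩
  simp only [pow_one, pow_two, Subgroup.coe_mul, Subgroup.coe_one, mul_smul, one_smul]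
  rcases hg i with a | a <;> rw [a, a]
  exact neg_neg _

theorem sg_mem {m : ℕ} (hm : m ∈ codeList) (hp : m.testBit 23 = false) (hq : m.testBit 0 = false) :
    sg m hm ∈ diagFix := by
  refine ⟨Subtype.ext (funext fun i => ?_), fun i => ?_⟩
  · rw [sg_apply, repA_val]
    by_cases h : i = none ∨ i = qA
    · rcases h with rfl | rfl
      · rw [if_neg (by rw [show idx none = 23 from rfl, hp]; decide)]
      · rw [if_neg (by rw [show idx qA = 0 from rfl, hq]; decide)]
    · rw [if_neg h]; simp
  · cases hb : m.testBit (idx i)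
    · exact Or.inl fun x => by rw [sg_apply, hb]; simp
    · exact Or.inr fun x => by rw [sg_apply, hb]; simp

/-- minimal vectors orthogonal to the reference one -/
def Om (w : leechLattice) : Prop := nrm w = 32 ∧ dt repA w = 0

theorem dt_repA (w : leechLattice) : dt repA w = 4 * (w.1 none + w.1 qA) := dot_repA w.1

/-- the second reference minimal vector -/
def wA : leechLattice := repA - axisVec qA

theorem wA_val (p : GolayPt) :
    (wA : GolayPt → ℤ) p = if p = none then 4 else if p = qA then -4 else 0 := by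
  show repFour p - (Pi.single qA 8 : GolayPt → ℤ) p = _
  rcases eq_or_ne p none with rfl | h1
  · simp [repFour]
  · rcases eq_or_ne p (qA) with rfl | h2
    · simp [repFour]
    · simp [repFour, h1, h2]

theorem om_wA : Om wA := by
  refine ⟨?_, by rw [dt_repA, wA_val, wA_val]; simp⟩
  show sqNorm (wA : GolayPt → ℤ) = 32
  rw [show (wA : GolayPt → ℤ) = fun p => if p = none then 4 else if p = qA then -4 else 0 from
    funext wA_val]
  decide +kernel

theorem dt_wA (x : leechLattice) : dt wA x = 4 * (x.1 none - x.1 qA) := by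
  rw [dt, show (wA : GolayPt → ℤ) = fun p => if p = none then 4 else if p = qA then -4 else 0 from
    funext wA_val, dotInt, Finset.sum_eq_add none qA (by simp) (fun c _ hc => by simp [hc.1, hc.2])
    (by simp) (by simp)]
  simp; ring

/-- an odd minimal vector with large coordinate at `k` -/
def ukFun (k : GolayPt) : GolayPt → ℤ :=
  fun p => (if p = k then -3 else 1) * (if (5279 : ℕ).testBit (idx p) then -1 else 1)

theorem uk_facts : ∀ k : GolayPt, k ≠ none → k ≠ qA → inLeech (ukFun k) = true ∧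
    sqNorm (ukFun k) = 32 ∧ ukFun k none = 1 ∧ ukFun k qA = -1 := by decide +kernel

theorem vec_facts : ∀ k l : GolayPt, k ≠ l →
    sqNorm (fun p => 4 * ((if p = k then (1 : ℤ) else 0) + (if p = l then 1 else 0))) = 32 ∧
    sqNorm (fun p => 4 * ((if p = k then (1 : ℤ) else 0) - (if p = l then 1 else 0))) = 32 := by
  decide +kernel

theorem third_pt : ∀ k : GolayPt, ∃ l : GolayPt, l ≠ k ∧ l ≠ none ∧ l ≠ qA := by decide

theorem dt_zsmul (n : ℤ) (x y : leechLattice) : dt (n • x) y = n * dt x y := by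
  simp only [dt, dotInt, Finset.mul_sum, AddSubgroup.coe_zsmul, Pi.smul_apply, smul_eq_mul, mul_assoc]

/-- an isometry fixing every orthogonal minimal vector and the reference one up to sign is scalar -/
theorem scalar_of_fixes (e : Co0) (hA : e • repA = repA ∨ e • repA = -repA)
    (hO : ∀ w, Om w → e • w = w ∨ e • w = -w) :
    (∀ x : leechLattice, e • x = x) ∨ ∀ x : leechLattice, e • x = -x := by
  have hdot : ∀ x y : leechLattice, dt (e • x) (e • y) = dt x y := fun x y => co0_dot e x y
  have link : ∀ w w' : leechLattice, ∀ a b : ℤ, (a = 1 ∨ a = -1) → (b = 1 ∨ b = -1) →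
      e • w = a • w → e • w' = b • w' → dt w w' ≠ 0 → b = a := by
    intro w w' a b ha hb h1 h2 hne
    have h := hdot w w'
    rw [h1, h2, dt_zsmul, dt_comm, dt_zsmul, dt_comm] at h
    rcases ha with rfl | rfl <;> rcases hb with rfl | rfl <;> first
      | rfl
      | (exfalso; apply hne; linarith)
  have hsgn : ∀ w, Om w → ∃ a : ℤ, (a = 1 ∨ a = -1) ∧ e • w = a • w := fun w hw => by
    rcases hO w hw with h | h
    · exact ⟨1, Or.inl rfl, by rw [h, one_zsmul]⟩
    · exact ⟨-1, Or.inr rfl, by rw [h, neg_zsmul, one_zsmul]⟩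
  obtain ⟨δ, hδ, hδw⟩ := hsgn wA om_wA
  obtain ⟨ε, hε, hεA⟩ : ∃ a : ℤ, (a = 1 ∨ a = -1) ∧ e • repA = a • repA := by
    rcases hA with h | h
    · exact ⟨1, Or.inl rfl, by rw [h, one_zsmul]⟩
    · exact ⟨-1, Or.inr rfl, by rw [h, neg_zsmul, one_zsmul]⟩
  have haxis : ∀ k, k ≠ none → k ≠ qA → e • axisVec k = δ • axisVec k := by
    intro k hk1 hk2
    obtain ⟨l, hlk, hl1, hl2⟩ := third_pt k
    obtain ⟨hu, hun, hup, huq⟩ := uk_facts k hk1 hk2
    let u : leechLattice := ⟨ukFun k, mem_of_inLeech hu⟩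
    have omu : Om u := ⟨hun, by rw [dt_repA]; show 4 * (ukFun k none + ukFun k qA) = 0; rw [hup, huq]; norm_num⟩
    obtain ⟨a, ha, hau⟩ := hsgn u omu
    have hau' : a = δ := link wA u δ a hδ ha hδw hau (by
      rw [dt_wA]; show 4 * (ukFun k none - ukFun k qA) ≠ 0; rw [hup, huq]; norm_num)
    subst hau'
    let v1 : leechLattice := Leech.vec k l
    let v2 : leechLattice := Leech.vec k l - axisVec l
    have e1 : (v1 : GolayPt → ℤ) = fun p => 4 * ((if p = k then (1 : ℤ) else 0) + (if p = l then 1 else 0)) :=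
      funext fun p => Leech.vec_apply k l p
    have e2 : (v2 : GolayPt → ℤ) = fun p => 4 * ((if p = k then (1 : ℤ) else 0) - (if p = l then 1 else 0)) := by
      funext p
      show (Leech.vec k l : GolayPt → ℤ) p - (Pi.single l 8 : GolayPt → ℤ) p = _
      rw [Leech.vec_apply, Pi.single_apply]
      split_ifs <;> ring
    have om1 : Om v1 := ⟨by show sqNorm _ = 32; rw [e1]; exact (vec_facts k l hlk.symm).1, by
      rw [dt_repA, e1]; simp [hk1.symm, hk2.symm, hl1.symm, hl2.symm]⟩
    have om2 : Om v2 := ⟨by show sqNorm _ = 32; rw [e2]; exact (vec_facts k l hlk.symm).2, by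
      rw [dt_repA, e2]; simp [hk1.symm, hk2.symm, hl1.symm, hl2.symm]⟩
    have hdu : ∀ s : ℤ, (s = 1 ∨ s = -1) → 4 * (ukFun k k + s * ukFun k l) ≠ 0 := by
      intro s hs
      simp only [ukFun, if_pos, if_neg hlk]
      rcases hs with rfl | rfl <;> split_ifs <;> norm_num
    have d1 : dt v1 u = 4 * (ukFun k k + 1 * ukFun k l) := by
      rw [dt, e1, dotInt, Finset.sum_eq_add k l hlk.symm (fun c _ hc => by simp [hc.1, hc.2])
        (by simp) (by simp)]
      simp [u, hlk, hlk.symm]; ring
    have d2 : dt v2 u = 4 * (ukFun k k + (-1) * ukFun k l) := by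
      rw [dt, e2, dotInt, Finset.sum_eq_add k l hlk.symm (fun c _ hc => by simp [hc.1, hc.2])
        (by simp) (by simp)]
      simp [u, hlk, hlk.symm]; ring
    obtain ⟨b1, hb1, hbv1⟩ := hsgn v1 om1
    obtain ⟨b2, hb2, hbv2⟩ := hsgn v2 om2
    have hb1' := link v1 u b1 a hb1 hδ hbv1 hau (by rw [d1]; exact hdu 1 (Or.inl rfl))
    have hb2' := link v2 u b2 a hb2 hδ hbv2 hau (by rw [d2]; exact hdu (-1) (Or.inr rfl))
    have hsum : axisVec k = v1 + v2 := Subtype.ext (funext fun p => by
      show (Pi.single k 8 : GolayPt → ℤ) p = (v1 : GolayPt → ℤ) p + (v2 : GolayPt → ℤ) p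
      rw [e1, e2, Pi.single_apply]
      by_cases h1 : p = k <;> by_cases h2 : p = l <;> simp_all)
    rw [hsum, co0_smul_add, hbv1, hbv2, ← hb1', ← hb2', smul_add]
  have hcoord : ∀ (x : leechLattice) k, k ≠ none → k ≠ qA → (e • x).1 k = δ * x.1 k := by
    intro x k h1 h2
    have h := hdot x (axisVec k)
    rw [haxis k h1 h2, dt_comm, dt_zsmul, dt_comm, dt, dt] at h
    change δ * dotInt (e • x : leechLattice).1 (Pi.single k 8) = dotInt x.1 (Pi.single k 8) at h
    rw [dot_single, dot_single] at h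
    rcases hδ with rfl | rfl <;> linarith
  have hS : ∀ x : leechLattice, (e • x).1 none + (e • x).1 qA = ε * (x.1 none + x.1 qA) := by
    intro x
    have h := hdot repA x
    rw [hεA, dt_zsmul, dt_repA, dt_repA] at h
    rcases hε with rfl | rfl <;> linarith
  have hD : ∀ x : leechLattice, (e • x).1 none - (e • x).1 qA = δ * (x.1 none - x.1 qA) := by
    intro x
    have h := hdot wA x
    rw [hδw, dt_zsmul, dt_wA, dt_wA] at h
    rcases hδ with rfl | rfl <;> linarith
  have hεδ : ε = δ := by
    by_contra hne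
    have h1 := hS repC
    have h2 := hD repC
    have hp : repC.1 none = -3 := rfl
    have hq : repC.1 qA = 1 := rfl
    rw [hp, hq] at h1 h2
    have hεδ' : ε = -δ := by rcases hε with rfl | rfl <;> rcases hδ with rfl | rfl <;> omega
    set y : leechLattice := e • repC - δ • repC with hy
    have hy0 : ∀ p, y.1 p = if p = none ∨ p = qA then 2 * δ else 0 := by
      intro p
      show (e • repC : leechLattice).1 p - (δ • repC : leechLattice).1 p = _
      rw [AddSubgroup.coe_zsmul, Pi.smul_apply, smul_eq_mul]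
      by_cases hp' : p = none ∨ p = qA
      · rw [if_pos hp']
        rcases hp' with rfl | rfl
        · rw [hp]; rw [hεδ'] at h1; linarith
        · rw [hq]; rw [hεδ'] at h1; linarith
      · rw [if_neg hp']
        push Not at hp'
        rw [hcoord _ p hp'.1 hp'.2]; ring
    have hn : nrm y = 8 := by
      show sqNorm y.1 = 8
      rw [show y.1 = fun p => if p = none ∨ p = qA then 2 * δ else 0 from funext hy0]
      rcases hδ with rfl | rfl <;> decide +kernel
    have := nrm_dvd y
    omega
  subst hεδ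
  have hall : ∀ (x : leechLattice) p, (e • x).1 p = ε * x.1 p := by
    intro x p
    have h1 := hS x; have h2 := hD x
    by_cases hp1 : p = none
    · subst hp1; linarith
    by_cases hp2 : p = qA
    · subst hp2; linarith
    exact hcoord x p hp1 hp2
  rcases hδ with rfl | rfl
  · exact Or.inl fun x => Subtype.ext (funext fun p => by rw [hall]; simp)
  · exact Or.inr fun x => Subtype.ext (funext fun p => by rw [hall]; simp)

theorem fixed_mod (H : Subgroup Co0) (hH : IsPGroup 2 H) (P : Set (Set leechLattice)) (hP : P.Finite)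
    (hinv : ∀ g ∈ H, ∀ S ∈ P, g • S ∈ P) :
    P.ncard % 2 = {S ∈ P | ∀ g ∈ H, g • S = S}.ncard % 2 := by
  have : Finite P := hP.to_subtype
  let _ : MulAction H P :=
    { smul := fun g S => ⟨(g : Co0) • S.1, hinv g.1 g.2 S.1 S.2⟩
      one_smul := fun S => Subtype.ext (one_smul Co0 S.1)
      mul_smul := fun g h S => Subtype.ext (mul_smul (g : Co0) (h : Co0) S.1) }
  have h := hH.card_modEq_card_fixedPoints P
  have e : MulAction.fixedPoints H P ≃ {S ∈ P | ∀ g ∈ H, g • S = S} :=
    { toFun := fun S => ⟨S.1.1, S.1.2, fun g hg => congrArg Subtype.val (S.2 ⟨g, hg⟩)⟩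
      invFun := fun S => ⟨⟨S.1, S.2.1⟩, fun g => Subtype.ext (S.2.2 g.1 g.2)⟩
      left_inv := fun S => rfl
      right_inv := fun S => rfl }
  rw [Nat.card_congr e, Nat.card_coe_set_eq, Nat.card_coe_set_eq] at h
  exact h

/-- the pairs of opposite orthogonal minimal vectors -/
def pairs : Set (Set leechLattice) := {S | ∃ w, Om w ∧ S = {w, -w}}

theorem pairs_finite : pairs.Finite := by
  have h : {w : leechLattice | Om w}.Finite := by
    refine Set.Finite.of_finite_image (f := Subtype.val) ?_ Subtype.val_injective.injOn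
    refine (finite_normSet 32 (by norm_num) rfl).subset ?_
    rintro _ ⟨w, hw, rfl⟩
    exact ⟨w.2, hw.1⟩
  refine (h.image fun w => ({w, -w} : Set leechLattice)).subset ?_
  rintro S ⟨w, hw, rfl⟩
  exact ⟨w, hw, rfl⟩

theorem smul_pair (g : Co0) (w : leechLattice) :
    g • ({w, -w} : Set leechLattice) = {g • w, -(g • w)} := by
  rw [Set.smul_set_insert, Set.smul_set_singleton, co0_smul_neg]

theorem pairs_smul (g : Co0) (hg : g • repA = repA ∨ g • repA = -repA) {S : Set leechLattice}
    (hS : S ∈ pairs) : g • S ∈ pairs := by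
  obtain ⟨w, ⟨hw, hd⟩, rfl⟩ := hS
  refine ⟨g • w, ⟨by show sqNorm _ = 32; rw [co0_sqNorm]; exact hw, ?_⟩, smul_pair g w⟩
  have h := co0_dot g repA w
  change dt (g • repA) (g • w) = dt repA w at h
  rcases hg with e | e <;> rw [e] at h
  · rw [h, hd]
  · rw [dt_neg_left, hd] at h; linarith

theorem pair_fix {g : Co0} {w : leechLattice} (h : g • ({w, -w} : Set leechLattice) = {w, -w}) :
    g • w = w ∨ g • w = -w := by
  have : g • w ∈ ({w, -w} : Set leechLattice) := h ▸ Set.smul_mem_smul_set (Set.mem_insert w _)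
  simpa using this

theorem sep_facts : ∀ i j : GolayPt, i ≠ none → i ≠ qA → i ≠ j → ∃ m ∈ codeList,
    m.testBit 23 = false ∧ m.testBit 0 = false ∧ m.testBit (idx i) = true ∧ m.testBit (idx j) = false := by
  have h : ∀ i j : GolayPt, i ≠ none → i ≠ qA → i ≠ j → codeList.any (fun m =>
      !m.testBit 23 && !m.testBit 0 && m.testBit (idx i) && !m.testBit (idx j)) = true := by
    decide +kernel
  intro i j h1 h2 h3
  obtain ⟨m, hm, hb⟩ := List.any_eq_true.1 (h i j h1 h2 h3)
  simp only [Bool.and_eq_true, Bool.not_eq_true'] at hb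
  exact ⟨m, hm, hb.1.1.1, hb.1.1.2, hb.1.2, hb.2⟩

theorem pairs_odd : pairs.ncard % 2 = 1 := by
  rw [fixed_mod diagFix isPGroup_diagFix pairs pairs_finite fun g hg S hS => pairs_smul g (Or.inl hg.1) hS]
  have : {S ∈ pairs | ∀ g ∈ diagFix, g • S = S} = {({wA, -wA} : Set leechLattice)} := by
    ext S
    constructor
    · rintro ⟨⟨w, ⟨hn, hd⟩, rfl⟩, hfix⟩
      have hout : ∀ i, i ≠ none → i ≠ qA → w.1 i = 0 := by
        intro i hi1 hi2
        by_contra hne
        have hone : ∀ j, i ≠ j → w.1 j = 0 := by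
          intro j hij
          by_contra hj
          obtain ⟨m, hm, m23, m0, mi, mj⟩ := sep_facts i j hi1 hi2 hij
          rcases pair_fix (hfix _ (sg_mem hm m23 m0)) with h | h
          · have := congrArg (fun v : leechLattice => v.1 i) h
            simp only [sg_apply, mi, if_true] at this
            exact hne (by linarith)
          · have := congrArg (fun v : leechLattice => v.1 j) h
            simp only [sg_apply, mj, Bool.false_eq_true, if_false, AddSubgroup.coe_neg, Pi.neg_apply] at this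
            exact hj (by linarith)
        have h32 : w.1 i ^ 2 = 32 := by
          rw [← hn, nrm, sqNorm, Finset.sum_eq_single i (fun j _ hj => by rw [hone j (Ne.symm hj)]; norm_num)
            (by simp)]
        have h5 : -6 < w.1 i ∧ w.1 i < 6 := by
          constructor <;> nlinarith
        obtain ⟨a, b⟩ := h5
        interval_cases h : w.1 i <;> norm_num at h32
      have hq : w.1 qA = -w.1 none := by
        rw [dt_repA] at hd; linarith
      have h32 : w.1 none ^ 2 + w.1 qA ^ 2 = 32 := by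
        rw [← hn, nrm, sqNorm, Finset.sum_eq_add none qA (by simp)
          (fun c _ hc => by rw [hout c hc.1 hc.2]; norm_num) (by simp) (by simp)]
      rw [hq, neg_sq] at h32
      have h4 : w.1 none = 4 ∨ w.1 none = -4 := sq_eq_sq_iff_eq_or_eq_neg.1 (by linarith)
      show ({w, -w} : Set leechLattice) = {wA, -wA}
      have key : w = wA ∨ w = -wA := by
        rcases h4 with h4 | h4
        · refine Or.inl (Subtype.ext (funext fun p => ?_))
          rw [wA_val]
          split_ifs with a b
          · rw [a, h4]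
          · rw [b, hq, h4]
          · exact hout p a b
        · refine Or.inr (Subtype.ext (funext fun p => ?_))
          rw [AddSubgroup.coe_neg, Pi.neg_apply, wA_val]
          split_ifs with a b
          · rw [a, h4]
          · rw [b, hq, h4]
          · rw [hout p a b]; norm_num
      rcases key with rfl | rfl
      · rfl
      · rw [neg_neg, Set.pair_comm]
    · rintro rfl
      refine ⟨⟨wA, om_wA, rfl⟩, fun g hg => ?_⟩
      rw [smul_pair, show g • wA = wA from Subtype.ext (funext fun p => ?_)]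
      rcases hg.2 p with a | a
      · exact a wA
      · have h := a repA
        rw [hg.1, repA_val] at h
        rw [a wA, wA_val]
        split_ifs with b c
        · rw [if_pos (Or.inl b)] at h; norm_num at h
        · rw [if_pos (Or.inr c)] at h; norm_num at h
        · norm_num
  rw [this, Set.ncard_singleton]

/-- a 2-subgroup normalised by the stabiliser of the reference vector is scalar -/
theorem two_normal_scalar (E : Subgroup Co0) (hE : IsPGroup 2 E)
    (hfix : ∀ e ∈ E, e • repA = repA ∨ e • repA = -repA)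
    (hnorm : ∀ g : Co0, g • repA = repA → ∀ e ∈ E, g * e * g⁻¹ ∈ E) :
    ∀ e ∈ E, (∀ x : leechLattice, e • x = x) ∨ ∀ x : leechLattice, e • x = -x := by
  have h := fixed_mod E hE pairs pairs_finite fun g hg S hS => pairs_smul g (hfix g hg) hS
  rw [pairs_odd] at h
  obtain ⟨S, ⟨w, hw, rfl⟩, hS⟩ : ∃ S, S ∈ pairs ∧ ∀ g ∈ E, g • S = S := by
    by_contra hc
    push Not at hc
    rw [show {S ∈ pairs | ∀ g ∈ E, g • S = S} = ∅ from
      Set.eq_empty_iff_forall_notMem.2 fun S hS => by
        obtain ⟨g, hg, hne⟩ := hc S hS.1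
        exact hne (hS.2 g hg)] at h
    simp at h
  intro e he
  refine scalar_of_fixes e (hfix e he) fun w' hw' => ?_
  obtain ⟨g, hg, hgw⟩ := min_trans_zero (v := repA) (w := w) (w' := w') (by decide +kernel) hw.1 hw'.1
    hw.2 hw'.2
  have he' : g⁻¹ * e * g ∈ E := by
    simpa using hnorm g⁻¹ (inv_smul_eq_iff.2 hg.symm) e he
  have hw2 := pair_fix (hS _ he')
  have e1 : ∀ x : leechLattice, (g⁻¹ * e * g) • x = g⁻¹ • (e • (g • x)) := fun x => by rw [mul_smul, mul_smul]
  rw [e1, inv_smul_eq_iff, inv_smul_eq_iff, co0_smul_neg] at hw2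
  rcases hgw with h2 | h2
  · rw [h2] at hw2; exact hw2
  · rw [h2, co0_smul_neg, neg_inj, neg_inj] at hw2
    rcases hw2 with h3 | h3
    · exact Or.inl h3
    · exact Or.inr h3

/-! ### classes fixed by the diagonal group -/

/-- doubles and translates of the reference vector by doubles -/
def inM (y : leechLattice) : Prop := ∃ z : leechLattice, y = z + z ∨ y = repA + (z + z)

theorem inM.add {x y : leechLattice} (hx : inM x) (hy : inM y) : inM (x + y) := by
  obtain ⟨z, hz | hz⟩ := hx <;> obtain ⟨u, hu | hu⟩ := hy <;> subst hz hu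
  · exact ⟨z + u, Or.inl (by abel)⟩
  · exact ⟨z + u, Or.inr (by abel)⟩
  · exact ⟨z + u, Or.inr (by abel)⟩
  · exact ⟨repA + z + u, Or.inl (by abel)⟩

theorem inM.neg {x : leechLattice} (hx : inM x) : inM (-x) := by
  obtain ⟨z, hz | hz⟩ := hx <;> subst hz
  · exact ⟨-z, Or.inl (by abel)⟩
  · exact ⟨-repA - z, Or.inr (by abel)⟩

theorem inM_zero : inM 0 := ⟨0, Or.inl (by simp)⟩

theorem inM_double (z : leechLattice) : inM (z + z) := ⟨z, Or.inl rfl⟩

theorem inM_repA : inM repA := ⟨0, Or.inr (by simp)⟩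

theorem word_cases : ∀ w ∈ codeList, w = 0 ∨ w = fullMask ∨ ∃ m ∈ codeList, m.testBit 23 = false ∧
    m.testBit 0 = false ∧ inCode (w &&& m) = false ∧ inCode ((w &&& m) ^^^ (2 ^ 23 + 1)) = false := by
  have h : codeList.all (fun w => w == 0 || w == fullMask || codeList.any (fun m =>
      !m.testBit 23 && !m.testBit 0 && !inCode (w &&& m) && !inCode ((w &&& m) ^^^ (2 ^ 23 + 1)))) = true := by
    decide +kernel
  intro w hw
  have := List.all_eq_true.1 h w hw
  simp only [Bool.or_eq_true, beq_iff_eq, List.any_eq_true, Bool.and_eq_true, Bool.not_eq_true'] at this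
  rcases this with (a | a) | ⟨m, hm, ⟨⟨b1, b2⟩, b3⟩, b4⟩
  · exact Or.inl a
  · exact Or.inr (Or.inl a)
  · exact Or.inr (Or.inr ⟨m, hm, b1, b2, b3, b4⟩)

theorem code_of_orth {t : GolayPt → ZMod 2} (h : ∀ v ∈ golayCode, ∑ i, t i * v i = 0) :
    t ∈ golayCode := by
  let B : LinearMap.BilinForm (ZMod 2) (GolayPt → ZMod 2) := Matrix.toBilin' 1
  have hB : ∀ a b, B a b = ∑ i, a i * b i := fun a b => by
    simp [B, Matrix.toBilin'_apply', dotProduct]
  have hnd : B.Nondegenerate := Matrix.nondegenerate_toBilin'_iff.2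
    (Matrix.nondegenerate_of_det_ne_zero (by simp))
  have hle : golayCode ≤ B.orthogonal golayCode := fun x hx v hv => by
    show B v x = 0
    rw [hB]; exact dot_eq_zero hv hx
  have hfin : Module.finrank (ZMod 2) (B.orthogonal golayCode) = 12 := by
    rw [LinearMap.BilinForm.finrank_orthogonal hnd, finrank_golayCode,
      Module.finrank_fintype_fun_eq_card]
    rfl
  have heq : golayCode = B.orthogonal golayCode :=
    Submodule.eq_of_le_of_finrank_eq hle (by rw [hfin, finrank_golayCode])
  rw [heq]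
  intro v hv
  show B v t = 0
  rw [hB, ← h v hv]
  exact Finset.sum_congr rfl fun i _ => mul_comm _ _

theorem even_zero_facts : (∃ m ∈ codeList, m.testBit 23 = false ∧ m.testBit 0 = false ∧
    ∃ i j : GolayPt, m.testBit (idx i) = true ∧ m.testBit (idx j) = false ∧ j ≠ none ∧ j ≠ qA) ∧
    inCode (2 ^ 23 + 1) = false := by
  refine ⟨?_, by decide +kernel⟩
  have h : codeList.any (fun m => !m.testBit 23 && !m.testBit 0 &&
      decide (∃ i j : GolayPt, m.testBit (idx i) = true ∧ m.testBit (idx j) = false ∧ j ≠ none ∧ j ≠ qA)) = true := by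
    decide +kernel
  obtain ⟨m, hm, hb⟩ := List.any_eq_true.1 h
  simp only [Bool.and_eq_true, Bool.not_eq_true', decide_eq_true_eq] at hb
  exact ⟨m, hm, hb.1.1, hb.1.2, hb.2⟩

theorem pq_bit : ∀ p : GolayPt, (2 ^ 23 + 1 : ℕ).testBit (idx p) = decide (p = none ∨ p = qA) := by
  decide +kernel

theorem digit_bit (x : GolayPt → ℤ) (p : GolayPt) :
    (wordMask (digitWord x)).testBit (idx p) = decide ((x p / 2) % 2 = 1) := by
  rw [Bool.eq_iff_iff, ← mem_ptSet, ptSet_wordMask, mem_support₂, decide_eq_true_eq]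
  exact zmod2_eq_iff _

theorem repC_odd : ∀ i : GolayPt, oddMin i % 2 = 1 := by decide +kernel

/-- coordinates of a witness for a sign change fixing a class -/
theorem sign_witness {y : leechLattice} (h : ∀ g ∈ diagFix, inM (g • y - y)) {m : ℕ}
    (hm : m ∈ codeList) (h23 : m.testBit 23 = false) (h0 : m.testBit 0 = false) :
    ∃ z : leechLattice, (∀ i, z.1 i = if m.testBit (idx i) then -y.1 i else 0) ∨
      ∀ i, z.1 i = (if m.testBit (idx i) then -y.1 i else 0) - (if i = none ∨ i = qA then 2 else 0) := by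
  obtain ⟨z, hz⟩ := h _ (sg_mem hm h23 h0)
  refine ⟨z, hz.imp (fun e i => ?_) (fun e i => ?_)⟩ <;>
  · have h1 := congrArg (fun v : leechLattice => v.1 i) e
    simp only [AddSubgroupClass.coe_sub, Pi.sub_apply, sg_apply, AddSubgroup.coe_add,
      Pi.add_apply, repA_val] at h1
    split_ifs at h1 ⊢ <;> linarith

theorem fixed_even {y : leechLattice} (h : ∀ g ∈ diagFix, inM (g • y - y)) (i : GolayPt) :
    y.1 i % 2 = 0 := by
  obtain ⟨⟨m, hm, a23, a0, i₀, j₀, hi₀, hj₀, hj1, hj2⟩, -⟩ := even_zero_facts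
  obtain ⟨z, hz⟩ := sign_witness h hm a23 a0
  obtain ⟨mz, hz1, -, -⟩ := mem_leech_iff.1 z.2
  obtain ⟨my, hy1, -, -⟩ := mem_leech_iff.1 y.2
  have hi1 : ¬(i₀ = none ∨ i₀ = qA) := by
    rintro (e | e) <;> rw [e] at hi₀
    · rw [show idx none = 23 from rfl, a23] at hi₀; simp at hi₀
    · rw [show idx qA = 0 from rfl, a0] at hi₀; simp at hi₀
  have hzj : z.1 j₀ = 0 := by
    rcases hz with e | e <;> rw [e, hj₀] <;> simp [hj1, hj2]
  have hzi : z.1 i₀ = -y.1 i₀ := by
    rcases hz with e | e <;> rw [e, hi₀] <;> simp [hi1]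
  have := hz1 j₀; have := hz1 i₀; have := hy1 i₀; have := hy1 i
  omega

theorem fixed_word {y : leechLattice} (h : ∀ g ∈ diagFix, inM (g • y - y)) {m : ℕ}
    (hm : m ∈ codeList) (h23 : m.testBit 23 = false) (h0 : m.testBit 0 = false) :
    inCode (wordMask (digitWord y.1) &&& m) = true ∨
      inCode ((wordMask (digitWord y.1) &&& m) ^^^ (2 ^ 23 + 1)) = true := by
  obtain ⟨z, hz⟩ := sign_witness h hm h23 h0
  obtain ⟨mz, -, -, hz3⟩ := mem_leech_iff.1 z.2
  have hzc : inCode (wordMask (digitWord z.1)) = true := inCode_iff.2 (mem_golayCode_iff.1 hz3)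
  have hlt : ∀ x : GolayPt → ℤ, wordMask (digitWord x) < 2 ^ 24 := fun x => maskOf_lt _
  have hout : ∀ p, p = none ∨ p = qA → m.testBit (idx p) = false := by
    rintro p (rfl | rfl) <;> assumption
  rcases hz with e | e
  · left
    rwa [show wordMask (digitWord y.1) &&& m = wordMask (digitWord z.1) from
      ptSet_injOn (and_lt_full (hlt _)) (hlt _) (Finset.ext fun p => by
        rw [mem_ptSet, mem_ptSet, Nat.testBit_and, digit_bit, digit_bit, e p]
        have := fixed_even h p
        cases hb : m.testBit (idx p)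
        · simp
        · simp; omega)]
  · right
    rwa [show (wordMask (digitWord y.1) &&& m) ^^^ (2 ^ 23 + 1) = wordMask (digitWord z.1) from
      ptSet_injOn (xor_lt_full (and_lt_full (hlt _)) (by norm_num)) (hlt _) (Finset.ext fun p => by
        rw [mem_ptSet, mem_ptSet, Nat.testBit_xor, Nat.testBit_and, digit_bit, digit_bit, pq_bit, e p]
        have := fixed_even h p
        by_cases hp : p = none ∨ p = qA
        · simp [hp, hout p hp]
        · cases hb : m.testBit (idx p)
          · simp [hp]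
          · simp [hp]; omega)]

theorem fixed_sum {y : leechLattice} (h : ∀ g ∈ diagFix, inM (g • y - y)) (hy4 : ∀ i, y.1 i % 4 = 0)
    {m : ℕ} (hm : m ∈ codeList) (h23 : m.testBit 23 = false) (h0 : m.testBit 0 = false) :
    (∑ i, if m.testBit (idx i) then y.1 i / 4 else 0) % 2 = 0 := by
  obtain ⟨z, hz | hz⟩ := sign_witness h hm h23 h0
  · obtain ⟨mz, hz1, hz2, -⟩ := mem_leech_iff.1 z.2
    have hzi : ∀ i, z.1 i = -4 * (if m.testBit (idx i) then y.1 i / 4 else 0) := by
      intro i
      rw [hz]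
      have := hy4 i
      split_ifs <;> omega
    have hm0 := hz1 none
    rw [hzi] at hm0
    simp only [hzi, ← Finset.mul_sum] at hz2
    omega
  · exfalso
    obtain ⟨mz, -, -, hz3⟩ := mem_leech_iff.1 z.2
    have hzc : inCode (wordMask (digitWord z.1)) = true := inCode_iff.2 (mem_golayCode_iff.1 hz3)
    rw [show wordMask (digitWord z.1) = 2 ^ 23 + 1 from
      ptSet_injOn (maskOf_lt _) (by norm_num) (Finset.ext fun p => by
        rw [mem_ptSet, mem_ptSet, digit_bit, pq_bit, hz p, decide_eq_true_eq, decide_eq_true_eq]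
        have := hy4 p
        by_cases hp : p = none ∨ p = qA
        · have hb : m.testBit (idx p) = false := by rcases hp with rfl | rfl <;> assumption
          simp [hp, hb]
        · simp only [hp, if_false, iff_false, sub_zero]
          split_ifs <;> omega), even_zero_facts.2] at hzc
    simp at hzc

theorem fixed_translate {y y' : leechLattice} (h : ∀ g ∈ diagFix, inM (g • y - y))
    (hyy : inM (y - y')) : ∀ g ∈ diagFix, inM (g • y' - y') := by
  intro g hg
  have e : g • y' - y' = (g • y - y) + (-(g • (y - y')) + (y - y')) := by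
    rw [co0_smul_sub]; abel
  rw [e]
  refine (h g hg).add (inM.add (inM.neg ?_) hyy)
  obtain ⟨u, hu | hu⟩ := hyy <;> rw [hu, co0_smul_add]
  · exact inM_double _
  · rw [hg.1, co0_smul_add]
    exact inM_repA.add (inM_double _)

theorem half {u : leechLattice} (b : GolayPt → ℤ) (hu : ∀ i, u.1 i = 4 * b i)
    (hb : (fun i => (b i : ZMod 2)) ∈ golayCode) (hs : (∑ i, b i) % 4 = 0) : inM u := by
  refine ⟨⟨2 • b, mem_leech_two_smul.2 ⟨hb, hs⟩⟩, Or.inl (Subtype.ext (funext fun i => ?_))⟩
  show u.1 i = (2 • b) i + (2 • b) i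
  rw [hu]; simp; ring

theorem quarter_sum {y : leechLattice} (hy4 : ∀ i, y.1 i % 4 = 0) : (∑ i, y.1 i / 4) % 2 = 0 := by
  obtain ⟨my, hy1, hy2, -⟩ := mem_leech_iff.1 y.2
  have h0 := hy1 none
  have h4 := hy4 none
  rw [Finset.sum_congr rfl fun i _ => show y.1 i = 4 * (y.1 i / 4) by have := hy4 i; omega,
    ← Finset.mul_sum] at hy2
  omega

theorem fixed_orth {y : leechLattice} (h : ∀ g ∈ diagFix, inM (g • y - y)) (hy4 : ∀ i, y.1 i % 4 = 0)
    {v : GolayPt → ZMod 2} (hv : v ∈ golayCode) (hp : v none = 0) (hq : v qA = 0) :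
    ∑ i, ((y.1 i / 4 : ℤ) : ZMod 2) * v i = 0 := by
  have hbit : ∀ p, (wordMask v).testBit (idx p) = decide (v p ≠ 0) := fun p => by
    rw [Bool.eq_iff_iff, ← mem_ptSet, ptSet_wordMask, mem_support₂, decide_eq_true_eq]
  have h23 : (wordMask v).testBit 23 = false := by
    rw [show (23 : ℕ) = idx none from rfl, hbit, hp]; simp
  have h0 : (wordMask v).testBit 0 = false := by
    rw [show (0 : ℕ) = idx qA from rfl, hbit, hq]; simp
  have h := (ZMod.intCast_zmod_eq_zero_iff_dvd _ 2).2
    (Int.dvd_of_emod_eq_zero (fixed_sum h hy4 (mem_golayCode_iff.1 hv) h23 h0))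
  rw [Int.cast_sum] at h
  rw [← h]
  refine Finset.sum_congr rfl fun i _ => ?_
  have : ∀ a : ZMod 2, a = 0 ∨ a = 1 := by decide
  rcases this (v i) with e | e <;> simp [hbit, e]

theorem corr_facts : (maskWord 5279 : GolayPt → ZMod 2) none = 0 ∧
    (maskWord 5279 : GolayPt → ZMod 2) qA = 1 := by decide +kernel

theorem lin_decomp (t vp vq : GolayPt → ZMod 2) (hvp : vp ∈ golayCode) (hvq : vq ∈ golayCode)
    (hp0 : vp none = 1) (hp1 : vp qA = 0) (hq0 : vq none = 0) (hq1 : vq qA = 1)
    (h : ∀ v ∈ golayCode, v none = 0 → v qA = 0 → ∑ i, t i * v i = 0) :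
    ∀ v ∈ golayCode, ∑ i, t i * v i = v none * (∑ i, t i * vp i) + v qA * (∑ i, t i * vq i) := by
  intro v hv
  obtain ⟨a, ha⟩ : ∃ a, v none = a := ⟨_, rfl⟩
  obtain ⟨b, hb⟩ : ∃ b, v qA = b := ⟨_, rfl⟩
  have hmem : v - a • vp - b • vq ∈ golayCode :=
    Submodule.sub_mem _ (Submodule.sub_mem _ hv (Submodule.smul_mem _ a hvp))
      (Submodule.smul_mem _ b hvq)
  have e0 : (v - a • vp - b • vq) none = 0 := by
    show v none - a * vp none - b * vq none = 0
    rw [ha, hp0, hq0]; ring
  have e1 : (v - a • vp - b • vq) qA = 0 := by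
    show v qA - a * vp qA - b * vq qA = 0
    rw [hb, hp1, hq1]; ring
  have h1 := h _ hmem e0 e1
  have e2 : ∀ i, t i * (v - a • vp - b • vq) i = t i * v i - (a * (t i * vp i) + b * (t i * vq i)) :=
    fun i => by show t i * (v i - a * vp i - b * vq i) = _; ring
  rw [Finset.sum_congr rfl fun i _ => e2 i, Finset.sum_sub_distrib, Finset.sum_add_distrib,
    ← Finset.mul_sum, ← Finset.mul_sum, sub_eq_zero] at h1
  rw [h1, ha, hb]

theorem fixed_classes {y : leechLattice} (h : ∀ g ∈ diagFix, inM (g • y - y)) :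
    inM y ∨ inM (y - axisVec qA) := by
  obtain ⟨my, hy1, hy2, hy3⟩ := mem_leech_iff.1 y.2
  -- make the halves even
  obtain ⟨y', hyy, hy4⟩ : ∃ y' : leechLattice, inM (y - y') ∧ ∀ i, y'.1 i % 4 = 0 := by
    rcases word_cases _ (mem_golayCode_iff.1 hy3) with h0 | h1 | ⟨m, hm, b1, b2, b3, b4⟩
    · refine ⟨y, by rw [sub_self]; exact inM_zero, fun i => ?_⟩
      have := digit_bit y.1 i
      rw [h0] at this
      have := fixed_even h i
      simp at *; omega
    · refine ⟨y + (repC + repC), by rw [sub_add_cancel_left]; exact (inM_double _).neg, fun i => ?_⟩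
      have hd := digit_bit y.1 i
      rw [h1, show fullMask.testBit (idx i) = true by
        rw [← mem_ptSet, ptSet_fullMask]; exact Finset.mem_univ _] at hd
      simp at hd
      have := fixed_even h i
      have := repC_odd i
      show (y.1 i + (oddMin i + oddMin i)) % 4 = 0
      omega
    · rcases fixed_word h hm b1 b2 with e | e <;> simp_all
  have h' := fixed_translate h hyy
  suffices inM y' ∨ inM (y' - axisVec qA) by
    rcases this with e | e
    · exact Or.inl (by simpa using hyy.add e)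
    · exact Or.inr (by have := hyy.add e; rwa [sub_add_sub_cancel] at this)
  obtain ⟨t, ht⟩ : ∃ t : GolayPt → ZMod 2, ∀ i, t i = ((y'.1 i / 4 : ℤ) : ZMod 2) :=
    ⟨_, fun _ => rfl⟩
  obtain ⟨vq, hvq, hq0, hq1⟩ : ∃ v ∈ golayCode, v none = 0 ∧ v qA = 1 :=
    ⟨maskWord 5279, mem_golayCode_iff.2 (by
      rw [wordMask_maskWord (by norm_num)]
      exact mem_spanList_of_mem _ (by decide)), corr_facts⟩
  obtain ⟨vp, hvp, hp0, hp1⟩ : ∃ v ∈ golayCode, v none = 1 ∧ v qA = 0 :=
    ⟨1 + vq, Submodule.add_mem _ one_mem_golayCode hvq, by simp [hq0], by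
      rw [Pi.add_apply, Pi.one_apply, hq1]; decide⟩
  obtain ⟨α, β, hlin⟩ : ∃ α β : ZMod 2, ∀ v ∈ golayCode, ∑ i, t i * v i = v none * α + v qA * β :=
    ⟨_, _, lin_decomp t vp vq hvp hvq hp0 hp1 hq0 hq1 fun v hv h1 h2 => by
      simp only [ht]; exact fixed_orth h' hy4 hv h1 h2⟩
  have hαβ : α = β := by
    have h1 := hlin 1 one_mem_golayCode
    simp only [Pi.one_apply, mul_one, one_mul] at h1
    rw [show ∑ i, t i = ((∑ i, y'.1 i / 4 : ℤ) : ZMod 2) by simp only [Int.cast_sum, ht],
      (ZMod.intCast_zmod_eq_zero_iff_dvd _ 2).2 (Int.dvd_of_emod_eq_zero (quarter_sum hy4))] at h1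
    exact (add_eq_zero_iff_eq_neg.1 h1.symm).trans (zmod2_neg β)
  -- remove the reference vector
  obtain ⟨w, hyw, hw4, hwt⟩ : ∃ w : leechLattice, inM (y' - w) ∧ (∀ i, w.1 i % 4 = 0) ∧
      (fun i => ((w.1 i / 4 : ℤ) : ZMod 2)) ∈ golayCode := by
    have : ∀ a : ZMod 2, a = 0 ∨ a = 1 := by decide
    rcases this α with ha | ha
    · refine ⟨y', by rw [sub_self]; exact inM_zero, hy4, code_of_orth fun v hv => ?_⟩
      simp only [← ht]
      rw [hlin v hv, ← hαβ, ha, mul_zero, mul_zero, add_zero]
    · refine ⟨y' + repA, by rw [sub_add_cancel_left]; exact inM_repA.neg, fun i => ?_,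
        code_of_orth fun v hv => ?_⟩
      · show (y'.1 i + repFour i) % 4 = 0
        have := hy4 i
        unfold repFour; split_ifs <;> omega
      · have e : ∀ i, (((y' + repA).1 i / 4 : ℤ) : ZMod 2) = t i + if i = none ∨ i = qA then 1 else 0 := by
          intro i
          show (((y'.1 i + repFour i) / 4 : ℤ) : ZMod 2) = _
          have := hy4 i
          unfold repFour; split_ifs
          · rw [show (y'.1 i + 4) / 4 = y'.1 i / 4 + 1 by omega, Int.cast_add]; simp [ht]
          · simp [ht]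
        simp only [e, add_mul, Finset.sum_add_distrib]
        rw [hlin v hv, ← hαβ, ha, Finset.sum_eq_add none qA (by simp) (fun c _ hc => by simp [hc.1, hc.2])
          (by simp) (by simp)]
        simp only [true_or, or_true, if_true, one_mul, mul_one]
        exact CharTwo.add_self_eq_zero _
  suffices inM w ∨ inM (w - axisVec qA) by
    rcases this with e | e
    · exact Or.inl (by simpa using hyw.add e)
    · exact Or.inr (by have := hyw.add e; rwa [sub_add_sub_cancel] at this)
  have hw0 := quarter_sum hw4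
  by_cases h4 : (∑ i, w.1 i / 4) % 4 = 0
  · exact Or.inl (half _ (fun i => by have := hw4 i; omega) hwt h4)
  · refine Or.inr (half (fun i => w.1 i / 4 - if i = qA then 2 else 0) (fun i => ?_) ?_ ?_)
    · show w.1 i - (Pi.single qA 8 : GolayPt → ℤ) i = _
      rw [Pi.single_apply]
      have := hw4 i
      split_ifs <;> omega
    · convert hwt using 1
      funext i
      split_ifs <;> simp [show ((2 : ℤ) : ZMod 2) = 0 from rfl] <;> decide
    · rw [Finset.sum_sub_distrib, Finset.sum_ite_eq', if_pos (Finset.mem_univ _)]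
      omega

theorem exists_ne_fixed (W : AddSubgroup leechLattice) (M : AddSubgroup leechLattice)
    (hM : ∀ z : leechLattice, z + z ∈ M) (hMW : M ≤ W) (hWD : ∀ g ∈ diagFix, ∀ x ∈ W, g • x ∈ W)
    (hMD : ∀ g ∈ diagFix, ∀ x ∈ M, g • x ∈ M) (hne : ∃ x ∈ W, x ∉ M) :
    ∃ y ∈ W, y ∉ M ∧ ∀ g ∈ diagFix, g • y - y ∈ M := by
  let coset : leechLattice → Set leechLattice := fun y => {x | x - y ∈ M}
  have hco : ∀ a b, coset a = coset b ↔ a - b ∈ M := by
    intro a b
    constructor
    · intro h
      have : a ∈ coset b := h ▸ (show a ∈ coset a by simp [coset])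
      exact this
    · intro h
      ext x
      refine ⟨fun hx => ?_, fun hx => ?_⟩ <;> simp only [coset, Set.mem_setOf_eq] at hx ⊢
      · have := M.add_mem hx h; rwa [sub_add_sub_cancel] at this
      · have := M.sub_mem hx h; rwa [sub_sub_sub_cancel_right] at this
  have hsm : ∀ g ∈ diagFix, ∀ a, g • coset a = coset (g • a) := by
    intro g hg a
    ext x
    rw [Set.mem_smul_set_iff_inv_smul_mem]
    simp only [coset, Set.mem_setOf_eq]
    constructor <;> intro hx
    · have := hMD g hg _ hx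
      rwa [co0_smul_sub, smul_inv_smul] at this
    · have := hMD g⁻¹ (inv_mem hg) _ hx
      rwa [co0_smul_sub, inv_smul_smul] at this
  have hind : twoLeech ≤ M := by
    rintro x ⟨z, hz, he⟩
    rw [show x = ⟨z, hz⟩ + ⟨z, hz⟩ from Subtype.ext (by
      show (x : GolayPt → ℤ) = z + z
      rw [← two_nsmul]; exact he.symm)]
    exact hM _
  have hdvd : Nat.card (leechLattice ⧸ M) ∣ 2 ^ 24 := by
    rw [← card_leechModTwo]
    exact AddSubgroup.index_dvd_of_le hind
  have : Finite (leechLattice ⧸ M) := Nat.finite_of_card_ne_zero fun h0 => by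
    rw [h0] at hdvd; simp at hdvd
  let π := QuotientAddGroup.mk' M
  let F : W.map π → Set leechLattice := fun c => coset c.2.choose
  have hFinj : Function.Injective F := by
    intro c d h
    have := (hco _ _).1 h
    apply Subtype.ext
    rw [← c.2.choose_spec.2, ← d.2.choose_spec.2]
    exact (QuotientAddGroup.eq_iff_sub_mem (N := M)).2 this
  have hrange : coset '' (W : Set leechLattice) = Set.range F := by
    ext S
    constructor
    · rintro ⟨x, hx, rfl⟩
      refine ⟨⟨π x, x, hx, rfl⟩, (hco _ _).2 ?_⟩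
      exact (QuotientAddGroup.eq_iff_sub_mem (N := M)).1
        (Subtype.prop (⟨π x, x, hx, rfl⟩ : W.map π)).choose_spec.2
    · rintro ⟨c, rfl⟩
      exact ⟨_, c.2.choose_spec.1, rfl⟩
  have hcard : (coset '' (W : Set leechLattice)).ncard % 2 = 0 := by
    rw [hrange, ← Nat.card_coe_set_eq, Nat.card_range_of_injective hFinj]
    obtain ⟨k, -, hk⟩ := (Nat.dvd_prime_pow Nat.prime_two).1
      ((W.map π).card_addSubgroup_dvd_card.trans hdvd)
    have h2 : 1 < Nat.card (W.map π) := by
      obtain ⟨x, hx, hxM⟩ := hne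
      rw [Finite.one_lt_card_iff_nontrivial]
      refine ⟨⟨⟨π x, x, hx, rfl⟩, 0, fun h => hxM ?_⟩⟩
      exact (QuotientAddGroup.eq_zero_iff x).1 (congrArg Subtype.val h)
    rw [hk] at h2 ⊢
    cases k with
    | zero => simp at h2
    | succ n => simp [pow_succ]
  have hfinP : (coset '' (W : Set leechLattice)).Finite := hrange ▸ Set.finite_range F
  have hmod := fixed_mod diagFix isPGroup_diagFix (coset '' (W : Set leechLattice)) hfinP
    (by rintro g hg _ ⟨a, ha, rfl⟩; exact ⟨g • a, hWD g hg a ha, (hsm g hg a).symm⟩)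
  rw [hcard] at hmod
  set Fx := {S ∈ coset '' (W : Set leechLattice) | ∀ g ∈ diagFix, g • S = S}
  have h0 : coset 0 ∈ Fx := ⟨⟨0, W.zero_mem, rfl⟩, fun g hg => by rw [hsm g hg, co0_smul_zero]⟩
  have hfin : Fx.Finite := hfinP.subset fun S hS => hS.1
  obtain ⟨S, ⟨⟨y, hy, rfl⟩, hS⟩, hne'⟩ : ∃ S ∈ Fx, S ≠ coset 0 := by
    by_contra hc
    push Not at hc
    have : Fx = {coset 0} := Set.eq_singleton_iff_unique_mem.2 ⟨h0, hc⟩
    rw [this, Set.ncard_singleton] at hmod
    simp at hmod
  refine ⟨y, hy, fun hyM => hne' ((hco _ _).2 (by simpa using hyM)), fun g hg => ?_⟩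
  have := hS g hg
  rw [hsm g hg] at this
  exact (hco _ _).1 this

/-- doubles and translates, as a subgroup -/
def subM : AddSubgroup leechLattice where
  carrier := {y | inM y}
  zero_mem' := inM_zero
  add_mem' := inM.add
  neg_mem' := inM.neg

/-- an invariant totally isotropic set of classes through the reference vector is trivial -/
theorem no_isotropic (W : AddSubgroup leechLattice) (h2 : ∀ z : leechLattice, z + z ∈ W)
    (hA : repA ∈ W) (hinv : ∀ g : Co0, g • repA = repA → ∀ x ∈ W, g • x ∈ W)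
    (hiso : ∀ x ∈ W, ∀ y ∈ W, d8 x y = 0) : ∀ x ∈ W, inM x := by
  by_contra hc
  push Not at hc
  have hMW : subM ≤ W := by
    rintro x ⟨z, hz | hz⟩ <;> subst hz
    · exact h2 z
    · exact W.add_mem hA (h2 z)
  obtain ⟨y, hyW, hyM, hfix⟩ := exists_ne_fixed W subM inM_double hMW (fun g hg => hinv g hg.1)
    (by
      rintro g hg x ⟨z, hz | hz⟩ <;> subst hz
      · rw [co0_smul_add]; exact inM_double _
      · rw [co0_smul_add, co0_smul_add, hg.1]; exact inM_repA.add (inM_double _))
    hc
  rcases fixed_classes hfix with h | h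
  · exact hyM h
  have hax : axisVec qA ∈ W := by
    have := W.sub_mem hyW (hMW h)
    rwa [sub_sub_cancel] at this
  have hwA : wA ∈ W := W.sub_mem hA hax
  have hk : (some 1 : GolayPt) ≠ none ∧ (some 1 : GolayPt) ≠ qA := by decide
  obtain ⟨hu, hun, hup, huq⟩ := uk_facts (some 1) hk.1 hk.2
  let u : leechLattice := ⟨ukFun (some 1), mem_of_inLeech hu⟩
  have hudt : dt repA u = 0 := by
    rw [dt_repA]; show 4 * (ukFun (some 1) none + ukFun (some 1) qA) = 0
    rw [hup, huq]; norm_num
  obtain ⟨g, hg, hgw⟩ := min_trans_zero (v := repA) (w := wA) (w' := u) (by decide +kernel) om_wA.1 hun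
    om_wA.2 hudt
  have huW : u ∈ W := by
    rcases hgw with e | e
    · exact e ▸ hinv g hg wA hwA
    · have := W.neg_mem (hinv g hg wA hwA)
      rwa [e, neg_neg] at this
  have := hiso wA hwA u huW
  rw [d8, dt_wA] at this
  change (((4 * (ukFun (some 1) none - ukFun (some 1) qA)) / 8 : ℤ) : ZMod 2) = 0 at this
  rw [hup, huq] at this
  exact absurd this (by decide)

/-- the lattice modulo twice itself is irreducible -/
theorem irreducible (W : AddSubgroup leechLattice) (h2 : ∀ z : leechLattice, z + z ∈ W)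
    (hinv : ∀ g : Co0, ∀ x ∈ W, g • x ∈ W) :
    (∀ x ∈ W, ∃ z, x = z + z) ∨ W = ⊤ := by
  by_cases hall : ∀ x ∈ W, ∃ z, x = z + z
  · exact Or.inl hall
  right
  push Not at hall
  let M2 : AddSubgroup leechLattice :=
    { carrier := {y | ∃ z, y = z + z}
      zero_mem' := ⟨0, by simp⟩
      add_mem' := by rintro _ _ ⟨a, rfl⟩ ⟨b, rfl⟩; exact ⟨a + b, by abel⟩
      neg_mem' := by rintro _ ⟨a, rfl⟩; exact ⟨-a, by abel⟩ }
  obtain ⟨x, hx, hx'⟩ := hall
  obtain ⟨y, hyW, hyM, hfix⟩ := exists_ne_fixed W M2 (fun z => ⟨z, rfl⟩)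
    (by rintro _ ⟨z, rfl⟩; exact h2 z) (fun g _ => hinv g)
    (by rintro g - _ ⟨z, rfl⟩; exact ⟨g • z, co0_smul_add g z z⟩)
    ⟨x, hx, fun ⟨z, hz⟩ => hx' z hz⟩
  have hmins : repA ∈ W → W = ⊤ := by
    intro hA
    refine eq_top_iff.2 fun v _ => ?_
    induction v using leech_induction with
    | hmin a ha => obtain ⟨g, rfl⟩ := min_orbit (v := a) ha; exact hinv g _ hA
    | h0 => exact W.zero_mem
    | hadd a b iha ihb => exact W.add_mem (iha trivial) (ihb trivial)
    | hneg a iha => exact W.neg_mem (iha trivial)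
  have hsub : ∀ {u : leechLattice}, inM u → (∃ z, u = z + z) ∨ ∃ z, u = repA + (z + z) := by
    rintro u ⟨z, hz | hz⟩
    · exact Or.inl ⟨z, hz⟩
    · exact Or.inr ⟨z, hz⟩
  rcases fixed_classes (y := y) (fun g hg => by obtain ⟨z, hz⟩ := hfix g hg; exact ⟨z, Or.inl hz⟩)
    with h | h
  · rcases hsub h with ⟨z, hz⟩ | ⟨z, hz⟩
    · exact absurd ⟨z, hz⟩ hyM
    · exact hmins (by have := W.sub_mem hyW (h2 z); rwa [hz, add_sub_cancel_right] at this)
  have hax : axisVec qA ∈ W ∨ wA ∈ W := by
    rcases hsub h with ⟨z, hz⟩ | ⟨z, hz⟩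
    · exact Or.inl (by have := W.sub_mem hyW (h2 z); rwa [← hz, sub_sub_cancel] at this)
    · refine Or.inr ?_
      have := W.sub_mem hyW (h2 (axisVec qA + z))
      rw [sub_eq_iff_eq_add.1 hz] at this
      convert this using 1
      rw [wA]; abel
  rcases hax with hax | hw
  swap
  · obtain ⟨g, hg⟩ := co0_transitive_min wA repA om_wA.1 (by decide +kernel)
    exact hmins (hg ▸ hinv g _ hw)
  have h64 : ∀ f : leechLattice, nrm f = 64 → f ∈ W := by
    intro f hf
    obtain ⟨g, hg⟩ := orbit_sixtyfour (v := axisVec qA) (w := f)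
      (by show sqNorm _ = 64; exact (sqNorm_single qA 8).trans (by norm_num)) hf
    obtain ⟨z, hz⟩ := hg.symm
    rw [hz]
    exact W.add_mem (hinv g _ hax) (h2 z)
  have hf : inLeech (fun p : GolayPt => if p = none ∨ p = some 0 ∨ p = some 1 ∨ p = some 2 then (4 : ℤ) else 0) = true ∧
      sqNorm (fun p : GolayPt => if p = none ∨ p = some 0 ∨ p = some 1 ∨ p = some 2 then (4 : ℤ) else 0) = 64 ∧
      inLeech (fun p : GolayPt => if p = none ∨ p = some 0 ∨ p = some 1 ∨ p = some 3 then (4 : ℤ) else 0) = true ∧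
      sqNorm (fun p : GolayPt => if p = none ∨ p = some 0 ∨ p = some 1 ∨ p = some 3 then (4 : ℤ) else 0) = 64 ∧
      sqNorm ((fun p : GolayPt => if p = none ∨ p = some 0 ∨ p = some 1 ∨ p = some 2 then (4 : ℤ) else 0) -
        fun p : GolayPt => if p = none ∨ p = some 0 ∨ p = some 1 ∨ p = some 3 then (4 : ℤ) else 0) = 32 := by
    decide +kernel
  let f1 : leechLattice := ⟨_, mem_of_inLeech hf.1⟩
  let f2 : leechLattice := ⟨_, mem_of_inLeech hf.2.2.1⟩
  obtain ⟨g, hg⟩ := co0_transitive_min (f1 - f2) repA hf.2.2.2.2 (by decide +kernel)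
  exact hmins (hg ▸ hinv g _ (W.sub_mem (h64 f1 hf.2.1) (h64 f2 hf.2.2.2.1)))

/-- an automorphism trivial on classes is scalar -/
theorem faithful (g : Co0) (h : ∀ v : leechLattice, Cg (g • v) v) : g ∈ Subgroup.center Co0 := by
  have key : ∀ v : leechLattice, nrm v = 32 → g • v = v ∨ g • v = -v := fun v hv => by
    have hn : nrm (g • v) = 32 := (co0_sqNorm g v).trans hv
    rcases short_unique (h v) (by rw [hn, hv]; norm_num) with e | e | ⟨e, -⟩
    · exact Or.inl e.symm
    · exact Or.inr (neg_eq_iff_eq_neg.1 e.symm)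
    · rw [hn, hv] at e; norm_num at e
  rcases scalar_of_fixes g (key repA (by decide +kernel)) (fun w hw => key w hw.1) with e | e
  · rw [show g = 1 from co0_ext fun x => by rw [e, one_smul]]; exact one_mem _
  · exact Subgroup.mem_center_iff.2 fun k => co0_ext fun x => by
      rw [mul_smul, mul_smul, e, e, co0_smul_neg]

end Cfsg.Agent.H92.LeechTwo
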