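import Cfsg.Agent.H92.McLInvGraph
import Cfsg.Agent.H92.CoTwoCentBasic
import Cfsg.Agent.Golay.CoThreeLift
import Cfsg.Agent.Golay.ConwaySimple
import Cfsg.Agent.Golay.SigmaFixed
import Cfsg.Prelude.Def_SporadicB

/-!
The centraliser of a permutation involution in the stabiliser of a reference edge of the Leech
lattice is a non-split double cover of the alternating group of degree eight, acting on its
thirty-five fixed points among the 275.
-/

set_option autoImplicit false

namespace Cfsg.Agent.H92.McLInv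

open Cfsg Cfsg.Agent.Golay Cfsg.Agent.H92.LeechOrbit Cfsg.Agent.Golay.CoThreeLift
open scoped Pointwise

/-! ### Permutation atoms -/

lemma permEl_sound {T n m : ℕ} (hT : inM24 T = true) (h : monoRel 0 T n m = true)
    {v : leechLattice} (hv : v.1 = dec n) :
    (permAut ⟨mkPerm T, mem_M24_of_inM24 hT⟩ • v : leechLattice).1 = dec m := by
  have h0 : atomOK (.mono 0 0 T) = true := by
    have : (inCode 0 && decide ((0 : ℕ) < 2 ^ 24) &&
        Nat.beq 0 (mk16 24 fun i => bif (0 : ℕ).testBit i then 1 else 0)) = true := by decide +kernel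
    simp only [Bool.and_eq_true] at this
    simp only [atomOK, Bool.and_eq_true]
    exact ⟨⟨this.1, hT⟩, this.2⟩
  have hok := h0
  simp only [atomOK, Bool.and_eq_true, decide_eq_true_eq] at hok
  have e := monoRel_sound h0 h hv
  simp only [atomEl] at e
  rw [dif_pos ⟨hok.1.1.1, hok.1.1.2, hT⟩, mul_smul] at e
  rw [← e]
  funext l
  rw [signAut_apply, if_neg]
  simp [mem_ptSet]

/-! ### The group and the points -/

/-- The stabiliser of the reference edge. -/
abbrev mcl : Subgroup Co0 := MulAction.stabilizer Co0 refU ⊓ MulAction.stabilizer Co0 refV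

/-- Permutations fixing two points fix vectors constant elsewhere. -/
lemma permAut_fix_const {τ : M24} (h1 : τ.1 none = none) (h2 : τ.1 (some 0) = some 0)
    {x : leechLattice} (hx : ∀ l, l ≠ none → l ≠ some 0 → x.1 l = x.1 (some 1)) :
    permAut τ • x = x := by
  refine Subtype.ext (funext fun l => ?_)
  obtain ⟨q, rfl⟩ : ∃ q, τ.1 q = l := ⟨τ.1.symm l, τ.1.apply_symm_apply l⟩
  rw [permAut_apply]
  rcases eq_or_ne q none with rfl | hq
  · rw [h1]
  rcases eq_or_ne q (some 0) with rfl | hq'
  · rw [h2]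
  rw [hx q hq hq', hx _ (fun e => hq (τ.1.injective (e.trans h1.symm)))
    fun e => hq' (τ.1.injective (e.trans h2.symm))]

lemma ref_const : ∀ l : GolayPt, l ≠ none → l ≠ some 0 →
    refU.1 l = refU.1 (some 1) ∧ refV.1 l = refV.1 (some 1) := by
  decide +kernel

/-- The permutations. -/
def pHom : twoStab →* mcl :=
  (permHom.comp twoStab.subtype).codRestrict mcl fun τ =>
    ⟨permAut_fix_const τ.2.1 τ.2.2 fun l a b => (ref_const l a b).1,
      permAut_fix_const τ.2.1 τ.2.2 fun l a b => (ref_const l a b).2⟩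

/-- A table of a permutation fixing the two special points. -/
def tblOK (T : ℕ) : Bool := inM24 T && app T 23 == 23 && app T 0 == 0

lemma tblOK_mem {T : ℕ} (h : tblOK T = true) :
    ∃ h' : inM24 T = true, (⟨mkPerm T, mem_M24_of_inM24 h'⟩ : M24) ∈ twoStab := by
  simp only [tblOK, Bool.and_eq_true, beq_iff_eq] at h
  obtain ⟨⟨h1, h2⟩, h3⟩ := h
  have hv := validT_of_inM24 h1
  refine ⟨h1, ?_, ?_⟩
  · show mkPerm T none = none
    rw [mkPerm_apply hv, show idx none = 23 from rfl, h2]; rfl
  · show mkPerm T (some 0) = some 0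
    rw [mkPerm_apply hv, show idx (some 0) = 0 from rfl, h3]; rfl

lemma tTbl_ok : tblOK tTbl = true := by decide +kernel

/-- The involution as a permutation. -/
noncomputable def tPerm : twoStab :=
  ⟨⟨mkPerm tTbl, mem_M24_of_inM24 (tblOK_mem tTbl_ok).1⟩, (tblOK_mem tTbl_ok).2⟩

/-- The involution. -/
noncomputable def tInv : mcl := pHom tPerm

/-- A valid reference point. -/
noncomputable def ptOK (n : ℕ) : Bool :=
  inLeech (dec n) && decide (sqNorm (dec n) = 32) && dotTest u48Code n 24 && dotTest v32Code n 16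

lemma pts_ok : (fCodes ++ mCodes).all ptOK = true := by decide +kernel

lemma pts_len : fCodes.length = 35 ∧ mCodes.length = 240 := by decide +kernel

lemma pts_distinct : (fCodes ++ mCodes).Nodup := by decide +kernel

lemma pts_cover :
    (allBelow 275 fun i => (fCodes ++ mCodes).contains (mclCert.code i)) = true := by
  decide +kernel

lemma code_mem {L : List ℕ} (h : L.all ptOK = true) {i : ℕ} (hi : i < L.length) :
    ptOK (L.getD i 0) = true := by
  rw [List.getD_eq_getElem _ _ hi]
  exact List.all_eq_true.1 h _ (List.getElem_mem hi)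

lemma fOK (k : Fin 35) : ptOK (fCodes.getD k.1 0) = true :=
  code_mem (List.all_eq_true.2 fun x hx => List.all_eq_true.1 pts_ok x (List.mem_append_left _ hx))
    (by rw [pts_len.1]; exact k.2)

lemma mOK (m : Fin 240) : ptOK (mCodes.getD m.1 0) = true :=
  code_mem (List.all_eq_true.2 fun x hx => List.all_eq_true.1 pts_ok x (List.mem_append_right _ hx))
    (by rw [pts_len.2]; exact m.2)

lemma ptOK_inLeech {n : ℕ} (h : ptOK n = true) : inLeech (dec n) = true := by
  simp only [ptOK, Bool.and_eq_true] at h; exact h.1.1.1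

/-- The fixed points. -/
def fV (k : Fin 35) : leechLattice := ⟨dec (fCodes.getD k.1 0), mem_of_inLeech (ptOK_inLeech (fOK k))⟩

/-- The other points. -/
def mV (m : Fin 240) : leechLattice := ⟨dec (mCodes.getD m.1 0), mem_of_inLeech (ptOK_inLeech (mOK m))⟩

lemma ptOK_mem {n : ℕ} (h : ptOK n = true) {v : leechLattice} (hv : v.1 = dec n) :
    v ∈ refPoints := by
  simp only [ptOK, Bool.and_eq_true, decide_eq_true_eq, dotTest_eq] at h
  rw [mem_refPoints, hv]
  exact ⟨h.1.1.2, h.1.2, h.2⟩

lemma fV_mem (k : Fin 35) : fV k ∈ refPoints := ptOK_mem (fOK k) rfl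

lemma mV_mem (m : Fin 240) : mV m ∈ refPoints := ptOK_mem (mOK m) rfl

lemma classify {x : leechLattice} (hx : x ∈ refPoints) : (∃ k, x = fV k) ∨ ∃ m, x = mV m := by
  obtain ⟨hn, hd⟩ := (refFrame.mem_iff x).1 hx
  rw [one_smul] at hn hd
  obtain ⟨i, hi, he⟩ := mclCert_cover _ x.2 hn hd
  have h := allBelow_spec pts_cover i hi
  rw [List.contains_iff_mem, List.mem_append] at h
  rcases h with h | h
  · obtain ⟨k, hk, e⟩ := List.getElem_of_mem h
    refine Or.inl ⟨⟨k, by rw [← pts_len.1]; exact hk⟩, Subtype.ext ?_⟩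
    show x.1 = dec (fCodes.getD k 0)
    rw [List.getD_eq_getElem _ _ hk, e, he]
  · obtain ⟨k, hk, e⟩ := List.getElem_of_mem h
    refine Or.inr ⟨⟨k, by rw [← pts_len.2]; exact hk⟩, Subtype.ext ?_⟩
    show x.1 = dec (mCodes.getD k 0)
    rw [List.getD_eq_getElem _ _ hk, e, he]

lemma code_eq {i j : ℕ} (hi : i < 275) (hj : j < 275)
    (h : dec ((fCodes ++ mCodes).getD i 0) = dec ((fCodes ++ mCodes).getD j 0)) : i = j := by
  have hlt : ∀ k < 275, (fCodes ++ mCodes).getD k 0 < 2 ^ 96 := by decide +kernel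
  have e := dec_injOn_of (hlt i hi) (hlt j hj) h
  have hl : (fCodes ++ mCodes).length = 275 := by rw [List.length_append, pts_len.1, pts_len.2]
  rw [List.getD_eq_getElem _ _ (hl.symm ▸ hi), List.getD_eq_getElem _ _ (hl.symm ▸ hj)] at e
  exact (pts_distinct.getElem_inj_iff).1 e

lemma getD_f (k : Fin 35) : (fCodes ++ mCodes).getD k.1 0 = fCodes.getD k.1 0 := by
  rw [List.getD_append _ _ _ _ (by rw [pts_len.1]; exact k.2)]

lemma getD_m (m : Fin 240) : (fCodes ++ mCodes).getD (35 + m.1) 0 = mCodes.getD m.1 0 := by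
  rw [List.getD_append_right _ _ _ _ (by rw [pts_len.1]; omega), pts_len.1, Nat.add_sub_cancel_left]

lemma fV_injective : Function.Injective fV := fun a b h =>
  Fin.ext (code_eq (by omega) (by omega) (by rw [getD_f, getD_f]; exact congrArg Subtype.val h))

lemma mV_injective : Function.Injective mV := fun a b h => by
  have := code_eq (i := 35 + a.1) (j := 35 + b.1) (by omega) (by omega)
    (by rw [getD_m, getD_m]; exact congrArg Subtype.val h)
  exact Fin.ext (by omega)

lemma mcl_mem_refPoints {g : Co0} (hg : g ∈ mcl) {x : leechLattice} (hx : x ∈ refPoints) :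
    g • x ∈ refPoints := by
  rw [mem_refPoints] at hx ⊢
  refine ⟨by rw [co0_sqNorm]; exact hx.1, ?_, ?_⟩
  · have := co0_dot g refU x; rw [MulAction.mem_stabilizer_iff.1 hg.1] at this; rw [this]; exact hx.2.1
  · have := co0_dot g refV x; rw [MulAction.mem_stabilizer_iff.1 hg.2] at this; rw [this]; exact hx.2.2

theorem eq_of_points {g h : Co0} (hU : g • refU = h • refU) (hV : g • refV = h • refV)
    (hf : ∀ k, g • fV k = h • fV k) (hm : ∀ m, g • mV m = h • mV m) : g = h := by
  have hb : ∀ i, g • bv i = h • bv i := by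
    intro i
    rcases bv_cases i with rfl | rfl | ⟨-, hi⟩
    · rw [bv_head.1]; exact hU
    · rw [bv_head.2]; exact hV
    · rcases classify hi with ⟨k, hk⟩ | ⟨m, hk⟩ <;> rw [hk]
      · exact hf k
      · exact hm m
  have hw : g • wv = h • wv := by
    have e : g • ((3 : ℤ) • wv) = h • ((3 : ℤ) • wv) := by
      simp only [← lc_wRow, lc, CoTwoCent.co0_smul_sum, CoTwoCent.co0_smul_zsmul, hb]
    rw [CoTwoCent.co0_smul_zsmul, CoTwoCent.co0_smul_zsmul] at e
    refine Subtype.ext (funext fun l => ?_)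
    have := congrArg (fun z : leechLattice => z.1 l) e
    simp only [AddSubgroup.coe_zsmul, Pi.smul_apply, smul_eq_mul] at this
    omega
  refine Subtype.ext (Equiv.ext fun z => ?_)
  show g • z = h • z
  obtain ⟨c, rfl⟩ := spans z
  have hs : ∀ o, g • sys refU refV id wv o = h • sys refU refV id wv o := by
    rintro (_ | i)
    · exact hw
    · rw [sys_id]; exact hb i
  simp only [lc, CoTwoCent.co0_smul_sum, CoTwoCent.co0_smul_zsmul, hs]

/-! ### The involution -/

/-- The partner in a pair. -/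
def swp (m : Fin 240) : Fin 240 := ⟨m.1 ^^^ 1, by
  have : ∀ m : Fin 240, m.1 ^^^ 1 < 240 := by decide +kernel
  exact this m⟩

lemma swp_facts : ∀ m, swp (swp m) = m ∧ swp m ≠ m ∧ (swp m).1 / 2 = m.1 / 2 ∧
    (∀ m' : Fin 240, m'.1 / 2 = m.1 / 2 → m' = m ∨ m' = swp m) := by
  decide +kernel

lemma t_checks :
    (∀ k : Fin 35, monoRel 0 tTbl (fCodes.getD k.1 0) (fCodes.getD k.1 0) = true) ∧
    (∀ m : Fin 240, monoRel 0 tTbl (mCodes.getD m.1 0) (mCodes.getD (swp m).1 0) = true) := by
  decide +kernel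

lemma t_fV (k : Fin 35) : (tInv : Co0) • fV k = fV k :=
  Subtype.ext (permEl_sound (tblOK_mem tTbl_ok).1 (t_checks.1 k) rfl)

lemma t_mV (m : Fin 240) : (tInv : Co0) • mV m = mV (swp m) :=
  Subtype.ext (permEl_sound (tblOK_mem tTbl_ok).1 (t_checks.2 m) rfl)

lemma tInv_ne_one : tInv ≠ 1 := by
  intro h
  have h1 := t_mV 0
  rw [h, OneMemClass.coe_one, one_smul] at h1
  exact (swp_facts 0).2.1 (mV_injective h1).symm

lemma tInv_sq : tInv * tInv = 1 := by
  refine Subtype.ext (eq_of_points ?_ ?_ (fun k => ?_) fun m => ?_)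
  · rw [MulAction.mem_stabilizer_iff.1 (tInv * tInv).2.1]; exact (one_smul _ _).symm
  · rw [MulAction.mem_stabilizer_iff.1 (tInv * tInv).2.2]; exact (one_smul _ _).symm
  · rw [Subgroup.coe_mul, mul_smul, t_fV, t_fV]; exact (one_smul _ _).symm
  · rw [Subgroup.coe_mul, mul_smul, t_mV, t_mV, (swp_facts m).1]; exact (one_smul _ _).symm

lemma orderOf_tInv : orderOf tInv = 2 :=
  orderOf_eq_prime (by rw [pow_two, tInv_sq]) tInv_ne_one

/-- The centraliser. -/
abbrev cent : Subgroup mcl := Subgroup.centralizer ({tInv} : Set mcl)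

lemma cent_comm (g : cent) (x : leechLattice) :
    (tInv : Co0) • ((g.1 : Co0) • x) = (g.1 : Co0) • ((tInv : Co0) • x) := by
  rw [← mul_smul, ← mul_smul, ← Subgroup.coe_mul, ← Subgroup.coe_mul,
    Subgroup.mem_centralizer_singleton_iff.1 g.2]

lemma cent_fV (g : cent) (k : Fin 35) : ∃ k', (g.1 : Co0) • fV k = fV k' := by
  rcases classify (mcl_mem_refPoints g.1.2 (fV_mem k)) with h | ⟨m, hm⟩
  · exact h
  · have h := cent_comm g (fV k)
    rw [t_fV, hm, t_mV] at h
    exact absurd (mV_injective h) (swp_facts m).2.1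

lemma cent_mV (g : cent) (m : Fin 240) : ∃ m', (g.1 : Co0) • mV m = mV m' := by
  rcases classify (mcl_mem_refPoints g.1.2 (mV_mem m)) with ⟨k, hk⟩ | h
  · have h := cent_comm g (mV m)
    rw [t_mV, hk, t_fV, ← hk] at h
    exact absurd (mV_injective ((smul_left_cancel_iff _).1 h)).symm (swp_facts m).2.1
  · exact h

noncomputable instance : MulAction cent (Fin 35) where
  smul g k := Classical.choose (cent_fV g k)
  one_smul k := fV_injective (by
    show fV (Classical.choose (cent_fV 1 k)) = fV k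
    rw [← Classical.choose_spec (cent_fV 1 k)]; exact one_smul _ _)
  mul_smul g h k := fV_injective (by
    show fV (Classical.choose (cent_fV (g * h) k))
      = fV (Classical.choose (cent_fV g (Classical.choose (cent_fV h k))))
    rw [← Classical.choose_spec (cent_fV (g * h) k),
      ← Classical.choose_spec (cent_fV g _), ← Classical.choose_spec (cent_fV h k)]
    exact mul_smul (g.1 : Co0) (h.1 : Co0) _)

lemma smul_fV (g : cent) (k : Fin 35) : (g.1 : Co0) • fV k = fV (g • k) :=
  Classical.choose_spec (cent_fV g k)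

/-- The action on the fixed points. -/
noncomputable def fixHom : cent →* Equiv.Perm (Fin 35) := MulAction.toPermHom cent (Fin 35)

lemma adj_spec : ∀ v w : Fin 35,
    adj v w = dotTest (fCodes.getD v.1 0) (fCodes.getD w.1 0) 16 := by
  decide +kernel

lemma adj_invariant (g : cent) (v w : Fin 35) : adj (g • v) (g • w) = adj v w := by
  rw [adj_spec, adj_spec, dotTest_eq, dotTest_eq]
  refine decide_eq_decide.2 ?_
  show dotInt (fV (g • v)).1 (fV (g • w)).1 = 16 ↔ dotInt (fV v).1 (fV w).1 = 16
  rw [← smul_fV, ← smul_fV, co0_dot]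

/-! ### The two elements -/

/-- Their action on the moved points. -/
def gmv (j : Fin 2) (m : Fin 240) : Fin 240 :=
  ⟨(genMove.getD j.1 []).getD m.1 0 % 240, Nat.mod_lt _ (by norm_num)⟩

lemma gen_checks : ∀ j : Fin 2, (genWords.getD j.1 []).all atomOK = true ∧
    chk (genWords.getD j.1 []) u48Code u48Code = true ∧
    chk (genWords.getD j.1 []) v32Code v32Code = true ∧
    (∀ k : Fin 35, chk (genWords.getD j.1 []) (fCodes.getD k.1 0)
      (fCodes.getD (genFun j k).1 0) = true) ∧
    (∀ m : Fin 240, chk (genWords.getD j.1 []) (mCodes.getD m.1 0)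
      (mCodes.getD (gmv j m).1 0) = true ∧ gmv j (swp m) = swp (gmv j m)) := by
  decide +kernel

/-- The two elements in the stabiliser. -/
noncomputable def gEl (j : Fin 2) : mcl :=
  ⟨wordEl (genWords.getD j.1 []),
    Subtype.ext (chk_sound (gen_checks j).1 (gen_checks j).2.1 rfl),
    Subtype.ext (chk_sound (gen_checks j).1 (gen_checks j).2.2.1 rfl)⟩

lemma gEl_fV (j : Fin 2) (k : Fin 35) : (gEl j : Co0) • fV k = fV (genFun j k) :=
  Subtype.ext (chk_sound (gen_checks j).1 ((gen_checks j).2.2.2.1 k) rfl)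

lemma gEl_mV (j : Fin 2) (m : Fin 240) : (gEl j : Co0) • mV m = mV (gmv j m) :=
  Subtype.ext (chk_sound (gen_checks j).1 ((gen_checks j).2.2.2.2 m).1 rfl)

lemma gEl_mem (j : Fin 2) : gEl j ∈ cent := by
  rw [Subgroup.mem_centralizer_singleton_iff]
  refine Subtype.ext (eq_of_points ?_ ?_ (fun k => ?_) fun m => ?_)
  · rw [MulAction.mem_stabilizer_iff.1 (gEl j * tInv).2.1,
      MulAction.mem_stabilizer_iff.1 (tInv * gEl j).2.1]
  · rw [MulAction.mem_stabilizer_iff.1 (gEl j * tInv).2.2,
      MulAction.mem_stabilizer_iff.1 (tInv * gEl j).2.2]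
  · rw [Subgroup.coe_mul, Subgroup.coe_mul, mul_smul, mul_smul, t_fV, gEl_fV, t_fV]
  · rw [Subgroup.coe_mul, Subgroup.coe_mul, mul_smul, mul_smul, t_mV, gEl_mV, gEl_mV, t_mV,
      ((gen_checks j).2.2.2.2 m).2]

lemma rGen_mem (j : Fin 2) : rGen j ∈ fixHom.range := by
  refine ⟨⟨gEl j, gEl_mem j⟩, Equiv.ext fun k => fV_injective ?_⟩
  show fV ((⟨gEl j, gEl_mem j⟩ : cent) • k) = fV (genFun j k)
  rw [← smul_fV]
  exact gEl_fV j k

/-! ### The kernel -/

lemma prof_spec : ∀ m : Fin 240, ∀ k : Fin 35,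
    (profs.getD m.1 0).testBit k.1 = dotTest (fCodes.getD k.1 0) (mCodes.getD m.1 0) 16 := by
  decide +kernel

lemma prof_sep : (allBelow 240 fun a => allBelow 240 fun b =>
    (a / 2 == b / 2) || !Nat.beq (profs.getD a 0) (profs.getD b 0)) = true := by
  decide +kernel

lemma prof_lt : ∀ m : Fin 240, profs.getD m.1 0 < 2 ^ 35 := by decide +kernel

lemma moved_pair {g : cent} (hg : fixHom g = 1) {m m' : Fin 240}
    (h : (g.1 : Co0) • mV m = mV m') : m' = m ∨ m' = swp m := by
  refine (swp_facts m).2.2.2 m' ?_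
  have hf : ∀ k, (g.1 : Co0) • fV k = fV k := fun k => by
    rw [smul_fV]; exact congrArg fV (Equiv.congr_fun hg k)
  have e : profs.getD m.1 0 = profs.getD m'.1 0 := by
    refine Nat.eq_of_testBit_eq fun i => ?_
    by_cases hi : i < 35
    · rw [prof_spec m ⟨i, hi⟩, prof_spec m' ⟨i, hi⟩, dotTest_eq, dotTest_eq]
      refine decide_eq_decide.2 ?_
      show dotInt (fV ⟨i, hi⟩).1 (mV m).1 = 16 ↔ dotInt (fV ⟨i, hi⟩).1 (mV m').1 = 16
      rw [← co0_dot (g.1 : Co0) (fV ⟨i, hi⟩) (mV m), hf, h]
    · rw [Nat.testBit_lt_two_pow (lt_of_lt_of_le (prof_lt m) (Nat.pow_le_pow_right (by norm_num)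
        (by omega))), Nat.testBit_lt_two_pow (lt_of_lt_of_le (prof_lt m') (Nat.pow_le_pow_right
        (by norm_num) (by omega)))]
  have h1 := allBelow_spec (allBelow_spec prof_sep m.1 m.2) m'.1 m'.2
  rw [Bool.or_eq_true, beq_iff_eq, e] at h1
  rcases h1 with h1 | h1
  · exact h1.symm
  · simp [Nat.beq_refl] at h1

lemma tree_ok :
    (allBelow 120 fun i =>
      i == 0 || ((List.range tree.length).any fun s => (tree.getD s (0, 0)).1 == i)) = true ∧
    ((List.range tree.length).all fun s =>
      ((tree.getD s (0, 0)).2 == 0 ||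
        (List.range s).any fun r => (tree.getD r (0, 0)).1 == (tree.getD s (0, 0)).2) &&
      decide ((tree.getD s (0, 0)).1 < 120) && decide ((tree.getD s (0, 0)).2 < 120) &&
      (List.range 33).any fun d =>
        !(dotTest (mCodes.getD (2 * (tree.getD s (0, 0)).1) 0) (mCodes.getD (2 * (tree.getD s (0, 0)).2) 0) d
          == dotTest (mCodes.getD (2 * (tree.getD s (0, 0)).1 + 1) 0) (mCodes.getD (2 * (tree.getD s (0, 0)).2) 0) d))
      = true := by
  decide +kernel

theorem eq_one_of_fixed {g : cent} (hg : fixHom g = 1) (h0 : (g.1 : Co0) • mV 0 = mV 0) :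
    g = 1 := by
  obtain ⟨hcov, hedge⟩ := tree_ok
  have hfix : ∀ s, s ≤ tree.length → ∀ r < s, ∀ m : Fin 240,
      m.1 = 2 * (tree.getD r (0, 0)).1 → (g.1 : Co0) • mV m = mV m := by
    intro s
    induction s with
    | zero => intro _ r hr; omega
    | succ s ih =>
      intro hs r hr m hm
      rcases Nat.lt_succ_iff_lt_or_eq.1 hr with hlt | rfl
      · exact ih (by omega) r hlt m hm
      have h := List.all_eq_true.1 hedge r (List.mem_range.2 hs)
      simp only [Bool.and_eq_true, Bool.or_eq_true, beq_iff_eq, decide_eq_true_eq,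
        List.any_eq_true, List.mem_range] at h
      obtain ⟨⟨⟨hpar, ha⟩, hb⟩, d, -, hd⟩ := h
      let p : Fin 240 := ⟨2 * (tree.getD r (0, 0)).2, by omega⟩
      have hp : (g.1 : Co0) • mV p = mV p := by
        rcases hpar with hpar | ⟨r', hr', he⟩
        · have : p = 0 := Fin.ext (show 2 * (tree.getD r (0, 0)).2 = 0 by omega)
          rw [this]; exact h0
        · exact ih (by omega) r' hr' p (show 2 * (tree.getD r (0, 0)).2 = _ by rw [he])
      obtain ⟨m', hm'⟩ := cent_mV g m
      rcases moved_pair hg hm' with rfl | rfl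
      · exact hm'
      exfalso
      have e := co0_dot (g.1 : Co0) (mV m) (mV p)
      rw [hm', hp] at e
      have hs1 : (swp m).1 = 2 * (tree.getD r (0, 0)).1 + 1 := by
        have := (swp_facts m).2.2.1
        have := Fin.val_ne_of_ne (swp_facts m).2.1
        omega
      rw [dotTest_eq, dotTest_eq, ← hs1, ← hm] at hd
      have e2 : (decide (dotInt (mV m).1 (mV p).1 = (d : ℤ))
          == decide (dotInt (mV (swp m)).1 (mV p).1 = (d : ℤ))) = true := by
        rw [e]; simp
      simp only [Bool.not_eq_true'] at hd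
      exact absurd (hd.symm.trans e2) Bool.false_ne_true
  refine Subtype.ext (Subtype.ext (eq_of_points ?_ ?_ (fun k => ?_) fun m => ?_))
  · rw [MulAction.mem_stabilizer_iff.1 g.1.2.1]; exact (one_smul _ _).symm
  · rw [MulAction.mem_stabilizer_iff.1 g.1.2.2]; exact (one_smul _ _).symm
  · rw [smul_fV]
    exact (congrArg fV (Equiv.congr_fun hg k)).trans (one_smul _ _).symm
  · have heven : ∀ m : Fin 240, m.1 % 2 = 0 → (g.1 : Co0) • mV m = mV m := by
      intro m hm
      rcases Nat.eq_zero_or_pos m.1 with h | h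
      · rw [show m = 0 from Fin.ext h]; exact h0
      have hc := allBelow_spec hcov (m.1 / 2) (by omega)
      simp only [Bool.or_eq_true, beq_iff_eq, List.any_eq_true, List.mem_range] at hc
      obtain ⟨r, hr, he⟩ := hc.resolve_left (by omega)
      exact hfix tree.length le_rfl r hr m (by omega)
    refine Eq.trans ?_ (one_smul _ _).symm
    rcases Nat.mod_two_eq_zero_or_one m.1 with h | h
    · exact heven m h
    · have h' : (swp m).1 % 2 = 0 := by
        have := (swp_facts m).2.2.1
        have := Fin.val_ne_of_ne (swp_facts m).2.1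
        omega
      have e := heven _ h'
      rw [← t_mV, ← cent_comm] at e
      exact (smul_left_cancel_iff _).1 e

/-- The involution in its centraliser. -/
noncomputable def tCent : cent := ⟨tInv, Subgroup.mem_centralizer_singleton_iff.2 rfl⟩

lemma fixHom_tCent : fixHom tCent = 1 :=
  Equiv.ext fun k => fV_injective (by
    show fV (tCent • k) = fV k
    rw [← smul_fV]; exact t_fV k)

theorem ker_fixHom : fixHom.ker = Subgroup.zpowers tCent := by
  refine le_antisymm (fun g hg => ?_) (Subgroup.zpowers_le.2 fixHom_tCent)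
  rw [MonoidHom.mem_ker] at hg
  obtain ⟨m', hm'⟩ := cent_mV g 0
  rcases moved_pair hg hm' with rfl | rfl
  · rw [eq_one_of_fixed hg hm']; exact one_mem _
  · have h1 : tCent * g = 1 := by
      refine eq_one_of_fixed (by rw [map_mul, hg, fixHom_tCent, mul_one]) ?_
      show ((tInv * g.1 : mcl) : Co0) • mV 0 = mV 0
      rw [Subgroup.coe_mul, mul_smul, hm', t_mV, (swp_facts 0).1]
    rw [eq_inv_of_mul_eq_one_right h1]
    exact inv_mem (Subgroup.mem_zpowers _)

lemma card_mcl : Nat.card mcl = 898128000 := by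
  have hf : sqNorm refV.1 = 32 ∧ sqNorm (refU - refV : leechLattice).1 = 32 ∧
      dotInt refV.1 (refU - refV : leechLattice).1 = -8 := by decide +kernel
  have e : MulAction.stabilizer Co0 refV ⊓ MulAction.stabilizer Co0 (refU - refV) = mcl := by
    ext g
    simp only [Subgroup.mem_inf, MulAction.mem_stabilizer_iff, co0_smul_sub]
    constructor
    · rintro ⟨a, b⟩; rw [a, sub_left_inj] at b; exact ⟨b, a⟩
    · rintro ⟨a, b⟩; exact ⟨b, by rw [a, b]⟩
  rw [← e]
  exact (isMcL_stabilizer hf.1 hf.2.1 hf.2.2).2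

lemma card_ker : Nat.card fixHom.ker = 2 := by
  rw [ker_fixHom, Nat.card_zpowers, ← Subgroup.orderOf_coe]
  exact orderOf_tInv

theorem range_iso : Nonempty (fixHom.range ≃* alternatingGroup (Fin 8)) := by
  refine iso_alt _ ?_ rGen_mem ?_
  · rintro _ ⟨g, rfl⟩ v w
    exact adj_invariant g v w
  · have h1 := Subgroup.card_subgroup_dvd_card cent
    rw [card_mcl, ← fixHom.ker.card_mul_index, card_ker, Subgroup.index_ker] at h1
    exact Nat.dvd_of_mul_dvd_mul_left (by norm_num : 0 < 2) h1

theorem center_cent : Subgroup.center cent = fixHom.ker := by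
  obtain ⟨e⟩ := range_iso
  haveI : IsSimpleGroup (alternatingGroup (Fin 8)) := alternatingGroup.isSimpleGroup (by simp)
  have hA : Subgroup.center (alternatingGroup (Fin 8)) = ⊥ := by
    refine (Subgroup.Normal.eq_bot_or_eq_top inferInstance).resolve_right fun h => ?_
    have hc : ∀ a b : alternatingGroup (Fin 8), a * b = b * a := fun a b =>
      (Subgroup.mem_center_iff.1 (h ▸ Subgroup.mem_top b) a)
    have := congrArg (fun z : alternatingGroup (Fin 8) => z.1)
      (hc ⟨pGen 0, pGen_mem 0⟩ ⟨pGen 1, pGen_mem 1⟩)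
    exact absurd this (by decide +kernel)
  refine le_antisymm (fun g hg => ?_) ?_
  · have h1 : e (fixHom.rangeRestrict g) ∈ Subgroup.center (alternatingGroup (Fin 8)) := by
      rw [Subgroup.mem_center_iff]
      intro a
      obtain ⟨x, hx⟩ := fixHom.rangeRestrict_surjective (e.symm a)
      rw [show a = e (fixHom.rangeRestrict x) by rw [hx, e.apply_symm_apply], ← map_mul, ← map_mul,
        ← map_mul, ← map_mul, Subgroup.mem_center_iff.1 hg x]
    rw [hA, Subgroup.mem_bot, map_eq_one_iff e e.injective] at h1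
    exact congrArg Subtype.val h1
  · rw [ker_fixHom, Subgroup.zpowers_le, Subgroup.mem_center_iff]
    exact fun x => Subtype.ext (Subgroup.mem_centralizer_singleton_iff.1 x.2)

lemma four_checks : tblOK fourTbl = true ∧ tblEq (tblMul fourTbl fourTbl) tTbl = true := by
  decide +kernel

/-- The centraliser is a non-split double cover. -/
theorem nonsplit_cent : Cfsg.IsNonsplitDoubleCover cent (alternatingGroup (Fin 8)) := by
  obtain ⟨e⟩ := range_iso
  refine ⟨by rw [center_cent, card_ker], ⟨(QuotientGroup.quotientMulEquivOfEq center_cent).trans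
    ((QuotientGroup.quotientKerEquivRange fixHom).trans e)⟩, fun L hL => ?_⟩
  obtain ⟨h4, hmem⟩ := tblOK_mem four_checks.1
  let s : twoStab := ⟨⟨mkPerm fourTbl, mem_M24_of_inM24 h4⟩, hmem⟩
  have hsq : s * s = tPerm := by
    have hv := validT_of_inM24 h4
    refine Subtype.ext (Subtype.ext ?_)
    show mkPerm fourTbl * mkPerm fourTbl = mkPerm tTbl
    rw [← (tblMul_spec hv hv).2]
    exact mkPerm_eq_of_tblEq (tblMul_spec hv hv).1
      (validT_of_inM24 (tblOK_mem tTbl_ok).1) four_checks.2
  have hs : pHom s * pHom s = tInv := by rw [← map_mul, hsq]; rfl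
  have hsc : pHom s ∈ cent := by
    rw [Subgroup.mem_centralizer_singleton_iff, ← hs, mul_assoc]
  set x : cent := ⟨pHom s, hsc⟩
  obtain ⟨⟨⟨z, hz⟩, ⟨l, hl⟩⟩, hx⟩ := hL.2 x
  have hxx : x * x = tCent := Subtype.ext hs
  have hzz : z * z = 1 := by
    rw [center_cent, ker_fixHom] at hz
    obtain ⟨n, rfl⟩ := hz
    show tCent ^ n * tCent ^ n = 1
    rw [← zpow_add, ← two_mul, zpow_mul]
    have : tCent ^ (2 : ℤ) = 1 := by
      rw [zpow_two]; exact Subtype.ext tInv_sq
    rw [this, one_zpow]
  have hll : l * l = tCent := by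
    rw [← hxx, ← hx]
    show l * l = z * l * (z * l)
    rw [mul_assoc z l, ← mul_assoc l z, Subgroup.mem_center_iff.1 hz l, mul_assoc, ← mul_assoc,
      ← mul_assoc, hzz, one_mul]
  have h1 : tCent ∈ Subgroup.center cent ⊓ L :=
    ⟨center_cent.symm ▸ fixHom_tCent, hll ▸ mul_mem hl hl⟩
  rw [hL.disjoint.eq_bot, Subgroup.mem_bot] at h1
  exact tInv_ne_one (congrArg Subtype.val h1)

end Cfsg.Agent.H92.McLInv
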