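import Cfsg.Agent.H92.McLInvCent

/-!
The stabiliser of the reference edge has one class of involutions: a Sylow 2-subgroup consists of
permutations, and each of its involutions is conjugate to the fixed one by a permutation.
-/

set_option autoImplicit false

namespace Cfsg.Agent.H92.McLInv

open Cfsg Cfsg.Agent.Golay Cfsg.Agent.H92.LeechOrbit

/-- A listed element. -/
def sylT (i : Fin 128) : ℕ := sylTbls.getD i.1 0

/-- A generator. -/
def genT (j : Fin 3) : ℕ := sylGens.getD j.1 0

lemma genT_ok : ∀ j, tblOK (genT j) = true := by decide +kernel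

lemma sylT_ok : ∀ i, tblOK (sylT i) = true := by decide +kernel

/-- The permutation of a table fixing the two special points. -/
noncomputable def tblEl {T : ℕ} (h : tblOK T = true) : twoStab :=
  ⟨⟨mkPerm T, mem_M24_of_inM24 (tblOK_mem h).1⟩, (tblOK_mem h).2⟩

lemma tblEl_mul {A B C : ℕ} (hA : tblOK A = true) (hB : tblOK B = true) (hC : tblOK C = true)
    (h : tblEq (tblMul A B) C = true) : tblEl hA * tblEl hB = tblEl hC := by
  have va := validT_of_inM24 (tblOK_mem hA).1
  have vb := validT_of_inM24 (tblOK_mem hB).1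
  refine Subtype.ext (Subtype.ext ?_)
  show mkPerm A * mkPerm B = mkPerm C
  rw [← (tblMul_spec va vb).2]
  exact mkPerm_eq_of_tblEq (tblMul_spec va vb).1 (validT_of_inM24 (tblOK_mem hC).1) h

/-- The element. -/
noncomputable def sylEl (i : Fin 128) : twoStab := tblEl (sylT_ok i)

/-- The generator. -/
noncomputable def genEl (j : Fin 3) : twoStab := tblEl (genT_ok j)

/-- Left multiplication on the list. -/
def nextIdx (j : Fin 3) (i : Fin 128) : Fin 128 :=
  ⟨sylNext.getD (3 * i.1 + j.1) 0 % 128, Nat.mod_lt _ (by norm_num)⟩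

lemma next_ok : ∀ j i, tblEq (tblMul (genT j) (sylT i)) (sylT (nextIdx j i)) = true := by
  decide +kernel

lemma next_surj : ∀ j i, ∃ i', nextIdx j i' = i := by decide +kernel

lemma root_ok : tblEq (sylT 0) idTbl = true := by decide +kernel

lemma tree_steps : ∀ i : Fin 128, i = 0 ∨ ((sylTree.getD i.1 (0, 0)).1 < i.1 ∧
    ∃ j : Fin 3, ∃ k : Fin 128, k.1 = (sylTree.getD i.1 (0, 0)).1 ∧ nextIdx j k = i) := by
  decide +kernel

lemma syl_distinct : (allBelow 128 fun a => allBelow 128 fun b =>
    Nat.beq a b || !tblEq (sylTbls.getD a 0) (sylTbls.getD b 0)) = true := by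
  decide +kernel

lemma genEl_mul (j : Fin 3) (i : Fin 128) : genEl j * sylEl i = sylEl (nextIdx j i) :=
  tblEl_mul _ _ _ (next_ok j i)

lemma sylEl_zero : sylEl 0 = 1 := by
  refine Subtype.ext (Subtype.ext ?_)
  show mkPerm (sylT 0) = 1
  rw [← idTbl_spec.2]
  exact mkPerm_eq_of_tblEq (validT_of_inM24 (tblOK_mem (sylT_ok 0)).1) idTbl_spec.1 root_ok

/-- The Sylow subgroup of the permutations. -/
noncomputable def sylGroup : Subgroup twoStab := Subgroup.closure (Set.range genEl)

lemma sylEl_mem (i : Fin 128) : sylEl i ∈ sylGroup := by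
  have key : ∀ n, ∀ i : Fin 128, i.1 ≤ n → sylEl i ∈ sylGroup := by
    intro n
    induction n with
    | zero =>
      intro i hi
      rw [show i = 0 from Fin.ext (show i.1 = 0 by omega), sylEl_zero]
      exact one_mem _
    | succ n ih =>
      intro i hi
      rcases tree_steps i with rfl | ⟨hlt, j, k, hk, rfl⟩
      · rw [sylEl_zero]; exact one_mem _
      · rw [← genEl_mul]
        exact mul_mem (Subgroup.subset_closure ⟨j, rfl⟩) (ih k (by omega))
  exact key _ i le_rfl

lemma exists_sylEl {x : twoStab} (hx : x ∈ sylGroup) : ∃ i, sylEl i = x := by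
  refine Subgroup.closure_induction_left ⟨0, sylEl_zero⟩ ?_ ?_ hx
  · rintro _ ⟨j, rfl⟩ y _ ⟨i, rfl⟩
    exact ⟨nextIdx j i, (genEl_mul j i).symm⟩
  · rintro _ ⟨j, rfl⟩ y _ ⟨i, rfl⟩
    obtain ⟨i', hi'⟩ := next_surj j i
    exact ⟨i', by rw [eq_inv_mul_iff_mul_eq, genEl_mul, hi']⟩

lemma sylEl_injective : Function.Injective sylEl := by
  intro a b h
  have h' : mkPerm (sylT a) = mkPerm (sylT b) := congrArg (fun z : twoStab => (z.1 : Equiv.Perm GolayPt)) h
  have hd := allBelow_spec (allBelow_spec syl_distinct a.1 a.2) b.1 b.2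
  rw [Bool.or_eq_true] at hd
  rcases hd with hd | hd
  · exact Fin.ext (Nat.eq_of_beq_eq_true hd)
  · exfalso
    have va := validT_of_inM24 (tblOK_mem (sylT_ok a)).1
    have vb := validT_of_inM24 (tblOK_mem (sylT_ok b)).1
    have : tblEq (sylT a) (sylT b) = true := by
      refine List.all_eq_true.2 fun i hi => beq_iff_eq.2 ?_
      have := congrArg (fun σ => idx (σ (pt i))) h'
      simpa [idx_mkPerm va, idx_mkPerm vb, idx_pt i (List.mem_range.1 hi)] using this
    simp [sylT] at this
    simp [this] at hd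

lemma card_sylGroup : Nat.card sylGroup = 128 := by
  have h : Function.Bijective (fun i => (⟨sylEl i, sylEl_mem i⟩ : sylGroup)) :=
    ⟨fun a b e => sylEl_injective (congrArg Subtype.val e), fun x => by
      obtain ⟨i, hi⟩ := exists_sylEl x.2
      exact ⟨i, Subtype.ext hi⟩⟩
  rw [← Nat.card_congr (Equiv.ofBijective _ h), Nat.card_fin]

lemma pHom_injective : Function.Injective pHom := fun _ _ h =>
  Subtype.ext (permHom_injective (congrArg Subtype.val h))

lemma conj_checks : ∀ i : Fin 128,
    tblEq (tblMul (sylT i) (sylT i)) idTbl = true → i = 0 ∨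
      (tblOK (sylConj.getD i.1 0) = true ∧
        tblEq (tblMul (sylT i) (sylConj.getD i.1 0)) (tblMul (sylConj.getD i.1 0) tTbl) = true) := by
  decide +kernel

/-- One class of involutions. -/
theorem isConj_tInv {x : mcl} (hx : orderOf x = 2) : IsConj tInv x := by
  classical
  haveI : Fact (Nat.Prime 2) := ⟨Nat.prime_two⟩
  haveI : Finite mcl := (Nat.card_pos_iff.1 (by rw [card_mcl]; norm_num)).2
  have hc : Nat.card (sylGroup.map pHom) = 128 := by
    rw [Subgroup.card_map_of_injective pHom_injective, card_sylGroup]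
  let Q : Sylow 2 mcl := Sylow.ofCard (sylGroup.map pHom) (by
    rw [hc, card_mcl, Nat.factorization_def _ Nat.prime_two,
      show (898128000 : ℕ) = 2 ^ 7 * 7016625 by norm_num,
      padicValNat.mul (by norm_num) (by norm_num), padicValNat.prime_pow,
      padicValNat.eq_zero_of_not_dvd (by norm_num)]
    norm_num)
  have hp : IsPGroup 2 (Subgroup.zpowers x) :=
    IsPGroup.of_card (n := 1) (by rw [Nat.card_zpowers, hx, pow_one])
  obtain ⟨P, hP⟩ := hp.exists_le_sylow
  obtain ⟨g, hg⟩ := MulAction.exists_smul_eq mcl P Q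
  have hgx : g * x * g⁻¹ ∈ (Q : Subgroup mcl) := by
    rw [← hg]
    exact Subgroup.smul_mem_pointwise_smul x (MulAut.conj g) _ (hP (Subgroup.mem_zpowers x))
  obtain ⟨y, hy, hyx⟩ : g * x * g⁻¹ ∈ sylGroup.map pHom := hgx
  obtain ⟨i, rfl⟩ := exists_sylEl hy
  refine IsConj.trans ?_ (IsConj.symm (isConj_iff.2 ⟨g, hyx.symm⟩))
  have hi2 : orderOf (sylEl i) = 2 := by
    rw [← orderOf_injective pHom pHom_injective, hyx, ← hx]
    exact (MulAut.conj g).orderOf_eq x
  have hne : i ≠ 0 := by
    rintro rfl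
    rw [sylEl_zero, orderOf_one] at hi2
    norm_num at hi2
  have hsq : tblEq (tblMul (sylT i) (sylT i)) idTbl = true := by
    have v := validT_of_inM24 (tblOK_mem (sylT_ok i)).1
    have h1 : mkPerm (tblMul (sylT i) (sylT i)) = mkPerm idTbl := by
      rw [(tblMul_spec v v).2, idTbl_spec.2]
      have := pow_orderOf_eq_one (sylEl i)
      rw [hi2, pow_two] at this
      exact congrArg (fun z : twoStab => (z.1 : Equiv.Perm GolayPt)) this
    refine List.all_eq_true.2 fun k hk => beq_iff_eq.2 ?_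
    have := congrArg (fun σ => idx (σ (pt k))) h1
    simpa [idx_mkPerm (tblMul_spec v v).1, idx_mkPerm idTbl_spec.1,
      idx_pt k (List.mem_range.1 hk)] using this
  obtain ⟨hok, heq⟩ := (conj_checks i hsq).resolve_left hne
  refine IsConj.symm (isConj_iff.2 ⟨(pHom (tblEl hok))⁻¹, ?_⟩)
  have v1 := validT_of_inM24 (tblOK_mem hok).1
  have v2 := validT_of_inM24 (tblOK_mem (sylT_ok i)).1
  have v3 := validT_of_inM24 (tblOK_mem tTbl_ok).1
  have h : sylEl i * tblEl hok = tblEl hok * tPerm := by
    refine Subtype.ext (Subtype.ext ?_)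
    show mkPerm (sylT i) * mkPerm (sylConj.getD i.1 0) = mkPerm (sylConj.getD i.1 0) * mkPerm tTbl
    rw [← (tblMul_spec v2 v1).2, ← (tblMul_spec v1 v3).2]
    exact mkPerm_eq_of_tblEq (tblMul_spec v2 v1).1 (tblMul_spec v1 v3).1 heq
  rw [inv_inv, mul_assoc, inv_mul_eq_iff_eq_mul, tInv, ← map_mul, ← map_mul, h]

end Cfsg.Agent.H92.McLInv
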