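import Cfsg.Agent.H92.McLInvData
import Cfsg.Agent.H85.AltDeg.Perm
import Mathlib.GroupTheory.SpecificGroups.Alternating.Simple

/-!
The thirty-five partitions of eight objects into two halves: a group of automorphisms of their
graph whose order is not divisible by 128 and which contains two given elements is alternating of
degree eight.
-/

set_option autoImplicit false

namespace Cfsg.Agent.H92.McLInv

open Equiv

/-- Adjacency of two fixed points. -/
def adj (v w : Fin 35) : Bool := (adjMasks.getD v.1 0).testBit w.1

/-- The two given permutations, as functions. -/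
def genFun (j : Fin 2) (v : Fin 35) : Fin 35 :=
  ⟨(genFix.getD j.1 []).getD v.1 0 % 35, Nat.mod_lt _ (by norm_num)⟩

lemma genFun_injective : ∀ j, Function.Injective (genFun j) := by decide +kernel

/-- The two given permutations. -/
noncomputable def rGen (j : Fin 2) : Perm (Fin 35) :=
  Equiv.ofBijective _ (Finite.injective_iff_bijective.1 (genFun_injective j))

@[simp] lemma rGen_apply (j : Fin 2) (v : Fin 35) : rGen j v = genFun j v := rfl

/-! ### Bound -/

/-- The points adjacent to the listed ones in the way the base is. -/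
def cands (imgs : List (Fin 35)) (b : Fin 35) : List (Fin 35) :=
  (List.finRange 35).filter fun x => !imgs.contains x &&
    (List.range imgs.length).all fun j => adj x (imgs.getD j 0) == adj b (base.getD j 0)

/-- Possible images of a beginning of the base by maps fixing its first point. -/
def tuples : List (Fin 35) → List (List (Fin 35))
  | [] => [[]]
  | [b] => [[b]]
  | b :: c :: more =>
    (tuples (c :: more)).flatMap fun imgs => (cands imgs.reverse b).map fun x => x :: imgs

lemma base_nodup : base.Nodup := by decide +kernel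

lemma mem_tuples {σ : Perm (Fin 35)} (hσ : ∀ v w, adj (σ v) (σ w) = adj v w)
    (h0 : σ (base.getD 0 0) = base.getD 0 0) :
    ∀ L : List (Fin 35), L.reverse <+: base → L.map σ ∈ tuples L
  | [], _ => by simp [tuples]
  | [b], h => by
    obtain ⟨t, ht⟩ := h
    have hb : base.getD 0 0 = b := by rw [← ht]; rfl
    rw [hb] at h0
    simp [tuples, h0]
  | b :: c :: more, h => by
    set rest := c :: more with hrest
    have hr : rest.reverse <+: base := (List.prefix_append _ [b]).trans (by simpa using h)
    rw [hrest, tuples]
    simp only [List.map_cons, List.mem_flatMap, List.mem_map]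
    refine ⟨_, mem_tuples hσ h0 (c :: more) hr, σ b, ?_, rfl⟩
    simp only [cands, List.mem_filter, List.mem_finRange, true_and, List.all_eq_true,
      List.mem_range, List.length_reverse, List.length_map, beq_iff_eq, Bool.and_eq_true]
    have hnd : ((b :: rest).reverse).Nodup := h.sublist.nodup base_nodup
    rw [List.nodup_reverse, List.nodup_cons] at hnd
    refine ⟨by simpa [← hrest, σ.injective.eq_iff] using hnd.1, ?_⟩
    intro j hj
    obtain ⟨t, ht⟩ := hr
    have hb : base.getD j 0 = rest.reverse.getD j 0 := by
      rw [← ht, List.getD_append _ _ _ _ (by simpa [hrest] using hj)]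
    have hi : (rest.map σ).reverse.getD j 0 = σ (rest.reverse.getD j 0) := by
      rw [← List.map_reverse, List.getD_eq_getElem _ _ (by simpa [hrest] using hj),
        List.getD_eq_getElem _ _ (by simpa [hrest] using hj), List.getElem_map]
    rw [hb, ← hrest, hi, hσ]

/-- The profile of a point. -/
def profile (v : Fin 35) : List Bool := base.map (adj v)

lemma base_sep :
    (List.finRange 35).all (fun v => (List.finRange 35).all fun w =>
      base.contains v || base.contains w || decide (v = w) || !(profile v == profile w)) = true := by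
  decide +kernel

lemma tuples_fixed : (tuples base.reverse).length < 60480 / 35 := by
  decide +kernel

theorem eq_of_base {σ τ : Perm (Fin 35)} (hσ : ∀ v w, adj (σ v) (σ w) = adj v w)
    (hτ : ∀ v w, adj (τ v) (τ w) = adj v w) (h : base.reverse.map σ = base.reverse.map τ) :
    σ = τ := by
  rw [List.map_inj_left] at h
  refine Equiv.ext fun v => ?_
  obtain ⟨w, hw⟩ := τ.surjective (σ v)
  rw [← hw]
  congr 1
  symm
  by_cases hv : v ∈ base
  · exact τ.injective ((h v (List.mem_reverse.2 hv)).symm.trans hw.symm)
  by_cases hwb : w ∈ base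
  · have := h w (List.mem_reverse.2 hwb)
    rw [hw] at this
    exact (σ.injective this).symm
  have hp : profile v = profile w := by
    refine List.map_congr_left fun b hb => ?_
    rw [← hσ v b, ← hw, h b (List.mem_reverse.2 hb), hτ]
  have := List.all_eq_true.1 (List.all_eq_true.1 base_sep v (List.mem_finRange v)) w
    (List.mem_finRange w)
  simp [hv, hwb, hp] at this
  exact this

theorem card_bound (H : Subgroup (Perm (Fin 35)))
    (hadj : ∀ σ ∈ H, ∀ v w, adj (σ v) (σ w) = adj v w) : Nat.card H < 60480 := by
  classical
  have hst : Nat.card (MulAction.stabilizer H (base.getD 0 0)) < 60480 / 35 := by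
    refine lt_of_le_of_lt ?_ tuples_fixed
    set L := tuples base.reverse
    have hmem : ∀ σ : MulAction.stabilizer H (base.getD 0 0),
        base.reverse.map σ.1.1 ∈ L.toFinset := by
      intro σ
      rw [List.mem_toFinset]
      exact mem_tuples (hadj _ σ.1.2) σ.2 _ (by simp)
    refine le_trans (Nat.card_le_card_of_injective (fun σ => (⟨_, hmem σ⟩ : L.toFinset)) ?_) ?_
    · intro σ τ h
      exact Subtype.ext (Subtype.ext (eq_of_base (hadj _ σ.1.2) (hadj _ τ.1.2)
        (congrArg Subtype.val h)))
    · rw [Nat.card_eq_fintype_card, Fintype.card_coe]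
      exact List.toFinset_card_le L
  have horb : (MulAction.stabilizer H (base.getD 0 0)).index ≤ 35 := by
    rw [MulAction.index_stabilizer]
    refine le_trans (Set.ncard_le_card _) ?_
    simp
  rw [← (MulAction.stabilizer H (base.getD 0 0)).card_mul_index]
  calc Nat.card _ * _ ≤ (60480 / 35 - 1) * 35 := Nat.mul_le_mul (by omega) horb
    _ < 60480 := by norm_num

/-! ### The eight objects -/

/-- A partition of eight objects into two halves. -/
def Part : Type :=
  {p : Finset (Finset (Fin 8)) // ∃ s : Finset (Fin 8), s.card = 4 ∧ p = {s, sᶜ}}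

lemma image_compl (σ : Perm (Fin 8)) (s : Finset (Fin 8)) : sᶜ.image σ = (s.image σ)ᶜ := by
  rw [Finset.compl_eq_univ_sdiff, Finset.image_sdiff _ _ σ.injective,
    Finset.image_univ_of_surjective σ.surjective, ← Finset.compl_eq_univ_sdiff]

/-- The action on partitions. -/
def partSMul (σ : Perm (Fin 8)) (p : Part) : Part :=
  ⟨p.1.image fun s => s.image σ, by
    obtain ⟨s, hs, hp⟩ := p.2
    refine ⟨s.image σ, by rw [Finset.card_image_of_injective _ σ.injective, hs], ?_⟩
    rw [hp, Finset.image_insert, Finset.image_singleton, image_compl]⟩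

lemma partSMul_one (p : Part) : partSMul 1 p = p := Subtype.ext (by simp [partSMul])

lemma partSMul_mul (σ τ : Perm (Fin 8)) (p : Part) :
    partSMul (σ * τ) p = partSMul σ (partSMul τ p) :=
  Subtype.ext (by simp [partSMul, Finset.image_image, Function.comp_def, Perm.mul_apply])

/-- The permutations of the partitions. -/
def partHom : Perm (Fin 8) →* Perm Part where
  toFun σ :=
    { toFun := partSMul σ
      invFun := partSMul σ⁻¹
      left_inv := fun p => by rw [← partSMul_mul, inv_mul_cancel, partSMul_one]
      right_inv := fun p => by rw [← partSMul_mul, mul_inv_cancel, partSMul_one] }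
  map_one' := Equiv.ext fun p => partSMul_one p
  map_mul' σ τ := Equiv.ext fun p => partSMul_mul σ τ p

/-- The half labelling a fixed point. -/
def half (v : Fin 35) : Finset (Fin 8) :=
  Finset.univ.filter fun i => (partMasks.getD v.1 0).testBit i.1

lemma half_card : ∀ v, (half v).card = 4 := by decide +kernel

lemma half_inj : ∀ v w, half v = half w ∨ half v = (half w)ᶜ → v = w := by decide +kernel

lemma half_surj : ∀ s : Finset (Fin 8), s.card = 4 → ∃ v, half v = s ∨ half v = sᶜ := by
  decide +kernel

/-- The label of a fixed point. -/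
def label (v : Fin 35) : Part := ⟨{half v, (half v)ᶜ}, _, half_card v, rfl⟩

lemma label_bijective : Function.Bijective label := by
  constructor
  · intro v w h
    have h1 : half v ∈ (label w).1 := by rw [← h]; simp [label]
    simp only [label, Finset.mem_insert, Finset.mem_singleton] at h1
    exact half_inj v w h1
  · rintro ⟨p, s, hs, rfl⟩
    obtain ⟨v, hv | hv⟩ := half_surj s hs
    · exact ⟨v, Subtype.ext (by simp [label, hv])⟩
    · exact ⟨v, Subtype.ext (by simp [label, hv, Finset.pair_comm])⟩

/-- The action of the permutations of eight objects on the fixed points. -/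
noncomputable def eightHom : Perm (Fin 8) →* Perm (Fin 35) :=
  (Equiv.permCongrHom (Equiv.ofBijective label label_bijective).symm).toMonoidHom.comp partHom

lemma eightHom_eq {σ : Perm (Fin 8)} {r : Perm (Fin 35)}
    (h : ∀ v, (half v).image σ = half (r v) ∨ (half v).image σ = (half (r v))ᶜ) :
    eightHom σ = r := by
  refine Equiv.ext fun v => ?_
  show (Equiv.ofBijective label label_bijective).symm (partSMul σ (label v)) = r v
  rw [Equiv.symm_apply_eq]
  refine Subtype.ext ?_
  show (partSMul σ (label v)).1 = (label (r v)).1
  simp only [partSMul, label, Finset.image_insert, Finset.image_singleton, image_compl]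
  rcases h v with e | e <;> simp [e, Finset.pair_comm]

/-- The two elements on eight objects, as functions. -/
def eightFun (j : Fin 2) (i : Fin 8) : Fin 8 := (genEight.getD j.1 []).getD i.1 0

/-- Their inverses. -/
def eightInv (j : Fin 2) (i : Fin 8) : Fin 8 :=
  (([[7, 2, 3, 6, 5, 0, 1, 4], [7, 4, 0, 6, 2, 3, 5, 1]] : List (List (Fin 8))).getD j.1 []).getD i.1 0

lemma eight_inv : ∀ j i, eightInv j (eightFun j i) = i ∧ eightFun j (eightInv j i) = i := by
  decide +kernel

/-- The two elements on eight objects. -/
def pGen (j : Fin 2) : Perm (Fin 8) :=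
  ⟨eightFun j, eightInv j, fun i => (eight_inv j i).1, fun i => (eight_inv j i).2⟩

lemma image_gen : ∀ j v, (half v).image (eightFun j) = half (genFun j v) ∨
    (half v).image (eightFun j) = (half (genFun j v))ᶜ := by
  decide +kernel

lemma eightHom_pGen (j : Fin 2) : eightHom (pGen j) = rGen j :=
  eightHom_eq fun v => image_gen j v

lemma pGen_sign : ∀ j : Fin 2, Perm.sign (pGen j) = 1 := by
  decide +kernel

lemma pGen_mem (j : Fin 2) : pGen j ∈ alternatingGroup (Fin 8) :=
  Perm.mem_alternatingGroup.2 (pGen_sign j)

/-- A listed three-cycle. -/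
def cycleFun (k : ℕ) (i : Fin 8) : Fin 8 := (cycles.getD k []).getD i.1 0

lemma cycle_root : ∀ i, cycleFun 0 i = (cycleWord.map eightFun).foldr (fun f x => f x) i := by
  decide +kernel

lemma cycle_steps :
    (List.range 111).all (fun k => decide ((cycleTree.getD k (0, 0)).1 ≤ k) &&
      (List.finRange 8).all fun i =>
        cycleFun (k + 1) (eightFun (cycleTree.getD k (0, 0)).2 i)
          == eightFun (cycleTree.getD k (0, 0)).2 (cycleFun (cycleTree.getD k (0, 0)).1 i)) = true := by
  decide +kernel

lemma cycle_all :
    ∀ a b c : Fin 8, a ≠ b → b ≠ c → a ≠ c → ∃ k < 112,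
      ∀ i, (Equiv.swap a b * Equiv.swap b c) i = cycleFun k i := by
  decide +kernel

theorem closure_pGen : Subgroup.closure (Set.range pGen) = alternatingGroup (Fin 8) := by
  refine le_antisymm ((Subgroup.closure_le _).2 fun _ ⟨j, hj⟩ => hj ▸ pGen_mem j) ?_
  set C := Subgroup.closure (Set.range pGen)
  have hj : ∀ j, pGen j ∈ C := fun j => Subgroup.subset_closure ⟨j, rfl⟩
  have hcyc : ∀ n k, k ≤ n → k < 112 → ∃ σ ∈ C, ∀ i, σ i = cycleFun k i := by
    intro n
    induction n with
    | zero =>
      intro k hk _
      obtain rfl : k = 0 := by omega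
      refine ⟨(cycleWord.map pGen).prod, list_prod_mem fun x hx => ?_, fun i => ?_⟩
      · obtain ⟨j, -, rfl⟩ := List.mem_map.1 hx
        exact hj j
      rw [cycle_root]
      generalize cycleWord = w
      induction w with
      | nil => rfl
      | cons a w ih =>
        rw [List.map_cons, List.prod_cons, Perm.mul_apply, ih]
        rfl
    | succ n ih =>
      intro k hk hk'
      rcases Nat.eq_zero_or_pos k with rfl | hpos
      · exact ih 0 (Nat.zero_le _) hk'
      obtain ⟨k, rfl⟩ : ∃ m, k = m + 1 := ⟨k - 1, by omega⟩
      have h := List.all_eq_true.1 cycle_steps k (List.mem_range.2 (by omega))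
      simp only [Bool.and_eq_true, decide_eq_true_eq, List.all_eq_true, beq_iff_eq,
        List.mem_finRange, forall_const] at h
      obtain ⟨σ, hσ, hs⟩ := ih _ (le_trans h.1 (by omega)) (by omega)
      refine ⟨pGen (cycleTree.getD k (0, 0)).2 * σ * (pGen (cycleTree.getD k (0, 0)).2)⁻¹,
        mul_mem (mul_mem (hj _) hσ) (inv_mem (hj _)), fun i => ?_⟩
      obtain ⟨i', rfl⟩ := (pGen (cycleTree.getD k (0, 0)).2).surjective i
      rw [Perm.mul_apply, Perm.mul_apply, Perm.inv_def, Equiv.symm_apply_apply, hs]
      exact (h.2 i').symm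
  have hle : ∀ g : alternatingGroup (Fin 8),
      g ∈ Subgroup.closure {g : alternatingGroup (Fin 8) | ∃ a b c, a ≠ b ∧ b ≠ c ∧ a ≠ c ∧
        g = H85.AltDeg.cy a b c} → g.1 ∈ C := by
    intro g hg
    refine Subgroup.closure_induction (p := fun x _ => x.1 ∈ C) ?_ C.one_mem
      (fun x y _ _ hx hy => C.mul_mem hx hy) (fun x _ hx => C.inv_mem hx) hg
    rintro _ ⟨a, b, c, hab, hbc, hac, rfl⟩
    obtain ⟨k, hk, he⟩ := cycle_all a b c hab hbc hac
    obtain ⟨σ, hσ, hs⟩ := hcyc k k le_rfl hk
    rw [H85.AltDeg.cy_coe hab hbc hac, show Equiv.swap a b * Equiv.swap b c = σ from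
      Equiv.ext fun i => (he i).trans (hs i).symm]
    exact hσ
  intro g hg
  exact hle ⟨g, hg⟩ (H85.AltDeg.closure_cy (α := Fin 8) ▸ Subgroup.mem_top _)

lemma gen_moves : ∃ v, genFun 0 v ≠ v := by decide +kernel

/-- A group of automorphisms of the graph containing the two elements, of order not divisible by
128, is alternating of degree eight. -/
theorem iso_alt (H : Subgroup (Perm (Fin 35)))
    (hadj : ∀ σ ∈ H, ∀ v w, adj (σ v) (σ w) = adj v w) (hgen : ∀ j, rGen j ∈ H)
    (hdvd : Nat.card H ∣ 449064000) : Nonempty (H ≃* alternatingGroup (Fin 8)) := by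
  set ψ : alternatingGroup (Fin 8) →* Perm (Fin 35) :=
    eightHom.comp (alternatingGroup (Fin 8)).subtype
  haveI : IsSimpleGroup (alternatingGroup (Fin 8)) := alternatingGroup.isSimpleGroup (by simp)
  have hinj : Function.Injective ψ := by
    rw [← MonoidHom.ker_eq_bot_iff]
    refine (Subgroup.Normal.eq_bot_or_eq_top inferInstance).resolve_right fun h => ?_
    have h1 : (⟨pGen 0, pGen_mem 0⟩ : alternatingGroup (Fin 8)) ∈ ψ.ker := h ▸ Subgroup.mem_top _
    rw [MonoidHom.mem_ker] at h1
    have h2 : rGen 0 = 1 := (eightHom_pGen 0).symm.trans h1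
    obtain ⟨v, hv⟩ := gen_moves
    exact hv (Equiv.congr_fun h2 v)
  have hle : ψ.range ≤ H := by
    rw [show ψ.range = (alternatingGroup (Fin 8)).map eightHom by
      rw [MonoidHom.range_eq_map, ← Subgroup.map_map, ← MonoidHom.range_eq_map,
        Subgroup.range_subtype], ← closure_pGen, MonoidHom.map_closure, Subgroup.closure_le]
    rintro _ ⟨_, ⟨j, rfl⟩, rfl⟩
    rw [eightHom_pGen]; exact hgen j
  have hc : Nat.card ψ.range = 20160 := by
    rw [← Nat.card_congr (MonoidHom.ofInjective hinj).toEquiv, nat_card_alternatingGroup]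
    simp [Nat.factorial]
  have heq : ψ.range = H := by
    refine Subgroup.eq_of_le_of_card_ge hle ?_
    obtain ⟨k, hk⟩ := Subgroup.card_dvd_of_le hle
    have hb := card_bound H hadj
    rw [hk, hc] at hdvd hb
    have hk3 : k < 3 := by omega
    rw [hk, hc]
    interval_cases k <;> first | omega | norm_num at hdvd
  exact ⟨((MonoidHom.ofInjective hinj).trans (MulEquiv.subgroupCongr heq)).symm⟩

end Cfsg.Agent.H92.McLInv
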