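import Cfsg.Prelude.Def_MonsterType
import Cfsg.Agent.H92.LargeSimple
import Cfsg.Agent.H92.LeechStab

/-!
Classes of involutions in the extraspecial group of a group of Monster type.
-/

set_option autoImplicit false

namespace Cfsg.Agent.H92.MonsterQ

open Cfsg Cfsg.Agent.H92.LeechTwo
open scoped commutatorElement

section fixedpoints

variable {P : Type*} [Group P] [Finite P]

/-- an automorphism of order two of a group of extraspecial kind fixes many elements -/
theorem card_le_fixed (h2 : Nat.card (Subgroup.center P) = 2)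
    (hsq : ∀ q : P, q * q ∈ Subgroup.center P)
    (hcm : ∀ a b : P, a * b * a⁻¹ * b⁻¹ ∈ Subgroup.center P)
    (σ : P ≃* P) (hσ : ∀ q, σ (σ q) = q) (F : Subgroup P) (hF : ∀ q, σ q = q → q ∈ F) :
    Nat.card P ≤ 2 * Nat.card F * Nat.card F := by
  classical
  have hZσ : ∀ a ∈ Subgroup.center P, σ a ∈ Subgroup.center P := fun a ha =>
    Subgroup.mem_center_iff.2 fun b => by
      obtain ⟨c, rfl⟩ := σ.surjective b
      rw [← map_mul, ← map_mul, Subgroup.mem_center_iff.1 ha c]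
  let mk := QuotientGroup.mk' (Subgroup.center P)
  have hmk : ∀ {a : P}, a ∈ Subgroup.center P → mk a = 1 := fun ha => (QuotientGroup.eq_one_iff _).2 ha
  have hcomm : ∀ a b : P, mk a * mk b = mk b * mk a := fun a b => by
    have := hmk (hcm a b)
    rw [map_mul, map_mul, map_mul, map_inv, map_inv, mul_inv_eq_one, mul_inv_eq_iff_eq_mul] at this
    exact this
  let f : P →* P ⧸ Subgroup.center P := MonoidHom.mk' (fun q => mk q * mk (σ q)) fun a b => by
    simp only [map_mul]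
    rw [mul_assoc, ← mul_assoc (mk b) (mk (σ a)), hcomm b (σ a), mul_assoc (mk (σ a)), ← mul_assoc]
  let k : f.ker →* P ⧸ Subgroup.center P := mk.comp f.ker.subtype
  have hrange : f.range ≤ k.range := by
    rintro _ ⟨q, rfl⟩
    refine ⟨⟨q * σ q, ?_⟩, map_mul mk _ _⟩
    show mk (q * σ q) * mk (σ (q * σ q)) = 1
    rw [map_mul σ, hσ, map_mul, map_mul, hcomm (σ q) q, mul_assoc, ← mul_assoc (mk (σ q)),
      hcomm (σ q) q, mul_assoc, ← map_mul mk (σ q), hmk (hsq _), mul_one, ← map_mul, hmk (hsq _)]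
  have hkker : 2 ≤ Nat.card k.ker := by
    rw [← h2]
    refine Nat.card_le_card_of_injective
      (fun a => (⟨⟨a.1, MonoidHom.mem_ker.2 (show mk a.1 * mk (σ a.1) = 1 by
        rw [hmk a.2, hmk (hZσ _ a.2), one_mul])⟩, MonoidHom.mem_ker.2 (hmk a.2)⟩ : k.ker))
      fun a b h => Subtype.ext ?_
    exact congrArg (fun u : k.ker => ((u : f.ker) : P)) h
  have e1 := f.ker.card_mul_index
  rw [Subgroup.index_ker] at e1
  have e2 := k.ker.card_mul_index
  rw [Subgroup.index_ker] at e2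
  have e3 : Nat.card f.range ≤ Nat.card k.range :=
    Nat.card_le_card_of_injective _ (Subgroup.inclusion_injective hrange)
  -- the fixed points have index at most 2 in the kernel
  have hcen : ∀ a : f.ker, (a : P)⁻¹ * σ a ∈ Subgroup.center P := fun a => by
    have h : mk (a : P) * mk (σ a) = 1 := MonoidHom.mem_ker.1 a.2
    refine (QuotientGroup.eq_one_iff _).1 ?_
    show mk ((a : P)⁻¹ * σ a) = 1
    have h' : mk (a : P)⁻¹ = mk a := by
      rw [map_inv, inv_eq_of_mul_eq_one_right (by rw [← map_mul]; exact hmk (hsq _))]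
    rw [map_mul, h', h]
  let d : f.ker →* Subgroup.center P := MonoidHom.mk' (fun a => ⟨(a : P)⁻¹ * σ a, hcen a⟩)
    fun a b => Subtype.ext (by
      show ((a : P) * b)⁻¹ * σ ((a : P) * b) = (a : P)⁻¹ * σ a * ((b : P)⁻¹ * σ b)
      have hc := Subgroup.mem_center_iff.1 (hcen a) (b : P)⁻¹
      calc ((a : P) * b)⁻¹ * σ ((a : P) * b) = (b : P)⁻¹ * ((a : P)⁻¹ * σ a) * σ b := by
            rw [map_mul]; group
        _ = (a : P)⁻¹ * σ a * ((b : P)⁻¹ * σ b) := by rw [hc, mul_assoc])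
  have e4 := d.ker.card_mul_index
  rw [Subgroup.index_ker] at e4
  have e5 : Nat.card d.range ≤ 2 := h2 ▸ Subgroup.card_le_card_group d.range
  have e6 : Nat.card d.ker ≤ Nat.card F := by
    refine Nat.card_le_card_of_injective (fun a => (⟨((a : f.ker) : P), hF _ ?_⟩ : F)) fun a b h => ?_
    · have h : ((d a : Subgroup.center P) : P) = 1 := by rw [MonoidHom.mem_ker.1 a.2]; rfl
      exact (inv_mul_eq_one.1 h).symm
    · exact Subtype.ext (Subtype.ext (congrArg (fun u : F => (u : P)) h))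
  have h5 : Nat.card f.ker ≤ 2 * Nat.card F := by
    rw [← e4]; rw [Nat.mul_comm 2]; exact Nat.mul_le_mul e6 e5
  have h6 : 2 * Nat.card k.range ≤ Nat.card f.ker := by
    rw [← e2]; exact Nat.mul_le_mul_right _ hkker
  calc Nat.card P = Nat.card f.ker * Nat.card f.range := e1.symm
    _ ≤ 2 * Nat.card F * Nat.card f.range := Nat.mul_le_mul_right _ h5
    _ ≤ 2 * Nat.card F * Nat.card F := Nat.mul_le_mul_left _ (by omega)

end fixedpoints

variable {G : Type*} [Group G] [Finite G] {z : G}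
  {Q : Subgroup (Subgroup.centralizer ({z} : Set G))} [Q.Normal]

/-- value in the whole group -/
abbrev vG (x : Q) : G := ((x : Subgroup.centralizer ({z} : Set G)) : G)

/-- conjugate inside the normal subgroup -/
def conjQ (h : Subgroup.centralizer ({z} : Set G)) (x : Q) : Q :=
  ⟨h * x * h⁻¹, (inferInstance : Q.Normal).conj_mem _ x.2 h⟩

theorem conjQ_mul (h k : Subgroup.centralizer ({z} : Set G)) (x : Q) :
    conjQ (h * k) x = conjQ h (conjQ k x) := Subtype.ext (by simp [conjQ, mul_assoc])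

theorem vG_injective : Function.Injective (vG (Q := Q)) :=
  fun _ _ h => Subtype.ext (Subtype.ext h)

/-- the standing hypothesis -/
structure Setting (z : G) (Q : Subgroup (Subgroup.centralizer ({z} : Set G))) [Q.Normal]
    (e : (Subgroup.centralizer ({z} : Set G)) ⧸ Q ≃* Spor.Co1)
    (ψ : leechLattice → Q ⧸ Subgroup.center Q) : Prop where
  setting : IsExtraspecialCentralizerSetting z Q 12
  iso : IsLeechModTwoIso Q e ψ

variable {e : (Subgroup.centralizer ({z} : Set G)) ⧸ Q ≃* Spor.Co1}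
  {ψ : leechLattice → Q ⧸ Subgroup.center Q}

theorem cq (S : Setting z Q e ψ) : Nat.card (Subgroup.center Q) = 2 := S.setting.2.2.1.2

theorem map_setting (S : Setting z Q e ψ) :
    z ∈ Q.map (Subgroup.centralizer ({z} : Set G)).subtype ∧
    ∀ q ∈ Q.map (Subgroup.centralizer ({z} : Set G)).subtype,
      ∀ c ∈ Subgroup.centralizer ({z} : Set G),
        c * q * c⁻¹ ∈ Q.map (Subgroup.centralizer ({z} : Set G)).subtype := by
  obtain ⟨h1, -, h3, -⟩ := Cfsg.Agent.H92.centralizer_setting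
    (Q := Q.map (Subgroup.centralizer ({z} : Set G)).subtype) (Subgroup.map_subtype_le _)
    (by rw [S.setting.2.1])
  exact ⟨Cfsg.Agent.H92.center_map_le h1, h3⟩

theorem exists_zQ (S : Setting z Q e ψ) :
    ∃ zQ : Q, vG zQ = z ∧ zQ ≠ 1 ∧ zQ * zQ = 1 ∧
      ∀ a : Q, a ∈ Subgroup.center Q ↔ a = 1 ∨ a = zQ := by
  obtain ⟨c, hc, hcz⟩ := (map_setting S).1
  have hz := S.setting.1
  have hzG : ∀ a : Q, ⟨c, hc⟩ * a = a * ⟨c, hc⟩ := fun a => vG_injective (by
    show (c : G) * vG a = vG a * (c : G)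
    change (c : G) = z at hcz
    rw [hcz]
    exact (Subgroup.mem_centralizer_singleton_iff.1 (a : Subgroup.centralizer ({z} : Set G)).2).symm)
  have hzc : (⟨c, hc⟩ : Q) ∈ Subgroup.center Q := Subgroup.mem_center_iff.2 fun a => (hzG a).symm
  have h1 : (⟨c, hc⟩ : Q) ≠ 1 := fun h => by
    have : (c : G) = 1 := congrArg vG h
    change (c : G) = z at hcz
    rw [← hcz, this, orderOf_one] at hz
    norm_num at hz
  refine ⟨⟨c, hc⟩, hcz, h1, vG_injective ?_, fun a => ⟨fun ha => ?_, ?_⟩⟩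
  · show (c : G) * c = 1
    change (c : G) = z at hcz
    rw [hcz, ← pow_two, ← hz, pow_orderOf_eq_one]
  · obtain ⟨u, hu, huniq⟩ := (Nat.card_eq_two_iff' (1 : Subgroup.center Q)).mp (cq S)
    by_cases h : (⟨a, ha⟩ : Subgroup.center Q) = 1
    · exact Or.inl (congrArg Subtype.val h)
    · refine Or.inr (congrArg Subtype.val ((huniq _ h).trans (huniq ⟨_, hzc⟩ fun h' => h1 ?_).symm))
      exact congrArg Subtype.val h'
  · rintro (rfl | rfl)
    · exact one_mem _
    · exact hzc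

theorem psi_zero (S : Setting z Q e ψ) : ψ 0 = 1 := (S.iso.2.2.1 0).2 ⟨0, by simp⟩

theorem psi_cg (S : Setting z Q e ψ) {v w : leechLattice} : ψ v = ψ w ↔ Cg v w := by
  constructor
  · intro h
    have h1 : ψ (v - w) = 1 := by
      have := S.iso.1 (v - w) w
      rw [sub_add_cancel, h] at this
      exact mul_eq_right.1 this.symm
    obtain ⟨u, hu⟩ := (S.iso.2.2.1 _).1 h1
    exact ⟨u, by rw [← hu]; abel⟩
  · rintro ⟨u, rfl⟩
    rw [S.iso.1, (S.iso.2.2.1 (u + u)).2 ⟨u, rfl⟩, mul_one]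

theorem exists_lift (S : Setting z Q e ψ) (g : Co0) :
    ∃ h : Subgroup.centralizer ({z} : Set G), (QuotientGroup.mk g : Spor.Co1) = e (QuotientGroup.mk h) := by
  obtain ⟨m, hm⟩ := e.surjective (QuotientGroup.mk g : Spor.Co1)
  obtain ⟨h, rfl⟩ := QuotientGroup.mk_surjective m
  exact ⟨h, hm.symm⟩

theorem psi_smul (S : Setting z Q e ψ) {g : Co0} {h : Subgroup.centralizer ({z} : Set G)}
    (hgh : (QuotientGroup.mk g : Spor.Co1) = e (QuotientGroup.mk h)) {v : leechLattice} {x : Q}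
    (hv : ψ v = QuotientGroup.mk x) : ψ (g • v) = QuotientGroup.mk (conjQ h x) :=
  S.iso.2.2.2 h g hgh v x hv

theorem sq_center (S : Setting z Q e ψ) (q : Q) : q * q ∈ Subgroup.center Q := by
  obtain ⟨v, hv⟩ := S.iso.2.1 (QuotientGroup.mk q)
  have h1 := (S.iso.2.2.1 (v + v)).2 ⟨v, rfl⟩
  rwa [S.iso.1, hv, ← QuotientGroup.mk_mul, QuotientGroup.eq_one_iff] at h1

theorem comm_center (S : Setting z Q e ψ) (a b : Q) : a * b * a⁻¹ * b⁻¹ ∈ Subgroup.center Q :=
  S.setting.2.2.1.1.2.2 ▸ Subgroup.commutator_mem_commutator (Subgroup.mem_top a) (Subgroup.mem_top b)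

/-- indicator of being nontrivial -/
noncomputable def dl (a : Q) : ZMod 2 := open Classical in if a = 1 then 0 else 1

theorem dl_eq_zero {a : Q} : dl a = 0 ↔ a = 1 := by
  classical
  unfold dl; split_ifs with h <;> simp [h]

theorem forms (S : Setting z Q e ψ) :
    (∀ v (x : Q), ψ v = QuotientGroup.mk x → dl (x * x) = q2 v) ∧
    ∀ v w (x y : Q), ψ v = QuotientGroup.mk x → ψ w = QuotientGroup.mk y →
      dl (x * y * x⁻¹ * y⁻¹) = d8 v w := by
  classical
  obtain ⟨zQ, hzv, hz1, hz2, hZ⟩ := exists_zQ S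
  have cen : ∀ {a : Q}, a ∈ Subgroup.center Q → ∀ b : Q, b * a = a * b :=
    fun ha b => Subgroup.mem_center_iff.1 ha b
  have dmul : ∀ a ∈ Subgroup.center Q, ∀ b ∈ Subgroup.center Q, dl (a * b) = dl a + dl b := by
    intro a ha b hb
    rcases (hZ a).1 ha with rfl | rfl <;> rcases (hZ b).1 hb with rfl | rfl <;>
      simp [dl, hz1, hz2] <;> rfl
  let lift : leechLattice → Q := fun v => (ψ v).out
  have hlift : ∀ v, ψ v = QuotientGroup.mk (lift v) := fun v => (Quotient.out_eq _).symm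
  have hrep : ∀ v (x : Q), ψ v = QuotientGroup.mk x → ∃ a ∈ Subgroup.center Q, x = lift v * a :=
    fun v x hv => ⟨(lift v)⁻¹ * x, QuotientGroup.eq.1 ((hlift v).symm.trans hv), by group⟩
  have hsq : ∀ v (x : Q), ψ v = QuotientGroup.mk x → dl (x * x) = dl (lift v * lift v) := by
    intro v x hv
    obtain ⟨a, ha, rfl⟩ := hrep v x hv
    rw [show lift v * a * (lift v * a) = lift v * lift v * (a * a) by
      rw [mul_assoc (lift v) a, ← mul_assoc a (lift v), ← cen ha (lift v)]; group]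
    rcases (hZ a).1 ha with rfl | rfl <;> simp [hz2]
  have hcom : ∀ v w (x y : Q), ψ v = QuotientGroup.mk x → ψ w = QuotientGroup.mk y →
      dl (x * y * x⁻¹ * y⁻¹) = dl (lift v * lift w * (lift v)⁻¹ * (lift w)⁻¹) := by
    intro v w x y hv hw
    obtain ⟨a, ha, rfl⟩ := hrep v x hv
    obtain ⟨b, hb, rfl⟩ := hrep w y hw
    set q := lift v
    set r := lift w
    congr 1
    calc q * a * (r * b) * (q * a)⁻¹ * (r * b)⁻¹
        = q * (a * (r * b)) * a⁻¹ * q⁻¹ * b⁻¹ * r⁻¹ := by group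
      _ = q * r * (b * q⁻¹) * b⁻¹ * r⁻¹ := by rw [← cen ha (r * b)]; group
      _ = q * r * q⁻¹ * r⁻¹ := by rw [← cen hb q⁻¹]; group
  let f : leechLattice → ZMod 2 := fun v => dl (lift v * lift v)
  let c : leechLattice → leechLattice → ZMod 2 := fun v w =>
    dl (lift v * lift w * (lift v)⁻¹ * (lift w)⁻¹)
  have inv : Cfsg.Agent.H92.Leech.InvForm f c := by
    refine ⟨fun v w => ?_, fun u v w => ?_, fun w => ?_, fun g v => ?_⟩
    · set q := lift v with hq
      set r := lift w with hr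
      have hvw : ψ (v + w) = QuotientGroup.mk (q * r) := by
        rw [S.iso.1, QuotientGroup.mk_mul, hlift v, hlift w]
      show dl (lift (v + w) * lift (v + w)) = dl (q * q) + dl (r * r) + dl (q * r * q⁻¹ * r⁻¹)
      rw [← hsq _ _ hvw]
      have hcrq := comm_center S r q
      have key : q * r * (q * r) = (q * q) * (r * r) * (r * q * r⁻¹ * q⁻¹) := by
        calc q * r * (q * r) = q * ((r * q * r⁻¹ * q⁻¹) * q) * r * r := by group
          _ = q * (q * (r * q * r⁻¹ * q⁻¹)) * r * r := by rw [← cen hcrq q]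
          _ = q * q * ((r * q * r⁻¹ * q⁻¹) * (r * r)) := by group
          _ = q * q * ((r * r) * (r * q * r⁻¹ * q⁻¹)) := by rw [← cen hcrq (r * r)]
          _ = _ := by group
      rw [key, dmul _ (mul_mem (sq_center S q) (sq_center S r)) _ hcrq,
        dmul _ (sq_center S q) _ (sq_center S r)]
      congr 1
      rw [show q * r * q⁻¹ * r⁻¹ = (r * q * r⁻¹ * q⁻¹)⁻¹ by group]
      rcases (hZ _).1 hcrq with h | h <;> rw [h]
      · simp
      · congr 1; exact (inv_eq_of_mul_eq_one_right hz2).symm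
    · set q := lift u
      set p := lift v
      set r := lift w
      show dl (lift (u + v) * r * (lift (u + v))⁻¹ * r⁻¹) = dl (q * r * q⁻¹ * r⁻¹) + dl (p * r * p⁻¹ * r⁻¹)
      rw [← hcom (u + v) w (q * p) r (by rw [S.iso.1, QuotientGroup.mk_mul, hlift u, hlift v])
        (hlift w), ← dmul _ (comm_center S q r) _ (comm_center S p r)]
      congr 1
      have hc := cen (comm_center S p r)
      calc q * p * r * (q * p)⁻¹ * r⁻¹
          = q * ((p * r * p⁻¹ * r⁻¹) * r) * q⁻¹ * r⁻¹ := by group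
        _ = q * (r * (p * r * p⁻¹ * r⁻¹)) * q⁻¹ * r⁻¹ := by rw [← hc r]
        _ = q * r * ((p * r * p⁻¹ * r⁻¹) * (q⁻¹ * r⁻¹)) := by group
        _ = q * r * ((q⁻¹ * r⁻¹) * (p * r * p⁻¹ * r⁻¹)) := by rw [← hc (q⁻¹ * r⁻¹)]
        _ = _ := by group
    · show dl (lift (w + w) * lift (w + w)) = 0
      rw [← hsq (w + w) 1 (by rw [(S.iso.2.2.1 _).2 ⟨w, rfl⟩, QuotientGroup.mk_one])]
      simp [dl]
    · obtain ⟨h, hh⟩ := exists_lift S g
      show dl (lift (g • v) * lift (g • v)) = dl (lift v * lift v)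
      rw [← hsq (g • v) _ (psi_smul S hh (hlift v))]
      rcases (hZ _).1 (sq_center S (lift v)) with hq | hq
      · rw [hq]; refine (dl_eq_zero).2 (Subtype.ext ?_) |>.trans (dl_eq_zero.2 rfl).symm
        show h * (lift v).1 * h⁻¹ * (h * (lift v).1 * h⁻¹) = 1
        rw [show h * (lift v).1 * h⁻¹ * (h * (lift v).1 * h⁻¹) = h * ((lift v).1 * (lift v).1) * h⁻¹ by group,
          show (lift v).1 * (lift v).1 = 1 from congrArg Subtype.val hq]
        group
      · congr 1
        rw [hq]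
        refine vG_injective ?_
        show (h : G) * vG (lift v) * (h : G)⁻¹ * ((h : G) * vG (lift v) * (h : G)⁻¹) = vG zQ
        rw [show (h : G) * vG (lift v) * (h : G)⁻¹ * ((h : G) * vG (lift v) * (h : G)⁻¹) =
            (h : G) * (vG (lift v) * vG (lift v)) * (h : G)⁻¹ by group,
          show vG (lift v) * vG (lift v) = z from (congrArg vG hq).trans hzv, hzv]
        rw [Subgroup.mem_centralizer_singleton_iff.1 h.2, mul_inv_cancel_right]
  have hne : ∃ v, f v ≠ 0 := by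
    by_contra hc
    push Not at hc
    have h1 : ∀ q : Q, q * q = 1 := fun q => by
      obtain ⟨v, hv⟩ := S.iso.2.1 (QuotientGroup.mk q)
      exact dl_eq_zero.1 ((hsq v q hv).trans (hc v))
    have hall : Subgroup.center Q = ⊤ := eq_top_iff.2 fun a _ => Subgroup.mem_center_iff.2 fun b => by
      calc b * a = a * a * (b * a) * (b * b) := by rw [h1 a, h1 b, one_mul, mul_one]
        _ = a * ((a * b) * (a * b)) * b := by group
        _ = a * b := by rw [h1 (a * b), mul_one]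
    have := cq S
    rw [hall, Subgroup.card_top, S.setting.2.2.2.1] at this
    norm_num at this
  obtain ⟨hf, hcc⟩ := inv_form_eq inv hne
  exact ⟨fun v x hv => (hsq v x hv).trans (hf v), fun v w x y hv hw => (hcom v w x y hv hw).trans (hcc v w)⟩

theorem type_of_involution (S : Setting z Q e ψ) {x : Q} (hx : x ∉ Subgroup.center Q)
    (hx2 : x * x = 1) :
    ∃ v, ψ v = QuotientGroup.mk x ∧ (nrm v = 32 ∨ nrm v = 64) := by
  obtain ⟨v₀, hv₀⟩ := S.iso.2.1 (QuotientGroup.mk x)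
  obtain ⟨v, hv, hcase⟩ := exists_rep v₀
  have hψ : ψ v = QuotientGroup.mk x := by rw [← (psi_cg S).2 hv, hv₀]
  refine ⟨v, hψ, ?_⟩
  have h0 := (forms S).1 v x hψ
  rw [hx2, dl_eq_zero.2 rfl] at h0
  rcases hcase with rfl | h | h | h
  · exfalso
    apply hx
    rw [psi_zero S] at hψ
    exact (QuotientGroup.eq_one_iff x).1 hψ.symm
  · exact Or.inl h
  · rw [q2, h] at h0; exact absurd h0 (by decide)
  · exact Or.inr h

theorem conj_fix (S : Setting z Q e ψ) {x y : Q} (hx : x ∉ Subgroup.center Q)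
    (h : Subgroup.centralizer ({z} : Set G))
    (hxy : (QuotientGroup.mk (conjQ h x) : Q ⧸ Subgroup.center Q) = QuotientGroup.mk y) :
    ∃ h' : Subgroup.centralizer ({z} : Set G),
      (QuotientGroup.mk h' : Subgroup.centralizer ({z} : Set G) ⧸ Q) = QuotientGroup.mk h ∧
        conjQ h' x = y := by
  obtain ⟨zQ, hzv, hz1, hz2, hZ⟩ := exists_zQ S
  set u := conjQ h x with hu
  have ha := QuotientGroup.eq.1 hxy
  rcases (hZ _).1 ha with h1 | h1
  · exact ⟨h, rfl, by rw [← inv_mul_eq_one.1 h1]⟩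
  have huc : u ∉ Subgroup.center Q := by
    intro hc
    apply hx
    refine Subgroup.mem_center_iff.2 fun b => ?_
    have := Subgroup.mem_center_iff.1 hc (conjQ h b)
    apply vG_injective
    have h' : (h : G) * (vG b * vG x) * (h : G)⁻¹ = (h : G) * (vG x * vG b) * (h : G)⁻¹ := by
      have := congrArg vG this
      simpa [hu, conjQ, vG, mul_assoc] using this
    exact mul_left_cancel (mul_right_cancel h')
  obtain ⟨q, hq⟩ : ∃ q : Q, q * u * q⁻¹ * u⁻¹ = zQ := by
    by_contra hc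
    push Not at hc
    apply huc
    refine Subgroup.mem_center_iff.2 fun q => ?_
    rcases (hZ _).1 (comm_center S q u) with h' | h'
    · calc q * u = q * u * q⁻¹ * u⁻¹ * (u * q) := by group
        _ = u * q := by rw [h', one_mul]
    · exact absurd h' (hc q)
  refine ⟨(q : Subgroup.centralizer ({z} : Set G)) * h, ?_, ?_⟩
  · refine QuotientGroup.eq.2 ?_
    rw [mul_inv_rev, mul_assoc]
    simpa [mul_assoc] using (inferInstance : Q.Normal).conj_mem _ (Q.inv_mem q.2) h⁻¹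
  · rw [conjQ_mul, ← hu]
    calc conjQ (q : Subgroup.centralizer ({z} : Set G)) u = q * u * q⁻¹ := Subtype.ext rfl
      _ = q * u * q⁻¹ * u⁻¹ * u := by group
      _ = zQ * u := by rw [hq]
      _ = u * (u⁻¹ * y) := by rw [h1, Subgroup.mem_center_iff.1 ((hZ zQ).2 (Or.inr rfl)) u]
      _ = y := mul_inv_cancel_left u y

theorem not_center_of_rep (S : Setting z Q e ψ) {x : Q} {v : leechLattice}
    (hv : ψ v = QuotientGroup.mk x) (hn : nrm v = 32 ∨ nrm v = 48 ∨ nrm v = 64) :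
    x ∉ Subgroup.center Q := by
  intro hc
  rw [(QuotientGroup.eq_one_iff x).2 hc, ← psi_zero S, psi_cg S] at hv
  rcases short_unique hv (by rw [nrm_zero]; omega) with h | h | ⟨h, -⟩
  · rw [← h, nrm_zero] at hn; omega
  · rw [zero_eq_neg] at h; rw [h, nrm_zero] at hn; omega
  · rw [nrm_zero] at h; omega

/-- same type means conjugate in the centraliser -/
theorem conj_of_same (S : Setting z Q e ψ) {x y : Q} {v w : leechLattice}
    (hv : ψ v = QuotientGroup.mk x) (hw : ψ w = QuotientGroup.mk y)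
    (ht : (nrm v = 32 ∧ nrm w = 32) ∨ (nrm v = 64 ∧ nrm w = 64)) :
    ∃ h : Subgroup.centralizer ({z} : Set G), (h : G) * vG x * (h : G)⁻¹ = vG y := by
  obtain ⟨g, hg⟩ : ∃ g : Co0, Cg (g • v) w := by
    rcases ht with ⟨a, b⟩ | ⟨a, b⟩
    · obtain ⟨g, hg⟩ := Cfsg.Agent.Golay.co0_transitive_min v w a b
      exact ⟨g, hg ▸ Cg.refl _⟩
    · exact orbit_sixtyfour a b
  obtain ⟨h, hh⟩ := exists_lift S g
  have e1 := psi_smul S hh hv
  rw [(psi_cg S).2 hg, hw] at e1
  obtain ⟨h', -, h2⟩ := conj_fix S (not_center_of_rep S hv (by omega)) h e1.symm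
  exact ⟨h', congrArg vG h2⟩

theorem not_conj_repA (S : Setting z Q e ψ) {x : Q}
    (hv : ψ Cfsg.Agent.Golay.repA = QuotientGroup.mk x) (g : G) (hg : g * z * g⁻¹ = vG x) : False := by
  classical
  obtain ⟨zQ, hzv, hz1, hz2, hZ⟩ := exists_zQ S
  obtain ⟨hzQm, hconj⟩ := map_setting S
  have hnA : nrm Cfsg.Agent.Golay.repA = 32 := by decide +kernel
  have hxc : x ∉ Subgroup.center Q := not_center_of_rep S hv (Or.inl hnA)
  set Qm := Q.map (Subgroup.centralizer ({z} : Set G)).subtype with hQm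
  set A : Subgroup G := Qm.map (MulAut.conj g).toMonoidHom ⊓ (Subgroup.centralizer ({z} : Set G)) with hA
  have memA : ∀ a, a ∈ A ↔ g⁻¹ * a * g ∈ Qm ∧ a ∈ (Subgroup.centralizer ({z} : Set G)) := fun a => by
    rw [hA, Subgroup.mem_inf, Subgroup.mem_map_equiv (f := MulAut.conj g)]
    simp [MulAut.conj_symm_apply, mul_assoc]
  have hzs : g⁻¹ * vG x * g = z := by rw [← hg]; group
  have hcs : ∀ b ∈ Qm, b * z = z * b := fun b hb =>
    Subgroup.mem_centralizer_singleton_iff.1 (Subgroup.map_subtype_le _ hb)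
  have hAs : ∀ a ∈ A, a * vG x = vG x * a := fun a ha => by
    have h := hcs _ ((memA a).1 ha).1
    rw [← hzs] at h
    calc a * vG x = g * (g⁻¹ * a * g * (g⁻¹ * vG x * g)) * g⁻¹ := by group
      _ = vG x * a := by rw [h]; group
  have hback : ∀ h : G, h * vG x = vG x * h → g⁻¹ * h * g ∈ (Subgroup.centralizer ({z} : Set G)) := fun h hh => by
    rw [Subgroup.mem_centralizer_singleton_iff, ← hzs]
    calc g⁻¹ * h * g * (g⁻¹ * vG x * g) = g⁻¹ * (h * vG x) * g := by group
      _ = g⁻¹ * vG x * g * (g⁻¹ * h * g) := by rw [hh]; group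
  have hAconj : ∀ a ∈ A, ∀ h ∈ (Subgroup.centralizer ({z} : Set G)), h * vG x = vG x * h → h * a * h⁻¹ ∈ A := fun a ha h hh hhx => by
    obtain ⟨ha1, ha2⟩ := (memA a).1 ha
    refine (memA _).2 ⟨?_, mul_mem (mul_mem hh ha2) (inv_mem hh)⟩
    have := hconj _ ha1 _ (hback h hhx)
    rwa [show g⁻¹ * h * g * (g⁻¹ * a * g) * (g⁻¹ * h * g)⁻¹ = g⁻¹ * (h * a * h⁻¹) * g by group] at this
  -- the image in the isometry group
  let φ : (Subgroup.centralizer ({z} : Set G)) →* Spor.Co1 := e.toMonoidHom.comp (QuotientGroup.mk' Q)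
  let π : Co0 →* Spor.Co1 := QuotientGroup.mk' (Subgroup.center Co0)
  set E : Subgroup Co0 := ((A.subgroupOf (Subgroup.centralizer ({z} : Set G))).map φ).comap π with hE
  have hQp : IsPGroup 2 Q := IsPGroup.of_card S.setting.2.2.2.1
  have hEp : IsPGroup 2 E := by
    refine IsPGroup.comap_of_ker_isPGroup ?_ π ?_
    · exact (((hQp.map (Subgroup.centralizer ({z} : Set G)).subtype).map (MulAut.conj g).toMonoidHom).to_le inf_le_left).comap_subtype.map φ
    · rw [QuotientGroup.ker_mk']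
      exact IsPGroup.of_card (n := 1) (by rw [Cfsg.Agent.Golay.card_center_co0, pow_one])
  have hfix : ∀ γ ∈ E, γ • Cfsg.Agent.Golay.repA = Cfsg.Agent.Golay.repA ∨
      γ • Cfsg.Agent.Golay.repA = -Cfsg.Agent.Golay.repA := by
    rintro γ ⟨a, ha, hφ⟩
    have e1 := psi_smul S (g := γ) (h := a) hφ.symm hv
    rw [show conjQ a x = x from vG_injective (by
      show (a : G) * vG x * (a : G)⁻¹ = vG x
      have hax := hAs _ ha
      change (a : G) * vG x = vG x * (a : G) at hax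
      rw [hax, mul_inv_cancel_right]), ← hv, psi_cg S] at e1
    have hn : nrm (γ • Cfsg.Agent.Golay.repA) = 32 := (Cfsg.Agent.Golay.co0_sqNorm γ _).trans hnA
    rcases short_unique e1 (by rw [hn, hnA]; norm_num) with h | h | ⟨h, -⟩
    · exact Or.inl h.symm
    · exact Or.inr (neg_eq_iff_eq_neg.1 h.symm)
    · rw [hn, hnA] at h; norm_num at h
  have hlift : ∀ g₀ : Co0, g₀ • Cfsg.Agent.Golay.repA = Cfsg.Agent.Golay.repA →
      ∃ h : (Subgroup.centralizer ({z} : Set G)), (QuotientGroup.mk g₀ : Spor.Co1) = e (QuotientGroup.mk h) ∧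
        (h : G) * vG x = vG x * (h : G) := by
    intro g₀ hg₀
    obtain ⟨h, hh⟩ := exists_lift S g₀
    have e1 := psi_smul S hh hv
    rw [hg₀, hv] at e1
    obtain ⟨h', h1, h2⟩ := conj_fix S hxc h e1.symm
    refine ⟨h', by rw [h1, hh], ?_⟩
    have := congrArg vG h2
    change (h' : G) * vG x * (h' : G)⁻¹ = vG x at this
    exact mul_inv_eq_iff_eq_mul.1 this
  have hnorm : ∀ g₀ : Co0, g₀ • Cfsg.Agent.Golay.repA = Cfsg.Agent.Golay.repA →
      ∀ γ ∈ E, g₀ * γ * g₀⁻¹ ∈ E := by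
    rintro g₀ hg₀ γ ⟨a, ha, hφ⟩
    obtain ⟨h, hh, hhx⟩ := hlift g₀ hg₀
    refine ⟨h * a * h⁻¹, hAconj _ ha _ h.2 hhx, ?_⟩
    have hh' : π g₀ = φ h := hh
    rw [map_mul, map_mul, map_inv, map_mul, map_mul, map_inv, hφ, hh']
  have hAQ : ∀ a ∈ A, a ∈ Qm := by
    intro a ha
    have hmemC := ((memA a).1 ha).2
    obtain ⟨γ, hγ⟩ := QuotientGroup.mk'_surjective (Subgroup.center Co0) (φ ⟨a, hmemC⟩)
    have hγE : γ ∈ E := ⟨⟨a, hmemC⟩, ha, hγ.symm⟩
    have hc : γ ∈ Subgroup.center Co0 := by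
      rcases two_normal_scalar E hEp hfix hnorm γ hγE with h | h
      · rw [show γ = 1 from co0_ext fun y => by rw [h, one_smul]]; exact one_mem _
      · exact Subgroup.mem_center_iff.2 fun k => co0_ext fun y => by
          rw [mul_smul, mul_smul, h, h, Cfsg.Agent.Golay.co0_smul_neg]
    have h1 : π γ = 1 := (QuotientGroup.eq_one_iff γ).2 hc
    rw [h1] at hγ
    have h2 : (QuotientGroup.mk' Q) ⟨a, hmemC⟩ = 1 := e.injective (by rw [map_one]; exact hγ.symm)
    exact ⟨⟨a, hmemC⟩, (QuotientGroup.eq_one_iff _).1 h2, rfl⟩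
  -- A is abelian
  have hxz : vG x ≠ z := fun h => hxc ((hZ x).2 (Or.inr (vG_injective (h.trans hzv.symm))))
  have hcomm_cases : ∀ a ∈ Qm, ∀ b ∈ Qm, a * b * a⁻¹ * b⁻¹ = 1 ∨ a * b * a⁻¹ * b⁻¹ = z := by
    rintro _ ⟨a, ha, rfl⟩ _ ⟨b, hb, rfl⟩
    rcases (hZ _).1 (comm_center S ⟨a, ha⟩ ⟨b, hb⟩) with h | h
    · exact Or.inl (congrArg vG h)
    · exact Or.inr ((congrArg vG h).trans hzv)
  have hab : ∀ a ∈ A, ∀ b ∈ A, a * b = b * a := by
    intro a ha b hb
    suffices h : a * b * a⁻¹ * b⁻¹ = 1 by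
      calc a * b = a * b * a⁻¹ * b⁻¹ * (b * a) := by group
        _ = b * a := by rw [h, one_mul]
    rcases hcomm_cases _ (hAQ a ha) _ (hAQ b hb) with h | h
    · exact h
    rcases hcomm_cases _ ((memA a).1 ha).1 _ ((memA b).1 hb).1 with h' | h'
    · calc a * b * a⁻¹ * b⁻¹ = g * (g⁻¹ * a * g * (g⁻¹ * b * g) * (g⁻¹ * a * g)⁻¹ * (g⁻¹ * b * g)⁻¹) * g⁻¹ := by group
        _ = 1 := by rw [h']; group
    · exfalso
      apply hxz
      rw [← hg]
      calc g * z * g⁻¹ = g * (g⁻¹ * a * g * (g⁻¹ * b * g) * (g⁻¹ * a * g)⁻¹ * (g⁻¹ * b * g)⁻¹) * g⁻¹ := by rw [h']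
        _ = a * b * a⁻¹ * b⁻¹ := by group
        _ = z := h
  -- the classes
  let W : AddSubgroup leechLattice :=
    { carrier := {v | ∃ y : Q, vG y ∈ A ∧ ψ v = QuotientGroup.mk y}
      zero_mem' := ⟨1, A.one_mem, by rw [psi_zero S]; rfl⟩
      add_mem' := by
        rintro v w ⟨y, hy, hvy⟩ ⟨y', hy', hwy⟩
        exact ⟨y * y', A.mul_mem hy hy', by rw [S.iso.1, hvy, hwy]; rfl⟩
      neg_mem' := by
        rintro v ⟨y, hy, hvy⟩
        exact ⟨y, hy, by rw [← hvy, psi_cg S]; exact Cg.neg_self v⟩ }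
  have hW := no_isotropic W
    (fun u => ⟨1, A.one_mem, by rw [(S.iso.2.2.1 _).2 ⟨u, rfl⟩]; rfl⟩)
    ⟨x, (memA _).2 ⟨by rw [hzs]; exact hzQm, (x : (Subgroup.centralizer ({z} : Set G))).2⟩, hv⟩
    (by
      rintro g₀ hg₀ v ⟨y, hy, hvy⟩
      obtain ⟨h, hh, hhx⟩ := hlift g₀ hg₀
      exact ⟨conjQ h y, hAconj _ hy _ h.2 hhx, psi_smul S hh hvy⟩)
    (by
      rintro v ⟨y, hy, hvy⟩ w ⟨y', hy', hwy⟩
      rw [← (forms S).2 v w y y' hvy hwy, dl_eq_zero]
      apply vG_injective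
      show vG y * vG y' * (vG y)⁻¹ * (vG y')⁻¹ = 1
      rw [hab _ hy _ hy', mul_inv_cancel_right, mul_inv_cancel])
  -- A has at most four elements
  let four : Finset G := {1, z, vG x, vG x * z}
  have hsub : ∀ a ∈ A, a ∈ four := by
    intro a ha
    obtain ⟨c, hc, rfl⟩ := hAQ a ha
    set y : Q := ⟨c, hc⟩
    obtain ⟨v, hvy⟩ := S.iso.2.1 (QuotientGroup.mk y)
    obtain ⟨u, hu | hu⟩ := hW v ⟨y, ha, hvy⟩
    · rw [(S.iso.2.2.1 v).2 ⟨u, hu⟩] at hvy
      rcases (hZ y).1 ((QuotientGroup.eq_one_iff y).1 hvy.symm) with h | h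
      · rw [show ((Subgroup.centralizer ({z} : Set G)).subtype c : G) = 1 from congrArg vG h]; simp [four]
      · rw [show ((Subgroup.centralizer ({z} : Set G)).subtype c : G) = z from (congrArg vG h).trans hzv]; simp [four]
    · have : ψ v = ψ Cfsg.Agent.Golay.repA := (psi_cg S).2 ⟨u, hu⟩
      rw [hvy, hv] at this
      rcases (hZ _).1 (QuotientGroup.eq.1 this.symm) with h | h
      · rw [show ((Subgroup.centralizer ({z} : Set G)).subtype c : G) = vG x from congrArg vG (inv_mul_eq_one.1 h).symm]; simp [four]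
      · have h' : y = x * zQ := by rw [← h, mul_inv_cancel_left]
        rw [show ((Subgroup.centralizer ({z} : Set G)).subtype c : G) = vG x * z from (congrArg vG h').trans (congrArg (vG x * ·) hzv)]
        simp [four]
  have hA4 : Nat.card A ≤ 4 := by
    refine (Nat.card_le_card_of_injective (fun a : A => (⟨a.1, hsub a.1 a.2⟩ : four))
      fun a b h => Subtype.ext (congrArg (fun u : four => (u : G)) h)).trans ?_
    rw [Nat.card_eq_fintype_card, Fintype.card_coe]
    exact Finset.card_le_four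
  -- but it has many
  have hz2' : z * z = 1 := by rw [← hzv]; exact congrArg vG hz2
  have hz' : g⁻¹ * z * g ∈ (Subgroup.centralizer ({z} : Set G)) := hback z (Subgroup.mem_centralizer_singleton_iff.1 (x : (Subgroup.centralizer ({z} : Set G))).2).symm
  set t : (Subgroup.centralizer ({z} : Set G)) := ⟨g⁻¹ * z * g, hz'⟩
  have ht : t * t = 1 := Subtype.ext (by
    show g⁻¹ * z * g * (g⁻¹ * z * g) = 1
    calc g⁻¹ * z * g * (g⁻¹ * z * g) = g⁻¹ * (z * z) * g := by group
      _ = 1 := by rw [hz2']; group)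
  have tinv : t⁻¹ = t := inv_eq_of_mul_eq_one_right ht
  let σ : Q ≃* Q :=
    { toFun := conjQ t
      invFun := conjQ t
      left_inv := fun q => by rw [← conjQ_mul, ht]; exact Subtype.ext (by simp [conjQ])
      right_inv := fun q => by rw [← conjQ_mul, ht]; exact Subtype.ext (by simp [conjQ])
      map_mul' := fun a b => Subtype.ext (by simp [conjQ, mul_assoc]) }
  let j : Q →* G := (MulAut.conj g).toMonoidHom.comp ((Subgroup.centralizer ({z} : Set G)).subtype.comp Q.subtype)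
  have hjinj : Function.Injective j := (MulAut.conj g).injective.comp vG_injective
  have hle := card_le_fixed (cq S) (sq_center S) (comm_center S) σ
    (fun q => σ.left_inv q) (A.comap j) fun q hq => by
      have hq' : g⁻¹ * z * g * vG q * (g⁻¹ * z * g)⁻¹ = vG q := congrArg vG hq
      refine (memA _).2 ⟨?_, ?_⟩
      · show g⁻¹ * (g * vG q * g⁻¹) * g ∈ Qm
        rw [show g⁻¹ * (g * vG q * g⁻¹) * g = vG q by group]
        exact ⟨_, q.2, rfl⟩
      · show g * vG q * g⁻¹ ∈ (Subgroup.centralizer ({z} : Set G))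
        rw [Subgroup.mem_centralizer_singleton_iff]
        calc g * vG q * g⁻¹ * z = g * (vG q * (g⁻¹ * z * g)) * g⁻¹ := by group
          _ = g * (g⁻¹ * z * g * vG q) * g⁻¹ := by rw [mul_inv_eq_iff_eq_mul.1 hq']
          _ = z * (g * vG q * g⁻¹) := by group
  rw [S.setting.2.2.2.1] at hle
  have hF : Nat.card (A.comap j) ≤ 4 := le_trans
    (Nat.card_le_card_of_injective (fun q : A.comap j => (⟨j q.1, q.2⟩ : A))
      fun a b h => Subtype.ext (hjinj (congrArg Subtype.val h))) hA4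
  have := hle.trans (Nat.mul_le_mul (Nat.mul_le_mul_left 2 hF) hF)
  norm_num at this

theorem conj_z_type (S : Setting z Q e ψ) {x : Q} (hx : IsConj z (vG x)) (hxz : vG x ≠ z) :
    ∃ v, ψ v = QuotientGroup.mk x ∧ nrm v = 64 := by
  obtain ⟨g, hg⟩ := isConj_iff.1 hx
  obtain ⟨zQ, hzv, hz1, hz2, hZ⟩ := exists_zQ S
  have hz := S.setting.1
  have hxc : x ∉ Subgroup.center Q := fun h => by
    rcases (hZ x).1 h with rfl | rfl
    · rw [show vG (1 : Q) = 1 from rfl, conj_eq_one_iff] at hg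
      rw [hg, orderOf_one] at hz; norm_num at hz
    · exact hxz hzv
  have hx2 : x * x = 1 := vG_injective (by
    show vG x * vG x = 1
    rw [← hg, show g * z * g⁻¹ * (g * z * g⁻¹) = g * (z * z) * g⁻¹ by group, ← pow_two, ← hz,
      pow_orderOf_eq_one]
    group)
  obtain ⟨v, hv, hn | hn⟩ := type_of_involution S hxc hx2
  swap
  · exact ⟨v, hv, hn⟩
  exfalso
  obtain ⟨γ, hγ⟩ := Cfsg.Agent.Golay.co0_transitive_min v Cfsg.Agent.Golay.repA hn (by decide +kernel)
  obtain ⟨h, hh⟩ := exists_lift S γ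
  have e1 := psi_smul S hh hv
  rw [hγ] at e1
  refine not_conj_repA S e1 ((h : G) * g) ?_
  show (h : G) * g * z * ((h : G) * g)⁻¹ = (h : G) * vG x * (h : G)⁻¹
  rw [← hg]; group

theorem exists_conj_type (S : Setting z Q e ψ) :
    ∃ x : Q, IsConj z (vG x) ∧ vG x ≠ z ∧ ∃ v, ψ v = QuotientGroup.mk x ∧ nrm v = 64 := by
  obtain ⟨g, ⟨hq, hmem⟩, hne⟩ := S.setting.2.2.2.2
  have hc : IsConj z (vG (⟨⟨_, hq⟩, hmem⟩ : Q)) := isConj_iff.2 ⟨g, rfl⟩
  exact ⟨⟨⟨_, hq⟩, hmem⟩, hc, hne, conj_z_type S hc hne⟩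

theorem isConj_of_type (S : Setting z Q e ψ) {x : Q} {v : leechLattice}
    (hv : ψ v = QuotientGroup.mk x) (hn : nrm v = 64) : IsConj z (vG x) ∧ vG x ≠ z := by
  obtain ⟨s, hs, -, w, hw, hwn⟩ := exists_conj_type S
  obtain ⟨h, hh⟩ := conj_of_same S hw hv (Or.inr ⟨hwn, hn⟩)
  refine ⟨hs.trans (isConj_iff.2 ⟨_, hh⟩), fun he => ?_⟩
  obtain ⟨zQ, hzv, -, -, hZ⟩ := exists_zQ S
  exact not_center_of_rep S hv (Or.inr (Or.inr hn)) ((hZ x).2 (Or.inr (vG_injective (he.trans hzv.symm))))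

end Cfsg.Agent.H92.MonsterQ
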