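import Mathlib
import Cfsg.Agent.Orthogonal.Eichler

/-!
Vanishing of first cohomology of `Ω(V)` on the natural module over the field with two elements, from
a fixed-point-free element of order three.
-/

set_option autoImplicit false
set_option linter.unusedSectionVars false

namespace Cfsg.Agent.H92.OrthH1

open QuadraticMap Module
open scoped commutatorElement
open Cfsg.Agent.Orthogonal

abbrev F2 := ZMod 2

theorem two_cases : ∀ a : F2, a = 0 ∨ a = 1 := by decide

variable {V : Type*} [AddCommGroup V] [Module F2 V]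

theorem add_self' (x : V) : x + x = 0 := by
  rw [← two_smul F2 x, show (2 : F2) = 0 from rfl, zero_smul]

theorem add_right_cancel' (x y : V) : x + y + y = x := by rw [add_assoc, add_self', add_zero]

theorem eq_of_add_eq_zero' {x y : V} (h : x + y = 0) : x = y := by
  rw [← add_right_cancel' x y, h, zero_add]

variable [FiniteDimensional F2 V] {Q : QuadraticForm F2 V}

theorem pol_self (x : V) : polar Q x x = 0 := by
  rw [polar_self', show (2 : F2) = 0 from rfl, zero_mul]

theorem pol_add (x y : V) : Q (x + y) = Q x + Q y + polar Q x y := map_add_polar Q x y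

/-- Squares lie in the commutator subgroup. -/
theorem sq_mem_commutator (hgen : reflGroup Q = ⊤) (g : O Q) : g * g ∈ commutator (O Q) := by
  rw [← QuotientGroup.eq_one_iff]
  have hg : g ∈ reflGroup Q := by rw [hgen]; trivial
  have key : (QuotientGroup.mk g : O Q ⧸ commutator (O Q)) * QuotientGroup.mk g = 1 := by
    induction hg using Subgroup.closure_induction with
    | mem x hx =>
      obtain ⟨v, rfl⟩ := hx
      rw [← QuotientGroup.mk_mul, rO_mul_self, QuotientGroup.mk_one]
    | one => simp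
    | mul x y _ _ hx hy =>
      rw [QuotientGroup.mk_mul]
      have hc : (QuotientGroup.mk y : O Q ⧸ commutator (O Q)) * QuotientGroup.mk x
          = QuotientGroup.mk x * QuotientGroup.mk y := by
        rw [← QuotientGroup.mk_mul, ← QuotientGroup.mk_mul, QuotientGroup.eq]
        have h : ⁅x⁻¹, y⁻¹⁆ ∈ commutator (O Q) :=
          Subgroup.commutator_mem_commutator (Subgroup.mem_top _) (Subgroup.mem_top _)
        simpa [commutatorElement_def, mul_assoc] using h
      calc (QuotientGroup.mk x : O Q ⧸ commutator (O Q)) * QuotientGroup.mk y *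
            (QuotientGroup.mk x * QuotientGroup.mk y)
          = QuotientGroup.mk x * (QuotientGroup.mk y * QuotientGroup.mk x) * QuotientGroup.mk y := by
            group
        _ = (QuotientGroup.mk x * QuotientGroup.mk x) * (QuotientGroup.mk y * QuotientGroup.mk y) := by
            rw [hc]; group
        _ = 1 := by rw [hx, hy, mul_one]
    | inv x _ hx => rw [QuotientGroup.mk_inv, ← mul_inv_rev, hx, inv_one]
  exact key

/-- A fixed-point-free isometry of order three. -/
structure Fpf (Q : QuadraticForm F2 V) (a : O Q) : Prop where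
  rel : ∀ x, (a : V ≃ₗ[F2] V) ((a : V ≃ₗ[F2] V) x) = (a : V ≃ₗ[F2] V) x + x

variable {a : O Q}

theorem Fpf.cube (h : Fpf Q a) : a * a * a = 1 := by
  refine O.ext_app fun x => ?_
  simp only [Subgroup.coe_mul, mul_app, OneMemClass.coe_one, one_app]
  rw [h.rel, h.rel, add_comm ((a : V ≃ₗ[F2] V) x) x, add_right_cancel']

theorem Fpf.mem (h : Fpf Q a) (hgen : reflGroup Q = ⊤) : a ∈ commutator (O Q) := by
  have e : a = (a * a) * (a * a) := by
    calc a = a * a * a * a := by rw [h.cube, one_mul]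
      _ = _ := by group
  rw [e]
  exact sq_mem_commutator hgen _

theorem Fpf.eq_zero (h : Fpf Q a) {x : V} (hx : (a : V ≃ₗ[F2] V) x = x) : x = 0 := by
  have e := h.rel x
  rw [hx, hx, add_self'] at e
  exact e

theorem Fpf.Q_orbit (h : Fpf Q a) {u : V} (hu : Q u = 0) :
    polar Q u ((a : V ≃ₗ[F2] V) u) = 0 := by
  have e1 : Q ((a : V ≃ₗ[F2] V) ((a : V ≃ₗ[F2] V) u)) = 0 := by rw [O.map_app, O.map_app, hu]
  rw [h.rel, pol_add, O.map_app, hu, zero_add, zero_add, polar_comm] at e1
  exact e1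

theorem sie_comm (h : Fpf Q a) {u : V} (hu : Q u = 0) :
    a * sie u ((a : V ≃ₗ[F2] V) u) hu (h.Q_orbit hu)
      = sie u ((a : V ≃ₗ[F2] V) u) hu (h.Q_orbit hu) * a := by
  rw [← mul_inv_eq_iff_eq_mul, sie_conj]
  refine O.ext_app fun x => ?_
  rw [sie_app, sie_app, O.map_app, O.map_app, hu, h.rel]
  simp only [polar_add_left, zero_mul, sub_zero, sub_eq_add_neg]
  set v := (a : V ≃ₗ[F2] V) u
  have hn : ∀ y : V, -y = y := fun y => neg_eq_of_add_eq_zero_left (add_self' y)
  simp only [hn, neg_zero, add_zero]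
  rcases two_cases (polar Q u x) with e1 | e1 <;> rcases two_cases (polar Q v x) with e2 | e2 <;>
    simp [e1, e2, ← add_assoc, add_self', add_right_cancel', show (1 : F2) + 1 = 0 from rfl] <;> abel

variable (c : ↥(commutator (O Q)) → V)

/-- The kernel of a cocycle. -/
def kerC (hc : ∀ g h, c (g * h) = c g + ((g : O Q) : V ≃ₗ[F2] V) (c h)) :
    Subgroup ↥(commutator (O Q)) where
  carrier := {g | c g = 0}
  one_mem' := by
    have e := hc 1 1
    rw [one_mul, OneMemClass.coe_one, OneMemClass.coe_one, one_app, add_self'] at e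
    exact e
  mul_mem' {g h} hg hh := by
    show c (g * h) = 0
    rw [hc, (hg : c g = 0), (hh : c h = 0), map_zero, add_zero]
  inv_mem' {g} hg := by
    show c g⁻¹ = 0
    have e := hc g⁻¹ g
    rw [inv_mul_cancel, (hg : c g = 0), map_zero, add_zero] at e
    have e1 := hc 1 1
    rw [one_mul, OneMemClass.coe_one, OneMemClass.coe_one, one_app, add_self'] at e1
    rw [← e, e1]

variable {c} (hc : ∀ g h, c (g * h) = c g + ((g : O Q) : V ≃ₗ[F2] V) (c h))

/-- Elements commuting with a fixed-point-free element of the kernel lie in it. -/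
theorem mem_of_commute {b : ↥(commutator (O Q))} (hb : b ∈ kerC c hc) (hfpf : Fpf Q (b : O Q))
    {g : ↥(commutator (O Q))} (hg : (b : O Q) * g = g * b) : g ∈ kerC c hc := by
  refine hfpf.eq_zero ?_
  have hbg : b * g = g * b := Subtype.ext hg
  have e := hc b g
  rw [hbg, hc g b, (hb : c b = 0), map_zero, add_zero, zero_add] at e
  exact e.symm

section main

variable (hQ : Nondeg Q) (hn : 5 ≤ finrank F2 V) (ha : Fpf Q a)

include hQ hn ha hc

theorem gen' : reflGroup Q = ⊤ := reflGroup_eq_top hQ (Or.inr (by omega))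

/-- An element of `O(Q)` lies in the kernel. -/
def InK (g : O Q) : Prop := ∃ hg : g ∈ commutator (O Q), (⟨g, hg⟩ : ↥(commutator (O Q))) ∈ kerC c hc

omit hQ hn ha in
theorem InK.mul {g g' : O Q} (h : InK hc g) (h' : InK hc g') : InK hc (g * g') :=
  ⟨mul_mem h.1 h'.1, mul_mem h.2 h'.2⟩

omit hQ hn ha in
theorem InK.inv {g : O Q} (h : InK hc g) : InK hc g⁻¹ :=
  ⟨inv_mem h.1, inv_mem h.2⟩

omit hQ hn ha in
theorem InK.one : InK hc (1 : O Q) := ⟨one_mem _, one_mem _⟩

theorem inK_of_commute {b g : O Q} (hb : InK hc b) (hf : Fpf Q b) (hg : g ∈ commutator (O Q))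
    (h : b * g = g * b) : InK hc g :=
  ⟨hg, mem_of_commute hc (b := ⟨b, hb.1⟩) hb.2 hf h⟩

variable (haK : InK hc a)

include haK

theorem sie_inK {b : O Q} (hb : InK hc b) (hf : Fpf Q b) {u : V} (hu : Q u = 0) :
    InK hc (sie u ((b : V ≃ₗ[F2] V) u) hu (hf.Q_orbit hu)) :=
  inK_of_commute hc hQ hn ha hb hf
    (by rw [← sieGroup_eq_commutator hQ hn]; exact sie_mem _ _) (sie_comm hf hu)

theorem reach_step {u v : V} (hu : Q u = 0) (hv : Q v = 0) (h1 : polar Q u v = 0)
    (h2 : polar Q u ((a : V ≃ₗ[F2] V) v) = 1) :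
    ∃ g, InK hc g ∧ (g : V ≃ₗ[F2] V) u = v := by
  have hw : Q (u + v) = 0 := by rw [pol_add, hu, hv, h1]; rfl
  refine ⟨_, sie_inK hc hQ hn ha haK haK ha hw, ?_⟩
  rw [sie_app, O.map_app, hw, zero_mul, sub_zero, map_add, polar_add_left, polar_add_left,
    polar_comm (⇑Q) ((a : V ≃ₗ[F2] V) u) u, ha.Q_orbit hu, polar_comm (⇑Q) _ u, h2, pol_self,
    polar_comm (⇑Q) v u, h1, zero_add, add_zero, one_smul, zero_smul, sub_zero, ← add_assoc,
    add_self', zero_add]

theorem reach_pair {u v : V} (hu : Q u = 0) (hv : Q v = 0)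
    (h : polar Q u v = 1 ∨ polar Q u ((a : V ≃ₗ[F2] V) v) = 1) :
    ∃ g, InK hc g ∧ (g : V ≃ₗ[F2] V) u = v := by
  have hav : Q ((a : V ≃ₗ[F2] V) v) = 0 := by rw [O.map_app]; exact hv
  have ha2 : polar Q u ((a : V ≃ₗ[F2] V) ((a : V ≃ₗ[F2] V) v))
      = polar Q u ((a : V ≃ₗ[F2] V) v) + polar Q u v := by rw [ha.rel, polar_add_right]
  rcases two_cases (polar Q u v) with e | e
  · exact reach_step hc hQ hn ha haK hu hv e (h.resolve_left (by rw [e]; decide))
  rcases two_cases (polar Q u ((a : V ≃ₗ[F2] V) v)) with e' | e'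
  · obtain ⟨g, hg, hgu⟩ := reach_step hc hQ hn ha haK hu hav e' (by rw [ha2, e', e]; rfl)
    refine ⟨a⁻¹ * g, (InK.inv hc haK).mul hc hg, ?_⟩
    rw [Subgroup.coe_mul, mul_app, hgu, ← mul_app, ← Subgroup.coe_mul, inv_mul_cancel,
      OneMemClass.coe_one, one_app]
  · obtain ⟨g, hg, hgu⟩ := reach_step hc hQ hn ha haK hu (v := (a : V ≃ₗ[F2] V) ((a : V ≃ₗ[F2] V) v))
      (by rw [O.map_app]; exact hav) (by rw [ha2, e', e]; rfl)
      (by rw [show (a : V ≃ₗ[F2] V) ((a : V ≃ₗ[F2] V) ((a : V ≃ₗ[F2] V) v)) = v from by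
            rw [ha.rel, ha.rel, add_comm ((a : V ≃ₗ[F2] V) v) v, add_right_cancel']]
          exact e)
    refine ⟨a * g, InK.mul hc haK hg, ?_⟩
    rw [Subgroup.coe_mul, mul_app, hgu, ← mul_app, ← mul_app]
    have := congrArg (fun g : O Q => (g : V ≃ₗ[F2] V) v) ha.cube
    simpa [Subgroup.coe_mul, mul_app] using this

theorem reach {u v : V} (hu0 : u ≠ 0) (hv0 : v ≠ 0) (hu : Q u = 0) (hv : Q v = 0) :
    ∃ g, InK hc g ∧ (g : V ≃ₗ[F2] V) u = v := by
  obtain ⟨f, hf, hf1, hf2⟩ := exists_common_partner hQ (by omega) hu0 hv0 hu hv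
  obtain ⟨g, hg, hgu⟩ := reach_pair hc hQ hn ha haK hu hf
    (Or.inl ((two_cases _).resolve_left hf1))
  obtain ⟨g', hg', hgv⟩ := reach_pair hc hQ hn ha haK hf hv
    (Or.inl ((two_cases _).resolve_left (by rw [polar_comm]; exact hf2)))
  exact ⟨g' * g, InK.mul hc hg' hg, by rw [Subgroup.coe_mul, mul_app, hgu, hgv]⟩

/-- Twisting `a` on the plane of an anisotropic vector. -/
theorem exists_twist {p : V} (hp : Q p = 1) : ∃ b : O Q, InK hc b ∧ Fpf Q b ∧
    ∀ x, (b : V ≃ₗ[F2] V) x = (a : V ≃ₗ[F2] V) x +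
      (polar Q ((a : V ≃ₗ[F2] V) p) x • p + polar Q p x • (a : V ≃ₗ[F2] V) p) := by
  set A := (a : V ≃ₗ[F2] V) with hA
  have hAp : Q (A p) = 1 := by rw [hA, O.map_app]; exact hp
  have hpp : polar Q p (A p) = 1 := by
    have e : Q (A (A p)) = 1 := by rw [hA, O.map_app]; exact hAp
    rw [ha.rel, pol_add, hAp, hp, polar_comm] at e
    exact (by decide : ∀ t : F2, 1 + 1 + t = 1 → t = 1) _ e
  let φ : V →ₗ[F2] V :=
    (Q.polarBilin (A p)).smulRight p + (Q.polarBilin p).smulRight (A p)
  have hφ : ∀ x, φ x = polar Q (A p) x • p + polar Q p x • A p := fun x => rfl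
  have hAA : ∀ x, A (A x) = A x + x := ha.rel
  have hinv1 : ∀ x, polar Q (A p) (A x) = polar Q p x := fun x => O.polar_app a p x
  have hinv2 : ∀ x, polar Q p (A x) = polar Q (A p) x + polar Q p x := by
    intro x
    have e : polar Q (A (A p)) (A (A (A x))) = polar Q p (A x) := by
      rw [O.polar_app, O.polar_app]
    have e3 : A (A (A x)) = x := by rw [hAA, hAA, add_comm (A x) x, add_right_cancel']
    rw [e3, hAA, polar_add_left] at e
    exact e.symm
  have hcomm : ∀ x, φ (A x) = A (φ x) := by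
    intro x
    rw [hφ, hφ, map_add, map_smul, map_smul, hinv1, hinv2, hAA, add_smul, smul_add]
    abel
  have hidem : ∀ x, φ (φ x) = φ x := by
    intro x
    rw [hφ (φ x), hφ x]
    simp only [polar_add_right, polar_smul_right', hpp, pol_self, polar_comm (⇑Q) (A p) p, mul_one,
      mul_zero, add_zero, zero_add]
  let B : V →ₗ[F2] V := A.toLinearMap + φ
  have hB : ∀ x, B x = A x + φ x := fun x => rfl
  have hBB : ∀ x, B (B x) = B x + x := by
    intro x
    rw [hB (B x), hB x, map_add A, map_add φ, hcomm, hidem, hAA]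
    have := add_self' (A (φ x))
    calc A x + x + A (φ x) + (A (φ x) + φ x) = A x + x + (A (φ x) + A (φ x)) + φ x := by abel
      _ = A x + φ x + x := by rw [this, add_zero]; abel
  have hB3 : ∀ x, B (B (B x)) = x := fun x => by
    rw [hBB, hBB, add_comm (B x) x, add_right_cancel']
  let Be : V ≃ₗ[F2] V :=
    LinearEquiv.ofLinearMap B (B.comp B) (LinearMap.ext hB3) (LinearMap.ext fun x => hB3 x)
  have hBO : Be ∈ O Q := by
    intro x
    show Q (B x) = Q x
    rw [hB, pol_add, O.map_app, hφ, pol_add, qmap_smul, qmap_smul, hp, hAp]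
    simp only [polar_add_right, polar_smul_right', polar_smul_left', hpp, ← hA,
      polar_comm (⇑Q) (A x) p, polar_comm (⇑Q) (A x) (A p), hinv1, hinv2]
    rcases two_cases (polar Q (A p) x) with e1 | e1 <;> rcases two_cases (polar Q p x) with e2 | e2 <;>
      rw [e1, e2] <;> rcases two_cases (Q x) with e3 | e3 <;> rw [e3] <;> rfl
  have hf : Fpf Q ⟨Be, hBO⟩ := ⟨hBB⟩
  refine ⟨⟨Be, hBO⟩, inK_of_commute hc hQ hn ha haK ha (hf.mem (gen' hc hQ hn ha)) ?_, hf, fun x => rfl⟩
  refine O.ext_app fun x => ?_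
  show A (B x) = B (A x)
  rw [hB, hB, map_add, hcomm]

omit hQ hn ha haK in
theorem InK.sie_add {u w w' : V} {hu : Q u = 0} {hw : polar Q u w = 0} {hw' : polar Q u w' = 0}
    (h : InK hc (sie u w hu hw)) (h' : InK hc (sie u w' hu hw')) (v : V) (hv : polar Q u v = 0)
    (e : w + w' = v) : InK hc (sie u v hu hv) := by
  have := InK.mul hc h h'
  rwa [sie_mul, sie_congr hu _ hu hv rfl e] at this

/-- The kernel contains every Eichler transformation. -/
theorem sie_all {u w : V} (hu : Q u = 0) (hw : polar Q u w = 0) : InK hc (sie u w hu hw) := by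
  by_cases hu0 : u = 0
  · have : sie u w hu hw = 1 := O.ext_app fun x => by
      subst hu0; rw [sie_app, polar_zero_left]; simp
    rw [this]; exact InK.one hc
  set A := (a : V ≃ₗ[F2] V)
  have hAu : InK hc (sie u (A u) hu (ha.Q_orbit hu)) := sie_inK hc hQ hn ha haK haK ha hu
  -- twisting vectors
  have htw : ∀ p, Q p = 1 → ∀ hp : polar Q u p = 0, polar Q p (A u) = 1 →
      InK hc (sie u p hu hp) := by
    intro p hQp hp hpa
    obtain ⟨b, hb, hbf, hbx⟩ := exists_twist hc hQ hn ha haK hQp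
    have h1 := sie_inK hc hQ hn ha haK hb hbf hu
    have hval : polar Q (A p) u = 1 := by
      have e : polar Q (A (A p)) (A (A u)) = polar Q p u := by rw [O.polar_app, O.polar_app]
      rw [ha.rel, ha.rel, polar_add_left, polar_add_right, polar_add_right, O.polar_app, hpa,
        polar_comm (⇑Q) p u, hp] at e
      exact (by decide : ∀ t : F2, 0 + t + (1 + 0) = 0 → t = 1) _ e
    have hbu : (b : V ≃ₗ[F2] V) u = A u + p := by
      rw [hbx, hval, polar_comm (⇑Q) p u, hp, one_smul, zero_smul, add_zero]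
    exact InK.sie_add hc hAu h1 p hp (by rw [hbu, ← add_assoc, add_self', zero_add])
  -- one twisting vector
  obtain ⟨p, hQp, hp, hpa⟩ : ∃ p, Q p = 1 ∧ polar Q u p = 0 ∧ polar Q p (A u) = 1 := by
    have hli : A u ∉ Submodule.span F2 {u} := by
      rw [Submodule.mem_span_singleton]
      rintro ⟨t, ht⟩
      rcases two_cases t with rfl | rfl
      · rw [zero_smul] at ht
        exact hu0 (A.map_eq_zero_iff.mp ht.symm)
      · rw [one_smul] at ht
        exact hu0 (ha.eq_zero ht.symm)
    obtain ⟨l, hl1, hl2⟩ := Submodule.exists_dual_map_eq_bot_of_notMem hli inferInstance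
    obtain ⟨y, hy⟩ := hQ.exists_repr l
    have hlu : l u = 0 := by
      have : l u ∈ (Submodule.span F2 {u}).map l :=
        Submodule.mem_map_of_mem (Submodule.mem_span_singleton_self u)
      rwa [hl2, Submodule.mem_bot] at this
    have hy1 : polar Q u y = 0 := by rw [polar_comm, hy, hlu]
    have hy2 : polar Q y (A u) = 1 := by rw [hy]; exact (two_cases _).resolve_left hl1
    rcases two_cases (Q y) with e | e
    · refine ⟨y + A u, ?_, ?_, ?_⟩
      · rw [pol_add, e, O.map_app, hu, hy2]; rfl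
      · rw [polar_add_right, hy1, ha.Q_orbit hu, add_zero]
      · rw [polar_add_left, hy2, pol_self, add_zero]
    · exact ⟨y, e, hy1, hy2⟩
  have hpK := htw p hQp hp hpa
  -- vectors orthogonal to the line
  have hL : ∀ z, ∀ hz : polar Q u z = 0, polar Q (A u) z = 0 → InK hc (sie u z hu hz) := by
    intro z hz hz'
    have hz2 : polar Q u (p + z) = 0 := by rw [polar_add_right, hp, hz, add_zero]
    have hz3 : polar Q (p + z) (A u) = 1 := by
      rw [polar_add_left, hpa, polar_comm (⇑Q) z, hz', add_zero]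
    rcases two_cases (Q z + polar Q p z) with e | e
    · refine InK.sie_add hc hpK (htw (p + z) ?_ hz2 hz3) z hz (by rw [← add_assoc, add_self', zero_add])
      rw [pol_add, hQp, add_assoc, e, add_zero]
    · have hz4 : polar Q u (p + z + A u) = 0 := by rw [polar_add_right, hz2, ha.Q_orbit hu, add_zero]
      have h5 := htw (p + z + A u) (by
          rw [pol_add, pol_add, O.map_app, hu, hQp, hz3, add_assoc (1 : F2) (Q z), e]; rfl) hz4
        (by rw [polar_add_left, hz3, pol_self, add_zero])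
      have hz6 : polar Q u (z + A u) = 0 := by rw [polar_add_right, hz, ha.Q_orbit hu, add_zero]
      have h6 := InK.sie_add hc hpK h5 (z + A u) hz6
        (by rw [← add_assoc, ← add_assoc, add_self', zero_add])
      exact InK.sie_add hc h6 hAu z hz (add_right_cancel' z _)
  rcases two_cases (polar Q (A u) w) with e | e
  · exact hL w hw e
  · have hz : polar Q u (w + p) = 0 := by rw [polar_add_right, hw, hp, add_zero]
    refine InK.sie_add hc (hL (w + p) hz ?_) hpK w hw (add_right_cancel' w p)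
    rw [polar_add_right, e, polar_comm (⇑Q) (A u) p, hpa]; rfl

theorem all_inK {g : O Q} (hg : g ∈ commutator (O Q)) : InK hc g := by
  rw [← sieGroup_eq_commutator hQ hn] at hg
  induction hg using Subgroup.closure_induction with
  | mem x hx => obtain ⟨u, w, hu, hw, rfl⟩ := hx; exact sie_all hc hQ hn ha haK hu hw
  | one => exact InK.one hc
  | mul x y _ _ hx hy => exact InK.mul hc hx hy
  | inv x _ hx => exact InK.inv hc hx

end main

/-- Every cocycle is principal. -/
theorem principal (hQ : Nondeg Q) (hn : 5 ≤ finrank F2 V) (ha : Fpf Q a)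
    (c : ↥(commutator (O Q)) → V)
    (hc : ∀ g h, c (g * h) = c g + ((g : O Q) : V ≃ₗ[F2] V) (c h)) :
    ∃ v, ∀ g, c g = ((g : O Q) : V ≃ₗ[F2] V) v - v := by
  set A := (a : V ≃ₗ[F2] V)
  have hgen := reflGroup_eq_top hQ (Or.inr (by omega) : Nat.card F2 ≠ 2 ∨ finrank F2 V ≠ 4)
  set a' : ↥(commutator (O Q)) := ⟨a, ha.mem hgen⟩
  set v := A (c a') with hv
  let c' : ↥(commutator (O Q)) → V := fun g => c g + (((g : O Q) : V ≃ₗ[F2] V) v + v)
  have hc' : ∀ g h, c' (g * h) = c' g + ((g : O Q) : V ≃ₗ[F2] V) (c' h) := by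
    intro g h
    show c (g * h) + ((((g * h : ↥(commutator (O Q))) : O Q) : V ≃ₗ[F2] V) v + v) = _
    rw [hc, Subgroup.coe_mul, Subgroup.coe_mul, mul_app]
    show _ = c g + (((g : O Q) : V ≃ₗ[F2] V) v + v) +
      ((g : O Q) : V ≃ₗ[F2] V) (c h + (((h : O Q) : V ≃ₗ[F2] V) v + v))
    rw [map_add, map_add]
    set G := ((g : O Q) : V ≃ₗ[F2] V)
    set H := ((h : O Q) : V ≃ₗ[F2] V)
    calc c g + G (c h) + (G (H v) + v)
        = c g + G (c h) + (G (H v) + v) + (G v + G v) := by rw [add_self' (G v), add_zero]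
      _ = _ := by abel
  have hca : c' a' = 0 := by
    show c a' + (A v + v) = 0
    rw [hv, ha.rel, add_comm (A (c a')) (c a'), add_right_cancel', add_self']
  have key := fun g : ↥(commutator (O Q)) =>
    (all_inK hc' hQ hn ha ⟨ha.mem hgen, hca⟩ g.2).2
  refine ⟨v, fun g => ?_⟩
  have e : c g + (((g : O Q) : V ≃ₗ[F2] V) v + v) = 0 := key g
  rw [sub_eq_add_neg, neg_eq_of_add_eq_zero_left (add_self' v)]
  exact eq_of_add_eq_zero' e

end Cfsg.Agent.H92.OrthH1
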