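import Mathlib
import Cfsg.Agent.H92.OrthH1
import Cfsg.Agent.Orthogonal.StdForms

/-!
Vanishing of first cohomology of `Ω⁻₄(2)` on its natural module.
-/

set_option autoImplicit false
set_option synthInstance.maxHeartbeats 400000
set_option synthInstance.maxSize 4000
set_option maxRecDepth 20000

namespace Cfsg.Agent.H92.OrthH1Four

open QuadraticMap Module
open Cfsg.Agent.Orthogonal
open scoped commutatorElement

abbrev V4 := (Fin 1 ⊕ Fin 1) ⊕ Fin 2 → ZMod 2

abbrev q : QuadraticForm (ZMod 2) V4 := formMinus (ZMod 2) 1 1 1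

def vec (x y a b : ZMod 2) : V4 := Sum.elim (Sum.elim ![x] ![y]) ![a, b]

def cx (v : V4) : ZMod 2 := v (.inl (.inl 0))
def cy (v : V4) : ZMod 2 := v (.inl (.inr 0))
def ca (v : V4) : ZMod 2 := v (.inr 0)
def cb (v : V4) : ZMod 2 := v (.inr 1)

def fA (v : V4) : V4 := vec (cy v) (cx v + cy v + ca v) (cy v + cb v) (ca v)
def fT (v : V4) : V4 := vec (cx v + cy v + ca v) (cy v) (ca v) (cy v + cb v)
def fS (v : V4) : V4 := vec (cx v + cy v + cb v) (cy v) (cy v + ca v) (cb v)

/-- The reflection, as a computable function. -/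
def fR (v x : V4) : V4 := if q (v + x) - q v - q x = 1 then x + v else x

/-- An isometry given by a function and its inverse. -/
def mkO (f g : V4 → V4) (hadd : ∀ x y, f (x + y) = f x + f y)
    (hsmul : ∀ (c : ZMod 2) x, f (c • x) = c • f x) (h1 : ∀ x, g (f x) = x) (h2 : ∀ x, f (g x) = x)
    (hq : ∀ x, q (f x) = q x) : O q :=
  ⟨{ toFun := f, map_add' := hadd, map_smul' := hsmul, invFun := g, left_inv := h1, right_inv := h2 }, hq⟩

def oA : O q := mkO fA (fun x => fA (fA (fA (fA x)))) (by decide) (by decide) (by decide) (by decide)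
  (by decide)
def oT : O q := mkO fT fT (by decide) (by decide) (by decide) (by decide) (by decide)
def oS : O q := mkO fS fS (by decide) (by decide) (by decide) (by decide) (by decide)

theorem oA_app (x : V4) : (oA : V4 ≃ₗ[ZMod 2] V4) x = fA x := rfl
theorem oT_app (x : V4) : (oT : V4 ≃ₗ[ZMod 2] V4) x = fT x := rfl
theorem oS_app (x : V4) : (oS : V4 ≃ₗ[ZMod 2] V4) x = fS x := rfl

theorem rO_eq {v : V4} (hv : q v = 1) (x : V4) : (rO q v : V4 ≃ₗ[ZMod 2] V4) x = fR v x := by
  rw [rO_app, hv, fR, inv_one, one_mul]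
  show x - polar q v x • v = if polar q v x = 1 then x + v else x
  rcases OrthH1.two_cases (polar q v x) with e | e
  · rw [if_neg (by rw [e]; decide), e, zero_smul, sub_zero]
  · rw [if_pos e, e, one_smul, sub_eq_add_neg, neg_eq_of_add_eq_zero_left (OrthH1.add_self' v)]

theorem nondeg_q : Nondeg q := formMinus_nondeg (F := ZMod 2) (m := 1) (by decide)

theorem gen : reflGroup q = ⊤ := by
  refine reflGroup_eq_top' nondeg_q (Or.inr (Or.inr (Or.inl ?_)))
  intro a _ b _ ha hb hab hli
  have key : ∀ a b : V4, q a = 0 → q b = 0 → q (a + b) - q a - q b = 0 → a = 0 ∨ b = 0 ∨ a = b := by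
    decide
  rcases key a b ha hb hab with h | h | h
  · exact hli.ne_zero 0 (by simpa using h)
  · exact hli.ne_zero 1 (by simpa using h)
  · have := hli.injective (a₁ := 0) (a₂ := 1) (by simpa using h)
    exact absurd this (by decide)

theorem pair_mem {v w : V4} (hv : q v = 1) (hw : q w = 1) :
    rO q v * rO q w ∈ commutator (O q) := by
  have base : ∀ v w : V4, q v = 1 → q w = 1 → q (v - w) ≠ 0 →
      rO q v * rO q w ∈ commutator (O q) := by
    intro v w hv hw h
    have e : rO q w = rO q (v - w) * rO q v * (rO q (v - w))⁻¹ := by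
      rw [conj_rO, rO_sub_swap (hv.trans hw.symm) h]
    have hm : ⁅rO q v, rO q (v - w)⁆ ∈ commutator (O q) :=
      Subgroup.commutator_mem_commutator (Subgroup.mem_top _) (Subgroup.mem_top _)
    rw [commutatorElement_def, rO_inv, rO_inv] at hm
    rw [e, rO_inv]
    simpa [mul_assoc] using hm
  have key : ∀ v w : V4, q v = 1 → q w = 1 → v = w ∨ q (v - w) ≠ 0 ∨
      ∃ u, q u = 1 ∧ q (v - u) ≠ 0 ∧ q (u - w) ≠ 0 := by decide
  rcases key v w hv hw with h | h | ⟨u, hu, h1, h2⟩
  · rw [h, rO_mul_self]; exact one_mem _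
  · exact base v w hv hw h
  · have := mul_mem (base v u hv hu h1) (base u w hu hw h2)
    rwa [mul_assoc, ← mul_assoc (rO q u) (rO q u), rO_mul_self, one_mul] at this

theorem mem_of_pair {g : O q} (h : ∃ v w : V4, q v = 1 ∧ q w = 1 ∧
    ∀ x, (g : V4 ≃ₗ[ZMod 2] V4) x = fR v (fR w x)) : g ∈ commutator (O q) := by
  obtain ⟨v, w, hv, hw, h⟩ := h
  have : g = rO q v * rO q w := O.ext_app fun x => by
    rw [h, Subgroup.coe_mul, mul_app, rO_eq hw, rO_eq hv]
  rw [this]
  exact pair_mem hv hw

theorem oT_mem : oT ∈ commutator (O q) := mem_of_pair (by simp only [oT_app]; decide)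
theorem oS_mem : oS ∈ commutator (O q) := mem_of_pair (by simp only [oS_app]; decide)

theorem oA_mem : oA ∈ commutator (O q) := by
  have h5 : oA * oA * oA * oA * oA = 1 := O.ext_app fun x => by
    simp only [Subgroup.coe_mul, mul_app, oA_app, OneMemClass.coe_one, one_app]
    revert x; decide
  have e : oA = (oA * oA * oA) * (oA * oA * oA) := by
    calc oA = oA * oA * oA * oA * oA * oA := by rw [h5, one_mul]
      _ = _ := by group
  rw [e]
  exact OrthH1.sq_mem_commutator gen _

/-- Evaluation of a word. -/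
def runWord : List (Fin 3) → V4 → V4
  | [], x => x
  | i :: l, x => (![fA, fT, fS] i) (runWord l x)

/-- The element of a word. -/
def wordO : List (Fin 3) → O q
  | [] => 1
  | i :: l => (![oA, oT, oS] i) * wordO l

theorem wordO_app (l : List (Fin 3)) (x : V4) : (wordO l : V4 ≃ₗ[ZMod 2] V4) x = runWord l x := by
  induction l with
  | nil => rfl
  | cons i l ih =>
    rw [wordO, Subgroup.coe_mul, mul_app, ih, runWord]
    fin_cases i <;> rfl

theorem wordO_mem (l : List (Fin 3)) : wordO l ∈ Subgroup.closure ({oA, oT, oS} : Set (O q)) := by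
  induction l with
  | nil => exact one_mem _
  | cons i l ih =>
    refine mul_mem (Subgroup.subset_closure ?_) ih
    fin_cases i <;> simp

def words : List (List (Fin 3)) :=
  [[0, 0, 1, 2, 0], [], [0, 2, 0, 0, 0, 2], [1, 2, 0, 0], [0, 0, 1], [1, 0, 0, 2], [0, 0, 0, 2, 0],
    [2], [0, 1, 2, 0, 0, 2], [2, 0, 0, 1, 2]]

set_option maxHeartbeats 4000000 in
theorem commutator_le : commutator (O q) ≤ Subgroup.closure ({oA, oT, oS} : Set (O q)) := by
  set P := Subgroup.closure {g : O q | ∃ v w, q v = 1 ∧ q w = 1 ∧ g = rO q v * rO q w} with hP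
  have hPH : P ≤ Subgroup.closure ({oA, oT, oS} : Set (O q)) := by
    rw [hP, Subgroup.closure_le]
    rintro _ ⟨v, w, hv, hw, rfl⟩
    have key : ∀ v : V4, q v = 1 → ∃ i : Fin words.length, ∀ x,
        runWord (words.get i) x = fR v (fR (vec 0 0 1 0) x) := by decide +kernel
    have h0 : q (vec 0 0 1 0) = 1 := by decide
    have h1 : ∀ u, q u = 1 → rO q u * rO q (vec 0 0 1 0) ∈ Subgroup.closure ({oA, oT, oS} : Set (O q)) := by
      intro u hu
      obtain ⟨i, hi⟩ := key u hu
      have : rO q u * rO q (vec 0 0 1 0) = wordO (words.get i) := O.ext_app fun x => by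
        rw [wordO_app, hi, Subgroup.coe_mul, mul_app, rO_eq h0, rO_eq hu]
      rw [this]; exact wordO_mem _
    have := mul_mem (h1 v hv) (inv_mem (h1 w hw))
    rwa [mul_inv_rev, ← mul_assoc, mul_inv_cancel_right, rO_inv] at this
  refine le_trans ?_ hPH
  haveI : P.Normal := ⟨fun n hn g => by
    rw [hP] at hn ⊢
    induction hn using Subgroup.closure_induction with
    | mem x hx =>
      obtain ⟨v, w, hv, hw, rfl⟩ := hx
      refine Subgroup.subset_closure ⟨(g : V4 ≃ₗ[ZMod 2] V4) v, (g : V4 ≃ₗ[ZMod 2] V4) w,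
        by rw [O.map_app, hv], by rw [O.map_app, hw], ?_⟩
      rw [← conj_rO, ← conj_rO]; group
    | one => simp
    | mul x y _ _ hx hy => simpa [mul_assoc] using mul_mem hx hy
    | inv x _ hx => simpa [mul_assoc] using inv_mem hx⟩
  set r := (QuotientGroup.mk (rO q (vec 0 0 1 0)) : O q ⧸ P) with hr
  have hall : ∀ g : O q, (QuotientGroup.mk g : O q ⧸ P) ∈ Subgroup.zpowers r := by
    intro g
    have hg : g ∈ reflGroup q := by rw [gen]; trivial
    induction hg using Subgroup.closure_induction with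
    | mem x hx =>
      obtain ⟨v, rfl⟩ := hx
      rcases OrthH1.two_cases (q v) with h | h
      · rw [rO_of_singular h, QuotientGroup.mk_one]; exact one_mem _
      · have e : (QuotientGroup.mk (rO q v) : O q ⧸ P) = r := by
          rw [hr, QuotientGroup.eq, rO_inv]
          exact Subgroup.subset_closure ⟨v, _, h, by decide, rfl⟩
        rw [e]; exact Subgroup.mem_zpowers r
    | one => exact one_mem _
    | mul x y _ _ hx hy => rw [QuotientGroup.mk_mul]; exact mul_mem hx hy
    | inv x _ hx => rw [QuotientGroup.mk_inv]; exact inv_mem hx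
  rw [commutator_def, Subgroup.commutator_le]
  intro g _ h _
  rw [← QuotientGroup.eq_one_iff]
  change QuotientGroup.mk' P ⁅g, h⁆ = 1
  rw [map_commutatorElement, commutatorElement_eq_one_iff_mul_comm]
  obtain ⟨i, hi⟩ := Subgroup.mem_zpowers_iff.mp (hall g)
  obtain ⟨j, hj⟩ := Subgroup.mem_zpowers_iff.mp (hall h)
  show (QuotientGroup.mk g : O q ⧸ P) * QuotientGroup.mk h = _
  rw [← hi, ← hj, ← zpow_add, add_comm, zpow_add]
  show _ = (QuotientGroup.mk h : O q ⧸ P) * QuotientGroup.mk g
  rw [← hi, ← hj]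

/-- Every cocycle of `Ω⁻₄(2)` is principal. -/
theorem principal (c : ↥(commutator (O q)) → V4)
    (hc : ∀ g h, c (g * h) = c g + ((g : O q) : V4 ≃ₗ[ZMod 2] V4) (c h)) :
    ∃ v, ∀ g, c g = ((g : O q) : V4 ≃ₗ[ZMod 2] V4) v - v := by
  set a : ↥(commutator (O q)) := ⟨oA, oA_mem⟩
  set t : ↥(commutator (O q)) := ⟨oT, oT_mem⟩
  set s : ↥(commutator (O q)) := ⟨oS, oS_mem⟩
  obtain ⟨v, hv⟩ : ∃ v, fA v + v = c a :=
    (by decide : ∀ y : V4, ∃ v, fA v + v = y) (c a)
  let c' : ↥(commutator (O q)) → V4 := fun g => c g + (((g : O q) : V4 ≃ₗ[ZMod 2] V4) v + v)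
  have hc' : ∀ g h, c' (g * h) = c' g + ((g : O q) : V4 ≃ₗ[ZMod 2] V4) (c' h) := by
    intro g h
    show c (g * h) + ((((g * h : ↥(commutator (O q))) : O q) : V4 ≃ₗ[ZMod 2] V4) v + v) = _
    rw [hc, Subgroup.coe_mul, Subgroup.coe_mul, mul_app]
    show _ = c g + (((g : O q) : V4 ≃ₗ[ZMod 2] V4) v + v) +
      ((g : O q) : V4 ≃ₗ[ZMod 2] V4) (c h + (((h : O q) : V4 ≃ₗ[ZMod 2] V4) v + v))
    rw [map_add, map_add]
    set G := ((g : O q) : V4 ≃ₗ[ZMod 2] V4)
    set H := ((h : O q) : V4 ≃ₗ[ZMod 2] V4)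
    calc c g + G (c h) + (G (H v) + v)
        = c g + G (c h) + (G (H v) + v) + (G v + G v) := by
          rw [OrthH1.add_self' (G v), add_zero]
      _ = _ := by abel
  set K := OrthH1.kerC c' hc'
  have hone : c' 1 = 0 := K.one_mem
  have haK : c' a = 0 := by
    show c a + (fA v + v) = 0
    rw [hv, OrthH1.add_self']
  have hapA : ∀ g, c' (a * g) = fA (c' g) := fun g => by rw [hc', haK, zero_add]; rfl
  have htK : c' t = 0 := by
    have e1 : t * t = 1 := Subtype.ext (O.ext_app fun x => by
      show fT (fT x) = x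
      revert x; decide)
    have e2 : t * (a * t) = a * (a * (a * a)) := Subtype.ext (O.ext_app fun x => by
      show fT (fA (fT x)) = fA (fA (fA (fA x)))
      revert x; decide)
    have h1 : c' t + fT (c' t) = 0 := by
      have h := hc' t t
      rw [e1, hone] at h
      exact h.symm
    have h2 : c' t + fT (fA (c' t)) = 0 := by
      have h := hc' t (a * t)
      rw [e2, hapA, hapA, hapA, hapA, haK] at h
      exact h.symm.trans (by decide)
    exact (by decide : ∀ x : V4, x + fT x = 0 → x + fT (fA x) = 0 → x = 0) _ h1 h2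
  have hsK : c' s = 0 := by
    have e1 : s * s = 1 := Subtype.ext (O.ext_app fun x => by
      show fS (fS x) = x
      revert x; decide)
    have e2 : s * t = t * s := Subtype.ext (O.ext_app fun x => by
      show fS (fT x) = fT (fS x)
      revert x; decide)
    have e3 : a * (s * (a * (s * (a * s)))) = 1 := Subtype.ext (O.ext_app fun x => by
      show fA (fS (fA (fS (fA (fS x))))) = x
      revert x; decide)
    have h1 : c' s + fS (c' s) = 0 := by
      have h := hc' s s
      rw [e1, hone] at h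
      exact h.symm
    have h2 : fT (c' s) = c' s := by
      have h := hc' t s
      rw [← e2, hc', htK, map_zero, add_zero, zero_add] at h
      exact h.symm
    have h3 : fA (c' s + fS (fA (c' s + fS (fA (c' s))))) = 0 := by
      have h : c' (a * (s * (a * (s * (a * s))))) = fA (c' s + fS (fA (c' s + fS (fA (c' s))))) := by
        rw [hapA, hc', hapA, hc', hapA]; rfl
      rw [e3, hone] at h
      exact h.symm
    exact (by decide : ∀ x : V4, x + fS x = 0 → fT x = x →
      fA (x + fS (fA (x + fS (fA x)))) = 0 → x = 0) _ h1 h2 h3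
  refine ⟨v, fun g => ?_⟩
  have hg : c' g = 0 := by
    have hle : Subgroup.closure ({oA, oT, oS} : Set (O q)) ≤ K.map (commutator (O q)).subtype := by
      rw [Subgroup.closure_le]
      rintro x (rfl | rfl | rfl)
      · exact ⟨a, haK, rfl⟩
      · exact ⟨t, htK, rfl⟩
      · exact ⟨s, hsK, rfl⟩
    obtain ⟨g', hg', e⟩ := hle (commutator_le g.2)
    rwa [← Subtype.ext e]
  have e : c g + (((g : O q) : V4 ≃ₗ[ZMod 2] V4) v + v) = 0 := hg
  rw [sub_eq_add_neg, neg_eq_of_add_eq_zero_left (OrthH1.add_self' v)]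
  exact OrthH1.eq_of_add_eq_zero' e

end Cfsg.Agent.H92.OrthH1Four
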