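import Mathlib
import Cfsg.Agent.H92.Pair

set_option autoImplicit false

namespace Cfsg.Agent.H92.PairSetting

open Subgroup

variable {G : Type*} [Group G] [Finite G] {Q : Subgroup G} {z g : G}

/-- Bundle of the subgroups `C = C(V)`, `A = Q ∩ C`, `B = Q^g ∩ C`. -/
theorem centralizer_V_iff {c : G} :
    c ∈ centralizer ((closure ({z, g * z * g⁻¹} : Set G) : Subgroup G) : Set G) ↔
      c * z = z * c ∧ c * (g * z * g⁻¹) = g * z * g⁻¹ * c := by
  rw [centralizer_closure, mem_centralizer_iff]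
  simp only [Set.mem_insert_iff, Set.mem_singleton_iff, forall_eq_or_imp, forall_eq]
  exact and_congr eq_comm eq_comm

theorem V_le_Q (h : PairSetting Q z g) : closure ({z, g * z * g⁻¹} : Set G) ≤ Q := by
  rw [closure_le]
  rintro a (rfl | rfl)
  · exact h.z_mem
  · exact h.hs

theorem V_le_R (h : PairSetting Q z g) :
    closure ({z, g * z * g⁻¹} : Set G) ≤ Q.map (MulAut.conj g).toMonoidHom := by
  rw [closure_le]
  rintro a (rfl | rfl)
  · exact h.z_mem_R
  · exact mem_R.mpr (by simpa [mul_assoc] using h.z_mem)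

/-- `C_Q(s) = Q ∩ C(V)`. -/
theorem A_eq (h : PairSetting Q z g) :
    Q ⊓ centralizer ({g * z * g⁻¹} : Set G) =
      Q ⊓ centralizer ((closure ({z, g * z * g⁻¹} : Set G) : Subgroup G) : Set G) := by
  ext a
  simp only [mem_inf, centralizer_V_iff, mem_centralizer_singleton_iff]
  exact and_congr_right fun ha => ⟨fun e => ⟨h.z_comm ha, e⟩, fun e => e.2⟩

/-- `C_R(z) = R ∩ C(V)`. -/
theorem B_eq (h : PairSetting Q z g) :
    Q.map (MulAut.conj g).toMonoidHom ⊓ centralizer ({z} : Set G) =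
      Q.map (MulAut.conj g).toMonoidHom ⊓
        centralizer ((closure ({z, g * z * g⁻¹} : Set G) : Subgroup G) : Set G) := by
  ext a
  simp only [mem_inf, centralizer_V_iff, mem_centralizer_singleton_iff]
  exact and_congr_right fun ha => ⟨fun e => ⟨e, h.R_comm ha⟩, fun e => e.1⟩

theorem conj_cases (h : PairSetting Q z g) {q : G} (hq : q ∈ Q) :
    q * (g * z * g⁻¹) * q⁻¹ = g * z * g⁻¹ ∨ q * (g * z * g⁻¹) * q⁻¹ = z * (g * z * g⁻¹) := by
  by_cases e : q * (g * z * g⁻¹) = g * z * g⁻¹ * q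
  · left; rw [e]; group
  · exact Or.inr (h.comm_eq hq h.hs e)

theorem R_conj_cases (h : PairSetting Q z g) {r : G}
    (hr : r ∈ Q.map (MulAut.conj g).toMonoidHom) :
    r * z * r⁻¹ = z ∨ r * z * r⁻¹ = z * (g * z * g⁻¹) := by
  rcases h.R_commutator hr h.z_mem_R with e | e
  · left
    calc r * z * r⁻¹ = (r * z * r⁻¹ * z⁻¹) * z := by group
      _ = z := by rw [e, one_mul]
  · right
    calc r * z * r⁻¹ = (r * z * r⁻¹ * z⁻¹) * z := by group
      _ = g * z * g⁻¹ * z := by rw [e]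
      _ = _ := h.z_comm h.hs

/-- Both `Q` and `Q^g` normalize `C(V)`. -/
theorem conj_mem_CV (h : PairSetting Q z g) {n c : G}
    (hn : n ∈ Q ∨ n ∈ Q.map (MulAut.conj g).toMonoidHom)
    (hc : c ∈ centralizer ((closure ({z, g * z * g⁻¹} : Set G) : Subgroup G) : Set G)) :
    n * c * n⁻¹ ∈ centralizer ((closure ({z, g * z * g⁻¹} : Set G) : Subgroup G) : Set G) := by
  set V := closure ({z, g * z * g⁻¹} : Set G)
  have key : ∀ v ∈ V, n⁻¹ * v * n ∈ V := by
    have hzV : z ∈ V := subset_closure (by simp)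
    have hsV : g * z * g⁻¹ ∈ V := subset_closure (by simp)
    intro v hv
    induction hv using closure_induction with
    | mem v hv =>
      rcases hn with hn | hn <;> rcases hv with rfl | rfl
      · have := h.z_comm (inv_mem hn)
        rw [this]; simpa using hzV
      · rcases h.conj_cases (inv_mem hn) with e | e <;> rw [inv_inv] at e <;> rw [e]
        · exact hsV
        · exact mul_mem hzV hsV
      · rcases h.R_conj_cases (inv_mem hn) with e | e <;> rw [inv_inv] at e <;> rw [e]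
        · exact hzV
        · exact mul_mem hzV hsV
      · rw [h.R_comm (inv_mem hn)]; simpa using hsV
    | one => simp
    | mul a b _ _ ha hb => simpa [mul_assoc] using mul_mem ha hb
    | inv a _ ha => simpa [mul_assoc] using inv_mem ha
  rw [mem_centralizer_iff] at hc ⊢
  intro v hv
  have := hc _ (key v hv)
  calc v * (n * c * n⁻¹) = n * ((n⁻¹ * v * n) * c) * n⁻¹ := by group
    _ = _ := by rw [this]; group

/-- `C(V)` normalizes `Q`. -/
theorem CV_norm (h : PairSetting Q z g) {c q : G}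
    (hc : c ∈ centralizer ((closure ({z, g * z * g⁻¹} : Set G) : Subgroup G) : Set G))
    (hq : q ∈ Q) : c * q * c⁻¹ ∈ Q :=
  (mem_normalizer_iff.mp (h.centralizer_z_le (centralizer_V_iff.mp hc).1) q).mp hq

theorem CV_normR (h : PairSetting Q z g) {c q : G}
    (hc : c ∈ centralizer ((closure ({z, g * z * g⁻¹} : Set G) : Subgroup G) : Set G))
    (hq : q ∈ Q.map (MulAut.conj g).toMonoidHom) :
    c * q * c⁻¹ ∈ Q.map (MulAut.conj g).toMonoidHom :=
  h.R_norm (centralizer_V_iff.mp hc).2 hq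

variable (Q z g) in
/-- `R = C_{Q^g}(z) C_Q(s)` of the statements. -/
def core : Subgroup G :=
  (Q.map (MulAut.conj g).toMonoidHom ⊓ centralizer ({z} : Set G)) ⊔
    (Q ⊓ centralizer ({g * z * g⁻¹} : Set G))

theorem core_le_CV (h : PairSetting Q z g) :
    core Q z g ≤ centralizer ((closure ({z, g * z * g⁻¹} : Set G) : Subgroup G) : Set G) := by
  rw [core, h.A_eq, h.B_eq]
  exact sup_le inf_le_right inf_le_right

theorem core_le_X : core Q z g ≤ Q ⊔ Q.map (MulAut.conj g).toMonoidHom :=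
  sup_le (inf_le_left.trans le_sup_right) (inf_le_left.trans le_sup_left)

theorem conj_mem_core (h : PairSetting Q z g) {n u : G}
    (hn : n ∈ Q ∨ n ∈ Q.map (MulAut.conj g).toMonoidHom ∨
      n ∈ centralizer ((closure ({z, g * z * g⁻¹} : Set G) : Subgroup G) : Set G))
    (hu : u ∈ core Q z g) : n * u * n⁻¹ ∈ core Q z g := by
  unfold core at hu ⊢
  rw [h.A_eq, h.B_eq] at hu ⊢
  rw [Subgroup.sup_eq_closure] at hu
  induction hu using closure_induction with
  | mem a ha =>
    rcases ha with ⟨haR, haC⟩ | ⟨haQ, haC⟩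
    · rcases hn with hn | hn | hn
      · -- `n a n⁻¹ = (n a n⁻¹ a⁻¹) a` with the commutator in `Q ∩ C(V)`
        have h1 : n * (a * n⁻¹ * a⁻¹) ∈ Q := mul_mem hn (h.CV_norm haC (inv_mem hn))
        have h2 := mul_mem (h.conj_mem_CV (Or.inl hn) haC) (inv_mem haC)
        have h3 : n * a * n⁻¹ * a⁻¹ ∈ Q ⊓ centralizer
            ((closure ({z, g * z * g⁻¹} : Set G) : Subgroup G) : Set G) :=
          Subgroup.mem_inf.mpr ⟨by simpa [mul_assoc] using h1, h2⟩
        simpa using mul_mem (mem_sup_right h3) (mem_sup_left (Subgroup.mem_inf.mpr ⟨haR, haC⟩))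
      · exact mem_sup_left (Subgroup.mem_inf.mpr ⟨mul_mem (mul_mem hn haR) (inv_mem hn), h.conj_mem_CV (Or.inr hn) haC⟩)
      · exact mem_sup_left (Subgroup.mem_inf.mpr ⟨h.CV_normR hn haR, mul_mem (mul_mem hn haC) (inv_mem hn)⟩)
    · rcases hn with hn | hn | hn
      · exact mem_sup_right (Subgroup.mem_inf.mpr ⟨mul_mem (mul_mem hn haQ) (inv_mem hn), h.conj_mem_CV (Or.inl hn) haC⟩)
      · have h1 : n * (a * n⁻¹ * a⁻¹) ∈ Q.map (MulAut.conj g).toMonoidHom :=
          mul_mem hn (h.CV_normR haC (inv_mem hn))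
        have h2 := mul_mem (h.conj_mem_CV (Or.inr hn) haC) (inv_mem haC)
        have h3 : n * a * n⁻¹ * a⁻¹ ∈ Q.map (MulAut.conj g).toMonoidHom ⊓ centralizer
            ((closure ({z, g * z * g⁻¹} : Set G) : Subgroup G) : Set G) :=
          Subgroup.mem_inf.mpr ⟨by simpa [mul_assoc] using h1, h2⟩
        simpa using mul_mem (mem_sup_left h3) (mem_sup_right (Subgroup.mem_inf.mpr ⟨haQ, haC⟩))
      · exact mem_sup_right (Subgroup.mem_inf.mpr ⟨h.CV_norm hn haQ, mul_mem (mul_mem hn haC) (inv_mem hn)⟩)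
  | one => simp
  | mul a b _ _ ha hb => simpa [mul_assoc] using mul_mem ha hb
  | inv a _ ha => simpa [mul_assoc] using inv_mem ha

/-- `C(V)` acts trivially on `X / R`. -/
theorem commutator_mem_core (h : PairSetting Q z g) {x c : G}
    (hx : x ∈ Q ⊔ Q.map (MulAut.conj g).toMonoidHom)
    (hc : c ∈ centralizer ((closure ({z, g * z * g⁻¹} : Set G) : Subgroup G) : Set G)) :
    x * c * x⁻¹ * c⁻¹ ∈ core Q z g := by
  rw [Subgroup.sup_eq_closure] at hx
  suffices key : ∀ c ∈ centralizer ((closure ({z, g * z * g⁻¹} : Set G) : Subgroup G) : Set G),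
      x * c * x⁻¹ * c⁻¹ ∈ core Q z g ∧ (∀ u ∈ core Q z g, x * u * x⁻¹ ∈ core Q z g) ∧
        (∀ u ∈ core Q z g, x⁻¹ * u * x ∈ core Q z g) from (key c hc).1
  induction hx using closure_induction with
  | mem x hx =>
    intro c hc
    refine ⟨?_, fun u hu => h.conj_mem_core (hx.imp id Or.inl) hu, fun u hu => ?_⟩
    · unfold core
      rw [h.A_eq, h.B_eq]
      rcases hx with hx | hx
      · exact mem_sup_right (Subgroup.mem_inf.mpr ⟨by simpa [mul_assoc] using mul_mem hx (h.CV_norm hc (inv_mem hx)),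
          mul_mem (h.conj_mem_CV (Or.inl hx) hc) (inv_mem hc)⟩)
      · exact mem_sup_left (Subgroup.mem_inf.mpr ⟨by simpa [mul_assoc] using mul_mem hx (h.CV_normR hc (inv_mem hx)),
          mul_mem (h.conj_mem_CV (Or.inr hx) hc) (inv_mem hc)⟩)
    · have : x⁻¹ ∈ (Q : Set G) ∨ x⁻¹ ∈ (Q.map (MulAut.conj g).toMonoidHom : Set G) :=
        hx.imp (fun e => inv_mem e) (fun e => inv_mem e)
      simpa using h.conj_mem_core (this.imp id Or.inl) hu
  | one => intro c _; simp
  | mul a b _ _ ha hb =>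
    intro c hc
    refine ⟨?_, fun u hu => ?_, fun u hu => ?_⟩
    · have := mul_mem ((ha c hc).2.1 _ (hb c hc).1) (ha c hc).1
      simpa [mul_assoc] using this
    · simpa [mul_assoc] using (ha c hc).2.1 _ ((hb c hc).2.1 u hu)
    · simpa [mul_assoc] using (hb c hc).2.2 _ ((ha c hc).2.2 u hu)
  | inv a _ ha =>
    intro c hc
    refine ⟨?_, fun u hu => by simpa using (ha c hc).2.2 u hu,
      fun u hu => by simpa using (ha c hc).2.1 u hu⟩
    have := inv_mem ((ha c hc).2.2 _ (ha c hc).1)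
    simpa [mul_assoc] using this

/-- `X = Q Q^g` has at most the six cosets `1, x, y, xy, yx, xyx` of the core. -/
theorem exists_rep (h : PairSetting Q z g) :
    ∃ x ∈ Q, ∃ y ∈ Q.map (MulAut.conj g).toMonoidHom,
      x * (g * z * g⁻¹) * x⁻¹ = z * (g * z * g⁻¹) ∧ y * z * y⁻¹ = z * (g * z * g⁻¹) ∧
      ∀ n ∈ Q ⊔ Q.map (MulAut.conj g).toMonoidHom,
        ∃ w ∈ [1, x, y, x * y, y * x, x * y * x], w⁻¹ * n ∈ core Q z g := by
  obtain ⟨x, hx, hxs⟩ := h.exists_x
  obtain ⟨y, hy, hyz⟩ := h.exists_y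
  refine ⟨x, hx, y, hy, hxs, hyz, ?_⟩
  have hA : ∀ q ∈ Q, q ∈ core Q z g ∨ x⁻¹ * q ∈ core Q z g := by
    intro q hq
    rcases h.conj_cases hq with e | e
    · left
      exact mem_sup_right (Subgroup.mem_inf.mpr ⟨hq, mem_centralizer_singleton_iff.mpr (mul_inv_eq_iff_eq_mul.mp e)⟩)
    · right
      refine mem_sup_right (Subgroup.mem_inf.mpr ⟨mul_mem (inv_mem hx) hq, mem_centralizer_singleton_iff.mpr ?_⟩)
      calc x⁻¹ * q * (g * z * g⁻¹) = x⁻¹ * (q * (g * z * g⁻¹) * q⁻¹) * q := by group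
        _ = x⁻¹ * (x * (g * z * g⁻¹) * x⁻¹) * q := by rw [e, hxs]
        _ = _ := by group
  have hB : ∀ r ∈ Q.map (MulAut.conj g).toMonoidHom, r ∈ core Q z g ∨ y⁻¹ * r ∈ core Q z g := by
    intro r hr
    rcases h.R_conj_cases hr with e | e
    · left
      exact mem_sup_left (Subgroup.mem_inf.mpr ⟨hr, mem_centralizer_singleton_iff.mpr (mul_inv_eq_iff_eq_mul.mp e)⟩)
    · right
      refine mem_sup_left (Subgroup.mem_inf.mpr ⟨mul_mem (inv_mem hy) hr, mem_centralizer_singleton_iff.mpr ?_⟩)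
      calc y⁻¹ * r * z = y⁻¹ * (r * z * r⁻¹) * r := by group
        _ = y⁻¹ * (y * z * y⁻¹) * r := by rw [e, hyz]
        _ = _ := by group
  have hxz : x * z * x⁻¹ = z := by rw [h.z_comm hx]; group
  have hys : y * (g * z * g⁻¹) * y⁻¹ = g * z * g⁻¹ := by rw [h.R_comm hy]; group
  have hzz := h.z_sq
  have hss := h.s_sq
  have hx2 : x * x ∈ core Q z g := by
    rcases hA _ (mul_mem hx hx) with e | e
    · exact e
    · exfalso
      rw [inv_mul_cancel_left] at e
      have hc := (centralizer_V_iff.mp (h.core_le_CV e)).2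
      apply h.hz1
      have : z * (g * z * g⁻¹) = g * z * g⁻¹ := by rw [← hxs, hc]; group
      exact mul_eq_right.mp this
  have hy2 : y * y ∈ core Q z g := by
    rcases hB _ (mul_mem hy hy) with e | e
    · exact e
    · exfalso
      rw [inv_mul_cancel_left] at e
      have hc := (centralizer_V_iff.mp (h.core_le_CV e)).1
      apply h.s_ne_one
      have : z * (g * z * g⁻¹) = z := by rw [← hyz, hc]; group
      exact mul_eq_left.mp this
  set k := x * y * x with hk
  have hkz : k * z * k⁻¹ = g * z * g⁻¹ := by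
    calc k * z * k⁻¹ = x * (y * (x * z * x⁻¹) * y⁻¹) * x⁻¹ := by rw [hk]; group
      _ = x * (z * (g * z * g⁻¹)) * x⁻¹ := by rw [hxz, hyz]
      _ = (x * z * x⁻¹) * (x * (g * z * g⁻¹) * x⁻¹) := by group
      _ = g * z * g⁻¹ := by rw [hxz, hxs, ← mul_assoc, hzz, one_mul]
  have hks : k * (g * z * g⁻¹) * k⁻¹ = z := by
    calc k * (g * z * g⁻¹) * k⁻¹ = x * (y * (x * (g * z * g⁻¹) * x⁻¹) * y⁻¹) * x⁻¹ := by rw [hk]; group
      _ = x * ((y * z * y⁻¹) * (y * (g * z * g⁻¹) * y⁻¹)) * x⁻¹ := by rw [hxs]; group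
      _ = x * (z * ((g * z * g⁻¹) * (g * z * g⁻¹))) * x⁻¹ := by rw [hyz, hys]; group
      _ = z := by rw [hss, mul_one, hxz]
  have hkR : k * x * k⁻¹ ∈ Q.map (MulAut.conj g).toMonoidHom := by
    rw [mem_R]
    have hgk : (g⁻¹ * k) * z = z * (g⁻¹ * k) := by
      calc g⁻¹ * k * z = g⁻¹ * (k * z * k⁻¹) * k := by group
        _ = _ := by rw [hkz]; group
    have := (mem_normalizer_iff.mp (h.centralizer_z_le hgk) x).mp hx
    simpa [mul_assoc] using this
  have h1 : y⁻¹ * (k * x * k⁻¹) ∈ core Q z g := by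
    refine (hB _ hkR).resolve_left (fun e => ?_)
    have hc := (centralizer_V_iff.mp (h.core_le_CV e)).1
    apply h.hz1
    have e1 : k * x * k⁻¹ * z = k * (x * (g * z * g⁻¹) * x⁻¹) * k⁻¹ * (k * x * k⁻¹) := by
      calc k * x * k⁻¹ * z = k * x * k⁻¹ * (k * (g * z * g⁻¹) * k⁻¹) := by rw [hks]
        _ = _ := by group
    rw [e1, hxs] at hc
    have hc' : k * (z * (g * z * g⁻¹)) * k⁻¹ = z := mul_right_cancel hc
    have h' : k * (z * (g * z * g⁻¹)) * k⁻¹ = g * z * g⁻¹ * z := by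
      calc k * (z * (g * z * g⁻¹)) * k⁻¹ = (k * z * k⁻¹) * (k * (g * z * g⁻¹) * k⁻¹) := by group
        _ = _ := by rw [hkz, hks]
    rw [h'] at hc'
    exact absurd (mul_eq_right.mp hc') h.s_ne_one
  -- pass to the quotient by the core
  set X := Q ⊔ Q.map (MulAut.conj g).toMonoidHom with hX
  set K := (core Q z g).subgroupOf X with hKdef
  have hKn : K.Normal := by
    have hle : X ≤ normalizer (core Q z g : Set G) := by
      refine sup_le (fun n hn => ?_) (fun n hn => ?_) <;>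
        refine mem_normalizer_iff.mpr fun u => ⟨fun hu => ?_, fun hu => ?_⟩
      · exact h.conj_mem_core (Or.inl hn) hu
      · simpa [mul_assoc] using h.conj_mem_core (Or.inl (inv_mem hn)) hu
      · exact h.conj_mem_core (Or.inr (Or.inl hn)) hu
      · simpa [mul_assoc] using h.conj_mem_core (Or.inr (Or.inl (inv_mem hn))) hu
    exact ⟨fun u hu n => (mem_normalizer_iff.mp (hle n.2) _).mp hu⟩
  have hxX : x ∈ X := mem_sup_left hx
  have hyX : y ∈ X := mem_sup_right hy
  set a : X ⧸ K := QuotientGroup.mk ⟨x, hxX⟩ with ha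
  set b : X ⧸ K := QuotientGroup.mk ⟨y, hyX⟩ with hb
  have mk_eq : ∀ (u v : G) (hu : u ∈ X) (hv : v ∈ X), u⁻¹ * v ∈ core Q z g →
      (QuotientGroup.mk (⟨u, hu⟩ : X) : X ⧸ K) = QuotientGroup.mk ⟨v, hv⟩ :=
    fun u v hu hv e => QuotientGroup.eq.mpr e
  have ha2 : a * a = 1 := (QuotientGroup.eq_one_iff _).mpr (show x * x ∈ core Q z g from hx2)
  have hb2 : b * b = 1 := (QuotientGroup.eq_one_iff _).mpr (show y * y ∈ core Q z g from hy2)
  have hab : a * b * a * a * (a * b * a)⁻¹ = b := by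
    have e := mk_eq y (k * x * k⁻¹) hyX (mem_sup_right hkR) h1
    calc a * b * a * a * (a * b * a)⁻¹
        = QuotientGroup.mk (⟨k * x * k⁻¹, mem_sup_right hkR⟩ : X) := rfl
      _ = b := e.symm
  have hai : a⁻¹ = a := inv_eq_of_mul_eq_one_left ha2
  have hbi : b⁻¹ = b := inv_eq_of_mul_eq_one_left hb2
  have hbraid : a * b * a = b * a * b := by
    have e : a * b * a * b * a = b := by
      calc a * b * a * b * a = a * b * a * a * (a * b * a)⁻¹ := by
            rw [mul_inv_rev, mul_inv_rev, hai, hbi]; group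
            simp [mul_assoc, ha2]
        _ = b := hab
    calc a * b * a = (a * b * a * b * a) * (a * b) := by
          simp [mul_assoc, ← mul_assoc a a, ha2, hb2, ← mul_assoc b b]
      _ = b * a * b := by rw [e, mul_assoc]
  let S : List (X ⧸ K) := [1, a, b, a * b, b * a, a * b * a]
  have hSa : ∀ w ∈ S, a * w ∈ S := by
    intro w hw
    simp only [S, List.mem_cons, List.not_mem_nil, or_false] at hw ⊢
    rcases hw with rfl | rfl | rfl | rfl | rfl | rfl <;>
      simp [← mul_assoc, ha2, hb2]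
  have hSb : ∀ w ∈ S, b * w ∈ S := by
    intro w hw
    have e1 : b * (a * b) = a * b * a := by rw [hbraid, mul_assoc]
    have e2 : b * (a * b * a) = a * b := by rw [hbraid, mul_assoc b, ← mul_assoc, hb2, one_mul]
    simp only [S, List.mem_cons, List.not_mem_nil, or_false] at hw ⊢
    rcases hw with rfl | rfl | rfl | rfl | rfl | rfl
    · simp
    · simp
    · simp [hb2]
    · simp [e1]
    · simp [← mul_assoc, hb2]
    · simp [e2]
  have key : ∀ n (hn : n ∈ X), ∀ w ∈ S,
      (QuotientGroup.mk (⟨n, hn⟩ : X) : X ⧸ K) * w ∈ S ∧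
        (QuotientGroup.mk (⟨n, hn⟩ : X) : X ⧸ K)⁻¹ * w ∈ S := by
    intro n hn
    have hn' : n ∈ closure ((Q : Set G) ∪ (Q.map (MulAut.conj g).toMonoidHom : Set G)) := by
      rwa [← Subgroup.sup_eq_closure]
    induction hn' using closure_induction with
    | mem m hm =>
      have hcl : (QuotientGroup.mk (⟨m, hn⟩ : X) : X ⧸ K) ∈ ([1, a, b] : List (X ⧸ K)) := by
        simp only [List.mem_cons, List.not_mem_nil, or_false]
        rcases hm with hm | hm
        · rcases hA m hm with e | e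
          · exact Or.inl ((QuotientGroup.eq_one_iff _).mpr e)
          · exact Or.inr (Or.inl (mk_eq x m hxX hn e).symm)
        · rcases hB m hm with e | e
          · exact Or.inl ((QuotientGroup.eq_one_iff _).mpr e)
          · exact Or.inr (Or.inr (mk_eq y m hyX hn e).symm)
      intro w hw
      simp only [List.mem_cons, List.not_mem_nil, or_false] at hcl
      rcases hcl with e | e | e <;> rw [e]
      · simpa using hw
      · rw [hai]; exact ⟨hSa w hw, hSa w hw⟩
      · rw [hbi]; exact ⟨hSb w hw, hSb w hw⟩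
    | one =>
      intro w hw
      rw [show (⟨1, hn⟩ : X) = 1 from rfl, QuotientGroup.mk_one]
      simpa using hw
    | mul u v hu hv ihu ihv =>
      have huX : u ∈ X := by rw [hX, Subgroup.sup_eq_closure]; exact hu
      have hvX : v ∈ X := by rw [hX, Subgroup.sup_eq_closure]; exact hv
      intro w hw
      rw [show (⟨u * v, hn⟩ : X) = ⟨u, huX⟩ * ⟨v, hvX⟩ from rfl, QuotientGroup.mk_mul,
        mul_inv_rev, mul_assoc, mul_assoc]
      exact ⟨(ihu huX _ (ihv hvX w hw).1).1, (ihv hvX _ (ihu huX w hw).2).2⟩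
    | inv u hu ihu =>
      have huX : u ∈ X := by rw [hX, Subgroup.sup_eq_closure]; exact hu
      intro w hw
      rw [show (⟨u⁻¹, hn⟩ : X) = (⟨u, huX⟩ : X)⁻¹ from rfl, QuotientGroup.mk_inv, inv_inv]
      exact (ihu huX w hw).symm
  intro n hn
  have hmem := (key n hn 1 (by simp [S])).1
  rw [mul_one] at hmem
  simp only [S, List.mem_cons, List.not_mem_nil, or_false] at hmem
  have back : ∀ (w : G) (hw : w ∈ X),
      (QuotientGroup.mk (⟨n, hn⟩ : X) : X ⧸ K) = QuotientGroup.mk ⟨w, hw⟩ → w⁻¹ * n ∈ core Q z g :=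
    fun w hw e => (QuotientGroup.eq (a := (⟨w, hw⟩ : X)) (b := ⟨n, hn⟩)).mp e.symm
  rcases hmem with e | e | e | e | e | e
  · exact ⟨1, by simp, back 1 (one_mem _) e⟩
  · exact ⟨x, by simp, back x hxX e⟩
  · exact ⟨y, by simp, back y hyX e⟩
  · exact ⟨x * y, by simp, back (x * y) (mul_mem hxX hyX) e⟩
  · exact ⟨y * x, by simp, back (y * x) (mul_mem hyX hxX) e⟩
  · exact ⟨x * y * x, by simp [hk], back (x * y * x) (mul_mem (mul_mem hxX hyX) hxX) e⟩

theorem core_isPGroup (h : PairSetting Q z g) : IsPGroup 2 (core Q z g) := by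
  have : Fact (Nat.Prime 2) := ⟨Nat.prime_two⟩
  unfold core
  refine IsPGroup.to_sup_of_normal_right' (h.extra.1.1.map _ |>.to_le inf_le_left)
    (h.extra.1.1.to_le inf_le_left) ?_
  rw [h.A_eq, h.B_eq]
  intro n hn
  obtain ⟨-, hn⟩ := Subgroup.mem_inf.mp hn
  refine mem_normalizer_iff.mpr fun u => ⟨fun hu => ?_, fun hu => ?_⟩ <;>
    obtain ⟨hu1, hu2⟩ := Subgroup.mem_inf.mp hu
  · exact Subgroup.mem_inf.mpr ⟨h.CV_norm hn hu1, mul_mem (mul_mem hn hu2) (inv_mem hn)⟩
  · have h1 := h.CV_norm (inv_mem hn) hu1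
    have h2 := mul_mem (mul_mem (inv_mem hn) hu2) hn
    exact Subgroup.mem_inf.mpr ⟨by simpa [mul_assoc] using h1, by simpa [mul_assoc] using h2⟩

/-- The three involutions of `V`. -/
abbrev Three (z g : G) : Type _ :=
  {t : G // t = z ∨ t = g * z * g⁻¹ ∨ t = z * (g * z * g⁻¹)}

theorem conj_three (h : PairSetting Q z g) {n : G} (hn : n ∈ Q ⊔ Q.map (MulAut.conj g).toMonoidHom)
    (t : Three z g) : n * t.1 * n⁻¹ = z ∨ n * t.1 * n⁻¹ = g * z * g⁻¹ ∨
      n * t.1 * n⁻¹ = z * (g * z * g⁻¹) := by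
  have hzV : z ∈ closure ({z, g * z * g⁻¹} : Set G) := subset_closure (by simp)
  have hsV : g * z * g⁻¹ ∈ closure ({z, g * z * g⁻¹} : Set G) := subset_closure (by simp)
  rw [Subgroup.sup_eq_closure] at hn
  suffices key : ∀ v ∈ closure ({z, g * z * g⁻¹} : Set G),
      n * v * n⁻¹ ∈ closure ({z, g * z * g⁻¹} : Set G) ∧
        n⁻¹ * v * n ∈ closure ({z, g * z * g⁻¹} : Set G) by
    have htV : t.1 ∈ closure ({z, g * z * g⁻¹} : Set G) := by
      rcases t.2 with e | e | e <;> rw [e] <;> first | exact hzV | exact hsV | exact mul_mem hzV hsV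
    rcases h.mem_closure_pair (key _ htV).1 with e | e
    · exfalso
      have e' : t.1 = 1 := conj_eq_one_iff.mp e
      rcases t.2 with e'' | e'' | e'' <;> rw [e''] at e'
      · exact h.hz1 e'
      · exact h.s_ne_one e'
      · exact h.zs_ne.1 e'
    · exact e
  induction hn using closure_induction with
  | mem m hm =>
    have one : ∀ m : G, (m ∈ Q ∨ m ∈ Q.map (MulAut.conj g).toMonoidHom) →
        ∀ v ∈ closure ({z, g * z * g⁻¹} : Set G), m * v * m⁻¹ ∈ closure ({z, g * z * g⁻¹} : Set G) := by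
      intro m hm v hv
      induction hv using closure_induction with
      | mem v hv =>
        rcases hm with hm | hm <;> rcases hv with rfl | rfl
        · rw [h.z_comm hm]; simpa using hzV
        · rcases h.conj_cases hm with e | e <;> rw [e]
          · exact hsV
          · exact mul_mem hzV hsV
        · rcases h.R_conj_cases hm with e | e <;> rw [e]
          · exact hzV
          · exact mul_mem hzV hsV
        · rw [h.R_comm hm]; simpa using hsV
      | one => simp
      | mul a b _ _ ha hb => simpa [mul_assoc] using mul_mem ha hb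
      | inv a _ ha => simpa [mul_assoc] using inv_mem ha
    intro v hv
    refine ⟨one m hm v hv, ?_⟩
    simpa using one m⁻¹ (hm.imp (fun e => inv_mem e) (fun e => inv_mem e)) v hv
  | one => intro v hv; simpa using hv
  | mul a b _ _ ha hb =>
    intro v hv
    exact ⟨by simpa [mul_assoc] using (ha _ (hb v hv).1).1,
      by simpa [mul_assoc] using (hb _ (ha v hv).2).2⟩
  | inv a _ ha =>
    intro v hv
    exact ⟨by simpa using (ha v hv).2, by simpa using (ha v hv).1⟩

/-- The action of `X` on the three involutions of `V`. -/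
noncomputable def act (h : PairSetting Q z g) :
    ↥(Q ⊔ Q.map (MulAut.conj g).toMonoidHom) →* Equiv.Perm (Three z g) :=
  MonoidHom.toHomPerm
    { toFun := fun n => fun t => ⟨(n : G) * t.1 * (n : G)⁻¹, h.conj_three n.2 t⟩
      map_one' := funext fun t => Subtype.ext (by
        show (1 : G) * t.1 * (1 : G)⁻¹ = t.1
        simp)
      map_mul' := fun m n => funext fun t => Subtype.ext (by
        show (m : G) * n * t.1 * ((m : G) * n)⁻¹ = m * (n * t.1 * (n : G)⁻¹) * (m : G)⁻¹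
        group) }

theorem X_inf_CV (h : PairSetting Q z g) :
    (Q ⊔ Q.map (MulAut.conj g).toMonoidHom) ⊓
      centralizer ((closure ({z, g * z * g⁻¹} : Set G) : Subgroup G) : Set G) = core Q z g := by
  refine le_antisymm (fun n hn => ?_) (le_inf core_le_X h.core_le_CV)
  obtain ⟨x, hx, y, hy, hxs, hyz, hrep⟩ := h.exists_rep
  obtain ⟨hnX, hnC⟩ := Subgroup.mem_inf.mp hn
  obtain ⟨w, hw, hwn⟩ := hrep n hnX
  have hxz : x * z * x⁻¹ = z := by rw [h.z_comm hx]; group
  have hys : y * (g * z * g⁻¹) * y⁻¹ = g * z * g⁻¹ := by rw [h.R_comm hy]; group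
  have hwC := mul_mem hnC (inv_mem (h.core_le_CV hwn))
  rw [show n * (w⁻¹ * n)⁻¹ = w by group, centralizer_V_iff] at hwC
  have h1 : w * z * w⁻¹ = z := by rw [hwC.1]; group
  have h2 : w * (g * z * g⁻¹) * w⁻¹ = g * z * g⁻¹ := by rw [hwC.2]; group
  obtain ⟨-, hzsz, hzss⟩ := h.zs_ne
  simp only [List.mem_cons, List.not_mem_nil, or_false] at hw
  rcases hw with rfl | rfl | rfl | rfl | rfl | rfl
  · simpa using hwn
  · rw [hxs] at h2; exact absurd h2 hzss
  · rw [hyz] at h1; exact absurd h1 hzsz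
  · exfalso
    have e : x * y * z * (x * y)⁻¹ = g * z * g⁻¹ := by
      calc x * y * z * (x * y)⁻¹ = x * (y * z * y⁻¹) * x⁻¹ := by group
        _ = (x * z * x⁻¹) * (x * (g * z * g⁻¹) * x⁻¹) := by rw [hyz]; group
        _ = g * z * g⁻¹ := by rw [hxz, hxs, ← mul_assoc, h.z_sq, one_mul]
    exact h.hne (e.symm.trans h1)
  · exfalso
    have e : y * x * z * (y * x)⁻¹ = z * (g * z * g⁻¹) := by
      calc y * x * z * (y * x)⁻¹ = y * (x * z * x⁻¹) * y⁻¹ := by group
        _ = _ := by rw [hxz, hyz]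
    exact hzsz (e.symm.trans h1)
  · exfalso
    have e : x * y * x * z * (x * y * x)⁻¹ = g * z * g⁻¹ := by
      calc x * y * x * z * (x * y * x)⁻¹ = x * (y * (x * z * x⁻¹) * y⁻¹) * x⁻¹ := by group
        _ = x * (z * (g * z * g⁻¹)) * x⁻¹ := by rw [hxz, hyz]
        _ = (x * z * x⁻¹) * (x * (g * z * g⁻¹) * x⁻¹) := by group
        _ = g * z * g⁻¹ := by rw [hxz, hxs, ← mul_assoc, h.z_sq, one_mul]
    exact h.hne (e.symm.trans h1)

theorem act_ker (h : PairSetting Q z g) :
    h.act.ker = (core Q z g).subgroupOf (Q ⊔ Q.map (MulAut.conj g).toMonoidHom) := by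
  ext n
  rw [mem_subgroupOf, ← h.X_inf_CV, mem_inf, centralizer_V_iff]
  constructor
  · intro hn
    have e : ∀ t, h.act n t = t := fun t => by rw [MonoidHom.mem_ker.mp hn]; rfl
    have e1 : (n : G) * z * (n : G)⁻¹ = z := congrArg Subtype.val (e ⟨z, Or.inl rfl⟩)
    have e2 : (n : G) * (g * z * g⁻¹) * (n : G)⁻¹ = g * z * g⁻¹ :=
      congrArg Subtype.val (e ⟨_, Or.inr (Or.inl rfl)⟩)
    exact ⟨n.2, mul_inv_eq_iff_eq_mul.mp e1, mul_inv_eq_iff_eq_mul.mp e2⟩
  · rintro ⟨-, e1, e2⟩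
    have f1 : (n : G) * z * (n : G)⁻¹ = z := mul_inv_eq_iff_eq_mul.mpr e1
    have f2 : (n : G) * (g * z * g⁻¹) * (n : G)⁻¹ = g * z * g⁻¹ := mul_inv_eq_iff_eq_mul.mpr e2
    refine MonoidHom.mem_ker.mpr (Equiv.ext fun t => Subtype.ext ?_)
    show (n : G) * t.1 * (n : G)⁻¹ = t.1
    rcases t.2 with e | e | e <;> rw [e]
    · exact f1
    · exact f2
    · calc (n : G) * (z * (g * z * g⁻¹)) * (n : G)⁻¹
          = ((n : G) * z * (n : G)⁻¹) * ((n : G) * (g * z * g⁻¹) * (n : G)⁻¹) := by group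
        _ = _ := by rw [f1, f2]

theorem act_surjective (h : PairSetting Q z g) : Function.Surjective h.act := by
  classical
  obtain ⟨x, hx, hxs⟩ := h.exists_x
  obtain ⟨y, hy, hyz⟩ := h.exists_y
  let Z0 : Three z g := ⟨z, Or.inl rfl⟩
  let S0 : Three z g := ⟨g * z * g⁻¹, Or.inr (Or.inl rfl)⟩
  let T0 : Three z g := ⟨z * (g * z * g⁻¹), Or.inr (Or.inr rfl)⟩
  have hall : ∀ t : Three z g, t = Z0 ∨ t = S0 ∨ t = T0 := by
    rintro ⟨t, e | e | e⟩
    · exact Or.inl (Subtype.ext e)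
    · exact Or.inr (Or.inl (Subtype.ext e))
    · exact Or.inr (Or.inr (Subtype.ext e))
  have n1 : Z0 ≠ S0 := fun e => h.hne (congrArg Subtype.val e).symm
  have n2 : Z0 ≠ T0 := fun e => h.zs_ne.2.1 (congrArg Subtype.val e).symm
  have n3 : S0 ≠ T0 := fun e => h.zs_ne.2.2 (congrArg Subtype.val e).symm
  have swapX : h.act ⟨x, mem_sup_left hx⟩ = Equiv.swap S0 T0 := by
    refine Equiv.ext fun t => ?_
    rcases hall t with rfl | rfl | rfl
    · rw [Equiv.swap_apply_of_ne_of_ne n1 n2]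
      exact Subtype.ext (show x * z * x⁻¹ = z by rw [h.z_comm hx]; group)
    · rw [Equiv.swap_apply_left]
      exact Subtype.ext hxs
    · rw [Equiv.swap_apply_right]
      refine Subtype.ext (show x * (z * (g * z * g⁻¹)) * x⁻¹ = g * z * g⁻¹ from ?_)
      calc x * (z * (g * z * g⁻¹)) * x⁻¹ = (x * z * x⁻¹) * (x * (g * z * g⁻¹) * x⁻¹) := by group
        _ = _ := by rw [hxs, h.z_comm hx, mul_inv_cancel_right, ← mul_assoc, h.z_sq, one_mul]
  have swapY : h.act ⟨y, mem_sup_right hy⟩ = Equiv.swap Z0 T0 := by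
    refine Equiv.ext fun t => ?_
    rcases hall t with rfl | rfl | rfl
    · rw [Equiv.swap_apply_left]
      exact Subtype.ext hyz
    · rw [Equiv.swap_apply_of_ne_of_ne n1.symm n3]
      exact Subtype.ext (show y * (g * z * g⁻¹) * y⁻¹ = g * z * g⁻¹ by rw [h.R_comm hy]; group)
    · rw [Equiv.swap_apply_right]
      refine Subtype.ext (show y * (z * (g * z * g⁻¹)) * y⁻¹ = z from ?_)
      calc y * (z * (g * z * g⁻¹)) * y⁻¹ = (y * z * y⁻¹) * (y * (g * z * g⁻¹) * y⁻¹) := by group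
        _ = _ := by rw [hyz, h.R_comm hy, mul_inv_cancel_right, mul_assoc, h.s_sq, mul_one]
  have hmemX : Equiv.swap S0 T0 ∈ h.act.range := ⟨_, swapX⟩
  have hmemY : Equiv.swap Z0 T0 ∈ h.act.range := ⟨_, swapY⟩
  have hmemZ : Equiv.swap Z0 S0 ∈ h.act.range := by
    have e : Equiv.swap S0 T0 * Equiv.swap Z0 T0 * Equiv.swap S0 T0 = Equiv.swap Z0 S0 := by
      refine Equiv.ext fun t => ?_
      simp only [Equiv.Perm.mul_apply]
      rcases hall t with rfl | rfl | rfl <;>
        simp [Equiv.swap_apply_def, n1, n2, n3, n1.symm, n2.symm, n3.symm]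
    rw [← e]
    exact mul_mem (mul_mem hmemX hmemY) hmemX
  rw [← MonoidHom.range_eq_top, eq_top_iff, ← Equiv.Perm.closure_isSwap, closure_le]
  rintro σ ⟨a, b, hab, rfl⟩
  rcases hall a with rfl | rfl | rfl <;> rcases hall b with rfl | rfl | rfl <;>
    first
      | exact absurd rfl hab
      | exact hmemX | exact hmemY | exact hmemZ
      | (rw [Equiv.swap_comm]; first | exact hmemX | exact hmemY | exact hmemZ)

theorem card_three (h : PairSetting Q z g) : Nat.card (Three z g) = 3 := by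
  classical
  rw [Nat.subtype_card ({z, g * z * g⁻¹, z * (g * z * g⁻¹)} : Finset G) (by simp)]
  rw [Finset.card_eq_three]
  exact ⟨_, _, _, h.hne.symm, h.zs_ne.2.1.symm, h.zs_ne.2.2.symm, rfl⟩

theorem exists_equiv_perm (h : PairSetting Q z g) :
    ∃ e : ↥(Q ⊔ Q.map (MulAut.conj g).toMonoidHom) →* Equiv.Perm (Fin 3),
      Function.Surjective e ∧
        e.ker = (core Q z g).subgroupOf (Q ⊔ Q.map (MulAut.conj g).toMonoidHom) := by
  obtain ⟨θ⟩ : Nonempty (Three z g ≃ Fin 3) := ⟨(Nat.equivFinOfCardPos (by rw [h.card_three]; norm_num)).trans (finCongr h.card_three)⟩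
  let ψ : Equiv.Perm (Three z g) ≃* Equiv.Perm (Fin 3) := θ.permCongrHom
  refine ⟨ψ.toMonoidHom.comp h.act, ψ.surjective.comp h.act_surjective, ?_⟩
  rw [← h.act_ker]
  ext n
  rw [MonoidHom.mem_ker, MonoidHom.mem_ker]
  exact map_eq_one_iff ψ.toMonoidHom ψ.injective

end Cfsg.Agent.H92.PairSetting
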