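import Cfsg.Agent.H92.Basic
import Cfsg.Agent.Fusion.Basic
import Cfsg.Agent.PGroups.Basic
import Cfsg.Agent.PGroups.TwoGroups
import Cfsg.Agent.H39.Transfer

/-!
A finite perfect group with an involution whose centraliser is a Sylow 2-subgroup with Frattini
subgroup of order two: that Sylow subgroup is dihedral of order eight.
-/

set_option autoImplicit false

namespace Cfsg.Agent.H92.SmallFrattini

open Subgroup
open scoped commutatorElement

variable {L : Type*} [Group L]

theorem eq_one_or_of_mem_zpowers {z x : L} (hz : z * z = 1) (hx : x ∈ zpowers z) :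
    x = 1 ∨ x = z := by
  obtain ⟨k, rfl⟩ := mem_zpowers_iff.mp hx
  rcases Int.even_or_odd k with ⟨m, rfl⟩ | ⟨m, rfl⟩
  · left; rw [← two_mul, zpow_mul, zpow_two, hz, one_zpow]
  · right; rw [zpow_add, zpow_mul, zpow_two, hz, one_zpow, zpow_one, one_mul]

/-- The subgroup `{1, a, b, ab}`. -/
def four (a b : L) (ha : a * a = 1) (hb : b * b = 1) (hab : a * b = b * a) : Subgroup L where
  carrier := {x | x = 1 ∨ x = a ∨ x = b ∨ x = a * b}
  one_mem' := Or.inl rfl
  mul_mem' := by
    have h1 : ∀ x, a * (a * x) = x := fun x => by rw [← mul_assoc, ha, one_mul]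
    have h2 : ∀ x, b * (b * x) = x := fun x => by rw [← mul_assoc, hb, one_mul]
    have h3 : b * (a * b) = a := by rw [hab, ← mul_assoc, hb, one_mul]
    rintro x y (rfl | rfl | rfl | rfl) (rfl | rfl | rfl | rfl) <;>
      simp [mul_assoc, h1, h3, ha, hb, ← hab]
  inv_mem' := by
    have h1 : a⁻¹ = a := inv_eq_of_mul_eq_one_right ha
    have h2 : b⁻¹ = b := inv_eq_of_mul_eq_one_right hb
    rintro x (rfl | rfl | rfl | rfl) <;> simp [h1, h2, hab]

theorem mem_four {a b x : L} {ha : a * a = 1} {hb : b * b = 1} {hab : a * b = b * a} :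
    x ∈ four a b ha hb hab ↔ x = 1 ∨ x = a ∨ x = b ∨ x = a * b := Iff.rfl

/-- Enlarging a subgroup by an involution normalizing it. -/
def adjoin (K : Subgroup L) (t : L) (ht : t * t = 1) (hn : ∀ x ∈ K, t * x * t ∈ K) : Subgroup L where
  carrier := {x | x ∈ K ∨ x * t ∈ K}
  one_mem' := Or.inl K.one_mem
  mul_mem' := by
    rintro x y (hx | hx) (hy | hy)
    · exact Or.inl (mul_mem hx hy)
    · exact Or.inr (by rw [mul_assoc]; exact mul_mem hx hy)
    · refine Or.inr ?_
      have e : x * y * t = x * t * (t * y * t) := by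
        simp only [mul_assoc]; rw [← mul_assoc t t, ht, one_mul]
      rw [e]
      exact mul_mem hx (hn y hy)
    · refine Or.inl ?_
      have e : x * y = x * t * (t * (y * t) * t) := by
        simp only [mul_assoc]; rw [ht, mul_one, ← mul_assoc t t, ht, one_mul]
      rw [e]
      exact mul_mem hx (hn _ hy)
  inv_mem' := by
    rintro x (hx | hx)
    · exact Or.inl (inv_mem hx)
    · refine Or.inr ?_
      have e : x⁻¹ * t = t * (x * t)⁻¹ * t := by group
      rw [e]
      exact hn _ (inv_mem hx)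

theorem mem_smul_sylow {g x : L} {P : Sylow 2 L} :
    x ∈ ((g • P : Sylow 2 L) : Subgroup L) ↔ g⁻¹ * x * g ∈ (P : Subgroup L) := by
  rw [Sylow.coe_subgroup_smul, mem_pointwise_smul_iff_inv_smul_mem, ← map_inv, MulAut.smul_def,
    MulAut.conj_apply, inv_inv]

variable {z : L}

/-- The standing hypotheses. -/
structure Setting [Finite L] (z : L) (R : Sylow 2 L) : Prop where
  hz : z * z = 1
  hz1 : z ≠ 1
  mem : ∀ {x : L}, x ∈ (R : Subgroup L) ↔ x * z = z * x
  sq : ∀ {x : L}, x ∈ (R : Subgroup L) → x * x = 1 ∨ x * x = z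
  comm : ∀ {x y : L}, x ∈ (R : Subgroup L) → y ∈ (R : Subgroup L) →
    y * x = x * y ∨ y * x = x * y * z
  nrm : normalizer ((R : Subgroup L) : Set L) ≤ (R : Subgroup L)
  perf : commutator L = ⊤

variable [Finite L] {R : Sylow 2 L}

theorem setting_of (hz : orderOf z = 2) (hR : (R : Subgroup L) = centralizer ({z} : Set L))
    (hΦ : (frattini ↥(R : Subgroup L)).map (R : Subgroup L).subtype = zpowers z)
    (hperf : commutator L = ⊤) : Setting z R := by
  have hz2 : z * z = 1 := by rw [← pow_two, ← hz, pow_orderOf_eq_one]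
  have hz1 : z ≠ 1 := fun h => by simp [h] at hz
  have hmem : ∀ {x : L}, x ∈ (R : Subgroup L) ↔ x * z = z * x := fun {x} => by
    rw [hR, mem_centralizer_singleton_iff]
  have hfr : ∀ {u : ↥(R : Subgroup L)}, u ∈ frattini ↥(R : Subgroup L) →
      (u : L) = 1 ∨ (u : L) = z := fun {u} hu =>
    eq_one_or_of_mem_zpowers hz2 (hΦ ▸ mem_map_of_mem _ hu)
  refine ⟨hz2, hz1, hmem, ?_, ?_, ?_, hperf⟩
  · intro x hx
    have := hfr (PGroups.pow_mem_frattini R.isPGroup' ⟨x, hx⟩)
    simpa [pow_two] using this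
  · intro x y hx hy
    have h1 : ⁅(⟨x, hx⟩ : ↥(R : Subgroup L))⁻¹, ⟨y, hy⟩⁻¹⁆ ∈ frattini ↥(R : Subgroup L) :=
      PGroups.commutator_le_frattini R.isPGroup'
        (commutator_mem_commutator (mem_top _) (mem_top _))
    rcases hfr h1 with h | h <;> simp [commutatorElement_def] at h
    · left
      calc y * x = x * y * (y⁻¹ * x⁻¹ * y * x) := by group
        _ = x * y * (x⁻¹ * y⁻¹ * x * y)⁻¹ := by group
        _ = x * y := by rw [h]; group
    · right
      calc y * x = x * y * (x⁻¹ * y⁻¹ * x * y)⁻¹ := by group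
        _ = x * y * z := by rw [h, inv_eq_of_mul_eq_one_right hz2]
  · intro n hn
    have hzR : z ∈ (R : Subgroup L) := hmem.mpr rfl
    have h1 : (⟨z, hzR⟩ : ↥(R : Subgroup L)) ∈ frattini ↥(R : Subgroup L) := by
      have : z ∈ (frattini ↥(R : Subgroup L)).map (R : Subgroup L).subtype := by
        rw [hΦ]; exact mem_zpowers z
      obtain ⟨u, hu, hu'⟩ := this
      rwa [show (⟨z, hzR⟩ : ↥(R : Subgroup L)) = u from Subtype.ext hu'.symm]
    let e := (R : Subgroup L).normalizerMonoidHom ⟨n, hn⟩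
    have h2 : e ⟨z, hzR⟩ ∈ frattini ↥(R : Subgroup L) := by
      have := Characteristic.fixed (H := frattini ↥(R : Subgroup L)) inferInstance e
      rw [← this] at h1
      exact h1
    rcases hfr h2 with h | h
    · exact absurd (conj_eq_one_iff.mp h) hz1
    · exact hmem.mpr (mul_inv_eq_iff_eq_mul.mp h)

/-- A conjugate of `z` lying in `R` and different from `z`. -/
def Other (R : Sylow 2 L) (z c : L) : Prop :=
  (∃ g, g * z * g⁻¹ = c) ∧ c ≠ z ∧ c ∈ (R : Subgroup L)

namespace Setting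

variable (S : Setting z R)
include S

theorem self_mem : z ∈ (R : Subgroup L) := S.mem.mpr rfl

theorem conj_self : ∃ g, g * z * g⁻¹ = z := ⟨1, by simp⟩

theorem sq_conj {c : L} (hc : ∃ g, g * z * g⁻¹ = c) : c * c = 1 := by
  obtain ⟨g, rfl⟩ := hc
  rw [conj_mul, S.hz, mul_one, mul_inv_cancel]

theorem conj_ne_one {c : L} (hc : ∃ g, g * z * g⁻¹ = c) : c ≠ 1 := by
  obtain ⟨g, rfl⟩ := hc
  exact fun h => S.hz1 (conj_eq_one_iff.mp h)

theorem conj_mem_iff {g x : L} :
    g⁻¹ * x * g ∈ (R : Subgroup L) ↔ x * (g * z * g⁻¹) = g * z * g⁻¹ * x := by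
  rw [S.mem]
  constructor
  · intro h
    calc x * (g * z * g⁻¹) = g * (g⁻¹ * x * g * z) * g⁻¹ := by group
      _ = g * (z * (g⁻¹ * x * g)) * g⁻¹ := by rw [h]
      _ = _ := by group
  · intro h
    calc g⁻¹ * x * g * z = g⁻¹ * (x * (g * z * g⁻¹)) * g := by group
      _ = g⁻¹ * (g * z * g⁻¹ * x) * g := by rw [h]
      _ = _ := by group

theorem sq' {y : L} (hy : ∃ g, g * z * g⁻¹ = y) {a : L} (ha : a * y = y * a) :
    a * a = 1 ∨ a * a = y := by
  obtain ⟨g, rfl⟩ := hy
  have e : a * a = g * (g⁻¹ * a * g * (g⁻¹ * a * g)) * g⁻¹ := by group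
  rcases S.sq (S.conj_mem_iff.mpr ha) with h | h
  · left; rw [e, h]; group
  · right; rw [e, h]

theorem comm' {y : L} (hy : ∃ g, g * z * g⁻¹ = y) {a b : L} (ha : a * y = y * a)
    (hb : b * y = y * b) : b * a = a * b ∨ b * a = a * b * y := by
  obtain ⟨g, rfl⟩ := hy
  have e : b * a = g * (g⁻¹ * b * g * (g⁻¹ * a * g)) * g⁻¹ := by group
  rcases S.comm (S.conj_mem_iff.mpr ha) (S.conj_mem_iff.mpr hb) with h | h
  · left; rw [e, h]; group
  · right; rw [e, h]; group

/-- The centraliser of two different conjugates of `z` has exponent two. -/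
theorem inf_elementary {c c' : L} (hc : ∃ g, g * z * g⁻¹ = c) (hc' : ∃ g, g * z * g⁻¹ = c')
    (hne : c ≠ c') {a : L} (ha : a * c = c * a) (ha' : a * c' = c' * a) :
    a * a = 1 ∧ ∀ b, b * c = c * b → b * c' = c' * b → b * a = a * b := by
  refine ⟨?_, fun b hb hb' => ?_⟩
  · rcases S.sq' hc ha with h | h
    · exact h
    · rcases S.sq' hc' ha' with h' | h'
      · exact h'
      · exact absurd (h.symm.trans h') hne
  · rcases S.comm' hc ha hb with h | h
    · exact h
    · rcases S.comm' hc' ha' hb' with h' | h'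
      · exact h'
      · exact absurd (mul_left_cancel (h.symm.trans h')) hne

theorem comm_two {c c' : L} (hc : ∃ g, g * z * g⁻¹ = c) (hc' : ∃ g, g * z * g⁻¹ = c')
    (hne : c ≠ c') (h : c' * c = c * c') {a : L} (ha : a * c = c * a) (hna : ¬ a * c' = c' * a) :
    a * c' * a⁻¹ = c' * c := by
  rcases S.comm' hc h ha with h' | h'
  · exact absurd h' hna
  · rw [h', mul_inv_eq_iff_eq_mul, mul_assoc, mul_assoc, ha]

/-- A conjugate of `z` in `R`, other than `z`, is not central in `R`. -/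
theorem exists_moving {c : L} (hc : Other R z c) :
    ∃ a ∈ (R : Subgroup L), a * c * a⁻¹ = c * z := by
  obtain ⟨⟨g, rfl⟩, hne, hcR⟩ := hc
  by_cases h : ∀ a ∈ (R : Subgroup L), a * (g * z * g⁻¹) = g * z * g⁻¹ * a
  · exfalso
    obtain ⟨n, hn, hn'⟩ := Fusion.burnside_fusion_centralizer R (g := g)
      (mem_centralizer_iff.mpr fun a ha => S.mem.mp ha) (mem_centralizer_iff.mpr h)
    exact hne (hn'.symm.trans (mul_inv_eq_iff_eq_mul.mpr (S.mem.mp (S.nrm hn))))
  · push Not at h
    obtain ⟨a, ha, ha'⟩ := h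
    exact ⟨a, ha, S.comm_two S.conj_self ⟨g, rfl⟩ (Ne.symm hne) (S.mem.mp hcR) (S.mem.mp ha) ha'⟩

theorem exists_moving' {c : L} (hc : Other R z c) :
    ∃ b, b * c = c * b ∧ b * z * b⁻¹ = z * c := by
  obtain ⟨a, ha, ha'⟩ := S.exists_moving hc
  obtain ⟨⟨g, rfl⟩, hne, hcR⟩ := hc
  by_cases hno : ∀ b, b * (g * z * g⁻¹) = g * z * g⁻¹ * b → b ∈ (R : Subgroup L)
  · exfalso
    have hle : (R : Subgroup L).map (MulAut.conj g).toMonoidHom ≤ (R : Subgroup L) := by
      rintro _ ⟨x, hx, rfl⟩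
      simp only [MulEquiv.coe_toMonoidHom, MulAut.conj_apply]
      exact hno _ (S.conj_mem_iff.mp (by rw [show g⁻¹ * (g * x * g⁻¹) * g = x by group]; exact hx))
    have heq : (R : Subgroup L).map (MulAut.conj g).toMonoidHom = (R : Subgroup L) :=
      eq_of_le_of_card_ge hle (le_of_eq (Nat.card_congr
        ((R : Subgroup L).equivMapOfInjective _ (MulEquiv.injective _)).toEquiv))
    rw [← heq] at ha
    obtain ⟨x, hx, rfl⟩ := ha
    simp only [MulEquiv.coe_toMonoidHom, MulAut.conj_apply] at ha'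
    have h1 : g * x * g⁻¹ * (g * z * g⁻¹) = g * z * g⁻¹ * (g * x * g⁻¹) :=
      S.conj_mem_iff.mp (by rw [show g⁻¹ * (g * x * g⁻¹) * g = x by group]; exact hx)
    rw [h1, mul_inv_cancel_right] at ha'
    exact S.hz1 (left_eq_mul.mp ha')
  · push Not at hno
    obtain ⟨b, hb, hbR⟩ := hno
    exact ⟨b, hb, S.comm_two ⟨g, rfl⟩ S.conj_self hne (S.mem.mp hcR).symm hb
      (fun h => hbR (S.mem.mpr h))⟩

/-- `z` and a second conjugate in `R` are interchanged inside `L`. -/
theorem exists_map {c : L} (hc : Other R z c) : ∃ a b : L, a ∈ (R : Subgroup L) ∧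
    a * c * a⁻¹ = c * z ∧ b * c = c * b ∧ b * z * b⁻¹ = z * c ∧ (a * b) * z * (a * b)⁻¹ = c := by
  obtain ⟨a, ha, ha'⟩ := S.exists_moving hc
  obtain ⟨b, hb, hb'⟩ := S.exists_moving' hc
  refine ⟨a, b, ha, ha', hb, hb', ?_⟩
  calc (a * b) * z * (a * b)⁻¹ = a * (b * z * b⁻¹) * a⁻¹ := by group
    _ = a * z * c * a⁻¹ := by rw [hb']; group
    _ = z * (a * c * a⁻¹) := by rw [S.mem.mp ha]; group
    _ = c := by rw [ha', S.mem.mp hc.2.2, ← mul_assoc, S.hz, one_mul]

theorem other_mul {c : L} (hc : Other R z c) : Other R z (c * z) := by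
  obtain ⟨a, ha, ha'⟩ := S.exists_moving hc
  obtain ⟨g, hg⟩ := hc.1
  refine ⟨⟨a * g, ?_⟩, ?_, mul_mem hc.2.2 S.self_mem⟩
  · rw [← ha', ← hg]; group
  · exact fun h => S.conj_ne_one hc.1 (mul_eq_right.mp h)

/-- The only conjugates of `z` in `R ∩ C(c)` are `z`, `c` and `zc`. -/
theorem eq_of_commute {c d : L} (hc : Other R z c) (hd : Other R z d) (h : d * c = c * d) :
    d = c ∨ d = z * c := by
  by_contra hno
  push Not at hno
  obtain ⟨hdc, hdzc⟩ := hno
  -- everything commuting with `z` and `c` commutes with `d`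
  have hD : ∀ x, x * z = z * x → x * c = c * x → x * d = d * x := fun x hx hxc =>
    (S.inf_elementary S.conj_self hc.1 (Ne.symm hc.2.1) (S.mem.mp hd.2.2) h).2 x hx hxc
  have hcz := S.mem.mp hc.2.2
  have hdz := S.mem.mp hd.2.2
  obtain ⟨b, hb, hb'⟩ := S.exists_moving' hc
  have hbd : ¬ b * d = d * b := by
    intro hbd
    have h1 := (S.inf_elementary hc.1 hd.1 (Ne.symm hdc) hcz.symm hdz.symm).2 b hb hbd
    rw [h1, mul_inv_cancel_right] at hb'
    exact S.conj_ne_one hc.1 (left_eq_mul.mp hb')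
  have e1 : b * d * b⁻¹ = d * c := S.comm_two hc.1 hd.1 (Ne.symm hdc) h hb hbd
  have hcc := S.sq_conj hc.1
  -- `zd` is a conjugate of `z` fixed by `b`
  have hbzd : b * (z * d) = z * d * b := by
    rw [← mul_inv_eq_iff_eq_mul]
    calc b * (z * d) * b⁻¹ = (b * z * b⁻¹) * (b * d * b⁻¹) := by group
      _ = z * (c * d) * c := by rw [hb', e1]; group
      _ = z * (d * c) * c := by rw [h]
      _ = z * d := by simp [mul_assoc, hcc]
  have hzd : Other R z (z * d) := by
    have := S.other_mul hd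
    rwa [← hdz]
  have hne : c ≠ z * d := fun e => hdzc (by rw [e, ← mul_assoc, S.hz, one_mul])
  have h2 : z * (z * d) = z * d * z := by
    rw [mul_assoc z d z, hdz]
  have h3 : c * (z * d) = z * d * c := by
    rw [← mul_assoc, hcz, mul_assoc, ← h, ← mul_assoc]
  have h4 := (S.inf_elementary hc.1 hzd.1 hne hcz.symm h2).2 b hb hbzd
  rw [h4, mul_inv_cancel_right] at hb'
  exact S.conj_ne_one hc.1 (left_eq_mul.mp hb')

/-- `z` is not isolated in `R`. -/
theorem exists_other : ∃ s, Other R z s := by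
  by_contra hno
  push Not at hno
  have hiso : ∀ g, g * z * g⁻¹ ∈ (R : Subgroup L) → g ∈ (R : Subgroup L) := fun g hg =>
    S.mem.mpr (mul_inv_eq_iff_eq_mul.mp (by_contra fun hne => hno _ ⟨⟨g, rfl⟩, hne, hg⟩))
  have h2 : ∀ P : Subgroup L, IsPGroup 2 P → z ∈ P → P ≤ (R : Subgroup L) := by
    intro P hP hzP
    obtain ⟨Q, hQ⟩ := hP.exists_le_sylow
    obtain ⟨h, rfl⟩ := MulAction.exists_smul_eq L R Q
    have hh : h ∈ (R : Subgroup L) := by
      apply hiso
      rw [S.mem]
      exact (S.conj_mem_iff.mp (mem_smul_sylow.mp (hQ hzP))).symm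
    intro x hx
    have := mem_smul_sylow.mp (hQ hx)
    simpa [mul_assoc] using mul_mem (mul_mem hh this) (inv_mem hh)
  have hctl : Fusion.ControlsElementFusion (R : Subgroup L) (R : Subgroup L) := by
    intro x hx g hgx
    set y := g * x * g⁻¹ with hy
    set C := centralizer ({y} : Set L) with hC
    have hzC : z ∈ C := mem_centralizer_singleton_iff.mpr (S.mem.mp hgx).symm
    have huC : g * z * g⁻¹ ∈ C := by
      rw [hC, mem_centralizer_singleton_iff]
      exact (S.conj_mem_iff.mp (by simpa [hy, mul_assoc] using hx :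
        g⁻¹ * y * g ∈ (R : Subgroup L))).symm
    have hzp : ∀ {v : C}, v * v = 1 → IsPGroup 2 (zpowers v) := by
      intro v hv a
      refine ⟨1, Subtype.ext ?_⟩
      obtain ⟨k, hk⟩ := mem_zpowers_iff.mp a.2
      rw [pow_one, SubmonoidClass.coe_pow, ← hk, pow_two, ← zpow_add, ← two_mul, zpow_mul,
        zpow_two, hv, one_zpow, OneMemClass.coe_one]
    obtain ⟨P, hP⟩ := (hzp (v := ⟨z, hzC⟩) (Subtype.ext S.hz)).exists_le_sylow
    obtain ⟨Q, hQ⟩ := (hzp (v := ⟨g * z * g⁻¹, huC⟩)
      (Subtype.ext (S.sq_conj ⟨g, rfl⟩))).exists_le_sylow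
    obtain ⟨c, hc⟩ := MulAction.exists_smul_eq C Q P
    have hPR := h2 _ (P.isPGroup'.map C.subtype) ⟨_, hP (mem_zpowers _), rfl⟩
    have h3 : c * ⟨g * z * g⁻¹, huC⟩ * c⁻¹ ∈ P := by
      rw [← hc, ← SetLike.mem_coe]
      exact ⟨_, hQ (mem_zpowers _), rfl⟩
    have h4 := hPR ⟨_, h3, rfl⟩
    refine ⟨c * g, hiso _ ?_, ?_⟩
    · have e : (c : L) * g * z * ((c : L) * g)⁻¹ = (c : L) * (g * z * g⁻¹) * (c : L)⁻¹ := by group
      rw [e]; exact h4
    · calc (c : L) * g * x * ((c : L) * g)⁻¹ = (c : L) * y * (c : L)⁻¹ := by rw [hy]; group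
        _ = y := by rw [mem_centralizer_singleton_iff.mp c.2, mul_inv_cancel_right]
  have h4 := Fusion.commutator_inf_eq_of_controls R le_rfl hctl
  rw [S.perf, top_inf_eq] at h4
  have hzl : ⁅(R : Subgroup L), (R : Subgroup L)⁆ ≤ zpowers z := by
    rw [commutator_le]
    intro a ha b hb
    rcases S.comm ha hb with h | h
    · rw [commutatorElement_def, ← h]; simp [mul_assoc]
    · have e : ⁅a, b⁆ = (a * b) * (b * a)⁻¹ := by rw [commutatorElement_def]; group
      rw [e, h]
      have : (a * b) * (a * b * z)⁻¹ = (a * b) * z⁻¹ * (a * b)⁻¹ := by group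
      rw [this, inv_eq_of_mul_eq_one_right S.hz, S.mem.mp (mul_mem ha hb), mul_inv_cancel_right]
      exact mem_zpowers z
  have hRz : (R : Subgroup L) ≤ zpowers z := by
    rw [h4]; exact inf_le_left.trans hzl
  have hbot : ⁅(R : Subgroup L), (R : Subgroup L)⁆ = ⊥ := by
    rw [eq_bot_iff, commutator_le]
    intro a ha b hb
    rw [mem_bot, commutatorElement_eq_one_iff_mul_comm]
    obtain ⟨i, rfl⟩ := mem_zpowers_iff.mp (hRz ha)
    obtain ⟨j, rfl⟩ := mem_zpowers_iff.mp (hRz hb)
    rw [← zpow_add, ← zpow_add, add_comm]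
  have hzR := S.self_mem
  rw [h4, hbot, bot_inf_eq, mem_bot] at hzR
  exact S.hz1 hzR

/-- The centre of `R` is generated by `z`. -/
theorem eq_one_or_of_central {w : L} (hwR : w ∈ (R : Subgroup L))
    (hw : ∀ a ∈ (R : Subgroup L), a * w = w * a) : w = 1 ∨ w = z := by
  obtain ⟨s, hs⟩ := S.exists_other
  obtain ⟨t, ht, hts, hall⟩ : ∃ t, Other R z t ∧ (t = s ∨ ¬ t * s = s * t) ∧
      ((∃ x, Other R z x ∧ ¬ x * s = s * x) → ¬ t * s = s * t) := by
    by_cases h : ∃ x, Other R z x ∧ ¬ x * s = s * x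
    · obtain ⟨x, hx, hxs⟩ := h
      exact ⟨x, hx, Or.inr hxs, fun _ => hxs⟩
    · exact ⟨s, hs, Or.inl rfl, fun h' => absurd h' h⟩
  have hzs : z * s = s * z := (S.mem.mp hs.2.2).symm
  have htt := S.sq_conj ht.1
  have hss := S.sq_conj hs.1
  let D := four z s S.hz hss hzs
  have hn : ∀ x ∈ D, t * x * t ∈ D := by
    have htz := S.mem.mp ht.2.2
    have e1 : t * z * t = z := by rw [htz, mul_assoc, htt, mul_one]
    have e2 : t * s * t ∈ D := by
      rcases S.comm ht.2.2 hs.2.2 with h | h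
      · rw [← h, mul_assoc, htt, mul_one]; exact Or.inr (Or.inr (Or.inl rfl))
      · have : t * s * t = z * s := by
          rw [mul_assoc, h]
          simp only [← mul_assoc, htt, one_mul]
          exact hzs.symm
        rw [this]; exact Or.inr (Or.inr (Or.inr rfl))
    intro x hx
    rcases mem_four.mp hx with rfl | rfl | rfl | rfl
    · rw [mul_one, htt]; exact one_mem _
    · rw [e1]; exact Or.inr (Or.inl rfl)
    · exact e2
    · have : t * (z * s) * t = (t * z * t) * (t * s * t) := by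
        simp only [mul_assoc]; rw [← mul_assoc t t, htt, one_mul]
      rw [this, e1]; exact mul_mem (Or.inr (Or.inl rfl)) e2
  let K := adjoin D t htt hn
  have hzK : z ∈ K := Or.inl (Or.inr (Or.inl rfl))
  have hDR : ∀ x ∈ D, x ∈ (R : Subgroup L) ∧ x * s = s * x := by
    intro x hx
    rcases mem_four.mp hx with rfl | rfl | rfl | rfl
    · exact ⟨one_mem _, by simp⟩
    · exact ⟨S.self_mem, hzs⟩
    · exact ⟨hs.2.2, rfl⟩
    · exact ⟨mul_mem S.self_mem hs.2.2, by rw [← mul_assoc, ← hzs]⟩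
  -- every conjugate of `z` in `R` lies in `K`
  have hconj : ∀ x, Other R z x → x ∈ K := by
    intro x hx
    by_cases hxs : x * s = s * x
    · rcases S.eq_of_commute hs hx hxs with rfl | rfl
      · exact Or.inl (Or.inr (Or.inr (Or.inl rfl)))
      · exact Or.inl (Or.inr (Or.inr (Or.inr rfl)))
    · have hts' := hall ⟨x, hx, hxs⟩
      have hxe := S.comm_two S.conj_self hs.1 (Ne.symm hs.2.1) hzs.symm (S.mem.mp hx.2.2) hxs
      have hte := S.comm_two S.conj_self hs.1 (Ne.symm hs.2.1) hzs.symm (S.mem.mp ht.2.2) hts'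
      have hxt : x * t * s = s * (x * t) := by
        rw [← mul_inv_eq_iff_eq_mul]
        calc x * t * s * (x * t)⁻¹ = x * (t * s * t⁻¹) * x⁻¹ := by group
          _ = (x * s * x⁻¹) * z := by
            rw [hte, ← mul_assoc, mul_assoc, ← (S.mem.mp (inv_mem hx.2.2)), ← mul_assoc]
          _ = s := by rw [hxe, mul_assoc, S.hz, mul_one]
      have h1 := (S.inf_elementary S.conj_self hs.1 (Ne.symm hs.2.1)
        (S.mem.mp (mul_mem hx.2.2 ht.2.2)) hxt).1
      have hcom : x * t = t * x := by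
        calc x * t = (x * t)⁻¹ := (inv_eq_of_mul_eq_one_right h1).symm
          _ = t * x := by
            rw [mul_inv_rev, inv_eq_of_mul_eq_one_right htt,
              inv_eq_of_mul_eq_one_right (S.sq_conj hx.1)]
      refine Or.inr ?_
      rcases S.eq_of_commute ht hx hcom with rfl | rfl
      · rw [htt]; exact one_mem _
      · rw [mul_assoc, htt, mul_one]; exact Or.inr (Or.inl rfl)
  -- the central elements of `K`
  have hKZ : ∀ x ∈ K, (∀ a ∈ (R : Subgroup L), a * x = x * a) → x = 1 ∨ x = z := by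
    intro x hx hxc
    have hxs : x * s = s * x := (hxc s hs.2.2).symm
    have hx' : x ∈ D := by
      rcases hx with hx | hx
      · exact hx
      · rcases hts with rfl | hts
        · have : x = x * t * t := by rw [mul_assoc, htt, mul_one]
          rw [this]; exact mul_mem hx (Or.inr (Or.inr (Or.inl rfl)))
        · refine absurd ?_ hts
          have h1 := (hDR _ hx).2
          rw [← mul_assoc, ← hxs, mul_assoc, mul_assoc] at h1
          exact mul_left_cancel h1
    obtain ⟨a, ha, ha'⟩ := S.exists_moving hs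
    rcases mem_four.mp hx' with h | h | h | h
    · exact Or.inl h
    · exact Or.inr h
    · exfalso
      rw [← h, hxc a ha, mul_inv_cancel_right] at ha'
      exact S.hz1 (left_eq_mul.mp ha')
    · exfalso
      have h' : s = z * x := by rw [h, ← mul_assoc, S.hz, one_mul]
      have : a * s = s * a := by
        rw [h', ← mul_assoc, S.mem.mp ha, mul_assoc, hxc a ha, mul_assoc]
      rw [this, mul_inv_cancel_right] at ha'
      exact S.hz1 (left_eq_mul.mp ha')
  -- conjugates of central elements of `R`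
  have hclaim : ∀ v ∈ (R : Subgroup L), (∀ a ∈ (R : Subgroup L), a * v = v * a) →
      ∀ g, g * v * g⁻¹ ∈ (R : Subgroup L) → g * v * g⁻¹ * v⁻¹ ∈ K := by
    intro v hvR hv g hg
    set v' := g * v * g⁻¹ with hv'
    set C := centralizer ({v'} : Set L) with hC
    have hgR : ((g • R : Sylow 2 L) : Subgroup L) ≤ C := by
      intro x hx
      rw [hC, mem_centralizer_singleton_iff]
      have := hv _ (mem_smul_sylow.mp hx)
      calc x * v' = g * (g⁻¹ * x * g * v) * g⁻¹ := by rw [hv']; group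
        _ = g * (v * (g⁻¹ * x * g)) * g⁻¹ := by rw [this]
        _ = v' * x := by rw [hv']; group
    have hE : IsPGroup 2 (((R : Subgroup L) ⊓ C).subgroupOf C) :=
      (R.isPGroup'.to_le inf_le_left).comap_subtype
    obtain ⟨Q, hQ⟩ := hE.exists_le_sylow
    obtain ⟨c, rfl⟩ := MulAction.exists_smul_eq C ((g • R).subtype hgR) Q
    set h := (c : L) * g with hh
    have hEy : ∀ e ∈ (R : Subgroup L), e * v' = v' * e → e * (h * z * h⁻¹) = h * z * h⁻¹ * e := by
      intro e he hev
      have heC : e ∈ C := mem_centralizer_singleton_iff.mpr hev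
      have h1 := hQ (show (⟨e, heC⟩ : C) ∈ ((R : Subgroup L) ⊓ C).subgroupOf C from ⟨he, heC⟩)
      rw [Sylow.smul_subtype, Sylow.coe_subtype, mem_subgroupOf, Submonoid.smul_def,
        ← mul_smul] at h1
      exact S.conj_mem_iff.mp (mem_smul_sylow.mp h1)
    have hhv : h * v * h⁻¹ = v' := by
      calc h * v * h⁻¹ = (c : L) * v' * (c : L)⁻¹ := by rw [hh, hv']; group
        _ = v' := by rw [mem_centralizer_singleton_iff.mp c.2, mul_inv_cancel_right]
    have hzv' : z * v' = v' * z := (S.mem.mp hg).symm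
    have hy : h * z * h⁻¹ ∈ (R : Subgroup L) := S.mem.mpr (hEy z S.self_mem hzv').symm
    by_cases hyz : h * z * h⁻¹ = z
    · rw [← hhv, hv h (S.mem.mpr (mul_inv_eq_iff_eq_mul.mp hyz)), mul_inv_cancel_right,
        mul_inv_cancel]
      exact one_mem _
    set y := h * z * h⁻¹ with hy'
    have hyO : Other R z y := ⟨⟨h, rfl⟩, hyz, hy⟩
    obtain ⟨a, b, ha, -, hb, hb', hab⟩ := S.exists_map hyO
    have hbv : b * v' = v' * b := by
      have := hv _ (S.conj_mem_iff.mpr hb)
      rw [← hhv]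
      calc b * (h * v * h⁻¹) = h * (h⁻¹ * b * h * v) * h⁻¹ := by group
        _ = h * (v * (h⁻¹ * b * h)) * h⁻¹ := by rw [this]
        _ = _ := by group
    have hr : (a * b)⁻¹ * h ∈ (R : Subgroup L) := by
      refine S.mem.mpr ?_
      calc (a * b)⁻¹ * h * z = (a * b)⁻¹ * (h * z * h⁻¹) * h := by group
        _ = (a * b)⁻¹ * (a * b * z * (a * b)⁻¹) * h := by rw [hab]
        _ = z * ((a * b)⁻¹ * h) := by group
    have hbvb : b * v * b⁻¹ = a⁻¹ * v' * a := by
      have h2 := hv _ hr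
      rw [← hhv]
      calc b * v * b⁻¹ = a⁻¹ * (a * b * (v * ((a * b)⁻¹ * h)) * h⁻¹) * a := by group
        _ = a⁻¹ * (a * b * ((a * b)⁻¹ * h * v) * h⁻¹) * a := by rw [h2]
        _ = _ := by group
    have hbzy : b⁻¹ * z * b = z * y := by
      calc b⁻¹ * z * b = b⁻¹ * ((b * z * b⁻¹) * y⁻¹) * b := by rw [hb']; group
        _ = z * (b⁻¹ * y⁻¹ * b) := by group
        _ = z * y⁻¹ := by
          rw [mul_assoc b⁻¹, (Commute.inv_right (hb : Commute b y)).symm.eq, inv_mul_cancel_left]
        _ = z * y := by rw [inv_eq_of_mul_eq_one_right (S.sq_conj hyO.1)]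
    rcases S.comm ha hg with hc | hc
    · have e : v = v' := by
        calc v = b⁻¹ * (b * v * b⁻¹) * b := by group
          _ = b⁻¹ * v' * b := by rw [hbvb, mul_assoc a⁻¹, hc, inv_mul_cancel_left]
          _ = v' := by rw [mul_assoc, ← hbv, inv_mul_cancel_left]
      rw [← e, mul_inv_cancel]; exact one_mem _
    · have e : v = v' * (z * y) := by
        calc v = b⁻¹ * (b * v * b⁻¹) * b := by group
          _ = b⁻¹ * (v' * z) * b := by
            rw [hbvb, mul_assoc a⁻¹, hc, mul_assoc a, inv_mul_cancel_left]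
          _ = (b⁻¹ * v' * b) * (b⁻¹ * z * b) := by group
          _ = v' * (z * y) := by rw [hbzy, mul_assoc b⁻¹, ← hbv, inv_mul_cancel_left]
      have hc1 : Commute v' (z * y) :=
        Commute.mul_right (hzv'.symm : Commute v' z) (hEy v' hg rfl : Commute v' y)
      rw [e, mul_inv_rev, ← mul_assoc, hc1.inv_right.eq, mul_inv_cancel_right]
      exact inv_mem (mul_mem hzK (hconj y hyO))
  -- transfer into `R ⧸ K`
  let K' := K.subgroupOf (R : Subgroup L)
  have hcomm : ∀ a b : ↥(R : Subgroup L), (a * b)⁻¹ * (b * a) ∈ K' := by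
    intro a b
    rw [mem_subgroupOf]
    simp only [Subgroup.coe_mul, Subgroup.coe_inv]
    rcases S.comm a.2 b.2 with h | h <;> rw [h] <;>
      first | (rw [inv_mul_cancel]; exact one_mem _) | (rw [inv_mul_cancel_left]; exact hzK)
  haveI : K'.Normal := ⟨fun x hx g => by
    have := mul_mem hx (hcomm g⁻¹ x)
    simpa [mul_assoc] using this⟩
  letI : CommGroup (↥(R : Subgroup L) ⧸ K') :=
    { (inferInstance : Group (↥(R : Subgroup L) ⧸ K')) with
      mul_comm := fun p q => by
        induction p using QuotientGroup.induction_on with | H a =>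
        induction q using QuotientGroup.induction_on with | H b =>
        exact QuotientGroup.eq.mpr (hcomm a b) }
  let φ : ↥(R : Subgroup L) →* ↥(R : Subgroup L) ⧸ K' := QuotientGroup.mk' K'
  have hkey := H39.transfer_eq_pow_of_map_eq φ ⟨w, hwR⟩ (fun k a h => by
    rw [← map_pow]
    refine QuotientGroup.eq_iff_div_mem.mpr ?_
    rw [div_eq_mul_inv, mem_subgroupOf]
    simp only [Subgroup.coe_mul, Subgroup.coe_inv, Subgroup.coe_pow]
    have := hclaim _ (pow_mem hwR k) (fun b hb => (Commute.pow_right (hw b hb) k).eq) a⁻¹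
      (by simpa using h)
    simpa using this)
  have h1 : MonoidHom.transfer φ = 1 := by
    rw [← MonoidHom.ker_eq_top_iff, eq_top_iff, ← S.perf]
    exact Abelianization.commutator_subset_ker _
  rw [h1, MonoidHom.one_apply] at hkey
  obtain ⟨n, hn'⟩ := R.isPGroup' ⟨w, hwR⟩
  have h2 : φ ⟨w, hwR⟩ = 1 := by
    refine orderOf_eq_one_iff.mp (Nat.eq_one_of_dvd_coprimes (a := 2 ^ n) ?_
      (orderOf_dvd_of_pow_eq_one (by rw [← map_pow, hn', map_one]))
      (orderOf_dvd_of_pow_eq_one hkey.symm))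
    exact ((Nat.Prime.coprime_iff_not_dvd Nat.prime_two).mpr R.not_dvd_index).pow_left n
  exact hKZ w (mem_subgroupOf.mp ((QuotientGroup.eq_one_iff _).mp h2)) hw

/-- `R` is dihedral of order eight. -/
theorem nonempty_dihedral : Nonempty (↥(R : Subgroup L) ≃* DihedralGroup 4) := by
  obtain ⟨s, hs⟩ := S.exists_other
  obtain ⟨a, ha, ha'⟩ := S.exists_moving hs
  have hzs : z * s = s * z := (S.mem.mp hs.2.2).symm
  have hss := S.sq_conj hs.1
  have hcom : ∀ {x y : L}, x ∈ (R : Subgroup L) → x * s = s * x → y ∈ (R : Subgroup L) →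
      y * s = s * y → y * x = x * y := fun {x y} hx hxs hy hys =>
    (S.inf_elementary S.conj_self hs.1 (Ne.symm hs.2.1) (S.mem.mp hx) hxs).2 y (S.mem.mp hy) hys
  have hmove : ∀ {x : L}, x ∈ (R : Subgroup L) → ¬ x * s = s * x → (a⁻¹ * x) * s = s * (a⁻¹ * x) := by
    intro x hx hxs
    have hxe := S.comm_two S.conj_self hs.1 (Ne.symm hs.2.1) hzs.symm (S.mem.mp hx) hxs
    rw [← mul_inv_eq_iff_eq_mul]
    calc a⁻¹ * x * s * (a⁻¹ * x)⁻¹ = a⁻¹ * (x * s * x⁻¹) * a := by group
      _ = a⁻¹ * (a * s * a⁻¹) * a := by rw [hxe, ha']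
      _ = s := by group
  let D := four z s S.hz hss hzs
  have has : ¬ a * s = s * a := fun h => by
    rw [h, mul_inv_cancel_right] at ha'; exact S.hz1 (left_eq_mul.mp ha')
  have hD : ∀ d ∈ (R : Subgroup L), d * s = s * d → d ∈ D := by
    intro d hd hds
    have hcen : ∀ e, e ∈ (R : Subgroup L) → e * s = s * e → a * e = e * a →
        ∀ x ∈ (R : Subgroup L), x * e = e * x := by
      intro e he hes hae x hx
      by_cases hxs : x * s = s * x
      · exact hcom he hes hx hxs
      · have h1 := hcom he hes (mul_mem (inv_mem ha) hx) (hmove hx hxs)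
        calc x * e = a * (a⁻¹ * x * e) := by group
          _ = a * (e * (a⁻¹ * x)) := by rw [h1]
          _ = e * x := by rw [← mul_assoc, hae]; group
    rcases S.comm hd ha with h | h
    · rcases S.eq_one_or_of_central hd (hcen d hd hds h) with h' | h' <;> subst h'
      · exact one_mem _
      · exact Or.inr (Or.inl rfl)
    · have hds' : a * (d * s) = d * s * a := by
        calc a * (d * s) = d * a * (z * s) := by rw [← mul_assoc, h, mul_assoc]
          _ = d * (a * (s * z)) := by rw [hzs, mul_assoc]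
          _ = d * (a * s * a⁻¹ * z * a) := by
            rw [mul_assoc (a * s * a⁻¹), ← S.mem.mp ha]; group
          _ = d * s * a := by rw [ha', mul_assoc s z z, S.hz, mul_one, mul_assoc]
      have hdd : d = d * s * s := by rw [mul_assoc, hss, mul_one]
      have hsD : s ∈ D := Or.inr (Or.inr (Or.inl rfl))
      rw [hdd]
      refine mul_mem ?_ hsD
      rcases S.eq_one_or_of_central (mul_mem hd hs.2.2)
        (hcen _ (mul_mem hd hs.2.2) (by rw [← mul_assoc s, ← hds]) hds')
        with h' | h' <;> rw [h']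
      · exact one_mem _
      · exact Or.inr (Or.inl rfl)
  obtain ⟨r, hr, hrs, hrr⟩ : ∃ r ∈ (R : Subgroup L), r * s * r⁻¹ = s * z ∧ r * r = z := by
    rcases S.sq ha with h | h
    · refine ⟨a * s, mul_mem ha hs.2.2, ?_, ?_⟩
      · rw [← ha']; group
      · calc a * s * (a * s) = a * s * a⁻¹ * (a * a) * s := by group
          _ = z := by rw [h, mul_one, ha', ← hzs, mul_assoc, hss, mul_one]
    · exact ⟨a, ha, ha', h⟩
  have hDR : D ≤ (R : Subgroup L) := by
    intro x hx
    rcases mem_four.mp hx with rfl | rfl | rfl | rfl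
    exacts [one_mem _, S.self_mem, hs.2.2, mul_mem S.self_mem hs.2.2]
  have hDs : ∀ x ∈ D, x * s = s * x := by
    intro x hx
    rcases mem_four.mp hx with rfl | rfl | rfl | rfl
    exacts [by simp, hzs, rfl, by rw [← mul_assoc, ← hzs]]
  have hcard : Nat.card ↥(R : Subgroup L) = 2 * 4 := by
    have h4 : Nat.card D = 4 := by
      have : (D : Set L) = {1, z, s, z * s} := by ext x; exact mem_four
      rw [← SetLike.coe_sort_coe, Nat.card_coe_set_eq, this, Set.ncard_eq_succ]
      refine ⟨1, {z, s, z * s}, ?_, rfl, ?_⟩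
      · simp only [Set.mem_insert_iff, Set.mem_singleton_iff, not_or]
        refine ⟨S.hz1.symm, (S.conj_ne_one hs.1).symm, fun h => hs.2.1 ?_⟩
        rw [← one_mul s, ← S.hz, mul_assoc, ← h, mul_one]
      · rw [Set.ncard_eq_three]
        exact ⟨z, s, z * s, Ne.symm hs.2.1, fun h => S.conj_ne_one hs.1 (left_eq_mul.mp h),
          fun h => S.hz1 (right_eq_mul.mp h), rfl⟩
    have h2 : (D.subgroupOf (R : Subgroup L)).index = 2 := by
      rw [index_eq_two_iff]
      refine ⟨⟨a, ha⟩⁻¹, fun b => ?_⟩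
      simp only [mem_subgroupOf, Subgroup.coe_mul, Subgroup.coe_inv]
      by_cases hb : (b : L) * s = s * b
      · refine Or.inr ⟨hD _ b.2 hb, fun h => has ?_⟩
        have h3 := mul_mem (inv_mem h) (hD _ b.2 hb)
        have := hDs _ h3
        simpa [mul_assoc] using this
      · refine Or.inl ⟨hD _ (mul_mem b.2 (inv_mem ha)) ?_, fun h => hb (hDs _ h)⟩
        have h3 := hmove b.2 hb
        rw [← mul_inv_eq_iff_eq_mul]
        have hbe := S.comm_two S.conj_self hs.1 (Ne.symm hs.2.1) hzs.symm (S.mem.mp b.2) hb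
        calc (b : L) * a⁻¹ * s * ((b : L) * a⁻¹)⁻¹
            = (b : L) * (a⁻¹ * (a * s * a⁻¹ * z⁻¹) * a) * (b : L)⁻¹ := by rw [ha']; group
          _ = (b : L) * (s * (a⁻¹ * z⁻¹ * a)) * (b : L)⁻¹ := by group
          _ = (b : L) * (s * z⁻¹) * (b : L)⁻¹ := by
            rw [mul_assoc a⁻¹, ← (Commute.inv_right (S.mem.mp ha : Commute a z)).eq,
              inv_mul_cancel_left]
          _ = ((b : L) * s * (b : L)⁻¹) * ((b : L) * z * (b : L)⁻¹)⁻¹ := by group
          _ = s := by rw [hbe, S.mem.mp b.2, mul_inv_cancel_right, mul_inv_cancel_right]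
    rw [← card_mul_index (D.subgroupOf (R : Subgroup L)), h2,
      Nat.card_congr (subgroupOfEquivOfLe hDR).toEquiv, h4]
  haveI : Fact (Nat.Prime 2) := ⟨Nat.prime_two⟩
  have hr4 : orderOf (⟨r, hr⟩ : ↥(R : Subgroup L)) = 4 :=
    orderOf_eq_prime_pow (p := 2) (n := 1)
      (by simpa [Subtype.ext_iff, pow_two, hrr] using S.hz1)
      (by simp [Subtype.ext_iff, pow_succ, hrr, mul_assoc, S.hz])
  refine PGroups.nonempty_mulEquiv_dihedral (c := ⟨r, hr⟩) (y := ⟨s, hs.2.2⟩) hr4 ?_
    (Subtype.ext (by rw [Subgroup.coe_pow, pow_two]; exact hss)) (Subtype.ext ?_) hcard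
  · intro h
    obtain ⟨k, hk⟩ := mem_zpowers_iff.mp h
    have hk' : r ^ k = s := by simpa using congrArg Subtype.val hk
    have : r * s = s * r := by rw [← hk', ← zpow_one_add, ← zpow_add_one, add_comm]
    rw [this, mul_inv_cancel_right] at hrs
    exact S.hz1 (left_eq_mul.mp hrs)
  · simp only [Subgroup.coe_mul, Subgroup.coe_inv]
    rw [inv_eq_of_mul_eq_one_right hss]
    refine eq_inv_of_mul_eq_one_left ?_
    calc s * r * s * r = s * (r * s * r⁻¹) * (r * r) := by group
      _ = 1 := by rw [hrs, hrr, ← mul_assoc, hss, one_mul, S.hz]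

end Setting

end Cfsg.Agent.H92.SmallFrattini
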