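import Cfsg.Agent.H92.TTThree

/-!
Groups with a normal 3-subgroup of index two acting faithfully on a 2-group as products of
3-transpositions: they have order 6 or 54.
-/

set_option autoImplicit false

namespace Cfsg.Agent.H92.TTWidth

open Cfsg Cfsg.Agent.H92.TTThree

section model

variable {Y : Type*} [Group Y]

theorem comm_pow {p q w : Y} (hp : w * p = p * w) (h : p * q * p⁻¹ = w * q) :
    ∀ n : ℕ, p ^ n * q * (p ^ n)⁻¹ = w ^ n * q := by
  intro n
  induction n with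
  | zero => simp
  | succ n ih =>
    calc p ^ (n + 1) * q * (p ^ (n + 1))⁻¹ = p ^ n * (p * q * p⁻¹) * (p ^ n)⁻¹ := by
          rw [pow_succ]; group
      _ = p ^ n * w * q * (p ^ n)⁻¹ := by rw [h]; group
      _ = w * p ^ n * q * (p ^ n)⁻¹ := by
          rw [((show Commute w p from hp).pow_right n).eq]
      _ = w ^ (n + 1) * q := by rw [mul_assoc w, mul_assoc w, ih, pow_succ']; group

theorem commutator_cube {p q : Y} (hp : p * q * p⁻¹ * q⁻¹ * p = p * (p * q * p⁻¹ * q⁻¹)) (hp3 : p ^ 3 = 1) :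
    (p * q * p⁻¹ * q⁻¹) ^ 3 = 1 := by
  have h := comm_pow (q := q) (w := p * q * p⁻¹ * q⁻¹) hp (by group) 3
  rw [hp3, one_mul, inv_one, mul_one] at h
  exact mul_eq_right.1 h.symm

theorem mul_cube {r s w : Y} (hr : r ^ 3 = 1) (hs : s ^ 3 = 1) (hw : w ^ 3 = 1)
    (hsr : s * r = w * (r * s)) (hwr : w * r = r * w) (hws : w * s = s * w) : (r * s) ^ 3 = 1 := by
  have e : ∀ t, s * (r * t) = w * (r * (s * t)) := fun t => by
    rw [← mul_assoc, hsr]; simp only [mul_assoc]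
  have cr : ∀ t, r * (w * t) = w * (r * t) := fun t => by rw [← mul_assoc, ← hwr, mul_assoc]
  have cs : ∀ t, s * (w * t) = w * (s * t) := fun t => by rw [← mul_assoc, ← hws, mul_assoc]
  have c3 : ∀ {q : Y}, q ^ 3 = 1 → ∀ t, q * (q * (q * t)) = t := fun {q} hq t => by
    rw [← mul_assoc, ← mul_assoc, show q * q * q = 1 by rw [← hq, pow_succ, pow_two], one_mul]
  rw [show (r * s) ^ 3 = r * (s * (r * (s * (r * (s * 1))))) by
    rw [pow_succ, pow_two, mul_one]; simp only [mul_assoc]]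
  simp only [e, cr, cs, c3 hw, c3 hr, c3 hs]

variable [Finite Y]

/-- two generators of order three with central commutator -/
theorem heisenberg {a b z : Y} (ha : a ^ 3 = 1) (hb : b ^ 3 = 1) (hz : z = a * b * a⁻¹ * b⁻¹)
    (hza : z * a = a * z) (hzb : z * b = b * z) :
    Nat.card (Subgroup.closure ({a, b} : Set Y)) ≤ 27 ∧ z ∈ Subgroup.closure ({a, b} : Set Y) ∧
      ∀ p ∈ Subgroup.closure ({a, b} : Set Y), p ^ 3 = 1 := by
  have hz3 : z ^ 3 = 1 := by
    rw [hz]; exact commutator_cube (by rw [← hz]; exact hza) ha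
  set R := Subgroup.closure ({a, b} : Set Y) with hR
  have haR : a ∈ R := Subgroup.subset_closure (by simp)
  have hbR : b ∈ R := Subgroup.subset_closure (by simp)
  have hzR : z ∈ R := by
    rw [hz]; exact mul_mem (mul_mem (mul_mem haR hbR) (inv_mem haR)) (inv_mem hbR)
  set U := Subgroup.zpowers b ⊔ Subgroup.zpowers z with hU
  have hbN : Subgroup.zpowers b ≤ Subgroup.normalizer (Subgroup.zpowers z : Set Y) := by
    refine le_trans ?_ (Subgroup.centralizer_le_normalizer _)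
    rw [Subgroup.zpowers_le, Subgroup.mem_centralizer_iff]
    rintro _ ⟨k, rfl⟩
    exact (Commute.zpow_left (show Commute z b from hzb) k).eq
  have hzU : z ∈ U := Subgroup.mem_sup_right (Subgroup.mem_zpowers z)
  have hbU : b ∈ U := Subgroup.mem_sup_left (Subgroup.mem_zpowers b)
  have hab : a * b * a⁻¹ = z * b := by rw [hz]; group
  have haN : Subgroup.zpowers a ≤ Subgroup.normalizer (U : Set Y) := by
    rw [Subgroup.zpowers_le]
    have hle : U.map (MulAut.conj a).toMonoidHom ≤ U := by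
      rw [hU, Subgroup.map_sup, sup_le_iff]
      constructor
      · rw [MonoidHom.map_zpowers, Subgroup.zpowers_le]
        show a * b * a⁻¹ ∈ U
        rw [hab]; exact mul_mem hzU hbU
      · rw [MonoidHom.map_zpowers, Subgroup.zpowers_le]
        show a * z * a⁻¹ ∈ U
        rw [← hza, mul_inv_cancel_right]; exact hzU
    refine Subgroup.mem_normalizer_iff.2 fun u => ⟨fun hu => hle ⟨u, hu, rfl⟩, fun hu => ?_⟩
    have heq : U.map (MulAut.conj a).toMonoidHom = U := Subgroup.eq_of_le_of_card_ge hle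
      (le_of_eq (Subgroup.card_map_of_injective (MulAut.conj a).injective).symm)
    obtain ⟨u', hu', he⟩ : a * u * a⁻¹ ∈ U.map (MulAut.conj a).toMonoidHom := by rw [heq]; exact hu
    change a * u' * a⁻¹ = a * u * a⁻¹ at he
    rwa [← mul_left_cancel (mul_right_cancel he)]
  have hRle : R ≤ Subgroup.zpowers a ⊔ U := (Subgroup.closure_le _).2 (by
    rintro y (rfl | rfl)
    · exact Subgroup.mem_sup_left (Subgroup.mem_zpowers _)
    · exact Subgroup.mem_sup_right hbU)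
  have hUle : Nat.card U ≤ 3 * 3 := (card_sup_le _ _ hbN).trans
    (Nat.mul_le_mul (card_zpowers_le (by norm_num) hb) (card_zpowers_le (by norm_num) hz3))
  refine ⟨(Subgroup.card_le_of_le hRle).trans ((card_sup_le _ _ haN).trans
    (Nat.mul_le_mul (card_zpowers_le (by norm_num) ha) hUle)), hzR, ?_⟩
  intro p hp
  have hp' : p ∈ ((Subgroup.zpowers a ⊔ U : Subgroup Y) : Set Y) := hRle hp
  rw [Subgroup.coe_mul_of_left_le_normalizer_right _ _ haN] at hp'
  obtain ⟨_, ⟨i, rfl⟩, v, hv, rfl⟩ := hp'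
  have hv' : v ∈ ((Subgroup.zpowers b ⊔ Subgroup.zpowers z : Subgroup Y) : Set Y) := hv
  rw [Subgroup.coe_mul_of_left_le_normalizer_right _ _ hbN] at hv'
  obtain ⟨_, ⟨j, rfl⟩, _, ⟨k, rfl⟩, rfl⟩ := hv'
  simp only
  have cz : ∀ (n : ℤ) {q : Y}, q ^ 3 = 1 → (q ^ n) ^ 3 = 1 := fun n {q} hq => by
    rw [← zpow_natCast, ← zpow_mul, mul_comm, zpow_mul, zpow_natCast, hq, one_zpow]
  have hzij : ∀ n : ℤ, Commute (z ^ n) (a ^ i) ∧ Commute (z ^ n) (b ^ j) := fun n =>
    ⟨(show Commute z a from hza).zpow_zpow n i, (show Commute z b from hzb).zpow_zpow n j⟩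
  -- the middle commutator
  obtain ⟨n, hn⟩ : ∃ n : ℤ, b ^ j * a ^ i = z ^ n * (a ^ i * b ^ j) := by
    obtain ⟨j', hj'⟩ : ∃ m : ℕ, b ^ j = b ^ m := by
      obtain ⟨m, hm⟩ : ∃ m : ℕ, (m : ℤ) = j % (3 : ℤ) := ⟨(j % 3).toNat, Int.toNat_of_nonneg (Int.emod_nonneg _ (by norm_num))⟩
      refine ⟨m, ?_⟩
      conv_lhs => rw [← Int.mul_ediv_add_emod j 3]
      rw [zpow_add, zpow_mul, show b ^ (3 : ℤ) = 1 by rw [show (3 : ℤ) = ((3 : ℕ) : ℤ) from rfl, zpow_natCast, hb],
        one_zpow, one_mul, ← hm, zpow_natCast]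
    obtain ⟨i', hi'⟩ : ∃ m : ℕ, a ^ i = a ^ m := by
      obtain ⟨m, hm⟩ : ∃ m : ℕ, (m : ℤ) = i % (3 : ℤ) := ⟨(i % 3).toNat, Int.toNat_of_nonneg (Int.emod_nonneg _ (by norm_num))⟩
      refine ⟨m, ?_⟩
      conv_lhs => rw [← Int.mul_ediv_add_emod i 3]
      rw [zpow_add, zpow_mul, show a ^ (3 : ℤ) = 1 by rw [show (3 : ℤ) = ((3 : ℕ) : ℤ) from rfl, zpow_natCast, ha],
        one_zpow, one_mul, ← hm, zpow_natCast]
    have h1 : a ^ i' * b * (a ^ i')⁻¹ = z ^ i' * b := comm_pow hza hab i'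
    have h2 : a ^ i' * b ^ j' * (a ^ i')⁻¹ = (z ^ i' * b) ^ j' := by rw [← conj_pow, h1]
    rw [((show Commute z b from hzb).pow_left i').mul_pow] at h2
    refine ⟨-((i' * j' : ℕ) : ℤ), ?_⟩
    rw [hi', hj', show a ^ i' * b ^ j' = (z ^ i') ^ j' * b ^ j' * a ^ i' by rw [← h2]; group, zpow_neg,
      zpow_natCast, ← pow_mul]
    group
  have hab3 : (a ^ i * b ^ j) ^ 3 = 1 := mul_cube (cz i ha) (cz j hb) (cz n hz3) hn
    ((hzij n).1.eq) ((hzij n).2.eq)
  rw [← mul_assoc, ((hzij k).1.symm.mul_left (hzij k).2.symm).mul_pow, hab3, cz k hz3, one_mul]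

/-- the triple of generators of a group of order 54 -/
structure Triple (x a b : Y) : Prop where
  sq : x * x = 1
  inva : x * a * x = a⁻¹
  invb : x * b * x = b⁻¹
  cubea : a ^ 3 = 1
  cubeb : b ^ 3 = 1
  ne : a * b * a⁻¹ * b⁻¹ ≠ 1
  coma : a * b * a⁻¹ * b⁻¹ * a = a * (a * b * a⁻¹ * b⁻¹)
  comb : a * b * a⁻¹ * b⁻¹ * b = b * (a * b * a⁻¹ * b⁻¹)
  comx : a * b * a⁻¹ * b⁻¹ * x = x * (a * b * a⁻¹ * b⁻¹)

theorem Triple.card_ge {x a b : Y} (h : Triple x a b) :
    54 ≤ Nat.card (Subgroup.closure ({x, a, b} : Set Y)) := by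
  obtain ⟨hxx, hxa, hxb, ha, hb, hne, hza, hzb, hzx⟩ := h
  set z := a * b * a⁻¹ * b⁻¹ with hz
  obtain ⟨-, hzR, hexp⟩ := heisenberg ha hb hz hza hzb
  have hxi : x⁻¹ = x := inv_eq_of_mul_eq_one_right hxx
  set R := Subgroup.closure ({a, b} : Set Y) with hR
  have hp : ∀ H : Subgroup Y, H ≤ R → IsPGroup 3 H := fun H hH g => ⟨1, Subtype.ext (by
    rw [Subgroup.coe_pow, pow_one]; exact hexp g (hH g.2))⟩
  have step : ∀ H K : Subgroup Y, H < K → K ≤ R → 3 * Nat.card H ≤ Nat.card K := by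
    intro H K hlt hK
    obtain ⟨m, hm⟩ := (hp H (hlt.le.trans hK)).exists_card_eq
    obtain ⟨n, hn⟩ := (hp K hK).exists_card_eq
    have hlt' : Nat.card H < Nat.card K := by
      rcases lt_or_eq_of_le (Subgroup.card_le_of_le hlt.le) with h | h
      · exact h
      · exact absurd (Subgroup.eq_of_le_of_card_ge hlt.le h.ge) hlt.ne
    rw [hm, hn] at hlt' ⊢
    rw [Nat.mul_comm, ← pow_succ]
    exact Nat.pow_le_pow_right (by norm_num) ((Nat.pow_lt_pow_iff_right (by norm_num)).1 hlt')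
  have haR : a ∈ R := Subgroup.subset_closure (by simp)
  have hbR : b ∈ R := Subgroup.subset_closure (by simp)
  have hza' : z ∉ Subgroup.zpowers a := by
    rintro ⟨k, hk⟩
    apply hne
    have e1 : x * z * x⁻¹ = z := by rw [← hzx, mul_inv_cancel_right]
    have e2 : x * z * x⁻¹ = z⁻¹ := by
      rw [← hk, ← conj_zpow, hxi, hxa, inv_zpow]
    rw [e1] at e2
    have h2 : z ^ 2 = 1 := by rw [pow_two]; nth_rewrite 2 [e2]; exact mul_inv_cancel z
    exact Cfsg.Agent.Components.eq_one_of_two_three h2 (hexp z hzR)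
  have h1 : 3 ≤ Nat.card (Subgroup.zpowers a) := by
    have := step ⊥ (Subgroup.zpowers a) (bot_lt_iff_ne_bot.2 fun h => hne (by
      rw [hz, Subgroup.zpowers_eq_bot.1 h]; group)) ((Subgroup.zpowers_le).2 haR)
    simpa using this
  have haz : Subgroup.zpowers a ⊔ Subgroup.zpowers z ≤ R :=
    sup_le ((Subgroup.zpowers_le).2 haR) ((Subgroup.zpowers_le).2 hzR)
  have h2 : 3 * 3 ≤ Nat.card ↥(Subgroup.zpowers a ⊔ Subgroup.zpowers z) :=
    (Nat.mul_le_mul_left 3 h1).trans (step _ _ (lt_of_le_of_ne le_sup_left fun h => hza' (by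
      rw [h]; exact Subgroup.mem_sup_right (Subgroup.mem_zpowers z))) haz)
  have h3 : 3 * (3 * 3) ≤ Nat.card R := (Nat.mul_le_mul_left 3 h2).trans (step _ _
    (lt_of_le_of_ne haz fun h => hne (by
      have hmem : b ∈ Subgroup.zpowers a ⊔ Subgroup.zpowers z := by rw [h]; exact hbR
      have hle : Subgroup.zpowers a ⊔ Subgroup.zpowers z ≤ Subgroup.centralizer ({a} : Set Y) :=
        sup_le ((Subgroup.zpowers_le).2 (Subgroup.mem_centralizer_singleton_iff.2 rfl))
          ((Subgroup.zpowers_le).2 (Subgroup.mem_centralizer_singleton_iff.2 hza))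
      have hc := Subgroup.mem_centralizer_singleton_iff.1 (hle hmem)
      rw [hz, ← hc]; group)) le_rfl)
  have hlt : R < Subgroup.closure ({x, a, b} : Set Y) := by
    refine lt_of_le_of_ne (Subgroup.closure_mono (by intro u hu; exact Set.mem_insert_of_mem _ hu)) fun h => ?_
    have hxR : x ∈ R := by rw [h]; exact Subgroup.subset_closure (by simp)
    have hx1 : x = 1 := Cfsg.Agent.Components.eq_one_of_two_three (by rw [pow_two, hxx]) (hexp x hxR)
    apply hne
    rw [hx1, one_mul, mul_one] at hxa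
    have h2 : a = 1 := Cfsg.Agent.Components.eq_one_of_two_three
      (by rw [pow_two]; nth_rewrite 2 [hxa]; exact mul_inv_cancel a) ha
    rw [hz, h2]; group
  obtain ⟨m, hm⟩ := Subgroup.card_dvd_of_le hlt.le
  have hlt' : Nat.card R < Nat.card (Subgroup.closure ({x, a, b} : Set Y)) := by
    rcases lt_or_eq_of_le (Subgroup.card_le_of_le hlt.le) with h | h
    · exact h
    · exact absurd (Subgroup.eq_of_le_of_card_ge hlt.le h.ge) hlt.ne
  have hm2 : 2 ≤ m := by
    rcases Nat.lt_or_ge m 2 with h | h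
    · exfalso; interval_cases m <;> omega
    · exact h
  rw [hm]
  exact le_trans (show 54 ≤ 27 * 2 by norm_num) (Nat.mul_le_mul h3 hm2)

theorem Triple.relations {x a b : Y} (h : Triple x a b) :
    (x * a) * (x * a) = 1 ∧ (x * b) * (x * b) = 1 ∧ x * (x * a) * x = (x * a) * x * (x * a) ∧
    x * (x * b) * x = (x * b) * x * (x * b) ∧ (x * a) * (x * b) * (x * a) = (x * b) * (x * a) * (x * b) ∧
    (x * ((x * a) * (x * b) * (x * a))) ^ 3 = 1 := by
  obtain ⟨hxx, hxa, hxb, ha, hb, hne, hza, hzb, hzx⟩ := h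
  obtain ⟨-, -, hexp⟩ := heisenberg ha hb rfl hza hzb
  have hR : ∀ {p q : Y}, p ∈ Subgroup.closure ({a, b} : Set Y) → q ∈ Subgroup.closure ({a, b} : Set Y) →
      (p * q) ^ 3 = 1 := fun hp hq => hexp _ (mul_mem hp hq)
  have haR : a ∈ Subgroup.closure ({a, b} : Set Y) := Subgroup.subset_closure (by simp)
  have hbR : b ∈ Subgroup.closure ({a, b} : Set Y) := Subgroup.subset_closure (by simp)
  have s : ∀ {p : Y}, x * p * x = p⁻¹ → x * p * (x * p) = 1 := fun {p} hp => by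
    rw [← mul_assoc, hp, inv_mul_cancel]
  have braid : ∀ {u w : Y}, u * u = 1 → w * w = 1 → (u * w) ^ 3 = 1 → u * w * u = w * u * w := by
    intro u w hu hw h
    have h4 : (u * w * u) * (w * u * w) = 1 := by rw [← h, pow_succ, pow_two]; group
    rw [eq_inv_of_mul_eq_one_left h4, mul_inv_rev, mul_inv_rev, inv_eq_of_mul_eq_one_right hu,
      inv_eq_of_mul_eq_one_right hw, mul_assoc]
  have e : x * a * (x * b) = a⁻¹ * b := by rw [← mul_assoc, hxa]
  refine ⟨s hxa, s hxb, braid hxx (s hxa) ?_, braid hxx (s hxb) ?_, braid (s hxa) (s hxb) ?_, ?_⟩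
  · rw [← mul_assoc, hxx, one_mul, ha]
  · rw [← mul_assoc, hxx, one_mul, hb]
  · rw [e]; exact hR (inv_mem haR) hbR
  · rw [show x * (x * a * (x * b) * (x * a)) = a * (x * b * x) * a by
      simp only [← mul_assoc, hxx, one_mul], hxb]
    exact hR (mul_mem haR (inv_mem hbR)) haR

end model

theorem top_of_triple {W : Type*} [Group W] [Finite W] {u c d : W} (hT : Triple u c d)
    (hW : Nat.card W ≤ 54) (H : Subgroup W) (h1 : u ∈ H) (h2 : u * c ∈ H) (h3 : u * d ∈ H) : H = ⊤ := by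
  refine Subgroup.eq_top_of_le_card _ ?_
  refine hW.trans (hT.card_ge.trans (Subgroup.card_le_of_le ((Subgroup.closure_le _).2 ?_)))
  rintro w (rfl | rfl | rfl)
  · exact h1
  · simpa [← mul_assoc, hT.sq] using mul_mem h1 h2
  · simpa [← mul_assoc, hT.sq] using mul_mem h1 h3

/-- two groups generated by such triples, of order at most 54, are isomorphic -/
theorem iso_of_triples {Y X : Type*} [Group Y] [Finite Y] [Group X] [Finite X] {x a b : Y} {x' a' b' : X}
    (h : Triple x a b) (h' : Triple x' a' b') (hY : Nat.card Y ≤ 54) (hX : Nat.card X ≤ 54) :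
    Nonempty (Y ≃* X) := by
  obtain ⟨r1, r2, r3, r4, r5, r6⟩ := h.relations
  obtain ⟨r1', r2', r3', r4', r5', r6'⟩ := h'.relations
  set Δ : Subgroup (Y × X) := Subgroup.closure {(x, x'), (x * a, x' * a'), (x * b, x' * b')} with hΔ
  have hΔc : Nat.card Δ ≤ 54 := three_bound (Prod.ext h.sq h'.sq) (Prod.ext r1 r1') (Prod.ext r2 r2')
    (Prod.ext r3 r3') (Prod.ext r4 r4') (Prod.ext r5 r5') (Prod.ext r6 r6')
  have hp1 : Function.Bijective ((MonoidHom.fst Y X).comp Δ.subtype) := by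
    have hsurj : Function.Surjective ((MonoidHom.fst Y X).comp Δ.subtype) := by
      rw [← MonoidHom.range_eq_top]
      exact top_of_triple h hY _ ⟨⟨(x, x'), Subgroup.subset_closure (by simp)⟩, rfl⟩
        ⟨⟨(x * a, x' * a'), Subgroup.subset_closure (by simp)⟩, rfl⟩
        ⟨⟨(x * b, x' * b'), Subgroup.subset_closure (by simp)⟩, rfl⟩
    refine (Nat.bijective_iff_surjective_and_card _).2 ⟨hsurj, le_antisymm (hΔc.trans ?_) (Nat.card_le_card_of_surjective _ hsurj)⟩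
    exact h.card_ge.trans (Subgroup.card_le_card_group _)
  have hp2 : Function.Bijective ((MonoidHom.snd Y X).comp Δ.subtype) := by
    have hsurj : Function.Surjective ((MonoidHom.snd Y X).comp Δ.subtype) := by
      rw [← MonoidHom.range_eq_top]
      exact top_of_triple h' hX _ ⟨⟨(x, x'), Subgroup.subset_closure (by simp)⟩, rfl⟩
        ⟨⟨(x * a, x' * a'), Subgroup.subset_closure (by simp)⟩, rfl⟩
        ⟨⟨(x * b, x' * b'), Subgroup.subset_closure (by simp)⟩, rfl⟩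
    refine (Nat.bijective_iff_surjective_and_card _).2 ⟨hsurj, le_antisymm (hΔc.trans ?_) (Nat.card_le_card_of_surjective _ hsurj)⟩
    exact h'.card_ge.trans (Subgroup.card_le_card_group _)
  exact ⟨(MulEquiv.ofBijective _ hp1).symm.trans (MulEquiv.ofBijective _ hp2)⟩

section action

variable {Y V : Type*} [Group Y] [Group V]

theorem four_identity (h2 : ∀ v : V, v * v = 1) (v p q r s t w : V) :
    v * p * q * (v * r * s) * (v * t * w) * (p * r * t) * (q * w * s) = v := by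
  letI : CommGroup V :=
    { (inferInstance : Group V) with
      mul_comm := fun u u' => by
        have hi : ∀ g : V, g⁻¹ = g := fun g => inv_eq_of_mul_eq_one_right (h2 g)
        have := hi (u * u')
        rw [mul_inv_rev, hi, hi] at this
        exact this.symm }
  calc v * p * q * (v * r * s) * (v * t * w) * (p * r * t) * (q * w * s)
      = (v * v) * (p * p) * (q * q) * (r * r) * (s * s) * (t * t) * (w * w) * v := by ac_rfl
    _ = v := by simp [h2]

/-- cubing on the moved part forces a fixed point -/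
theorem fix_of_comm {P : Subgroup Y} (σ : Y →* MulAut V) (h2 : ∀ v : V, v * v = 1) {x a b : Y}
    (hxa : x * a * x = a⁻¹) (hxb : x * b * x = b⁻¹) (hxx : x * x = 1)
    (hb3 : b ^ 3 = 1) (ha3 : a ^ 3 = 1)
    (hcond : ∀ i ∈ P, x * i * x = i⁻¹ → i ≠ 1 → ∀ u : V,
      u * σ x u * σ i (u * σ x u) * σ i (σ i (u * σ x u)) = 1)
    (haP : a ∈ P) (hbP : b ∈ P) (ha1 : a ≠ 1) (hb1 : b ≠ 1) (hq1 : b * a * b ≠ 1) (hq2 : b * a⁻¹ * b ≠ 1)
    {z : Y} (hz : z = a * b * a⁻¹ * b⁻¹) (hza : z * a = a * z) (hzb : z * b = b * z) (hzx : z * x = x * z)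
    {u : V} (hu : σ z u = u) : σ x u = u := by
  have comm : ∀ g : Y, z * g = g * z → ∀ w, σ z w = w → σ z (σ g w) = σ g w := fun g hg w hw => by
    rw [← MulAut.mul_apply, ← map_mul, hg, map_mul, MulAut.mul_apply, hw]
  have swap : ∀ w, σ z w = w → σ a (σ b w) = σ b (σ a w) := fun w hw => by
    rw [← MulAut.mul_apply, ← map_mul, ← MulAut.mul_apply, ← map_mul,
      show a * b = b * a * z by
        rw [mul_assoc, ← hza, ← mul_assoc, ← hzb, hz]; group,
      map_mul, MulAut.mul_apply, hw]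
  have cA : ∀ w, σ a (σ a (σ a w)) = w := fun w => by
    rw [← MulAut.mul_apply, ← map_mul, ← MulAut.mul_apply, ← map_mul,
      show a * a * a = 1 by rw [← ha3, pow_succ, pow_two], map_one, MulAut.one_apply]
  have cB : ∀ w, σ b (σ b (σ b w)) = w := fun w => by
    rw [← MulAut.mul_apply, ← map_mul, ← MulAut.mul_apply, ← map_mul,
      show b * b * b = 1 by rw [← hb3, pow_succ, pow_two], map_one, MulAut.one_apply]
  set v := u * σ x u with hv
  have hzv : σ z v = v := by rw [hv, map_mul, hu, comm x hzx u hu]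
  have zA : ∀ w, σ z w = w → σ z (σ a w) = σ a w := comm a hza
  have zB : ∀ w, σ z w = w → σ z (σ b w) = σ b w := comm b hzb
  have e1 := hcond a haP hxa ha1 u
  have e2 := hcond b hbP hxb hb1 u
  have e4 := hcond (b * a * b) (mul_mem (mul_mem hbP haP) hbP) (by
    rw [show x * (b * a * b) * x = x * b * (x * x) * a * (x * x) * b * x by rw [hxx]; group,
      show x * b * (x * x) * a * (x * x) * b * x = (x * b * x) * (x * a * x) * (x * b * x) by group, hxa, hxb]
    group) hq1 u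
  have hA2 : ∀ w, σ a⁻¹ w = σ a (σ a w) := fun w => by
    rw [← MulAut.mul_apply, ← map_mul, show a⁻¹ = a * a from inv_eq_of_mul_eq_one_right (by rw [← mul_assoc, ← ha3, pow_succ, pow_two])]
  have e3 := hcond (b * a⁻¹ * b) (mul_mem (mul_mem hbP (inv_mem haP)) hbP) (by
    rw [show x * (b * a⁻¹ * b) * x = x * b * (x * x) * a⁻¹ * (x * x) * b * x by rw [hxx]; group,
      show x * b * (x * x) * a⁻¹ * (x * x) * b * x = (x * b * x) * (x * a * x)⁻¹ * (x * b * x) by
        rw [mul_inv_rev, mul_inv_rev, inv_eq_of_mul_eq_one_right hxx]; group, hxa, hxb]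
    group) hq2 u
  rw [← hv] at e1 e2 e3 e4
  have q4 : ∀ w, σ z w = w → σ (b * a * b) w = σ a (σ b (σ b w)) := fun w hw => by
    rw [map_mul, map_mul, MulAut.mul_apply, MulAut.mul_apply, ← swap _ (zB _ hw)]
  have q3 : ∀ w, σ z w = w → σ (b * a⁻¹ * b) w = σ a (σ a (σ b (σ b w))) := fun w hw => by
    rw [map_mul, map_mul, MulAut.mul_apply, MulAut.mul_apply, hA2, ← swap _ (zA _ (zB _ hw)),
      ← swap _ (zB _ hw)]
  have zBBv := zB _ (zB _ hzv)
  have swap2 : ∀ w, σ z w = w → σ b (σ b (σ a w)) = σ a (σ b (σ b w)) := fun w hw => by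
    rw [← swap _ hw, ← swap _ (zB _ hw)]
  rw [q4 _ hzv, q4 _ (zA _ zBBv)] at e4
  rw [q3 _ hzv, q3 _ (zA _ (zA _ zBBv))] at e3
  rw [swap2 _ zBBv, cB] at e4
  rw [swap2 _ (zA _ zBBv), swap2 _ zBBv, cB, cA] at e3
  have e2a := congrArg (σ a) e2
  rw [map_mul, map_mul, map_one] at e2a
  have e2b := congrArg (σ a) e2a
  rw [map_mul, map_mul, map_one] at e2b
  have hv1 : v = 1 := by
    have := four_identity h2 v (σ a v) (σ a (σ a v)) (σ a (σ b v)) (σ a (σ a (σ b (σ b v))))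
      (σ a (σ b (σ b v))) (σ a (σ a (σ b v)))
    rw [e1, e4, e2a, e2b] at this
    have e3' : v * σ a (σ b v) * σ a (σ a (σ b (σ b v))) = 1 := by
      have hc : ∀ g g' : V, g * g' = g' * g := fun g g' => by
        have hi : ∀ g : V, g⁻¹ = g := fun g => inv_eq_of_mul_eq_one_right (h2 g)
        have := hi (g * g')
        rw [mul_inv_rev, hi, hi] at this
        exact this.symm
      rw [mul_assoc v, hc (σ a (σ b v)), ← mul_assoc]
      exact e3
    rw [e3', one_mul, one_mul, one_mul, one_mul] at this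
    exact this.symm
  rw [hv] at hv1
  calc σ x u = u * (u * σ x u) := by rw [← mul_assoc, h2, one_mul]
    _ = u := by rw [hv1, mul_one]

/-- the width one bound -/
theorem width_one_structure [Finite Y] (σ : Y →* MulAut V) (h2 : ∀ v : V, v * v = 1)
    (P : Subgroup Y) [P.Normal] (hP : IsPGroup 3 P) (hfaith : ∀ p ∈ P, σ p = 1 → p = 1)
    {x : Y} (hxx : x * x = 1) (hgenY : Subgroup.zpowers x ⊔ P = ⊤)
    (hgen : Subgroup.closure {i : Y | i ∈ P ∧ x * i * x = i⁻¹} = P) (hne : P ≠ ⊥)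
    (hI3 : ∀ i ∈ P, x * i * x = i⁻¹ → i ^ 3 = 1)
    (hcond : ∀ i ∈ P, x * i * x = i⁻¹ → i ≠ 1 → ∀ u : V,
      u * σ x u * σ i (u * σ x u) * σ i (σ i (u * σ x u)) = 1) :
    (Nat.card P = 3 ∧ ∃ a ∈ P, a ≠ 1 ∧ x * a * x = a⁻¹) ∨ (∃ a b, Triple x a b ∧ Nat.card Y ≤ 54) := by
  have hxi : x⁻¹ = x := inv_eq_of_mul_eq_one_right hxx
  have hx3 : ∀ {p : Y}, p ∈ P → p ^ 2 = 1 → p = 1 := fun hp h =>
    Cfsg.Agent.Components.eq_one_of_coprime_pow (n := 2) (by norm_num) hP hp h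
  have hcP : ∀ {p : Y}, p ∈ P → x * p * x ∈ P := fun {p} hp => by
    have := (inferInstance : P.Normal).conj_mem p hp x
    rwa [hxi] at this
  -- an inverted element from every element
  have hinvd : ∀ p : Y, x * (p⁻¹ * (x * p * x)) * x = (p⁻¹ * (x * p * x))⁻¹ := fun p => by
    rw [mul_inv_rev, mul_inv_rev, mul_inv_rev, hxi, inv_inv]
    calc x * (p⁻¹ * (x * p * x)) * x = x * p⁻¹ * x * p * (x * x) := by group
      _ = x * (p⁻¹ * x) * p := by rw [hxx]; group
  -- normal subgroups without inverted elements are central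
  have hcen : ∀ N : Subgroup Y, N.Normal → N ≤ P → (∀ i ∈ N, x * i * x = i⁻¹ → i = 1) →
      N ≤ Subgroup.center Y := by
    intro N hN hNP hni
    have hxN : x ∈ Subgroup.centralizer (N : Set Y) := Subgroup.mem_centralizer_iff.2 fun n hn => by
      have hq := hni (n⁻¹ * (x * n * x)) (mul_mem (inv_mem hn) (by
        have := hN.conj_mem n hn x; rwa [hxi] at this)) (hinvd n)
      have : x * n * x = n := (inv_mul_eq_one.1 hq).symm
      calc n * x = x * n * x * x := by rw [this]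
        _ = x * n := by rw [mul_assoc, hxx, mul_one]
    have hnC : (Subgroup.centralizer (N : Set Y)).Normal := inferInstance
    have hIC : P ≤ Subgroup.centralizer (N : Set Y) := by
      rw [← hgen, Subgroup.closure_le]
      rintro i ⟨hiP, hi⟩
      have h1 := mul_mem (inv_mem hxN) (hnC.conj_mem x hxN i)
      have hxI : x * i⁻¹ * x = i := by
        rw [← hi, show x * (x * i * x) * x = (x * x) * i * (x * x) by group, hxx, one_mul, mul_one]
      have h2' : x⁻¹ * (i * x * i⁻¹) = i := by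
        calc x⁻¹ * (i * x * i⁻¹) = x * i * x * i⁻¹ := by rw [hxi]; group
          _ = i⁻¹ * i⁻¹ := by rw [hi]
          _ = i := by
            rw [← mul_inv_rev]
            exact inv_eq_of_mul_eq_one_right (by rw [← hI3 i hiP hi, pow_succ, pow_two])
      rwa [h2'] at h1
    have htop : Subgroup.centralizer (N : Set Y) = ⊤ := by
      rw [eq_top_iff, ← hgenY]
      exact sup_le ((Subgroup.zpowers_le).2 hxN) hIC
    intro n hn
    exact Subgroup.mem_center_iff.2 fun g =>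
      ((Subgroup.mem_centralizer_iff.1 (show g ∈ Subgroup.centralizer (N : Set Y) by
        rw [htop]; exact Subgroup.mem_top g)) n hn).symm
  have hfix : ∀ g : Y, (∀ u, σ g u = u) → g ∈ P → g = 1 := fun g h hg =>
    hfaith g hg (MulEquiv.ext fun u => by rw [h u]; rfl)
  have hxmove : ¬ ∀ u, σ x u = u := by
    intro h
    apply hne
    rw [← hgen, eq_bot_iff, Subgroup.closure_le]
    rintro i ⟨hiP, hi⟩
    refine Subgroup.mem_bot.2 (hx3 hiP ?_)
    have hsx : σ x = 1 := MulEquiv.ext fun u => by rw [h u]; rfl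
    have h' := congrArg σ hi
    rw [map_mul, map_mul, hsx, one_mul, mul_one, map_inv] at h'
    refine hfaith _ (pow_mem hiP 2) ?_
    rw [map_pow, pow_two]
    nth_rewrite 2 [h']
    exact mul_inv_cancel _
  -- commuting inverted elements are dependent
  have hdep : ∀ a ∈ P, x * a * x = a⁻¹ → a ≠ 1 → ∀ b ∈ P, x * b * x = b⁻¹ → a * b = b * a →
      b ∈ Subgroup.zpowers a := by
    intro a haP hxa ha1 b hbP hxb hab
    by_contra hb
    apply hxmove
    intro u
    have ha3 := hI3 a haP hxa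
    have hb3 := hI3 b hbP hxb
    have hbb : ∀ {c : Y}, c ∈ Subgroup.zpowers a → c * (b * b) = 1 → False := fun {c} hc h => by
      apply hb
      rw [show b = (c * (b * b))⁻¹ * c * b ^ 3 by rw [pow_succ, pow_two]; group, h, hb3]
      simpa using hc
    refine fix_of_comm σ h2 hxa hxb hxx hb3 ha3 hcond haP hbP ha1 (fun h => hb (h ▸ one_mem _))
      (fun h => hbb (Subgroup.mem_zpowers a) (by rw [← mul_assoc, hab]; exact h))
      (fun h => hbb (inv_mem (Subgroup.mem_zpowers a)) (by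
        rw [← mul_assoc, show a⁻¹ * b = b * a⁻¹ from ((show Commute a b from hab).inv_left).eq]; exact h))
      (z := 1) (by rw [hab]; group) (by group) (by group) (by group) (by rw [map_one]; rfl)
  set N₁ := P ⊓ Subgroup.centralizer (P : Set Y) with hN₁
  have hN₁n : N₁.Normal := inferInstance
  by_cases h1 : ∃ a ∈ N₁, a ≠ 1 ∧ x * a * x = a⁻¹
  · obtain ⟨a, ⟨haP, haC⟩, ha1, hxa⟩ := h1
    left
    have hPa : P = Subgroup.zpowers a := by
      refine le_antisymm ?_ ((Subgroup.zpowers_le).2 haP)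
      conv_lhs => rw [← hgen]
      rw [Subgroup.closure_le]
      rintro i ⟨hiP, hi⟩
      exact hdep a haP hxa ha1 i hiP hi (Subgroup.mem_centralizer_iff.1 haC i hiP).symm
    refine ⟨?_, a, haP, ha1, hxa⟩
    rw [hPa, Nat.card_zpowers]
    exact orderOf_eq_prime (hI3 a haP hxa) ha1
  push Not at h1
  have hN₁c : N₁ ≤ Subgroup.center Y := hcen N₁ hN₁n inf_le_left fun i hi hxi' => by
    by_contra h; exact h1 i hi h hxi'
  -- the second centre
  set N₂ := P ⊓ (Subgroup.centralizer ((P.map (QuotientGroup.mk' N₁)) : Set (Y ⧸ N₁))).comap (QuotientGroup.mk' N₁) with hN₂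
  have hPbn : (P.map (QuotientGroup.mk' N₁)).Normal :=
    Subgroup.Normal.map inferInstance _ (QuotientGroup.mk'_surjective N₁)
  have hN₂n : N₂.Normal := inferInstance
  have hmemN₂ : ∀ {p : Y}, p ∈ N₂ → ∀ q ∈ P, p * q * p⁻¹ * q⁻¹ ∈ N₁ := by
    intro p hp q hq
    have := Subgroup.mem_centralizer_iff.1 hp.2 _ ⟨q, hq, rfl⟩
    rw [← QuotientGroup.eq_one_iff]
    show (QuotientGroup.mk' N₁) (p * q * p⁻¹ * q⁻¹) = 1
    rw [map_mul, map_mul, map_mul, ← this, map_inv, map_inv]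
    group
  obtain ⟨a, haN₂, ha1, hxa⟩ : ∃ a ∈ N₂, a ≠ 1 ∧ x * a * x = a⁻¹ := by
    by_contra h
    push Not at h
    have hN₂c : N₂ ≤ Subgroup.center Y := hcen N₂ hN₂n inf_le_left fun i hi hxi' => by
      by_contra h'; exact h i hi h' hxi'
    have hle : N₂ ≤ N₁ := fun p hp => ⟨hp.1, Subgroup.mem_centralizer_iff.2 fun q _ =>
      Subgroup.mem_center_iff.1 (hN₂c hp) q⟩
    by_cases hPN : P ≤ N₁
    · apply hne
      rw [← hgen, eq_bot_iff, Subgroup.closure_le]
      rintro i ⟨hiP, hi⟩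
      by_contra hi1
      exact h1 i (hPN hiP) hi1 hi
    · have hPb : IsPGroup 3 (P.map (QuotientGroup.mk' N₁)) := hP.map _
      have : Fact (Nat.Prime 3) := ⟨Nat.prime_three⟩
      have hnt : Nontrivial (P.map (QuotientGroup.mk' N₁)) := by
        rw [Subgroup.nontrivial_iff_ne_bot]
        intro hb
        rw [Subgroup.map_eq_bot_iff, QuotientGroup.ker_mk'] at hb
        exact hPN hb
      have := hPb.center_nontrivial
      obtain ⟨⟨⟨_, p, hp, rfl⟩, hw⟩, hw1⟩ := exists_ne (1 : Subgroup.center (P.map (QuotientGroup.mk' N₁)))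
      have hpN₂ : p ∈ N₂ := ⟨hp, Subgroup.mem_centralizer_iff.2 fun q hq => by
        have := Subgroup.mem_center_iff.1 hw ⟨q, hq⟩
        exact congrArg Subtype.val this⟩
      exact hw1 (Subtype.ext (Subtype.ext ((QuotientGroup.eq_one_iff p).2 (hle hpN₂))))
  have haP : a ∈ P := haN₂.1
  have ha3 := hI3 a haP hxa
  have haN₁ : a ∉ N₁ := fun h => h1 a h ha1 hxa
  have hz : ∀ p ∈ P, a * p * a⁻¹ * p⁻¹ ∈ N₁ := hmemN₂ haN₂
  have hzc : ∀ p ∈ P, ∀ g : Y, a * p * a⁻¹ * p⁻¹ * g = g * (a * p * a⁻¹ * p⁻¹) := fun p hp g =>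
    (Subgroup.mem_center_iff.1 (hN₁c (hz p hp)) g).symm
  have hphi : ∀ p ∈ P, ∀ q ∈ P, a * (p * q) * a⁻¹ * (p * q)⁻¹ =
      (a * p * a⁻¹ * p⁻¹) * (a * q * a⁻¹ * q⁻¹) := fun p hp q hq => by
    calc a * (p * q) * a⁻¹ * (p * q)⁻¹ = a * p * a⁻¹ * (a * q * a⁻¹ * q⁻¹) * p⁻¹ := by group
      _ = a * p * a⁻¹ * ((a * q * a⁻¹ * q⁻¹) * p⁻¹) := by rw [mul_assoc]
      _ = _ := by rw [hzc q hq p⁻¹]; group
  have hz3 : ∀ p ∈ P, (a * p * a⁻¹ * p⁻¹) ^ 3 = 1 := fun p hp =>
    commutator_cube (hzc p hp a) ha3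
  -- every value is taken on an inverted element
  have hval : ∀ p ∈ P, ∃ i ∈ P, x * i * x = i⁻¹ ∧ a * i * a⁻¹ * i⁻¹ = a * p * a⁻¹ * p⁻¹ := by
    intro p hp
    refine ⟨_, mul_mem (inv_mem hp) (hcP hp), hinvd p, ?_⟩
    set z := a * p * a⁻¹ * p⁻¹ with hzdef
    have hzx : x * z * x = z := by rw [← hzc p hp x, mul_assoc, hxx, mul_one]
    have h1' : a * (x * p * x) * a⁻¹ * (x * p * x)⁻¹ = z⁻¹ := by
      have e : a⁻¹ * (x * p * x) * a * (x * p * x)⁻¹ = z := by
        rw [← hzx, hzdef, ← hxa, mul_inv_rev, mul_inv_rev, hxi]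
        calc x * a * x * (x * p * x) * a * (x * (p⁻¹ * x))
            = x * a * (x * x) * p * (x * a * x) * p⁻¹ * x := by group
          _ = x * a * p * (x * a * x) * p⁻¹ * x := by rw [hxx, mul_one]
          _ = _ := by group
      calc a * (x * p * x) * a⁻¹ * (x * p * x)⁻¹
          = a * ((a⁻¹ * (x * p * x) * a * (x * p * x)⁻¹)⁻¹) * a⁻¹ := by group
        _ = z⁻¹ := by
          rw [e, show a * z⁻¹ = z⁻¹ * a from ((show Commute z a from hzc p hp a).inv_left).eq.symm]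
          group
    have h2' : a * p⁻¹ * a⁻¹ * (p⁻¹)⁻¹ = z⁻¹ := by
      calc a * p⁻¹ * a⁻¹ * (p⁻¹)⁻¹ = p⁻¹ * z⁻¹ * p := by rw [hzdef]; group
        _ = z⁻¹ := by
          rw [show p⁻¹ * z⁻¹ = z⁻¹ * p⁻¹ from ((show Commute z p from hzc p hp p).inv_inv).eq.symm]
          group
    rw [hphi _ (inv_mem hp) _ (hcP hp), h1', h2']
    calc z⁻¹ * z⁻¹ = z * ((z ^ 3)⁻¹) := by group
      _ = z := by rw [hz3 p hp, inv_one, mul_one]
  -- the value on a partner
  obtain ⟨b, hbP, hxb, hb1⟩ : ∃ b ∈ P, x * b * x = b⁻¹ ∧ a * b * a⁻¹ * b⁻¹ ≠ 1 := by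
    by_contra h
    push Not at h
    apply haN₁
    refine ⟨haP, Subgroup.mem_centralizer_iff.2 fun q hq => ?_⟩
    have hle : P ≤ Subgroup.centralizer ({a} : Set Y) := by
      rw [← hgen, Subgroup.closure_le]
      rintro i ⟨hiP, hi⟩
      exact Subgroup.mem_centralizer_singleton_iff.2
        (mul_inv_eq_iff_eq_mul.1 (mul_inv_eq_one.1 (h i hiP hi))).symm
    exact Subgroup.mem_centralizer_singleton_iff.1 (hle hq)
  set z₁ := a * b * a⁻¹ * b⁻¹ with hz₁
  have hne_of : ∀ {p : Y}, p ∈ P → x * p * x = p⁻¹ → a * p * a⁻¹ * p⁻¹ ≠ 1 →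
      p ≠ 1 ∧ p * a * p ≠ 1 ∧ p * a⁻¹ * p ≠ 1 := by
    intro p hp hxp hp1
    have hp3 := hI3 p hp hxp
    refine ⟨fun h => hp1 (by rw [h]; group), fun h => hp1 ?_, fun h => hp1 ?_⟩
    · have : a = p := by
        calc a = p⁻¹ * (p * a * p) * p⁻¹ := by group
          _ = p * (p ^ 3)⁻¹ := by rw [h]; group
          _ = p := by rw [hp3, inv_one, mul_one]
      rw [this]; group
    · have : a⁻¹ = p := by
        calc a⁻¹ = p⁻¹ * (p * a⁻¹ * p) * p⁻¹ := by group
          _ = p * (p ^ 3)⁻¹ := by rw [h]; group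
          _ = p := by rw [hp3, inv_one, mul_one]
      rw [← this]; group
  have hfixz : ∀ p ∈ P, a * p * a⁻¹ * p⁻¹ ≠ 1 → ∀ u, σ (a * p * a⁻¹ * p⁻¹) u = u → σ x u = u := by
    intro p hp hp1 u hu
    obtain ⟨i, hi, hxi', hiv⟩ := hval p hp
    rw [← hiv] at hu hp1
    obtain ⟨n1, n2, n3⟩ := hne_of hi hxi' hp1
    exact fix_of_comm σ h2 hxa hxi' hxx (hI3 i hi hxi') ha3 hcond haP hi ha1 n1 n2 n3 rfl
      (hzc i hi a) (hzc i hi i) (hzc i hi x) hu
  have hcyc : ∀ c ∈ P, a * c * a⁻¹ * c⁻¹ ∈ Subgroup.zpowers z₁ := by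
    intro c hc
    by_contra hc1
    set z₂ := a * c * a⁻¹ * c⁻¹ with hz₂
    apply hxmove
    intro u
    have hT : ∀ p ∈ P, a * p * a⁻¹ * p⁻¹ ≠ 1 →
        σ x (u * σ (a * p * a⁻¹ * p⁻¹) u * σ (a * p * a⁻¹ * p⁻¹) (σ (a * p * a⁻¹ * p⁻¹) u)) =
          u * σ (a * p * a⁻¹ * p⁻¹) u * σ (a * p * a⁻¹ * p⁻¹) (σ (a * p * a⁻¹ * p⁻¹) u) := by
      intro p hp hp1
      refine hfixz p hp hp1 _ ?_
      set w := a * p * a⁻¹ * p⁻¹ with hw
      have hw3 : σ w (σ w (σ w u)) = u := by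
        rw [← MulAut.mul_apply, ← map_mul, ← MulAut.mul_apply, ← map_mul,
          show w * w * w = 1 by rw [← hz3 p hp, ← hw, pow_succ, pow_two], map_one, MulAut.one_apply]
      rw [map_mul, map_mul, hw3]
      have hcV : ∀ g g' : V, g * g' = g' * g := fun g g' => by
        have hi : ∀ g : V, g⁻¹ = g := fun g => inv_eq_of_mul_eq_one_right (h2 g)
        have := hi (g * g')
        rw [mul_inv_rev, hi, hi] at this
        exact this.symm
      rw [hcV _ u, mul_assoc]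
    have hz21 : z₂ ≠ 1 := fun h => hc1 (h ▸ one_mem _)
    have hp12 : a * (b * c) * a⁻¹ * (b * c)⁻¹ = z₁ * z₂ := hphi b hbP c hc
    have hp122 : a * (b * (c * c)) * a⁻¹ * (b * (c * c))⁻¹ = z₁ * (z₂ * z₂) := by
      rw [hphi b hbP _ (mul_mem hc hc), hphi c hc c hc]
    have h12 : z₁ * z₂ ≠ 1 := fun h => hc1 (by
      rw [eq_inv_of_mul_eq_one_right h]; exact inv_mem (Subgroup.mem_zpowers _))
    have h122 : z₁ * (z₂ * z₂) ≠ 1 := fun h => hc1 (by
      have h3 : z₂ = (z₂ * z₂)⁻¹ * (z₂ ^ 3) := by rw [pow_succ, pow_two]; group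
      rw [h3, hz3 c hc, mul_one, eq_inv_of_mul_eq_one_right h, inv_inv]
      exact Subgroup.mem_zpowers _)
    have f1 := hT b hbP hb1
    have f2 := hT c hc hz21
    have f3 := hT (b * c) (mul_mem hbP hc) (by rw [hp12]; exact h12)
    have f4 := hT (b * (c * c)) (mul_mem hbP (mul_mem hc hc)) (by rw [hp122]; exact h122)
    rw [← hz₁] at f1
    rw [hp12] at f3
    rw [hp122] at f4
    rw [← hz₂] at f2
    have hcomm : ∀ w, σ z₁ (σ x w) = σ x (σ z₁ w) := fun w => by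
      rw [← MulAut.mul_apply, ← map_mul, hzc b hbP x, map_mul, MulAut.mul_apply]
    have f2a := congrArg (σ z₁) f2
    rw [hcomm] at f2a
    have f2b := congrArg (σ z₁) f2a
    rw [hcomm] at f2b
    have hc12 : z₁ * z₂ = z₂ * z₁ := hzc b hbP z₂
    have h23 : z₂ * z₂ * (z₂ * z₂) = z₂ := by
      rw [show z₂ * z₂ * (z₂ * z₂) = z₂ ^ 3 * z₂ by rw [pow_succ, pow_two]; group, hz3 c hc, one_mul]
    have E : σ x (u * σ z₁ u * σ z₁ (σ z₁ u)) * σ x (u * σ (z₁ * z₂) u * σ (z₁ * z₂) (σ (z₁ * z₂) u)) *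
        σ x (u * σ (z₁ * (z₂ * z₂)) u * σ (z₁ * (z₂ * z₂)) (σ (z₁ * (z₂ * z₂)) u)) *
        σ x (σ z₁ (u * σ z₂ u * σ z₂ (σ z₂ u))) *
        σ x (σ z₁ (σ z₁ (u * σ z₂ u * σ z₂ (σ z₂ u)))) = σ x u := by
      rw [← map_mul, ← map_mul, ← map_mul, ← map_mul]
      congr 1
      have key := four_identity h2 u (σ z₁ u) (σ z₁ (σ z₁ u)) (σ (z₁ * z₂) u) (σ (z₁ * z₁ * (z₂ * z₂)) u)
        (σ (z₁ * (z₂ * z₂)) u) (σ (z₁ * z₁ * z₂) u)
      have a1 : σ (z₁ * z₂) (σ (z₁ * z₂) u) = σ (z₁ * z₁ * (z₂ * z₂)) u := by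
        rw [← MulAut.mul_apply, ← map_mul,
          show z₁ * z₂ * (z₁ * z₂) = z₁ * (z₂ * z₁) * z₂ by group, ← hc12]
        congr 2; group
      have a2 : σ (z₁ * (z₂ * z₂)) (σ (z₁ * (z₂ * z₂)) u) = σ (z₁ * z₁ * z₂) u := by
        rw [← MulAut.mul_apply, ← map_mul]
        have hcc : Commute (z₂ * z₂) z₁ := (show Commute z₂ z₁ from hc12.symm).mul_left (show Commute z₂ z₁ from hc12.symm)
        congr 2
        calc z₁ * (z₂ * z₂) * (z₁ * (z₂ * z₂)) = z₁ * ((z₂ * z₂) * z₁) * (z₂ * z₂) := by group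
          _ = z₁ * z₁ * ((z₂ * z₂) * (z₂ * z₂)) := by rw [hcc.eq]; group
          _ = _ := by rw [h23]
      have a3 : σ z₁ (u * σ z₂ u * σ z₂ (σ z₂ u)) = σ z₁ u * σ (z₁ * z₂) u * σ (z₁ * (z₂ * z₂)) u := by
        simp only [map_mul, MulAut.mul_apply]
      have a4 : σ z₁ (σ z₁ (u * σ z₂ u * σ z₂ (σ z₂ u))) =
          σ z₁ (σ z₁ u) * σ (z₁ * z₁ * z₂) u * σ (z₁ * z₁ * (z₂ * z₂)) u := by
        simp only [map_mul, MulAut.mul_apply]
      rw [a1, a2, a4, a3]
      exact key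
    rw [f1, f3, f4, f2a, f2b] at E
    rw [← E]
    have key := four_identity h2 u (σ z₁ u) (σ z₁ (σ z₁ u)) (σ (z₁ * z₂) u) (σ (z₁ * z₁ * (z₂ * z₂)) u)
      (σ (z₁ * (z₂ * z₂)) u) (σ (z₁ * z₁ * z₂) u)
    have a1 : σ (z₁ * z₂) (σ (z₁ * z₂) u) = σ (z₁ * z₁ * (z₂ * z₂)) u := by
      rw [← MulAut.mul_apply, ← map_mul,
        show z₁ * z₂ * (z₁ * z₂) = z₁ * (z₂ * z₁) * z₂ by group, ← hc12]
      congr 2; group
    have a2 : σ (z₁ * (z₂ * z₂)) (σ (z₁ * (z₂ * z₂)) u) = σ (z₁ * z₁ * z₂) u := by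
      rw [← MulAut.mul_apply, ← map_mul]
      have hcc : Commute (z₂ * z₂) z₁ := (show Commute z₂ z₁ from hc12.symm).mul_left (show Commute z₂ z₁ from hc12.symm)
      congr 2
      calc z₁ * (z₂ * z₂) * (z₁ * (z₂ * z₂)) = z₁ * ((z₂ * z₂) * z₁) * (z₂ * z₂) := by group
        _ = z₁ * z₁ * ((z₂ * z₂) * (z₂ * z₂)) := by rw [hcc.eq]; group
        _ = _ := by rw [h23]
    rw [a1, a2]
    simp only [map_mul, MulAut.mul_apply] at key ⊢
    exact key
  right
  have hb3 := hI3 b hbP hxb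
  refine ⟨a, b, ⟨hxx, hxa, hxb, ha3, hb3, hb1, hzc b hbP a, hzc b hbP b, hzc b hbP x⟩, ?_⟩
  set R := Subgroup.closure ({a, b} : Set Y) with hR
  obtain ⟨hR27, hzR, -⟩ := heisenberg ha3 hb3 hz₁ (hzc b hbP a) (hzc b hbP b)
  have haR : a ∈ R := Subgroup.subset_closure (by simp)
  have hbR : b ∈ R := Subgroup.subset_closure (by simp)
  have hPR : P ≤ R := by
    rw [← hgen, Subgroup.closure_le]
    rintro c ⟨hcP', hxc⟩
    obtain ⟨j, hj⟩ := hcyc c hcP'
    simp only at hj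
    let φ : P →* Y := MonoidHom.mk' (fun p => a * (p : Y) * a⁻¹ * (p : Y)⁻¹) fun p q => hphi p p.2 q q.2
    have hbj : a * b ^ j * a⁻¹ * (b ^ j)⁻¹ = z₁ ^ j := map_zpow φ ⟨b, hbP⟩ j
    -- the inverted element attached to `c b⁻ʲ`
    have hq : a * (b ^ j * c * b ^ j) = b ^ j * c * b ^ j * a := by
      have h := hphi (b ^ j * c) (mul_mem (zpow_mem hbP j) hcP') (b ^ j) (zpow_mem hbP j)
      rw [hphi (b ^ j) (zpow_mem hbP j) c hcP', hbj, ← hj, ← zpow_add, ← zpow_add,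
        show j + j + j = 3 * j by ring, zpow_mul,
        show z₁ ^ (3 : ℤ) = 1 by rw [show (3 : ℤ) = ((3 : ℕ) : ℤ) from rfl, zpow_natCast, hz3 b hbP], one_zpow] at h
      exact mul_inv_eq_iff_eq_mul.1 (mul_inv_eq_one.1 h)
    have hxq : x * (b ^ j * c * b ^ j) * x = (b ^ j * c * b ^ j)⁻¹ := by
      have hbj' : x * b ^ j * x = (b ^ j)⁻¹ := by
        have := conj_zpow (i := j) (a := x) (b := b)
        rw [hxi, hxb, inv_zpow] at this
        exact this.symm
      rw [show x * (b ^ j * c * b ^ j) * x = x * b ^ j * (x * x) * c * (x * x) * b ^ j * x by rw [hxx]; group,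
        show x * b ^ j * (x * x) * c * (x * x) * b ^ j * x = (x * b ^ j * x) * (x * c * x) * (x * b ^ j * x) by group,
        hbj', hxc]
      group
    have hmem := hdep a haP hxa ha1 _ (mul_mem (mul_mem (zpow_mem hbP j) hcP') (zpow_mem hbP j)) hxq hq
    have hR' : b ^ j * c * b ^ j ∈ R := (Subgroup.zpowers_le.2 haR) hmem
    rw [SetLike.mem_coe, show c = (b ^ j)⁻¹ * (b ^ j * c * b ^ j) * (b ^ j)⁻¹ by group]
    exact mul_mem (mul_mem (inv_mem (zpow_mem hbR j)) hR') (inv_mem (zpow_mem hbR j))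
  have h := card_sup_le (Subgroup.zpowers x) P (Subgroup.le_normalizer_of_normal (H := P) (K := Subgroup.zpowers x))
  rw [hgenY, Subgroup.card_top] at h
  exact h.trans (Nat.mul_le_mul (card_zpowers_le (n := 2) (by norm_num) (by rw [pow_two, hxx]))
    ((Subgroup.card_le_of_le hPR).trans hR27))

end action

end Cfsg.Agent.H92.TTWidth
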